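import Cfsg.Agent.Lib.FGStruct.AltPair
import Cfsg.Agent.Lib.Small.Burnside
import Mathlib.GroupTheory.Sylow
import Mathlib.GroupTheory.Perm.Sign

/-!
# Groups of order sixty with six Sylow 5-subgroups
-/

set_option autoImplicit false

namespace Cfsg.Agent.OrderSixty

open MulAction

variable {G : Type*} [Group G] [Finite G]

/-- In a subgroup of order `5k`, `k < 6`, there is at most one Sylow 5-subgroup of the group. -/
theorem unique_in (M : Subgroup G) (k : ℕ) (hM : Nat.card M = 5 * k) (hk : k < 6)
    (hk5 : ¬ 5 ∣ k) (P Q : Sylow 5 G) (hP : Nat.card P = 5) (hQ : Nat.card Q = 5)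
    (hPM : (P : Subgroup G) ≤ M) (hQM : (Q : Subgroup G) ≤ M) : P = Q := by
  haveI : Fact (Nat.Prime 5) := ⟨by norm_num⟩
  let P' : Sylow 5 M := P.subtype hPM
  let Q' : Sylow 5 M := Q.subtype hQM
  have hone : Nat.card (Sylow 5 M) = 1 := by
    have h1 := card_sylow_modEq_one 5 M
    have hidx : (P' : Subgroup M).index = k := by
      have h := (P' : Subgroup M).card_mul_index
      have hc : Nat.card (P' : Subgroup M) = 5 :=
        (Nat.card_congr (Subgroup.subgroupOfEquivOfLe hPM).toEquiv).trans hP
      rw [hc, hM] at h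
      omega
    have h2 : Nat.card (Sylow 5 M) ∣ k := hidx ▸ P'.card_dvd_index
    have hk0 : 0 < k := by
      rcases Nat.eq_zero_or_pos k with rfl | h
      · exact absurd (dvd_zero 5) hk5
      · exact h
    have h3 := Nat.le_of_dvd hk0 h2
    unfold Nat.ModEq at h1
    omega
  have : Subsingleton (Sylow 5 M) := (Nat.card_eq_one_iff_unique.1 hone).1
  refine Sylow.ext ?_
  have h : (P' : Subgroup M) = Q' := congrArg Sylow.toSubgroup (Subsingleton.elim P' Q')
  have h' := congrArg (Subgroup.map M.subtype) h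
  simp only [P', Q', Sylow.coe_subtype, Subgroup.subgroupOf_map_subtype, inf_eq_left.2 hPM,
    inf_eq_left.2 hQM] at h'
  exact h'

theorem card_sylow_five (hG : Nat.card G = 60) (P : Sylow 5 G) : Nat.card P = 5 := by
  haveI : Fact (Nat.Prime 5) := ⟨by norm_num⟩
  rw [P.card_eq_multiplicity, hG, show (60 : ℕ) = 5 * 12 by rfl,
    Nat.factorization_mul (by norm_num) (by norm_num)]
  simp [(show Nat.Prime 5 by norm_num).factorization_self,
    Nat.factorization_eq_zero_of_not_dvd (show ¬ 5 ∣ 12 by norm_num)]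

theorem sylow_card_cases (hG : Nat.card G = 60) :
    Nat.card (Sylow 5 G) = 1 ∨ Nat.card (Sylow 5 G) = 6 := by
  haveI : Fact (Nat.Prime 5) := ⟨by norm_num⟩
  obtain ⟨P⟩ : Nonempty (Sylow 5 G) := inferInstance
  have h1 := card_sylow_modEq_one 5 G
  have h2 := P.card_dvd_index
  have hidx : (P : Subgroup G).index = 12 := by
    have h := (P : Subgroup G).card_mul_index
    rw [card_sylow_five hG P, hG] at h
    omega
  rw [hidx] at h2
  have h3 := Nat.le_of_dvd (by norm_num) h2
  unfold Nat.ModEq at h1
  interval_cases hn : Nat.card (Sylow 5 G) <;> omega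

theorem index_two_contains {X : Type*} [Group X] (H : Subgroup X) (hH : H.index = 2) (x : X)
    (hx : x ^ 5 = 1) : x ∈ H := by
  have h2 : x ^ 2 ∈ H := Subgroup.sq_mem_of_index_two hH x
  have h6 : (x ^ 2) ^ 3 ∈ H := H.pow_mem h2 3
  rwa [← pow_mul, show 2 * 3 = 5 + 1 from rfl, pow_succ, hx, one_mul] at h6

theorem no_index_two (hG : Nat.card G = 60) (h6 : Nat.card (Sylow 5 G) = 6) (H : Subgroup G) :
    H.index ≠ 2 := by
  intro hH
  have hcard : Nat.card H = 30 := by
    have h := H.card_mul_index
    rw [hH, hG] at h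
    omega
  obtain ⟨T⟩ : Nonempty (Sylow 2 H) := inferInstance
  have hT : Nat.card T = 2 := by
    haveI : Fact (Nat.Prime 2) := ⟨Nat.prime_two⟩
    rw [T.card_eq_multiplicity, hcard, show (30 : ℕ) = 2 * 15 by rfl,
      Nat.factorization_mul (by norm_num) (by norm_num)]
    simp [Nat.prime_two.factorization_self,
      Nat.factorization_eq_zero_of_not_dvd (show ¬ 2 ∣ 15 by norm_num)]
  haveI : Fact (Nat.Prime 2) := ⟨Nat.prime_two⟩
  haveI : IsCyclic (T : Subgroup H) := isCyclic_of_prime_card hT
  obtain ⟨M, hM⟩ := Small.exists_index_two_of_cyclic (by rw [hcard]; decide) T inferInstance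
  have hMc : Nat.card (M.map H.subtype) = 5 * 3 := by
    rw [Subgroup.card_map_of_injective H.subtype_injective]
    have h := M.card_mul_index
    rw [hM, hcard] at h
    omega
  have hmem : ∀ P : Sylow 5 G, (P : Subgroup G) ≤ M.map H.subtype := by
    intro P x hx
    have hx5 : x ^ 5 = 1 := by
      have h := pow_card_eq_one' (x := (⟨x, hx⟩ : (P : Subgroup G)))
      rw [card_sylow_five hG P] at h
      exact congrArg Subtype.val h
    have hxH := index_two_contains H hH x hx5
    exact ⟨⟨x, hxH⟩, index_two_contains M hM ⟨x, hxH⟩ (Subtype.ext hx5), rfl⟩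
  have hsub : Subsingleton (Sylow 5 G) := ⟨fun P Q => unique_in _ 3 hMc (by norm_num) (by norm_num) P Q
    (card_sylow_five hG P) (card_sylow_five hG Q) (hmem P) (hmem Q)⟩
  have : Nat.card (Sylow 5 G) ≤ 1 := Finite.card_le_one_iff_subsingleton.2 hsub
  omega

theorem two_transitive (hG : Nat.card G = 60) (h6 : Nat.card (Sylow 5 G) = 6) (P Q R : Sylow 5 G)
    (hQ : Q ≠ P) (hR : R ≠ P) : ∃ g : G, g • P = P ∧ g • Q = R := by
  haveI : Fact (Nat.Prime 5) := ⟨by norm_num⟩
  classical
  have := Fintype.ofFinite (Sylow 5 G)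
  -- fixed points of `P` on the Sylow subgroups
  have hfix : ∀ S : Sylow 5 G, (∀ g : (P : Subgroup G), (g : G) • S = S) → S = P := by
    intro S hS
    have hle : (P : Subgroup G) ≤ Subgroup.normalizer ((S : Subgroup G) : Set G) := fun g hg =>
      Sylow.smul_eq_iff_mem_normalizer.1 (hS ⟨g, hg⟩)
    exact (Sylow.ext ((P.isPGroup'.sylow_mem_fixedPoints_iff).1
      (fun g => hS g) |> fun h => le_antisymm h (by
        rw [Subgroup.eq_of_le_of_card_ge h (by rw [card_sylow_five hG S, card_sylow_five hG P])]))).symm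
  have horb : ∀ S : Sylow 5 G, S ≠ P → Nat.card (orbit (P : Subgroup G) S) = 5 := by
    intro S hS
    obtain ⟨n, hn⟩ := P.isPGroup'.card_orbit S
    have hle : Nat.card (orbit (P : Subgroup G) S) ≤ 6 :=
      h6 ▸ Nat.card_le_card_of_injective _ Subtype.val_injective
    rcases n with _ | _ | n
    · exfalso
      apply hS
      refine hfix S fun g => ?_
      have hsub := (Nat.card_eq_one_iff_unique.1 (hn.trans (pow_zero 5))).1
      exact congrArg Subtype.val (hsub.elim ⟨g • S, mem_orbit _ _⟩ ⟨S, mem_orbit_self _⟩)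
    · rw [hn, pow_one]
    · rw [hn] at hle
      have h25 : 5 ^ 2 ≤ 5 ^ (n + 1 + 1) := Nat.pow_le_pow_right (by norm_num) (by omega)
      omega
  have hnotP : ∀ S : Sylow 5 G, S ≠ P → P ∉ orbit (P : Subgroup G) S := by
    rintro S hS ⟨g, hg⟩
    apply hS
    have hgP : g⁻¹ • P = P := by
      show ((g⁻¹ : (P : Subgroup G)) : G) • P = P
      exact Sylow.smul_eq_iff_mem_normalizer.2 (Subgroup.le_normalizer (g⁻¹).2)
    have h : g • S = P := hg
    rw [eq_inv_smul_iff.2 h, hgP]
  have hR' : R ∈ orbit (P : Subgroup G) Q := by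
    by_contra hcon
    have hsub : ({P} ∪ orbit (P : Subgroup G) Q ∪ {R} : Set (Sylow 5 G)).ncard ≤ 6 :=
      h6 ▸ Set.ncard_univ (Sylow 5 G) ▸ Set.ncard_le_ncard (Set.subset_univ _)
    rw [Set.ncard_union_eq (by
        rw [Set.disjoint_singleton_right]
        rintro (h | h)
        · exact hR h
        · exact hcon h),
      Set.ncard_union_eq (by rw [Set.disjoint_singleton_left]; exact hnotP Q hQ),
      Set.ncard_singleton, Set.ncard_singleton, ← Nat.card_coe_set_eq, horb Q hQ] at hsub
    omega
  obtain ⟨g, hg⟩ := hR'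
  exact ⟨g, Sylow.smul_eq_iff_mem_normalizer.2 (Subgroup.le_normalizer g.2), hg⟩

theorem equiv_A5 (hG : Nat.card G = 60) (h6 : Nat.card (Sylow 5 G) = 6) :
    Nonempty (G ≃* alternatingGroup (Fin 5)) := by
  haveI : Fact (Nat.Prime 5) := ⟨by norm_num⟩
  classical
  have := Fintype.ofFinite (Sylow 5 G)
  set φ := toPermHom G (Sylow 5 G) with hφ
  obtain ⟨P⟩ : Nonempty (Sylow 5 G) := inferInstance
  -- the kernel is trivial
  have hker : φ.ker = ⊥ := by
    set K := φ.ker with hK
    have hle : ∀ S : Sylow 5 G, K ≤ Subgroup.normalizer ((S : Subgroup G) : Set G) := fun S g hg =>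
      Sylow.smul_eq_iff_mem_normalizer.1 (congrArg (fun e : Equiv.Perm (Sylow 5 G) => e S) (MonoidHom.mem_ker.1 hg))
    have hN : Nat.card (Subgroup.normalizer ((P : Subgroup G) : Set G)) = 10 := by
      have h := (Subgroup.normalizer ((P : Subgroup G) : Set G)).card_mul_index
      have hi := Sylow.card_eq_index_normalizer P
      have : (Subgroup.normalizer ((P : Subgroup G) : Set G)).index = 6 := hi.symm.trans h6
      rw [this, hG] at h
      omega
    have hdvd : Nat.card K ∣ 10 := hN ▸ Subgroup.card_dvd_of_le (hle P)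
    by_cases h5 : 5 ∣ Nat.card K
    · exfalso
      obtain ⟨k, hk⟩ := h5
      have hk2 : k ∣ 2 := (Nat.mul_dvd_mul_iff_left (show 0 < 5 by norm_num)).1 (hk ▸ hdvd)
      have hk' := Nat.le_of_dvd (by norm_num) hk2
      have hk5 : ¬ 5 ∣ k := fun h => by
        have := h.trans hk2
        norm_num at this
      obtain ⟨S₀⟩ : Nonempty (Sylow 5 K) := inferInstance
      obtain ⟨S, hS⟩ := (S₀.isPGroup'.map K.subtype).exists_le_sylow
      have hS₀ : Nat.card S₀ = 5 := by
        rw [S₀.card_eq_multiplicity, hk, Nat.factorization_mul (by norm_num) (by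
          rintro rfl
          exact hk5 (dvd_zero 5))]
        simp [(show Nat.Prime 5 by norm_num).factorization_self,
          Nat.factorization_eq_zero_of_not_dvd hk5]
      have heq : (S₀ : Subgroup K).map K.subtype = S := Subgroup.eq_of_le_of_card_ge hS (by
        rw [Subgroup.card_map_of_injective K.subtype_injective, hS₀, card_sylow_five hG S])
      have hall : ∀ Q : Sylow 5 G, (Q : Subgroup G) ≤ K := by
        intro Q
        obtain ⟨g, rfl⟩ := exists_smul_eq G S Q
        intro x hx
        rw [Sylow.coe_subgroup_smul, Subgroup.mem_pointwise_smul_iff_inv_smul_mem] at hx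
        have hx' : g⁻¹ * x * g ∈ K := by
          have h := (heq ▸ Subgroup.map_subtype_le (S₀ : Subgroup K) : (S : Subgroup G) ≤ K) hx
          simpa [MulAut.smul_def] using h
        have := (inferInstance : K.Normal).conj_mem _ hx' g
        simpa [mul_assoc] using this
      have hsub : Subsingleton (Sylow 5 G) := ⟨fun A B => unique_in K k hk (by omega) hk5 A B
        (card_sylow_five hG A) (card_sylow_five hG B) (hall A) (hall B)⟩
      have : Nat.card (Sylow 5 G) ≤ 1 := Finite.card_le_one_iff_subsingleton.2 hsub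
      omega
    · by_contra hne
      have hK2 : Nat.card K = 2 := by
        have hc := Nat.le_of_dvd (by norm_num) hdvd
        have h1 : Nat.card K ≠ 1 := fun h => hne (Subgroup.card_eq_one.1 h)
        interval_cases hn : Nat.card K <;> simp_all (config := { decide := true })
      have hq : Nat.card (G ⧸ K) = 30 := by
        have h := K.card_eq_card_quotient_mul_card_subgroup
        rw [hK2, hG] at h
        omega
      obtain ⟨T⟩ : Nonempty (Sylow 2 (G ⧸ K)) := inferInstance
      haveI : Fact (Nat.Prime 2) := ⟨Nat.prime_two⟩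
      have hT : Nat.card T = 2 := by
        rw [T.card_eq_multiplicity, hq, show (30 : ℕ) = 2 * 15 by rfl,
          Nat.factorization_mul (by norm_num) (by norm_num)]
        simp [Nat.prime_two.factorization_self,
          Nat.factorization_eq_zero_of_not_dvd (show ¬ 2 ∣ 15 by norm_num)]
      haveI : IsCyclic (T : Subgroup (G ⧸ K)) := isCyclic_of_prime_card hT
      obtain ⟨M, hM⟩ := Small.exists_index_two_of_cyclic (by rw [hq]; decide) T inferInstance
      exact no_index_two hG h6 (M.comap (QuotientGroup.mk' K))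
        (by rw [Subgroup.index_comap_of_surjective _ (QuotientGroup.mk'_surjective K), hM])
  have hinj : Function.Injective φ := (MonoidHom.ker_eq_bot_iff φ).1 hker
  -- only even permutations
  have heven : φ.range ≤ alternatingGroup (Sylow 5 G) := by
    rintro - ⟨g, rfl⟩
    show Equiv.Perm.sign (φ g) = 1
    by_contra hg
    refine no_index_two hG h6 (Equiv.Perm.sign.comp φ).ker ?_
    rw [Subgroup.index_ker]
    have hsurj : (Equiv.Perm.sign.comp φ).range = ⊤ := eq_top_iff.2 fun u _ => by
      rcases Int.units_eq_one_or u with rfl | rfl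
      · exact ⟨1, map_one _⟩
      · exact ⟨g, (Int.units_eq_one_or _).resolve_left hg⟩
    rw [hsurj, Subgroup.card_top, Nat.card_eq_fintype_card, Fintype.card_units_int]
  haveI : IsPretransitive φ.range (Sylow 5 G) := ⟨fun A B => by
    obtain ⟨g, hg⟩ := exists_smul_eq G A B
    exact ⟨⟨φ g, g, rfl⟩, hg⟩⟩
  have hc : Nat.card φ.range = 60 := by
    rw [← Nat.card_congr (MonoidHom.ofInjective hinj).toEquiv, hG]
  have hX : Fintype.card (Sylow 5 G) = 6 := by rw [← Nat.card_eq_fintype_card, h6]
  have hA : ¬ alternatingGroup (Sylow 5 G) ≤ φ.range := fun hle => by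
    have h := Subgroup.card_le_of_le hle
    have h2 := AltPair.card_alt hX (by norm_num)
    rw [show (6 : ℕ).factorial = 720 from rfl] at h2
    omega
  obtain ⟨e⟩ := AltPair.case_six heven hX (by rw [hc]; norm_num) hA
  exact ⟨(MonoidHom.ofInjective hinj).trans e⟩

end Cfsg.Agent.OrderSixty
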