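import Cfsg.Agent.Lib.Small.Embedding
import Mathlib.GroupTheory.Transfer
import Mathlib.GroupTheory.GroupAction.Quotient
import Mathlib.Data.Fintype.Perm
import Mathlib.Tactic.NormNum.Prime

/-!
A simple group of order 168 acts on its eight Sylow 7-subgroups as a fixed group of
permutations of eight letters, so any two such groups are isomorphic.
-/

set_option autoImplicit false

namespace Cfsg.Agent.Simple168

open Equiv

/-- The translation. -/
def permU : Perm (Fin 8) := ⟨![1, 2, 3, 4, 5, 6, 0, 7], ![6, 0, 1, 2, 3, 4, 5, 7], by decide, by decide⟩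
/-- The doubling. -/
def permV : Perm (Fin 8) := ⟨![0, 2, 4, 6, 1, 3, 5, 7], ![0, 4, 1, 5, 2, 6, 3, 7], by decide, by decide⟩
/-- The inversion. -/
def permW : Perm (Fin 8) := ⟨![7, 3, 5, 1, 6, 2, 4, 0], ![7, 3, 5, 1, 6, 2, 4, 0], by decide, by decide⟩

/-- The reference group. -/
def refGroup : Subgroup (Perm (Fin 8)) := Subgroup.closure {permU, permV, permW}

/-- A map with the values `k`, `l` at `1`, `3` transporting doubling to quadrupling. -/
def candidate (k l : Fin 8) : Fin 8 → Fin 8 :=
  ![7, k, permV (permV k), l, permV (permV (permV (permV k))),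
    permV (permV (permV (permV l))), permV (permV l), 0]

theorem candidate_cases : ∀ k l : Fin 8, (∀ i, candidate k l i ≠ i) →
    (∀ i, candidate k l (candidate k l i) = i) →
      (∀ i, candidate k l i = permW i) ∨ (∀ i, candidate k l i = (permV * permW) i) ∨
        (∀ i, candidate k l i = (permV * permV * permW) i) := by decide +kernel

/-- A fixed-point-free involution exchanging the two fixed points of `permV` and inverting it. -/
theorem mem_cases (W : Perm (Fin 8)) (h7 : W 7 = 0) (hfree : ∀ i, W i ≠ i)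
    (hinv : ∀ i, W (W i) = i) (hV : ∀ i, W (permV i) = permV (permV (W i))) :
    W = permW ∨ W = permV * permW ∨ W = permV * permV * permW := by
  have h0 : W 0 = 7 := by rw [← h7, hinv]
  have h2 : W 2 = permV (permV (W 1)) := hV 1
  have h4 : W 4 = permV (permV (W 2)) := hV 2
  have h6 : W 6 = permV (permV (W 3)) := hV 3
  have h5 : W 5 = permV (permV (W 6)) := hV 6
  have hfun : ∀ i, W i = candidate (W 1) (W 3) i := by
    intro i
    fin_cases i <;> simp [candidate, h0, h7, h2, h4, h5, h6]
  rcases candidate_cases (W 1) (W 3) (fun i => by rw [← hfun]; exact hfree i)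
    (fun i => by rw [← hfun, ← hfun]; exact hinv i) with h | h | h
  · exact Or.inl (Equiv.ext fun i => (hfun i).trans (h i))
  · exact Or.inr (Or.inl (Equiv.ext fun i => (hfun i).trans (h i)))
  · exact Or.inr (Or.inr (Equiv.ext fun i => (hfun i).trans (h i)))

variable {G : Type*} [Group G] [Finite G] [IsSimpleGroup G]

theorem eq_top_of_index (hG : Nat.card G = 168) (H : Subgroup G) (h : 42 ∣ Nat.card H) : H = ⊤ := by
  by_contra hne
  have hd := Small.card_dvd_factorial hne
  have hmul := H.card_mul_index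
  rw [hG] at hd hmul
  obtain ⟨m, hm⟩ := h
  rw [hm] at hmul
  have hi : H.index ≤ 4 := by
    rcases Nat.eq_zero_or_pos m with rfl | hm0
    · simp at hmul
    · nlinarith
  have := H.index_ne_zero_of_finite
  interval_cases H.index <;> norm_num [Nat.factorial] at hd

/-- The eight-point action. -/
theorem equiv_refGroup (hG : Nat.card G = 168) : Nonempty (G ≃* ↥refGroup) := by
  classical
  haveI : Fact (Nat.Prime 7) := ⟨by norm_num⟩
  haveI : Fact (Nat.Prime 3) := ⟨by norm_num⟩
  haveI : Fact (Nat.Prime 2) := ⟨Nat.prime_two⟩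
  have hcard8 : Nat.card (Sylow 7 G) = 8 := by
    obtain ⟨P⟩ : Nonempty (Sylow 7 G) := inferInstance
    have h1 : Nat.card (Sylow 7 G) ≡ 1 [MOD 7] := card_sylow_modEq_one 7 G
    have hP : Nat.card (P : Subgroup G) = 7 := by
      rw [P.card_eq_multiplicity, hG, show (168 : ℕ) = 7 ^ 1 * 24 by norm_num,
        Nat.factorization_mul (by norm_num) (by norm_num), Finsupp.add_apply,
        Nat.Prime.factorization_pow (by norm_num), Finsupp.single_eq_same,
        Nat.factorization_eq_zero_of_not_dvd (by norm_num)]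
      norm_num
    have hidx : (P : Subgroup G).index = 24 := by
      have := (P : Subgroup G).card_mul_index
      rw [hP, hG] at this
      omega
    have h2 : Nat.card (Sylow 7 G) ∣ 24 := hidx ▸ P.card_dvd_index
    have hne : Nat.card (Sylow 7 G) ≠ 1 := by
      intro h
      haveI := (Nat.card_eq_one_iff_unique.1 h).1
      rcases (P.normal_of_subsingleton).eq_bot_or_eq_top with hb | ht
      · rw [hb, Subgroup.card_bot] at hP; omega
      · rw [ht, Subgroup.card_top, hG] at hP; omega
    have hle := Nat.le_of_dvd (by norm_num) h2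
    unfold Nat.ModEq at h1
    interval_cases h : Nat.card (Sylow 7 G) <;> omega
  obtain ⟨P⟩ : Nonempty (Sylow 7 G) := inferInstance
  set N := MulAction.stabilizer G P with hN
  have hNcard : Nat.card N = 21 := by
    have h := Nat.card_congr (MulAction.orbitProdStabilizerEquivGroup G P)
    rw [Nat.card_prod, MulAction.orbit_eq_univ, Nat.card_univ, hcard8, hG, ← hN] at h
    omega
  have hstab21 : ∀ R : Sylow 7 G, Nat.card (MulAction.stabilizer G R) = 21 := by
    intro R
    have h := Nat.card_congr (MulAction.orbitProdStabilizerEquivGroup G R)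
    rw [Nat.card_prod, MulAction.orbit_eq_univ, Nat.card_univ, hcard8, hG] at h
    omega
  obtain ⟨u0, hu0⟩ := exists_prime_orderOf_dvd_card' (G := (P : Subgroup G)) 7 (by
    rw [P.card_eq_multiplicity, hG]
    exact dvd_pow_self 7 (Nat.pos_iff_ne_zero.1
      (Nat.Prime.factorization_pos_of_dvd (by norm_num) (by norm_num) (by norm_num))))
  set u : G := (u0 : G) with hu_def
  have hu : orderOf u = 7 := by rw [hu_def, Subgroup.orderOf_coe, hu0]
  have huP : u • P = P :=
    Sylow.smul_eq_iff_mem_normalizer.2 (Subgroup.le_normalizer u0.2)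
  have hPz : (P : Subgroup G) = Subgroup.zpowers u := by
    refine (Subgroup.eq_of_le_of_card_ge (Subgroup.zpowers_le.2 u0.2) ?_).symm
    rw [Nat.card_zpowers, hu, P.card_eq_multiplicity, hG]
    rw [show (168 : ℕ) = 7 ^ 1 * 24 by norm_num,
        Nat.factorization_mul (by norm_num) (by norm_num), Finsupp.add_apply,
        Nat.Prime.factorization_pow (by norm_num), Finsupp.single_eq_same,
        Nat.factorization_eq_zero_of_not_dvd (by norm_num)]
    norm_num
  obtain ⟨Q, hQP⟩ : ∃ Q : Sylow 7 G, Q ≠ P := by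
    by_contra h
    push_neg at h
    haveI : Subsingleton (Sylow 7 G) := ⟨fun a b => (h a).trans (h b).symm⟩
    rw [Nat.card_unique] at hcard8
    omega
  have huQ : u • Q ≠ Q := by
    intro h
    have hle : (P : Subgroup G) ≤ Subgroup.normalizer (Q : Set G) := by
      rw [hPz, Subgroup.zpowers_le]; exact Sylow.smul_eq_iff_mem_normalizer.1 h
    have h2 := P.2.inf_normalizer_sylow Q
    rw [inf_eq_left.2 hle] at h2
    exact hQP (Sylow.ext (P.3 Q.2 (h2 ▸ inf_le_right)))
  have hu7 : u ^ 7 = 1 := by rw [← hu]; exact pow_orderOf_eq_one u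
  have hperiod : MulAction.period u Q = 7 := by
    have h : MulAction.period u Q ∣ 7 :=
      (MulAction.pow_smul_eq_iff_period_dvd).1 (by rw [hu7, one_smul])
    rcases (Nat.dvd_prime (by norm_num)).1 h with h1 | h1
    · exact absurd (by simpa using
        (MulAction.pow_smul_eq_iff_period_dvd (n := 1)).2 (h1 ▸ dvd_refl _)) huQ
    · exact h1
  have hpowP : ∀ n : ℕ, u ^ n • P = P := by
    intro n
    induction n with
    | zero => rw [pow_zero, one_smul]
    | succ n ih => rw [pow_succ', mul_smul, ih, huP]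
  let σ0 : Fin 8 → Sylow 7 G := fun i => if i = 7 then P else u ^ (i : ℕ) • Q
  have hne : ∀ n : ℕ, u ^ n • Q ≠ P := fun n h =>
    hQP (MulAction.injective (u ^ n) (h.trans (hpowP n).symm))
  have hlt : ∀ i : Fin 8, i ≠ 7 → (i : ℕ) < 7 := fun i hi => by
    have h1 := i.2
    rcases Nat.lt_or_ge (i : ℕ) 7 with h | h
    · exact h
    · exact absurd (Fin.ext (show (i : ℕ) = 7 by omega)) hi
  have hσinj : Function.Injective σ0 := by
    intro i j hij
    simp only [σ0] at hij
    split_ifs at hij with h1 h2 h2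
    · rw [h1, h2]
    · exact absurd hij.symm (hne _)
    · exact absurd hij (hne _)
    · have key : ∀ a b : ℕ, a ≤ b → b < 7 → u ^ a • Q = u ^ b • Q → a = b := by
        intro a b hab hb h
        rw [show b = a + (b - a) by omega, pow_add, mul_smul] at h
        have h3 := hperiod ▸ (MulAction.pow_smul_eq_iff_period_dvd).1
          (MulAction.injective (u ^ a) h).symm
        omega
      rcases Nat.le_total (i : ℕ) j with h | h
      · exact Fin.ext (key _ _ h (hlt j h2) hij)
      · exact (Fin.ext (key _ _ h (hlt i h1) hij.symm)).symm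
  let σ : Fin 8 ≃ Sylow 7 G := Equiv.ofBijective σ0
    ((Nat.bijective_iff_injective_and_card σ0).2 ⟨hσinj, by rw [Nat.card_fin, hcard8]⟩)
  have hσ7 : σ 7 = P := by simp [σ, σ0]
  have hσ0 : σ 0 = Q := by simp [σ, σ0]
  let f : G →* Perm (Fin 8) :=
    (σ.symm.permCongrHom).toMonoidHom.comp (MulAction.toPermHom G (Sylow 7 G))
  have hf : ∀ (g : G) (i : Fin 8), f g i = σ.symm (g • σ i) := fun g i => rfl
  have hfinj : Function.Injective f := by
    rw [injective_iff_map_eq_one]
    intro g hg
    rcases (f.normal_ker).eq_bot_or_eq_top with hb | ht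
    · exact (Subgroup.mem_bot).1 (hb ▸ MonoidHom.mem_ker.2 hg)
    · exfalso
      have h1 : ∀ x : G, x ∈ N := fun x => by
        have hmem : x ∈ f.ker := by rw [ht]; exact Subgroup.mem_top x
        have h2 := Equiv.ext_iff.1 (MonoidHom.mem_ker.1 hmem) 7
        rw [hf, Perm.one_apply, Equiv.symm_apply_eq, hσ7] at h2
        exact h2
      rw [(Subgroup.eq_top_iff' N).2 h1, Subgroup.card_top, hG] at hNcard
      omega
  have hfu : f u = permU := by
    refine Equiv.ext fun i => ?_
    rw [hf, Equiv.symm_apply_eq]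
    fin_cases i <;> simp [σ, σ0, permU, huP, ← mul_smul, ← pow_succ', hu7] <;> rw [pow_two]
  -- the element of order three doubling the translation
  obtain ⟨v0, hv0⟩ := exists_prime_orderOf_dvd_card' (G := N) 3 (by rw [hNcard]; norm_num)
  have hv0' : orderOf (v0 : G) = 3 := by rw [Subgroup.orderOf_coe, hv0]
  have hconjmem : ∀ x ∈ N, ∃ a : ℕ, a < 7 ∧ x * u * x⁻¹ = u ^ a := by
    intro x hx
    have h : x * u * x⁻¹ ∈ Subgroup.zpowers u := by
      rw [← hPz]
      exact (Subgroup.mem_normalizer_iff.1 (Sylow.smul_eq_iff_mem_normalizer.1 hx) u).1 u0.2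
    obtain ⟨n, hn, hn'⟩ := (mem_zpowers_iff_mem_range_orderOf).1 h |> Finset.mem_image.1
    exact ⟨n, by simpa [hu] using hn, hn'.symm⟩
  obtain ⟨v, hvN, hv3, hvu, hvQ⟩ : ∃ v ∈ N, v ≠ 1 ∧ v * u * v⁻¹ = u ^ 2 ∧ v • Q = Q := by
    obtain ⟨a, ha, hau⟩ := hconjmem _ v0.2
    have hpow : ∀ (b : ℕ) (x : G), x * u * x⁻¹ = u ^ b → ∀ n, x ^ n * u * (x ^ n)⁻¹ = u ^ (b ^ n) := by
      intro b x hx n
      induction n with
      | zero => simp
      | succ n ih =>
        calc x ^ (n + 1) * u * (x ^ (n + 1))⁻¹ = x * (x ^ n * u * (x ^ n)⁻¹) * x⁻¹ := by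
              rw [pow_succ']; group
          _ = (x * u * x⁻¹) ^ (b ^ n) := by rw [ih, conj_pow]
          _ = _ := by rw [hx, ← pow_mul, pow_succ']
    have h3 := hpow a _ hau 3
    rw [show (v0 : G) ^ 3 = 1 by rw [← hv0']; exact pow_orderOf_eq_one _, one_mul, inv_one,
      mul_one] at h3
    have h3' : 1 ≡ a ^ 3 [MOD 7] := hu ▸ pow_eq_pow_iff_modEq.1 ((pow_one u).trans h3)
    have ha1 : a ≠ 1 := by
      rintro rfl
      rw [pow_one, mul_inv_eq_iff_eq_mul] at hau
      -- a commuting element acts as a translation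
      have hvP : (v0 : G) • P = P := v0.2
      set j : Fin 8 := σ.symm ((v0 : G) • Q) with hj
      have hj7 : j ≠ 7 := fun h => hQP (MulAction.injective (v0 : G) (by
        show (v0 : G) • Q = (v0 : G) • P
        rw [hvP, ← hσ7, ← h, hj, Equiv.apply_symm_apply]))
      have hvQ : (v0 : G) • Q = u ^ (j : ℕ) • Q := by
        have h : σ j = (v0 : G) • Q := Equiv.apply_symm_apply _ _
        simp only [σ, σ0, Equiv.ofBijective_apply, if_neg hj7] at h
        exact h.symm
      have hcom : Commute (v0 : G) u := hau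
      have heq : f (v0 : G) = f (u ^ (j : ℕ)) := by
        refine Equiv.ext fun i => ?_
        rw [hf, hf, EmbeddingLike.apply_eq_iff_eq]
        simp only [σ, σ0, Equiv.ofBijective_apply]
        split_ifs
        · rw [hvP, hpowP]
        · rw [← mul_smul, (hcom.pow_right _).eq, mul_smul, hvQ, ← mul_smul, ← mul_smul,
            ← pow_add, ← pow_add, add_comm]
      have h7 : orderOf (v0 : G) ∣ 7 :=
        orderOf_dvd_of_pow_eq_one (by rw [hfinj heq, ← pow_mul, mul_comm, pow_mul, hu7, one_pow])
      rw [hv0'] at h7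
      norm_num at h7
    obtain ⟨v1, hv1N, hv1ne, hv1⟩ : ∃ v1 ∈ N, v1 ∉ Subgroup.zpowers u ∧ v1 * u * v1⁻¹ = u ^ 2 := by
      have hno : ∀ x : G, orderOf x = 3 → x ∉ Subgroup.zpowers u := fun x hx h => by
        have := Subgroup.orderOf_dvd_natCard _ h
        rw [Nat.card_zpowers, hu, hx] at this
        norm_num at this
      have hcases : a = 2 ∨ a = 4 := by
        unfold Nat.ModEq at h3'
        interval_cases a <;> simp at h3' ha1 ⊢
      rcases hcases with rfl | rfl
      · exact ⟨_, v0.2, hno _ hv0', hau⟩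
      · refine ⟨(v0 : G) ^ 2, pow_mem v0.2 2, hno _ ?_, ?_⟩
        · rw [Nat.Coprime.orderOf_pow (by rw [hv0']; norm_num), hv0']
        · rw [hpow 4 _ hau 2]
          exact pow_eq_pow_iff_modEq.2 (by rw [hu]; decide)
    have hvP : v1 • P = P := hv1N
    set j : Fin 8 := σ.symm (v1 • Q) with hj
    have hj7 : j ≠ 7 := fun h => hQP (MulAction.injective v1 (by
      show v1 • Q = v1 • P
      rw [hvP, ← hσ7, ← h, hj, Equiv.apply_symm_apply]))
    have hvQ : v1 • Q = u ^ (j : ℕ) • Q := by
      have h : σ j = v1 • Q := Equiv.apply_symm_apply _ _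
      simp only [σ, σ0, Equiv.ofBijective_apply, if_neg hj7] at h
      exact h.symm
    refine ⟨(u ^ (j : ℕ))⁻¹ * v1, mul_mem (inv_mem (hpowP _)) hv1N, ?_, ?_, ?_⟩
    · intro h
      rw [inv_mul_eq_one] at h
      exact hv1ne (h ▸ pow_mem (Subgroup.mem_zpowers u) _)
    · calc (u ^ (j : ℕ))⁻¹ * v1 * u * ((u ^ (j : ℕ))⁻¹ * v1)⁻¹
            = (u ^ (j : ℕ))⁻¹ * (v1 * u * v1⁻¹) * u ^ (j : ℕ) := by group
        _ = u ^ 2 := by rw [hv1, mul_assoc, ← pow_add, add_comm, pow_add, inv_mul_cancel_left]
    · rw [mul_smul, hvQ, inv_smul_smul]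
  have hvpow : ∀ n : ℕ, v • u ^ n • Q = u ^ (2 * n) • Q := by
    intro n
    rw [← mul_smul, show v * u ^ n = (v * u * v⁻¹) ^ n * v by rw [conj_pow]; group,
      mul_smul, hvQ, hvu, ← pow_mul]
  have hfv : f v = permV := by
    refine Equiv.ext fun i => ?_
    rw [hf, Equiv.symm_apply_eq]
    have hvP : v • P = P := hvN
    have hred : ∀ n : ℕ, u ^ n • Q = u ^ (n % 7) • Q := fun n => by
      rw [← pow_mod_orderOf u n, hu]
    fin_cases i <;> simp [σ, σ0, permV, hvP, hvQ, hvpow] <;>
      first
      | (conv_lhs => rw [← pow_one u]; rw [hvpow])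
      | (rw [hred] <;> norm_num)
  have hv_order : orderOf v = 3 := by
    rw [← orderOf_injective f hfinj v, hfv]
    exact orderOf_eq_prime (by decide) (by decide)
  -- the stabiliser of the pair of fixed points
  set H := MulAction.stabilizer G P ⊓ MulAction.stabilizer G Q with hH
  have hHv : H = Subgroup.zpowers v := by
    have hle : Subgroup.zpowers v ≤ H := Subgroup.zpowers_le.2 ⟨hvN, hvQ⟩
    refine (Subgroup.eq_of_le_of_card_ge hle ?_).symm
    rw [Nat.card_zpowers, hv_order]
    have hd : Nat.card H ∣ 21 := hNcard ▸ Subgroup.card_dvd_of_le inf_le_left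
    have h7 : ¬ 7 ∣ Nat.card H := by
      intro h7
      obtain ⟨x, hx⟩ := exists_prime_orderOf_dvd_card' (G := H) 7 h7
      have hx' : orderOf (x : G) = 7 := by rw [Subgroup.orderOf_coe, hx]
      have hp : IsPGroup 7 (Subgroup.zpowers (x : G)) :=
        IsPGroup.of_card (n := 1) (by rw [Nat.card_zpowers, hx', pow_one])
      have hxP : (x : G) ∈ (P : Subgroup G) := by
        have h2 := hp.inf_normalizer_sylow P
        have h3 : Subgroup.zpowers (x : G) ≤ Subgroup.normalizer (P : Set G) :=
          Subgroup.zpowers_le.2 (Sylow.smul_eq_iff_mem_normalizer.1 x.2.1)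
        rw [inf_eq_left.2 h3] at h2
        have h4 : (x : G) ∈ Subgroup.zpowers (x : G) ⊓ (P : Subgroup G) :=
          h2 ▸ Subgroup.mem_zpowers _
        exact h4.2
      have hzz : Subgroup.zpowers (x : G) = Subgroup.zpowers u := by
        rw [← hPz]
        refine Subgroup.eq_of_le_of_card_ge (Subgroup.zpowers_le.2 hxP) ?_
        rw [hPz, Nat.card_zpowers, Nat.card_zpowers, hu, hx']
      exact huQ ((hzz ▸ Subgroup.zpowers_le.2 x.2 : Subgroup.zpowers u ≤ H) (Subgroup.mem_zpowers u)).2
    have hle21 := Nat.le_of_dvd (by norm_num) hd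
    interval_cases h : Nat.card H <;> omega
  obtain ⟨w, hwP, hwQ, hw2⟩ : ∃ w : G, w • P = Q ∧ w • Q = P ∧ w * w = 1 := by
    obtain ⟨g1, hg1⟩ := MulAction.exists_smul_eq G P Q
    have hS : g1⁻¹ • P ≠ P := fun h => hQP (by rw [← hg1]; nth_rw 1 [← h]; rw [smul_inv_smul])
    set i : Fin 8 := σ.symm (g1⁻¹ • P) with hi
    have hσi : σ i = g1⁻¹ • P := Equiv.apply_symm_apply _ _
    have hi7 : i ≠ 7 := fun h => hS (by rw [← hσi, h, hσ7])
    simp only [σ, σ0, Equiv.ofBijective_apply, if_neg hi7] at hσi
    set g := g1 * u ^ (i : ℕ) with hg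
    have hgP : g • P = Q := by rw [hg, mul_smul, hpowP, hg1]
    have hgQ : g • Q = P := by rw [hg, mul_smul, hσi, smul_inv_smul]
    have hgg : g * g ∈ Subgroup.zpowers v := by
      rw [← hHv]
      exact ⟨show (g * g) • P = P by rw [mul_smul, hgP, hgQ],
        show (g * g) • Q = Q by rw [mul_smul, hgQ, hgP]⟩
    refine ⟨g * g * g, by rw [mul_smul, mul_smul, hgP, hgQ, hgP],
      by rw [mul_smul, mul_smul, hgQ, hgP, hgQ], ?_⟩
    have h3 := Subgroup.orderOf_dvd_natCard _ hgg
    rw [Nat.card_zpowers, hv_order, orderOf_dvd_iff_pow_eq_one] at h3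
    rw [← h3]; simp only [pow_succ, pow_zero, one_mul, mul_assoc]
  have hwinv : w⁻¹ = w := inv_eq_of_mul_eq_one_right hw2
  have hwv : w * v * w⁻¹ ∈ Subgroup.zpowers v := by
    rw [← hHv, hwinv]
    exact ⟨show (w * v * w) • P = P by rw [mul_smul, mul_smul, hwP, hvQ, hwQ],
      show (w * v * w) • Q = Q by rw [mul_smul, mul_smul, hwQ, (show v • P = P from hvN), hwP]⟩
  have hnc : w * v ≠ v * w := by
    intro hcom
    -- then the Sylow 3-subgroup is central in its normaliser
    have hS3 : Nat.card (Subgroup.zpowers v) = 3 ^ (Nat.card G).factorization 3 := by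
      rw [Nat.card_zpowers, hv_order, hG, show (168 : ℕ) = 3 ^ 1 * 56 by norm_num,
        Nat.factorization_mul (by norm_num) (by norm_num), Finsupp.add_apply,
        Nat.Prime.factorization_pow (by norm_num), Finsupp.single_eq_same,
        Nat.factorization_eq_zero_of_not_dvd (by norm_num)]
      norm_num
    let T : Sylow 3 G := Sylow.ofCard _ hS3
    have hTc : Subgroup.normalizer ((T : Subgroup G) : Set G) ≤
        Subgroup.centralizer ((T : Subgroup G) : Set G) := by
      intro n hn
      rw [Sylow.coe_ofCard] at hn ⊢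
      have hfix : ∀ i, permV i = i → i = 0 ∨ i = 7 := by decide
      have hmv : n⁻¹ * v * n ∈ Subgroup.zpowers v := by
        simpa using (Subgroup.mem_normalizer_iff.1 (inv_mem hn) v).1 (Subgroup.mem_zpowers v)
      have hto : ∀ R : Sylow 7 G, v • R = R → n • R = P ∨ n • R = Q := by
        intro R hR
        have hvn : v • n • R = n • R := by
          have hm : n⁻¹ * v * n ∈ MulAction.stabilizer G R :=
            (Subgroup.zpowers_le.2 (show v ∈ MulAction.stabilizer G R from hR)) hmv
          have hm' : (n⁻¹ * v * n) • R = R := hm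
          conv_rhs => rw [← hm']
          rw [← mul_smul, ← mul_smul]; congr 1; group
        rcases hfix (σ.symm (n • R)) (by rw [← hfv, hf, Equiv.apply_symm_apply, hvn]) with h | h
        · right; rw [Equiv.symm_apply_eq] at h; rw [h, hσ0]
        · left; rw [Equiv.symm_apply_eq] at h; rw [h, hσ7]
      have hwc : w ∈ Subgroup.centralizer ((Subgroup.zpowers v : Subgroup G) : Set G) := by
        rintro y ⟨k, rfl⟩
        exact ((show Commute w v from hcom).zpow_right k).eq.symm
      have hvc : Subgroup.zpowers v ≤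
          Subgroup.centralizer ((Subgroup.zpowers v : Subgroup G) : Set G) := by
        rintro x ⟨k, rfl⟩ y ⟨l, rfl⟩
        exact ((Commute.refl v).zpow_zpow l k).eq
      have hP' := hto P hvN
      have hQ' := hto Q hvQ
      rcases hP' with h | h
      · have h' : n • Q = Q := hQ'.resolve_left fun e => hQP (MulAction.injective n (e.trans h.symm))
        exact hvc (hHv ▸ (⟨h, h'⟩ : n ∈ H))
      · have h' : n • Q = P := hQ'.resolve_right fun e => hQP (MulAction.injective n (e.trans h.symm))
        have hm : w * n ∈ H := ⟨show (w * n) • P = P by rw [mul_smul, h, hwQ],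
          show (w * n) • Q = Q by rw [mul_smul, h', hwP]⟩
        have h2 := mul_mem hwc (hvc (hHv ▸ hm))
        rwa [← mul_assoc, hw2, one_mul] at h2
    have hnd := MonoidHom.not_dvd_card_ker_transferSylow T hTc
    have hco := MonoidHom.ker_transferSylow_isComplement' T hTc
    rcases (MonoidHom.normal_ker (MonoidHom.transferSylow T hTc)).eq_bot_or_eq_top with hb | ht
    · have := hco.card_mul
      rw [hb, Subgroup.card_bot, one_mul, Sylow.coe_ofCard, Nat.card_zpowers, hv_order, hG] at this
      omega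
    · exact hnd (by rw [ht, Subgroup.card_top, hG]; norm_num)
  have hwvv : w * v = v * v * w := by
    obtain ⟨n, hn, hn'⟩ := (mem_zpowers_iff_mem_range_orderOf).1 hwv |> Finset.mem_image.1
    rw [Finset.mem_range, hv_order] at hn
    interval_cases n
    · rw [pow_zero] at hn'
      exact absurd (conj_eq_one_iff.1 hn'.symm) hv3
    · rw [pow_one] at hn'
      exact absurd (mul_inv_eq_iff_eq_mul.1 hn'.symm) hnc
    · rw [pow_two] at hn'
      exact mul_inv_eq_iff_eq_mul.1 hn'.symm
  have hW := mem_cases (f w)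
    (by rw [hf, hσ7, hwP, Equiv.symm_apply_eq, hσ0])
    (fun i h => by
      rw [hf, Equiv.symm_apply_eq] at h
      have hm : w ∈ MulAction.stabilizer G (σ i) := h
      have hd := Subgroup.orderOf_dvd_natCard _ hm
      rw [hstab21, orderOf_eq_prime (p := 2) (by rw [pow_two, hw2])
        (fun e => hQP (by rw [← hwP, e, one_smul]))] at hd
      norm_num at hd)
    (fun i => by rw [← Perm.mul_apply, ← map_mul, hw2, map_one, Perm.one_apply])
    (fun i => by
      rw [← hfv, ← Perm.mul_apply, ← map_mul, hwvv, map_mul, map_mul]; rfl)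
  have hWmem : permW ∈ f.range := by
    have hV : permV ∈ f.range := ⟨v, hfv⟩
    have hw' : f w ∈ f.range := ⟨w, rfl⟩
    rcases hW with h | h | h
    · rwa [h] at hw'
    · rw [h] at hw'
      simpa using mul_mem (inv_mem hV) hw'
    · rw [h] at hw'
      simpa [mul_assoc] using mul_mem (inv_mem hV) (mul_mem (inv_mem hV) hw')
  obtain ⟨w3, hw3⟩ := hWmem
  have hle : refGroup ≤ f.range := by
    rw [refGroup, Subgroup.closure_le]
    rintro x (rfl | rfl | rfl)
    · exact ⟨u, hfu⟩
    · exact ⟨v, hfv⟩
    · exact ⟨w3, hw3⟩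
  have htop : refGroup.comap f = ⊤ := by
    apply eq_top_of_index hG
    have h7 : 7 ∣ Nat.card (refGroup.comap f) := by
      have := Subgroup.orderOf_dvd_natCard (refGroup.comap f) (x := u)
        (show f u ∈ refGroup by rw [hfu]; exact Subgroup.subset_closure (by simp))
      rwa [hu] at this
    have h3 : 3 ∣ Nat.card (refGroup.comap f) := by
      have := Subgroup.orderOf_dvd_natCard (refGroup.comap f) (x := v)
        (show f v ∈ refGroup by rw [hfv]; exact Subgroup.subset_closure (by simp))
      rwa [hv_order] at this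
    have h2 : 2 ∣ Nat.card (refGroup.comap f) := by
      have := Subgroup.orderOf_dvd_natCard (refGroup.comap f) (x := w3)
        (show f w3 ∈ refGroup by rw [hw3]; exact Subgroup.subset_closure (by simp))
      rwa [← orderOf_injective f hfinj w3, hw3, orderOf_eq_prime (p := 2) (x := permW) (by decide)
        (by decide)] at this
    exact (Nat.Coprime.mul_dvd_of_dvd_of_dvd (by norm_num)
      (Nat.Coprime.mul_dvd_of_dvd_of_dvd (by norm_num) h2 h3) h7 : 2 * 3 * 7 ∣ _)
  have heq : f.range = refGroup := by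
    refine le_antisymm ?_ hle
    rintro x ⟨g, rfl⟩
    have hg : g ∈ refGroup.comap f := htop ▸ Subgroup.mem_top g
    exact hg
  exact ⟨(MonoidHom.ofInjective hfinj).trans (MulEquiv.subgroupCongr heq)⟩

/-- Simple groups of order 168 are isomorphic. -/
theorem nonempty_equiv {H : Type*} [Group H] [Finite H] [IsSimpleGroup H]
    (hG : Nat.card G = 168) (hH : Nat.card H = 168) : Nonempty (G ≃* H) := by
  obtain ⟨a⟩ := equiv_refGroup hG
  obtain ⟨b⟩ := equiv_refGroup hH
  exact ⟨a.trans b.symm⟩

end Cfsg.Agent.Simple168
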