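import Cfsg.Agent.Lib.Small.Embedding
import Mathlib.GroupTheory.Transfer
import Mathlib.GroupTheory.GroupAction.Quotient
import Mathlib.GroupTheory.PGroup
import Mathlib.Data.Fintype.Perm
import Mathlib.Tactic.NormNum.Prime

/-!
A simple group of order 360 acts on its ten Sylow 3-subgroups as a fixed group of
permutations of ten letters, so any two such groups are isomorphic.
-/

set_option autoImplicit false

namespace Cfsg.Agent.Simple360

open Equiv

/-- The point with coordinates `i`, `j`. -/
def lab (i j : ℕ) : Fin 10 := ⟨i % 3 + 3 * (j % 3), by omega⟩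

/-- The first translation. -/
def permA : Perm (Fin 10) :=
  ⟨![1, 2, 0, 4, 5, 3, 7, 8, 6, 9], ![2, 0, 1, 5, 3, 4, 8, 6, 7, 9], by decide, by decide⟩
/-- The second translation. -/
def permC : Perm (Fin 10) :=
  ⟨![3, 4, 5, 6, 7, 8, 0, 1, 2, 9], ![6, 7, 8, 0, 1, 2, 3, 4, 5, 9], by decide, by decide⟩
/-- The rotation. -/
def permK : Perm (Fin 10) :=
  ⟨![0, 3, 6, 2, 5, 8, 1, 4, 7, 9], ![0, 6, 3, 1, 7, 4, 2, 8, 5, 9], by decide, by decide⟩
/-- The reflection. -/
def permT : Perm (Fin 10) :=
  ⟨![0, 1, 2, 6, 7, 8, 3, 4, 5, 9], ![0, 1, 2, 6, 7, 8, 3, 4, 5, 9], by decide, by decide⟩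
/-- The inversion. -/
def permW : Perm (Fin 10) :=
  ⟨![9, 1, 2, 6, 5, 4, 3, 8, 7, 0], ![9, 1, 2, 6, 5, 4, 3, 8, 7, 0], by decide, by decide⟩

/-- The reference group. -/
def refGroup : Subgroup (Perm (Fin 10)) := Subgroup.closure {permA, permC, permK, permW}

theorem sign_permT : Perm.sign permT = -1 := by decide +kernel

/-- A map exchanging `0` and `9` and transporting the rotation to `m`. -/
def candidate (m : Perm (Fin 10)) (a b : Fin 10) : Fin 10 → Fin 10 :=
  ![9, a, m (m a), m a, b, m b, m (m (m a)), m (m (m b)), m (m b), 0]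

/-- The candidate as a permutation when it has order dividing four. -/
def candPerm (m : Perm (Fin 10)) (a b : Fin 10) : Perm (Fin 10) :=
  if h : ∀ i, candidate m a b (candidate m a b (candidate m a b (candidate m a b i))) = i then
    ⟨candidate m a b, fun i => candidate m a b (candidate m a b (candidate m a b i)), h, h⟩
  else 1

theorem candidate_cases : ∀ c : Bool, ∀ a b : Fin 10,
    let m := if c then permK else permK⁻¹
    (∀ i, candidate m a b (candidate m a b (candidate m a b (candidate m a b i))) = i) →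
    ((∀ i, candidate m a b (candidate m a b i) = i) ∨
      (∀ i, candidate m a b (candidate m a b i) = permK i) ∨
      (∀ i, candidate m a b (candidate m a b i) = permK (permK i)) ∨
      (∀ i, candidate m a b (candidate m a b i) = permK (permK (permK i)))) →
    Perm.sign (candPerm m a b) = 1 →
    (∀ i, (fun x => permA (candidate m a b x))^[360] i = i) →
    (∀ i, (fun x => permA (permC (candidate m a b x)))^[360] i = i) →
      ((∀ i, candidate m a b i = permW i) ∨ (∀ i, candidate m a b i = permK (permW i)) ∨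
        (∀ i, candidate m a b i = permK (permK (permW i))) ∨
        (∀ i, candidate m a b i = permK (permK (permK (permW i))))) := by decide +kernel

/-- The elements exchanging the two fixed points and normalising the rotation. -/
theorem mem_cases (W : Perm (Fin 10)) (h0 : W 0 = 9) (h9 : W 9 = 0)
    (hK : W * permK = permK * W ∨ W * permK = permK⁻¹ * W) (h4 : W ^ 4 = 1)
    (hsq : W * W = 1 ∨ W * W = permK ∨ W * W = permK * permK ∨ W * W = permK * permK * permK)
    (hsign : Perm.sign W = 1) (hA : (permA * W) ^ 360 = 1) (hC : (permA * permC * W) ^ 360 = 1) :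
    W = permW ∨ W = permK * permW ∨ W = permK * permK * permW ∨
      W = permK * permK * permK * permW := by
  obtain ⟨c, hc⟩ : ∃ c : Bool, W * permK = (if c then permK else permK⁻¹) * W := by
    rcases hK with h | h
    · exact ⟨true, by simpa using h⟩
    · exact ⟨false, by simpa using h⟩
  set m := if c then permK else permK⁻¹ with hm
  have hrec : ∀ i, W (permK i) = m (W i) := fun i => by
    rw [← Perm.mul_apply, hc, Perm.mul_apply]
  have h3 : W 3 = m (W 1) := hrec 1
  have h2 : W 2 = m (m (W 1)) := (hrec 3).trans (congrArg m h3)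
  have h6 : W 6 = m (m (m (W 1))) := (hrec 2).trans (congrArg m h2)
  have h5 : W 5 = m (W 4) := hrec 4
  have h8 : W 8 = m (m (W 4)) := (hrec 5).trans (congrArg m h5)
  have h7 : W 7 = m (m (m (W 4))) := (hrec 8).trans (congrArg m h8)
  have hfun : candidate m (W 1) (W 4) = ⇑W := by
    funext i
    fin_cases i <;> simp [candidate, h0, h9, h2, h3, h5, h6, h7, h8]
  have h4' : ∀ i, W (W (W (W i))) = i := fun i => by
    simpa [pow_succ, Perm.mul_apply] using Equiv.ext_iff.1 h4 i
  have hperm : candPerm m (W 1) (W 4) = W := by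
    unfold candPerm
    rw [dif_pos (by rw [hfun]; exact h4')]
    exact Equiv.ext fun i => congrFun hfun i
  have key := candidate_cases c (W 1) (W 4) (by rw [← hm, hfun]; exact h4')
    (by
      rw [← hm, hfun]
      rcases hsq with h | h | h | h
      · exact Or.inl fun i => by simpa using Equiv.ext_iff.1 h i
      · exact Or.inr (Or.inl fun i => by simpa using Equiv.ext_iff.1 h i)
      · exact Or.inr (Or.inr (Or.inl fun i => by simpa using Equiv.ext_iff.1 h i))
      · exact Or.inr (Or.inr (Or.inr fun i => by simpa using Equiv.ext_iff.1 h i)))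
    (by rw [← hm, hperm]; exact hsign)
    (fun i => by
      rw [← hm, hfun, show (fun x => permA (W x)) = ⇑(permA * W) from rfl, ← Perm.coe_pow, hA]
      rfl)
    (fun i => by
      rw [← hm, hfun, show (fun x => permA (permC (W x))) = ⇑(permA * permC * W) from rfl,
        ← Perm.coe_pow, hC]
      rfl)
  rw [← hm, hfun] at key
  rcases key with h | h | h | h
  · exact Or.inl (Equiv.ext h)
  · exact Or.inr (Or.inl (Equiv.ext h))
  · exact Or.inr (Or.inr (Or.inl (Equiv.ext h)))
  · exact Or.inr (Or.inr (Or.inr (Equiv.ext h)))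

theorem even_four : ∀ a : Perm (Fin 4), Perm.sign a = 1 → a ^ 4 = 1 → a * a = 1 := by
  decide +kernel

theorem even_four_comm : ∀ a b : Perm (Fin 4), Perm.sign a = 1 → Perm.sign b = 1 →
    a * a = 1 → b * b = 1 → a * b = b * a := by decide +kernel

variable {G : Type*} [Group G] [Finite G] [IsSimpleGroup G]

theorem not_comm (hG : Nat.card G = 360) : ¬ IsMulCommutative G := by
  intro h
  haveI : Fact (Nat.Prime 3) := ⟨Nat.prime_three⟩
  obtain ⟨x, hx⟩ := exists_prime_orderOf_dvd_card' (G := G) 3 (by rw [hG]; norm_num)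
  have hn : (Subgroup.zpowers x).Normal := ⟨fun y hy g => by
    rw [h.is_comm.comm g y, mul_inv_cancel_right]; exact hy⟩
  rcases hn.eq_bot_or_eq_top with e | e <;>
    · have h1 : Nat.card (Subgroup.zpowers x) = 3 := by rw [Nat.card_zpowers, hx]
      rw [e] at h1
      first | (rw [Subgroup.card_bot] at h1; omega) | (rw [Subgroup.card_top, hG] at h1; omega)

theorem six_le_index (hG : Nat.card G = 360) {H : Subgroup G} (hH : H ≠ ⊤) : 6 ≤ H.index := by
  by_contra h
  have hd := (Small.card_two_mul_dvd_factorial (not_comm hG) hH).trans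
    (Nat.factorial_dvd_factorial (show H.index ≤ 5 by omega))
  rw [hG] at hd
  norm_num [Nat.factorial] at hd

/-- A cyclic Sylow 2-subgroup is impossible. -/
theorem orderOf_ne_eight (hG : Nat.card G = 360) (x : G) : orderOf x ≠ 8 := by
  intro hx
  haveI : Fact (Nat.Prime 2) := ⟨Nat.prime_two⟩
  have hf : (360 : ℕ).factorization 2 = 3 := by
    rw [show (360 : ℕ) = 2 ^ 3 * 45 by norm_num, Nat.factorization_mul (by norm_num) (by norm_num),
      Finsupp.add_apply, Nat.Prime.factorization_pow Nat.prime_two, Finsupp.single_eq_same,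
      Nat.factorization_eq_zero_of_not_dvd (by norm_num)]
  let T : Sylow 2 G := Sylow.ofCard (Subgroup.zpowers x) (by rw [Nat.card_zpowers, hx, hG, hf]; norm_num)
  haveI : IsCyclic (T : Subgroup G) := by
    rw [Sylow.coe_ofCard]; infer_instance
  have hmin : (Nat.card G).minFac = 2 := by rw [hG]; norm_num
  have hco := IsCyclic.isComplement' (P := T) hmin inferInstance
  set K := (MonoidHom.transferSylow T (IsCyclic.normalizer_le_centralizer hmin inferInstance)).ker with hK
  have hcm := hco.card_mul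
  rw [Sylow.coe_ofCard, Nat.card_zpowers, hx, hG] at hcm
  rcases (inferInstance : K.Normal).eq_bot_or_eq_top with e | e
  · rw [e, Subgroup.card_bot] at hcm; omega
  · rw [e, Subgroup.card_top, hG] at hcm; omega

theorem fact_three : (360 : ℕ).factorization 3 = 2 := by
  rw [show (360 : ℕ) = 3 ^ 2 * 40 by norm_num, Nat.factorization_mul (by norm_num) (by norm_num),
    Finsupp.add_apply, Nat.Prime.factorization_pow Nat.prime_three, Finsupp.single_eq_same,
    Nat.factorization_eq_zero_of_not_dvd (by norm_num)]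

theorem card_sylow_three (hG : Nat.card G = 360) (P : Sylow 3 G) :
    Nat.card (P : Subgroup G) = 9 := by
  haveI : Fact (Nat.Prime 3) := ⟨Nat.prime_three⟩
  rw [P.card_eq_multiplicity, hG, fact_three]; norm_num

theorem comm_sylow_three (hG : Nat.card G = 360) (P : Sylow 3 G) {x y : G}
    (hx : x ∈ (P : Subgroup G)) (hy : y ∈ (P : Subgroup G)) : x * y = y * x := by
  haveI : Fact (Nat.Prime 3) := ⟨Nat.prime_three⟩
  exact congrArg Subtype.val ((IsPGroup.isMulCommutative_of_card_eq_prime_sq (p := 3)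
    (G := ↥(P : Subgroup G)) (by rw [card_sylow_three hG P]; norm_num)).is_comm.comm ⟨x, hx⟩ ⟨y, hy⟩)

theorem card_ten (hG : Nat.card G = 360) : Nat.card (Sylow 3 G) = 10 := by
  haveI : Fact (Nat.Prime 3) := ⟨Nat.prime_three⟩
  obtain ⟨P⟩ : Nonempty (Sylow 3 G) := inferInstance
  have hP := card_sylow_three hG P
  have hidx : (P : Subgroup G).index = 40 := by
    have := (P : Subgroup G).card_mul_index
    rw [hP, hG] at this
    omega
  have hd : Nat.card (Sylow 3 G) ∣ 40 := hidx ▸ P.card_dvd_index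
  have hm : Nat.card (Sylow 3 G) % 3 = 1 := card_sylow_modEq_one 3 G
  have hnorm : Nat.card (Sylow 3 G) = (Subgroup.normalizer (P : Set G)).index :=
    Sylow.card_eq_index_normalizer P
  have h6 : Subgroup.normalizer (P : Set G) ≠ ⊤ := by
    intro e
    haveI := (Subgroup.normalizer_eq_top_iff (H := (P : Subgroup G))).1 e
    rcases (inferInstance : (P : Subgroup G).Normal).eq_bot_or_eq_top with h | h
    · rw [h, Subgroup.card_bot] at hP; omega
    · rw [h, Subgroup.card_top, hG] at hP; omega
  have h6' := six_le_index hG h6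
  have h40 : Nat.card (Sylow 3 G) ≠ 40 := by
    intro e
    have heq : (P : Subgroup G) = Subgroup.normalizer (P : Set G) := by
      refine Subgroup.eq_of_le_of_card_ge Subgroup.le_normalizer ?_
      have := (Subgroup.normalizer (P : Set G)).card_mul_index
      rw [← hnorm, e, hG] at this
      omega
    have hTc : Subgroup.normalizer (P : Set G) ≤ Subgroup.centralizer (P : Set G) := by
      intro n hn y hy
      rw [← heq] at hn
      exact comm_sylow_three hG P hy hn
    have hcm := (MonoidHom.ker_transferSylow_isComplement' P hTc).card_mul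
    rcases (MonoidHom.normal_ker (MonoidHom.transferSylow P hTc)).eq_bot_or_eq_top with h | h
    · rw [h, Subgroup.card_bot, hP, hG] at hcm; omega
    · rw [h, Subgroup.card_top, hP, hG] at hcm; omega
  have hle := Nat.le_of_dvd (by norm_num) hd
  rw [← hnorm] at h6'
  interval_cases h : Nat.card (Sylow 3 G) <;> omega

/-- Distinct Sylow 3-subgroups meet trivially. -/
theorem inter_trivial (hG : Nat.card G = 360) {P R : Sylow 3 G} (hPR : P ≠ R) {d : G}
    (hdP : d ∈ (P : Subgroup G)) (hdR : d ∈ (R : Subgroup G)) : d = 1 := by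
  classical
  haveI : Fact (Nat.Prime 3) := ⟨Nat.prime_three⟩
  haveI : Fact (Nat.Prime 2) := ⟨Nat.prime_two⟩
  by_contra hd1
  set C := Subgroup.centralizer ({d} : Set G) with hC
  have hPC : (P : Subgroup G) ≤ C := fun y hy =>
    Subgroup.mem_centralizer_singleton_iff.2 (comm_sylow_three hG P hy hdP)
  have hRC : (R : Subgroup G) ≤ C := fun y hy =>
    Subgroup.mem_centralizer_singleton_iff.2 (comm_sylow_three hG R hy hdR)
  have hCtop : C ≠ ⊤ := by
    intro e
    have hdc : d ∈ Subgroup.center G := Subgroup.mem_center_iff.2 fun g =>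
      Subgroup.mem_centralizer_singleton_iff.1 (e ▸ Subgroup.mem_top g : g ∈ C)
    rcases (inferInstance : (Subgroup.center G).Normal).eq_bot_or_eq_top with h | h
    · exact hd1 (Subgroup.mem_bot.1 (h ▸ hdc))
    · exact not_comm hG ⟨⟨fun a b => Subgroup.mem_center_iff.1 (h ▸ Subgroup.mem_top b) a⟩⟩
  have h9 : 9 ∣ Nat.card C := card_sylow_three hG P ▸ Subgroup.card_dvd_of_le hPC
  have hmul := C.card_mul_index
  rw [hG] at hmul
  have h6 := six_le_index hG hCtop
  set P' : Sylow 3 C := P.subtype hPC with hP'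
  set R' : Sylow 3 C := R.subtype hRC with hR'
  have hne' : P' ≠ R' := by
    intro e
    apply hPR
    refine Sylow.ext (le_antisymm (fun y hy => ?_) (fun y hy => ?_))
    · have : (⟨y, hPC hy⟩ : C) ∈ (P' : Subgroup C) := hy
      rw [e] at this
      exact this
    · have : (⟨y, hRC hy⟩ : C) ∈ (R' : Subgroup C) := hy
      rw [← e] at this
      exact this
  have hP'card : ∀ T : Sylow 3 C, Nat.card (T : Subgroup C) = 9 := by
    intro T
    rw [T.card_eq_multiplicity, ← P'.card_eq_multiplicity]
    exact (Nat.card_congr (Subgroup.subgroupOfEquivOfLe hPC).toEquiv).trans (card_sylow_three hG P)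
  have hn3 : Nat.card (Sylow 3 C) ≠ 1 := fun e =>
    hne' (@Subsingleton.elim _ (Nat.card_eq_one_iff_unique.1 e).1 _ _)
  have hn3m : Nat.card (Sylow 3 C) % 3 = 1 := card_sylow_modEq_one 3 C
  have hn3d : Nat.card (Sylow 3 C) ∣ Nat.card C / 9 := by
    have h := P'.card_dvd_index
    have h2 := (P' : Subgroup C).card_mul_index
    rw [hP'card] at h2
    rwa [show (P' : Subgroup C).index = Nat.card C / 9 by omega] at h
  obtain ⟨q, hq⟩ := h9
  rw [hq, Nat.mul_div_cancel_left _ (by norm_num)] at hn3d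
  have hq6 : q * C.index = 40 := by rw [hq] at hmul; linarith
  have hqd : q ∣ 40 := ⟨_, hq6.symm⟩
  have hqle : q ≤ 6 := by nlinarith
  have hqpos : 0 < q := by
    rcases Nat.eq_zero_or_pos q with rfl | h
    · omega
    · exact h
  have hnle := Nat.le_of_dvd hqpos hn3d
  have hq4 : q = 4 ∧ Nat.card (Sylow 3 C) = 4 := by
    interval_cases q <;> first | omega | (interval_cases h : Nat.card (Sylow 3 C) <;> omega)
  obtain ⟨rfl, hn4⟩ := hq4
  have hC36 : Nat.card C = 36 := by omega
  -- the action on the four Sylow subgroups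
  let ε : Sylow 3 C ≃ Fin 4 := Finite.equivFinOfCardEq hn4
  let φ : C →* Perm (Fin 4) := ε.permCongrHom.toMonoidHom.comp (MulAction.toPermHom C (Sylow 3 C))
  have hφ : ∀ x : C, x ∈ φ.ker → ∀ T : Sylow 3 C, x • T = T := by
    intro x hx T
    have h := Equiv.ext_iff.1 (MonoidHom.mem_ker.1 hx) (ε T)
    simpa [φ] using h
  have hstab : ∀ (x : C) (T : Sylow 3 C), x • T = T → x ∈ (T : Subgroup C) := by
    intro x T hx
    have h1 : Nat.card (MulAction.stabilizer C T) = 9 := by
      have h := Nat.card_congr (MulAction.orbitProdStabilizerEquivGroup C T)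
      rw [Nat.card_prod, MulAction.orbit_eq_univ, Nat.card_univ, hn4, hC36] at h
      omega
    have h2 : (T : Subgroup C) = MulAction.stabilizer C T := Subgroup.eq_of_le_of_card_ge
      (fun y hy => Sylow.smul_eq_iff_mem_normalizer.2 (Subgroup.le_normalizer hy))
      (by rw [h1, hP'card])
    rw [h2]; exact hx
  have hker : ∀ x ∈ φ.ker, (x : G) ∈ (P : Subgroup G) ∧ (x : G) ∈ (R : Subgroup G) :=
    fun x hx => ⟨hstab x P' (hφ x hx P'), hstab x R' (hφ x hx R')⟩
  have hker3 : Nat.card φ.ker ≤ 3 := by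
    have hle : Nat.card φ.ker ∣ 9 := by
      have hle' : φ.ker ≤ (P' : Subgroup C) := fun x hx => (hker x hx).1
      exact hP'card P' ▸ Subgroup.card_dvd_of_le hle'
    obtain ⟨i, hi, hi'⟩ := (Nat.dvd_prime_pow Nat.prime_three).1 (show Nat.card φ.ker ∣ 3 ^ 2 by rw [show (3 : ℕ) ^ 2 = 9 by norm_num]; exact hle)
    interval_cases i
    · omega
    · omega
    · exfalso
      have h1 : φ.ker = (P' : Subgroup C) := Subgroup.eq_of_le_of_card_ge
        (fun x hx => (hker x hx).1) (by rw [hi', hP'card]; norm_num)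
      have h2 : φ.ker = (R' : Subgroup C) := Subgroup.eq_of_le_of_card_ge
        (fun x hx => (hker x hx).2) (by rw [hi', hP'card]; norm_num)
      exact hne' (Sylow.ext (h1.symm.trans h2))
  have hrange : ∀ x : C, Perm.sign (φ x) = 1 := by
    have hmulr := φ.ker.card_mul_index
    rw [Subgroup.index_ker, hC36] at hmulr
    have hdvd := Subgroup.card_subgroup_dvd_card φ.range
    rw [Nat.card_perm, Nat.card_fin, show Nat.factorial 4 = 24 by rfl] at hdvd
    have hr12 : 12 ∣ Nat.card φ.range := by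
      have hk : Nat.card φ.ker = 3 := by
        have h0 : 0 < Nat.card φ.ker := Nat.card_pos
        interval_cases h : Nat.card φ.ker
        · exfalso
          have := Nat.le_of_dvd (by norm_num) hdvd
          omega
        · exfalso
          obtain ⟨x, hx⟩ := exists_prime_orderOf_dvd_card' (G := φ.ker) 2 (by rw [h])
          have h2 : orderOf ((x : C) : G) ∣ 9 :=
            card_sylow_three hG P ▸ Subgroup.orderOf_dvd_natCard _ (hker x x.2).1
          rw [Subgroup.orderOf_coe, Subgroup.orderOf_coe, hx] at h2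
          norm_num at h2
        · rfl
      rw [hk] at hmulr
      exact ⟨1, by omega⟩
    intro x
    have hidx : φ.range.index = 2 := by
      have := φ.range.card_mul_index
      rw [Nat.card_perm, Nat.card_fin, show Nat.factorial 4 = 24 by rfl] at this
      have hmulr' : Nat.card φ.range ≤ 12 := by
        rcases Nat.lt_or_ge 12 (Nat.card φ.range) with h | h
        · have h24 := Nat.le_of_dvd (by norm_num) hdvd
          obtain ⟨r, hr⟩ := hr12
          have hr2 : r = 2 := by omega
          rw [hr, hr2] at hmulr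
          omega
        · exact h
      have h0 : 0 < Nat.card φ.range := Nat.card_pos
      have h12 : Nat.card φ.range = 12 := le_antisymm hmulr' (Nat.le_of_dvd h0 hr12)
      rw [h12] at this; omega
    have h : φ x ∈ φ.range := ⟨x, rfl⟩
    rw [Equiv.Perm.eq_alternatingGroup_of_index_eq_two hidx] at h
    exact Equiv.Perm.mem_alternatingGroup.1 h
  have hcentral : ∀ z ∈ φ.ker, ∀ x : C, z * x = x * z := by
    intro z hz x
    have hzP := (hker z hz).1
    have hzR := (hker z hz).2
    -- the kernel is generated by the central element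
    have hdker : (⟨d, Subgroup.mem_centralizer_singleton_iff.2 rfl⟩ : C) ∈ φ.ker := by
      rw [MonoidHom.mem_ker]
      refine Equiv.ext fun i => ?_
      have hfix : (⟨d, Subgroup.mem_centralizer_singleton_iff.2 rfl⟩ : C) • ε.symm i = ε.symm i := by
        refine Sylow.smul_eq_iff_mem_normalizer.2 ?_
        change _ ∈ Subgroup.normalizer (((ε.symm i : Sylow 3 C) : Subgroup C) : Set C)
        rw [Subgroup.mem_normalizer_iff]
        intro y
        have : (⟨d, Subgroup.mem_centralizer_singleton_iff.2 rfl⟩ : C) * y *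
            (⟨d, Subgroup.mem_centralizer_singleton_iff.2 rfl⟩ : C)⁻¹ = y := by
          rw [mul_inv_eq_iff_eq_mul]
          exact Subtype.ext (Subgroup.mem_centralizer_singleton_iff.1 y.2).symm
        rw [this]
      simp [φ, hfix]
    have hkeq : φ.ker = Subgroup.zpowers (⟨d, Subgroup.mem_centralizer_singleton_iff.2 rfl⟩ : C) := by
      refine (Subgroup.eq_of_le_of_card_ge (Subgroup.zpowers_le.2 hdker) ?_).symm
      rw [Nat.card_zpowers]
      have hd9 : orderOf d ∣ 3 ^ 2 := by
        simpa [card_sylow_three hG P] using Subgroup.orderOf_dvd_natCard _ hdP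
      obtain ⟨i, -, hi'⟩ := (Nat.dvd_prime_pow Nat.prime_three).1 hd9
      rw [← Subgroup.orderOf_coe]
      show _ ≤ orderOf d
      rw [hi']
      rcases Nat.eq_zero_or_pos i with rfl | hi0
      · exact absurd (orderOf_eq_one_iff.1 (by simpa using hi')) hd1
      · exact hker3.trans (le_self_pow₀ (by norm_num) hi0.ne')
    rw [hkeq] at hz
    obtain ⟨k, rfl⟩ := hz
    refine (Commute.zpow_left ?_ k).eq
    exact Subtype.ext (Subgroup.mem_centralizer_singleton_iff.1 x.2).symm
  -- the elements of order dividing four form a normal subgroup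
  have hclosed : ∀ x y : C, x ^ 4 = 1 → y ^ 4 = 1 → x * y = y * x := by
    intro x y hx hy
    have h2 : ∀ x : C, x ^ 4 = 1 → φ x * φ x = 1 := fun x hx =>
      even_four _ (hrange x) (by rw [← map_pow, hx, map_one])
    set z := x * y * x⁻¹ * y⁻¹ with hz
    have hzk : z ∈ φ.ker := by
      rw [MonoidHom.mem_ker, hz, map_mul, map_mul, map_mul,
        even_four_comm _ _ (hrange x) (hrange y) (h2 x hx) (h2 y hy), map_inv, map_inv]
      group
    have hz4 : z ^ 4 = 1 := by
      have he : x * y * x⁻¹ = z * y := by rw [hz]; group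
      have h := congrArg (fun u => u ^ 4) he
      rw [(show Commute z y from hcentral z hzk y).mul_pow, conj_pow, hy] at h
      simpa using h.symm
    have hz9 : orderOf z ∣ 9 := by
      rw [← Subgroup.orderOf_coe]
      exact card_sylow_three hG P ▸ Subgroup.orderOf_dvd_natCard _ (hker z hzk).1
    have hz1 : z = 1 := orderOf_eq_one_iff.1 (Nat.eq_one_of_dvd_coprimes
      (show Nat.Coprime 4 9 by norm_num) (orderOf_dvd_of_pow_eq_one hz4) hz9)
    rw [hz] at hz1
    calc x * y = (x * y * x⁻¹ * y⁻¹) * (y * x) := by group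
      _ = y * x := by rw [hz1, one_mul]
  let V : Subgroup C :=
    { carrier := {x | x ^ 4 = 1}
      one_mem' := one_pow 4
      mul_mem' := fun {x y} hx hy => by
        show (x * y) ^ 4 = 1
        rw [(show Commute x y from hclosed x y hx hy).mul_pow, hx, hy, one_mul]
      inv_mem' := fun {x} hx => by
        show x⁻¹ ^ 4 = 1
        rw [inv_pow, hx, inv_one] }
  have hVn : V.Normal := ⟨fun x hx g => by
    show (g * x * g⁻¹) ^ 4 = 1
    rw [conj_pow, hx, mul_one, mul_inv_cancel]⟩
  have hV4 : Nat.card V = 4 := by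
    obtain ⟨W⟩ : Nonempty (Sylow 2 C) := inferInstance
    have hW : Nat.card (W : Subgroup C) = 4 := by
      rw [W.card_eq_multiplicity, hC36, show (36 : ℕ) = 2 ^ 2 * 9 by norm_num,
        Nat.factorization_mul (by norm_num) (by norm_num), Finsupp.add_apply,
        Nat.Prime.factorization_pow Nat.prime_two, Finsupp.single_eq_same,
        Nat.factorization_eq_zero_of_not_dvd (by norm_num)]
      norm_num
    have hWV : (W : Subgroup C) ≤ V := fun x hx => by
      show x ^ 4 = 1
      exact orderOf_dvd_iff_pow_eq_one.1 (hW ▸ Subgroup.orderOf_dvd_natCard _ hx)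
    have hVp : IsPGroup 2 V := fun x => ⟨2, Subtype.ext x.2⟩
    rw [W.3 hVp hWV, hW]
  set V0 : Subgroup G := V.map C.subtype with hV0
  have hV0card : Nat.card V0 = 4 := by
    rw [hV0, Subgroup.card_map_of_injective C.subtype_injective, hV4]
  obtain ⟨S, hS⟩ := (IsPGroup.of_card (n := 2) (by rw [hV0card]; norm_num) :
    IsPGroup 2 V0).exists_le_sylow
  have hScard : Nat.card (S : Subgroup G) = 8 := by
    rw [S.card_eq_multiplicity, hG, show (360 : ℕ) = 2 ^ 3 * 45 by norm_num,
      Nat.factorization_mul (by norm_num) (by norm_num), Finsupp.add_apply,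
      Nat.Prime.factorization_pow Nat.prime_two, Finsupp.single_eq_same,
      Nat.factorization_eq_zero_of_not_dvd (by norm_num)]
    norm_num
  haveI : (V0.subgroupOf (S : Subgroup G)).Normal := by
    refine Subgroup.normal_of_index_eq_two ?_
    have h := (V0.subgroupOf (S : Subgroup G)).card_mul_index
    rw [Nat.card_congr (Subgroup.subgroupOfEquivOfLe hS).toEquiv, hV0card, hScard] at h
    omega
  have hSN : (S : Subgroup G) ≤ Subgroup.normalizer (V0 : Set G) :=
    (Subgroup.normal_subgroupOf_iff_le_normalizer hS).1 inferInstance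
  have hCN : C ≤ Subgroup.normalizer (V0 : Set G) := by
    have h := Subgroup.le_normalizer_map (H := V) C.subtype
    rw [@Subgroup.normalizer_eq_top _ _ V hVn, ← MonoidHom.range_eq_map, Subgroup.range_subtype] at h
    exact h
  set N := Subgroup.normalizer (V0 : Set G) with hN
  have h72 : 72 ∣ Nat.card N :=
    (Nat.Coprime.mul_dvd_of_dvd_of_dvd (by norm_num) (hScard ▸ Subgroup.card_dvd_of_le hSN)
      ((show (9 : ℕ) ∣ 36 by norm_num).trans (hC36 ▸ Subgroup.card_dvd_of_le hCN)) : 8 * 9 ∣ _)
  have hNtop : N = ⊤ := by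
    by_contra hne
    have h6 := six_le_index hG hne
    have hmulN := N.card_mul_index
    rw [hG] at hmulN
    have hle := Nat.le_of_dvd Nat.card_pos h72
    nlinarith
  haveI := (Subgroup.normalizer_eq_top_iff (H := V0)).1 hNtop
  rcases (inferInstance : V0.Normal).eq_bot_or_eq_top with h | h
  · rw [h, Subgroup.card_bot] at hV0card; omega
  · rw [h, Subgroup.card_top, hG] at hV0card; omega

/-- The ten-point action. -/
theorem equiv_refGroup (hG : Nat.card G = 360) : Nonempty (G ≃* ↥refGroup) := by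
  classical
  haveI : Fact (Nat.Prime 3) := ⟨Nat.prime_three⟩
  haveI : Fact (Nat.Prime 2) := ⟨Nat.prime_two⟩
  haveI : Fact (Nat.Prime 5) := ⟨by norm_num⟩
  have hncomm := not_comm hG
  have hcard10 := card_ten hG
  obtain ⟨P⟩ : Nonempty (Sylow 3 G) := inferInstance
  have hP9 := card_sylow_three hG P
  obtain ⟨Q, hQP⟩ : ∃ Q : Sylow 3 G, Q ≠ P := by
    by_contra h
    push_neg at h
    haveI : Subsingleton (Sylow 3 G) := ⟨fun a b => (h a).trans (h b).symm⟩
    rw [Nat.card_unique] at hcard10
    omega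
  have hstab36 : Nat.card (MulAction.stabilizer G P) = 36 := by
    have h := Nat.card_congr (MulAction.orbitProdStabilizerEquivGroup G P)
    rw [Nat.card_prod, MulAction.orbit_eq_univ, Nat.card_univ, hcard10, hG] at h
    omega
  have hPfix : ∀ x ∈ (P : Subgroup G), x • P = P := fun x hx =>
    Sylow.smul_eq_iff_mem_normalizer.2 (Subgroup.le_normalizer hx)
  have hfree : ∀ x ∈ (P : Subgroup G), x • Q = Q → x = 1 := by
    intro x hx hxQ
    have hp : IsPGroup 3 (Subgroup.zpowers x) := P.2.to_le (Subgroup.zpowers_le.2 hx)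
    have h2 := hp.inf_normalizer_sylow Q
    have h3 : Subgroup.zpowers x ≤ Subgroup.normalizer (Q : Set G) :=
      Subgroup.zpowers_le.2 (Sylow.smul_eq_iff_mem_normalizer.1 hxQ)
    rw [inf_eq_left.2 h3] at h2
    have h4 : x ∈ Subgroup.zpowers x ⊓ (Q : Subgroup G) := h2 ▸ Subgroup.mem_zpowers x
    exact inter_trivial hG hQP h4.2 hx
  have hinjP : ∀ x ∈ (P : Subgroup G), ∀ y ∈ (P : Subgroup G), x • Q = y • Q → x = y := by
    intro x hx y hy h
    have := hfree (y⁻¹ * x) (mul_mem (inv_mem hy) hx) (by rw [mul_smul, h, inv_smul_smul])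
    exact (inv_mul_eq_one.1 this).symm
  -- transitivity on the other nine points
  have htrans : ∀ R : Sylow 3 G, R ≠ P → ∃ x ∈ (P : Subgroup G), x • Q = R := by
    have hcard9 : Nat.card {R : Sylow 3 G // R ≠ P} = 9 := by
      haveI := Fintype.ofFinite (Sylow 3 G)
      rw [Nat.card_eq_fintype_card, Fintype.card_subtype_compl, Fintype.card_subtype_eq,
        ← Nat.card_eq_fintype_card, hcard10]
    let g : ↥(P : Subgroup G) → {R : Sylow 3 G // R ≠ P} := fun x => ⟨(x : G) • Q, fun h =>
      hQP (MulAction.injective (x : G) (h.trans (hPfix x x.2).symm))⟩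
    have hg : Function.Injective g := fun x y h =>
      Subtype.ext (hinjP x x.2 y y.2 (congrArg Subtype.val h))
    intro R hR
    obtain ⟨x, hx⟩ := ((Nat.bijective_iff_injective_and_card g).2 ⟨hg, by rw [hP9, hcard9]⟩).2 ⟨R, hR⟩
    exact ⟨x, x.2, congrArg Subtype.val hx⟩
  set K := MulAction.stabilizer G P ⊓ MulAction.stabilizer G Q with hK
  have hK4 : Nat.card K = 4 := by
    let μ : ↥(P : Subgroup G) × K → MulAction.stabilizer G P := fun z =>
      ⟨(z.1 : G) * z.2, mul_mem (show (z.1 : G) ∈ MulAction.stabilizer G P from hPfix _ z.1.2) z.2.2.1⟩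
    have hμ : Function.Bijective μ := by
      refine ⟨fun z z' h => ?_, fun s => ?_⟩
      · have h' : (z.1 : G) * z.2 = z'.1 * z'.2 := congrArg Subtype.val h
        have hQ := congrArg (fun g : G => g • Q) h'
        simp only [mul_smul] at hQ
        rw [show (z.2 : G) • Q = Q from z.2.2.2, show (z'.2 : G) • Q = Q from z'.2.2.2] at hQ
        have h1 := hinjP _ z.1.2 _ z'.1.2 hQ
        rw [h1] at h'
        exact Prod.ext (Subtype.ext h1) (Subtype.ext (mul_left_cancel h'))
      · have hsP : (s : G) • P = P := s.2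
        obtain ⟨x, hx, hxs⟩ := htrans ((s : G) • Q) (fun h => hQP (MulAction.injective (s : G)
          (h.trans hsP.symm)))
        refine ⟨(⟨x, hx⟩, ⟨x⁻¹ * (s : G), ?_, ?_⟩), Subtype.ext (mul_inv_cancel_left x (s : G))⟩
        · show (x⁻¹ * (s : G)) • P = P
          rw [mul_smul, hsP, hPfix _ (inv_mem hx)]
        · show (x⁻¹ * (s : G)) • Q = Q
          rw [mul_smul, ← hxs, inv_smul_smul]
    have h := Nat.card_congr (Equiv.ofBijective μ hμ)
    rw [Nat.card_prod, hP9, hstab36] at h
    omega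
  have hKconj : ∀ k ∈ K, ∀ x ∈ (P : Subgroup G), k * x * k⁻¹ ∈ (P : Subgroup G) := fun k hk x hx =>
    (Subgroup.mem_normalizer_iff.1 (Sylow.smul_eq_iff_mem_normalizer.1 hk.1) x).1 hx
  have hfaith : ∀ g : G, (∀ R : Sylow 3 G, g • R = R) → g = 1 := by
    intro g hg
    rcases (MonoidHom.normal_ker (MulAction.toPermHom G (Sylow 3 G))).eq_bot_or_eq_top with h | h
    · exact Subgroup.mem_bot.1 (h ▸ MonoidHom.mem_ker.2 (Equiv.ext hg))
    · exfalso
      have hall : ∀ g : G, g ∈ MulAction.stabilizer G P := fun g => by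
        have hmem : g ∈ (MulAction.toPermHom G (Sylow 3 G)).ker := by rw [h]; exact Subgroup.mem_top g
        exact Equiv.ext_iff.1 (MonoidHom.mem_ker.1 hmem) P
      rw [(Subgroup.eq_top_iff' _).2 hall, Subgroup.card_top, hG] at hstab36
      omega
  have hKfaith : ∀ k ∈ K, (∀ x ∈ (P : Subgroup G), k * x * k⁻¹ = x) → k = 1 := by
    intro k hk hc
    refine hfaith k fun R => ?_
    by_cases hR : R = P
    · rw [hR]; exact hk.1
    · obtain ⟨x, hx, rfl⟩ := htrans R hR
      rw [← mul_smul, mul_inv_eq_iff_eq_mul.1 (hc x hx), mul_smul, show k • Q = Q from hk.2]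
  -- exponent three
  have hexp : ∀ x ∈ (P : Subgroup G), x ^ 3 = 1 := by
    intro y hy
    by_contra h3
    have hy9 : orderOf y = 9 := by
      have hd : orderOf y ∣ 3 ^ 2 := by simpa [hP9] using Subgroup.orderOf_dvd_natCard _ hy
      exact orderOf_eq_prime_pow (p := 3) (n := 1) (by simpa using h3)
        (orderOf_dvd_iff_pow_eq_one.1 hd)
    have hPz : Subgroup.zpowers y = (P : Subgroup G) :=
      Subgroup.eq_of_le_of_card_ge (Subgroup.zpowers_le.2 hy) (by rw [Nat.card_zpowers, hy9, hP9])
    have hres : ∀ k ∈ K, ∃ n < 9, k * y * k⁻¹ = y ^ n := by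
      intro k hk
      have hm : k * y * k⁻¹ ∈ Subgroup.zpowers y := hPz ▸ hKconj k hk y hy
      obtain ⟨n, hn, hn'⟩ := (mem_zpowers_iff_mem_range_orderOf).1 hm |> Finset.mem_image.1
      exact ⟨n, by simpa [hy9] using hn, hn'.symm⟩
    have hpm : ∀ k ∈ K, k * y * k⁻¹ = y ∨ k * y * k⁻¹ = y ^ 8 := by
      intro k hk
      obtain ⟨n, hn, hnk⟩ := hres k hk
      have hpow : ∀ j, k ^ j * y * (k ^ j)⁻¹ = y ^ (n ^ j) := by
        intro j
        induction j with
        | zero => simp
        | succ j ih =>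
          calc k ^ (j + 1) * y * (k ^ (j + 1))⁻¹ = k * (k ^ j * y * (k ^ j)⁻¹) * k⁻¹ := by
                rw [pow_succ']; group
            _ = (k * y * k⁻¹) ^ (n ^ j) := by rw [ih, conj_pow]
            _ = _ := by rw [hnk, ← pow_mul, pow_succ']
      have hk4 : k ^ 4 = 1 := orderOf_dvd_iff_pow_eq_one.1 (hK4 ▸ Subgroup.orderOf_dvd_natCard _ hk)
      have h4 := hpow 4
      rw [hk4, one_mul, inv_one, mul_one] at h4
      have hmod : 1 ≡ n ^ 4 [MOD 9] := hy9 ▸ pow_eq_pow_iff_modEq.1 ((pow_one y).trans h4)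
      have hn18 : n = 1 ∨ n = 8 := by
        unfold Nat.ModEq at hmod
        interval_cases n <;> simp at hmod ⊢
      rcases hn18 with rfl | rfl
      · exact Or.inl (by rwa [pow_one] at hnk)
      · exact Or.inr hnk
    have hgen : ∀ k ∈ K, k * y * k⁻¹ = y → k = 1 := fun k hk h => hKfaith k hk fun x hx => by
      rw [← hPz] at hx
      obtain ⟨i, rfl⟩ := hx
      rw [← conj_zpow, h]
    have hle : Nat.card K ≤ 2 := by
      let ψ : K → Bool := fun k => decide ((k : G) * y * (k : G)⁻¹ = y)
      have hψ : Function.Injective ψ := by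
        intro k l h
        by_cases hk : (k : G) * y * (k : G)⁻¹ = y
        · have hl : (l : G) * y * (l : G)⁻¹ = y := by simpa [ψ, hk] using h.symm
          exact Subtype.ext ((hgen _ k.2 hk).trans (hgen _ l.2 hl).symm)
        · have hl : ¬ (l : G) * y * (l : G)⁻¹ = y := by simpa [ψ, hk] using h.symm
          have e1 := (hpm _ k.2).resolve_left hk
          have e2 := (hpm _ l.2).resolve_left hl
          refine Subtype.ext (inv_mul_eq_one.1 (hgen _ (mul_mem (inv_mem k.2) l.2) ?_))
          calc (k : G)⁻¹ * l * y * ((k : G)⁻¹ * l)⁻¹ = (k : G)⁻¹ * ((l : G) * y * (l : G)⁻¹) * k := by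
                group
            _ = (k : G)⁻¹ * ((k : G) * y * (k : G)⁻¹) * k := by rw [e1, e2]
            _ = y := by group
      simpa using Nat.card_le_card_of_injective ψ hψ
    omega
  have hpow3 : ∀ x ∈ (P : Subgroup G), ∀ n : ℕ, x ^ n = x ^ (n % 3) := by
    intro x hx n
    conv_lhs => rw [← Nat.div_add_mod n 3, pow_add, pow_mul, hexp x hx, one_pow, one_mul]
  -- labelling the ten points by a basis
  have key : ∀ a c : G, a ∈ (P : Subgroup G) → c ∈ (P : Subgroup G) → a ≠ 1 → c ≠ 1 → c ≠ a →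
      c ≠ a ^ 2 → ∃ σ : Fin 10 ≃ Sylow 3 G, σ 9 = P ∧
        (∀ i j : ℕ, σ (lab i j) = (a ^ i * c ^ j) • Q) ∧
        (∀ x ∈ (P : Subgroup G), ∃ i j : ℕ, x = a ^ i * c ^ j) := by
    intro a c ha hc ha1 hc1 hca hca2
    have hinj2 : ∀ i j i' j' : Fin 3, a ^ (i : ℕ) * c ^ (j : ℕ) = a ^ (i' : ℕ) * c ^ (j' : ℕ) →
        i = i' ∧ j = j' := by
      have hc2a : c ^ 2 ≠ a ∧ c ^ 2 ≠ a ^ 2 ∧ c ^ 2 ≠ 1 := by
        have hc3 := hexp c hc
        have ha3 := hexp a ha
        have hcinv : (c ^ 2) ^ 2 = c := by rw [← pow_mul, hpow3 c hc]; simp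
        refine ⟨fun h => hca2 ?_, fun h => hca ?_, fun h => hc1 ?_⟩
        · rw [← hcinv, h]
        · rw [← hcinv, h, ← pow_mul, hpow3 a ha]; simp
        · rw [← hcinv, h, one_pow]
      have hmem : ∀ j : Fin 3, ∀ i : ℕ, c ^ (j : ℕ) = a ^ i → j = 0 := by
        intro j i h
        rw [hpow3 a ha i] at h
        have : i % 3 < 3 := Nat.mod_lt _ (by norm_num)
        fin_cases j
        · rfl
        · exfalso
          interval_cases h' : i % 3 <;> simp at h
          · exact hc1 h
          · exact hca h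
          · exact hca2 h
        · exfalso
          interval_cases h' : i % 3 <;> simp at h
          · exact hc2a.2.2 h
          · exact hc2a.1 h
          · exact hc2a.2.1 h
      have hcom : Commute a c := comm_sylow_three hG P ha hc
      intro i j i' j' h
      have h2 := congrArg (fun u => a ^ (3 - (i : ℕ)) * u * c ^ (3 - (j' : ℕ))) h
      beta_reduce at h2
      have hl : a ^ (3 - (i : ℕ)) * (a ^ (i : ℕ) * c ^ (j : ℕ)) * c ^ (3 - (j' : ℕ)) =
          c ^ (((j : ℕ) + (3 - (j' : ℕ))) % 3) := by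
        rw [← mul_assoc, ← pow_add, show 3 - (i : ℕ) + i = 3 by omega, hexp a ha, one_mul,
          ← pow_add, hpow3 c hc]
      have hr : a ^ (3 - (i : ℕ)) * (a ^ (i' : ℕ) * c ^ (j' : ℕ)) * c ^ (3 - (j' : ℕ)) =
          a ^ (3 - (i : ℕ) + i') := by
        rw [← mul_assoc, ← pow_add, mul_assoc, ← pow_add, show (j' : ℕ) + (3 - j') = 3 by omega,
          hexp c hc, mul_one]
      rw [hl, hr] at h2
      have hj : j = j' := by
        have h0 := congrArg Fin.val (hmem ⟨((j : ℕ) + (3 - (j' : ℕ))) % 3, Nat.mod_lt _ (by norm_num)⟩ _ h2)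
        simp only [Fin.val_zero] at h0
        apply Fin.ext; omega
      subst hj
      have h3 := mul_right_cancel h
      refine ⟨?_, rfl⟩
      have hoa : orderOf a = 3 := orderOf_eq_prime (hexp a ha) ha1
      have := pow_injOn_Iio_orderOf (x := a) (by rw [hoa]; exact i.2) (by rw [hoa]; exact i'.2) h3
      exact Fin.ext this
    have hP' : ∀ x ∈ (P : Subgroup G), ∃ i j : ℕ, x = a ^ i * c ^ j := by
      intro x hx
      let π : Fin 3 × Fin 3 → ↥(P : Subgroup G) := fun z =>
        ⟨a ^ (z.1 : ℕ) * c ^ (z.2 : ℕ), mul_mem (pow_mem ha _) (pow_mem hc _)⟩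
      have hπ : Function.Injective π := fun z z' h => by
        have := hinj2 _ _ _ _ (congrArg Subtype.val h)
        exact Prod.ext this.1 this.2
      obtain ⟨z, hz⟩ := ((Nat.bijective_iff_injective_and_card π).2 ⟨hπ, by simp [hP9]⟩).2 ⟨x, hx⟩
      exact ⟨z.1, z.2, (congrArg Subtype.val hz).symm⟩
    let σ0 : Fin 10 → Sylow 3 G := fun t =>
      if t = 9 then P else (a ^ ((t : ℕ) % 3) * c ^ ((t : ℕ) / 3)) • Q
    have hmemP : ∀ t : ℕ, ∀ t' : ℕ, a ^ t * c ^ t' ∈ (P : Subgroup G) := fun t t' =>
      mul_mem (pow_mem ha _) (pow_mem hc _)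
    have hσinj : Function.Injective σ0 := by
      intro s t h
      simp only [σ0] at h
      split_ifs at h with h1 h2 h2
      · rw [h1, h2]
      · exact absurd (MulAction.injective _ (h.symm.trans (hPfix _ (hmemP _ _)).symm)) hQP
      · exact absurd (MulAction.injective _ (h.trans (hPfix _ (hmemP _ _)).symm)) hQP
      · have hs : (s : ℕ) < 9 := by omega
        have ht : (t : ℕ) < 9 := by omega
        have e := hinj2 ⟨(s : ℕ) % 3, Nat.mod_lt _ (by norm_num)⟩ ⟨(s : ℕ) / 3, by omega⟩
          ⟨(t : ℕ) % 3, Nat.mod_lt _ (by norm_num)⟩ ⟨(t : ℕ) / 3, by omega⟩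
          (hinjP _ (hmemP _ _) _ (hmemP _ _) h)
        have e1 := congrArg Fin.val e.1
        have e2 := congrArg Fin.val e.2
        simp only at e1 e2
        apply Fin.ext; omega
    refine ⟨Equiv.ofBijective σ0
      ((Nat.bijective_iff_injective_and_card σ0).2 ⟨hσinj, by rw [Nat.card_fin, hcard10]⟩),
      by simp [σ0], fun i j => ?_, hP'⟩
    have hne : lab i j ≠ 9 := fun h => by
      have := congrArg Fin.val h
      simp [lab] at this
      omega
    simp only [Equiv.ofBijective_apply, σ0, if_neg hne]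
    rw [hpow3 a ha i, hpow3 c hc j]
    congr 3 <;> simp [lab] <;> omega
  have hlab : ∀ t : Fin 10, t = 9 ∨ ∃ i : Fin 3, ∃ j : Fin 3, t = lab i j := by decide
  -- no element of the pair stabiliser fixes a nontrivial element of `P`
  have hfpf : ∀ t ∈ K, t * t = 1 → t ≠ 1 → ∀ x ∈ (P : Subgroup G), t * x * t⁻¹ = x⁻¹ := by
    intro t ht htt ht1
    have hti : t⁻¹ = t := inv_eq_of_mul_eq_one_right htt
    by_contra hex
    push_neg at hex
    obtain ⟨x, hx, hxne⟩ := hex
    have hx' := hKconj t ht x hx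
    set a := x * (t * x * t⁻¹) with hadef
    have ha : a ∈ (P : Subgroup G) := mul_mem hx hx'
    have ha1 : a ≠ 1 := fun h => hxne (eq_inv_of_mul_eq_one_right h)
    have hta : t * a * t⁻¹ = a := by
      calc t * a * t⁻¹ = (t * x * t⁻¹) * ((t * t) * x * (t * t)⁻¹) := by rw [hadef]; group
        _ = (t * x * t⁻¹) * x := by rw [htt]; group
        _ = a := comm_sylow_three hG P hx' hx
    obtain ⟨z, hz, hzne⟩ : ∃ z ∈ (P : Subgroup G), t * z * t⁻¹ ≠ z := by
      by_contra h
      push_neg at h
      exact ht1 (hKfaith t ht h)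
    have hz' := hKconj t ht z hz
    set c := z⁻¹ * (t * z * t⁻¹) with hcdef
    have hc : c ∈ (P : Subgroup G) := mul_mem (inv_mem hz) hz'
    have hc1 : c ≠ 1 := fun h => hzne (inv_mul_eq_one.1 h).symm
    have htc : t * c * t⁻¹ = c⁻¹ := by
      calc t * c * t⁻¹ = (t * z * t⁻¹)⁻¹ * ((t * t) * z * (t * t)⁻¹) := by rw [hcdef]; group
        _ = c⁻¹ := by rw [htt, hcdef]; group
    have hcinv : c⁻¹ = c ^ 2 := inv_eq_of_mul_eq_one_right (by rw [← pow_succ']; exact hexp c hc)
    have hcne : c⁻¹ ≠ c := fun h => hc1 (by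
      have h2 : c ^ 2 = c := hcinv ▸ h
      rw [pow_two] at h2
      exact mul_eq_left.1 h2)
    have hca : c ≠ a := fun h => hcne (by rw [← htc, h, hta])
    have hca2 : c ≠ a ^ 2 := fun h => hcne (by rw [← htc, h, ← conj_pow, hta])
    obtain ⟨σ, hσ9, hσ, -⟩ := key a c ha hc ha1 hc1 hca hca2
    let f : G →* Perm (Fin 10) :=
      σ.symm.permCongrHom.toMonoidHom.comp (MulAction.toPermHom G (Sylow 3 G))
    have hft : f t = permT := by
      refine Equiv.ext fun s => ?_
      show σ.symm (t • σ s) = permT s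
      rw [Equiv.symm_apply_eq]
      rcases hlab s with rfl | ⟨i, j, rfl⟩
      · rw [hσ9, show permT 9 = 9 from rfl, hσ9]; exact ht.1
      · have h1 : ∀ i j : Fin 3, permT (lab i j) = lab i (2 * (j : ℕ)) := by decide
        rw [h1, hσ, hσ, ← mul_smul,
          show t * (a ^ (i : ℕ) * c ^ (j : ℕ)) =
            (t * a * t⁻¹) ^ (i : ℕ) * (t * c * t⁻¹) ^ (j : ℕ) * t by rw [conj_pow, conj_pow]; group,
          hta, htc, hcinv, ← pow_mul, mul_smul, show t • Q = Q from ht.2]
    have h1 := Small.hom_comm_eq_one hncomm (Perm.sign.comp f) t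
    rw [MonoidHom.comp_apply, hft, sign_permT] at h1
    exact absurd h1 (by decide)
  -- the rotation
  obtain ⟨k, hk, hk4⟩ : ∃ k ∈ K, k * k ≠ 1 := by
    by_contra h
    push_neg at h
    have hsub : ∀ s ∈ K, ∀ t ∈ K, s ≠ 1 → t ≠ 1 → s = t := by
      intro s hs t ht hs1 ht1
      have h1 := hfpf s hs (h s hs) hs1
      have h2 := hfpf t ht (h t ht) ht1
      refine inv_mul_eq_one.1 (hKfaith _ (mul_mem (inv_mem hs) ht) fun x hx => ?_)
      calc s⁻¹ * t * x * (s⁻¹ * t)⁻¹ = s⁻¹ * (t * x * t⁻¹) * s := by group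
        _ = s⁻¹ * (s * x * s⁻¹) * s := by rw [h1 x hx, h2 x hx]
        _ = x := by group
    have hle : Nat.card K ≤ 2 := by
      let ψ : K → Bool := fun k => decide ((k : G) = 1)
      have hψ : Function.Injective ψ := by
        intro k l he
        by_cases hk : (k : G) = 1
        · have hl : (l : G) = 1 := (decide_eq_decide.1 he).1 hk
          exact Subtype.ext (hk.trans hl.symm)
        · have hl : ¬ (l : G) = 1 := fun e => hk ((decide_eq_decide.1 he).2 e)
          exact Subtype.ext (hsub _ k.2 _ l.2 hk hl)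
      simpa using Nat.card_le_card_of_injective ψ hψ
    omega
  have hkpow : k ^ 4 = 1 := orderOf_dvd_iff_pow_eq_one.1 (hK4 ▸ Subgroup.orderOf_dvd_natCard _ hk)
  have hkord : orderOf k = 4 := by
    refine orderOf_eq_prime_pow (p := 2) (n := 1) (by rw [pow_one, pow_two]; exact hk4) ?_
    exact hkpow
  have hKz : K = Subgroup.zpowers k :=
    (Subgroup.eq_of_le_of_card_ge (Subgroup.zpowers_le.2 hk) (by rw [hK4, Nat.card_zpowers, hkord])).symm
  have hkk := hfpf (k * k) (mul_mem hk hk) (by rw [← hkpow]; simp [pow_succ, mul_assoc]) hk4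
  obtain ⟨a0, ha0⟩ := exists_prime_orderOf_dvd_card' (G := (P : Subgroup G)) 3 (by rw [hP9]; norm_num)
  set a : G := (a0 : G) with hadef
  have ha : a ∈ (P : Subgroup G) := a0.2
  have ha1 : a ≠ 1 := fun h => by
    rw [← Subgroup.orderOf_coe, ← hadef, h, orderOf_one] at ha0; omega
  have hainv : a⁻¹ = a ^ 2 := inv_eq_of_mul_eq_one_right (by rw [← pow_succ']; exact hexp a ha)
  set c := k * a * k⁻¹ with hcdef
  have hc : c ∈ (P : Subgroup G) := hKconj k hk a ha
  have hkc : k * c * k⁻¹ = a⁻¹ := by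
    rw [← hkk a ha, hcdef]; group
  have hc1 : c ≠ 1 := fun h => ha1 (conj_eq_one_iff.1 h)
  have haa : a⁻¹ ≠ a := fun h => ha1 (by
    rw [hainv, pow_two] at h
    exact mul_eq_left.1 h)
  have hca : c ≠ a := fun h => haa (by rw [← hkc, h, ← hcdef]; exact h)
  have hca2 : c ≠ a ^ 2 := fun h => haa (by
    have h2 : k * c * k⁻¹ = c ^ 2 := by
      conv_lhs => rw [h]
      rw [← conj_pow, ← hcdef]
    rw [hkc, h, ← pow_mul, hpow3 a ha] at h2
    simpa using h2)
  obtain ⟨σ, hσ9, hσ, hPgen⟩ := key a c ha hc ha1 hc1 hca hca2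
  let f : G →* Perm (Fin 10) :=
    σ.symm.permCongrHom.toMonoidHom.comp (MulAction.toPermHom G (Sylow 3 G))
  have hf : ∀ (g : G) (i : Fin 10), f g i = σ.symm (g • σ i) := fun g i => rfl
  have hfinj : Function.Injective f := by
    rw [injective_iff_map_eq_one]
    intro g hg
    refine hfaith g fun R => ?_
    have h := Equiv.ext_iff.1 hg (σ.symm R)
    rw [hf, Equiv.apply_symm_apply, Perm.one_apply, EmbeddingLike.apply_eq_iff_eq] at h
    exact h
  have hcom : Commute a c := comm_sylow_three hG P ha hc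
  have hfa : f a = permA := by
    refine Equiv.ext fun s => ?_
    rw [hf, Equiv.symm_apply_eq]
    rcases hlab s with rfl | ⟨i, j, rfl⟩
    · rw [hσ9, show permA 9 = 9 from rfl, hσ9]; exact hPfix a ha
    · have h1 : ∀ i j : Fin 3, permA (lab i j) = lab ((i : ℕ) + 1) j := by decide
      rw [h1, hσ, hσ, ← mul_smul, pow_succ', mul_assoc]
  have hfc : f c = permC := by
    refine Equiv.ext fun s => ?_
    rw [hf, Equiv.symm_apply_eq]
    rcases hlab s with rfl | ⟨i, j, rfl⟩
    · rw [hσ9, show permC 9 = 9 from rfl, hσ9]; exact hPfix c hc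
    · have h1 : ∀ i j : Fin 3, permC (lab i j) = lab i ((j : ℕ) + 1) := by decide
      rw [h1, hσ, hσ, ← mul_smul, ← mul_assoc, ← (hcom.pow_left _).eq, mul_assoc, ← pow_succ']
  have hfk : f k = permK := by
    refine Equiv.ext fun s => ?_
    rw [hf, Equiv.symm_apply_eq]
    rcases hlab s with rfl | ⟨i, j, rfl⟩
    · rw [hσ9, show permK 9 = 9 from rfl, hσ9]; exact hk.1
    · have h1 : ∀ i j : Fin 3, permK (lab i j) = lab (2 * (j : ℕ)) i := by decide
      have hcp : ∀ (x y : G) (m n : ℕ),
          k * (x ^ m * y ^ n) = (k * x * k⁻¹) ^ m * (k * y * k⁻¹) ^ n * k := fun x y m n => by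
        rw [conj_pow, conj_pow]; group
      rw [h1, hσ, hσ, ← mul_smul, hcp,
        ← hcdef, hkc, hainv, ← pow_mul, mul_smul, show k • Q = Q from hk.2,
        ((hcom.symm.pow_pow _ _)).eq]
  -- the swap
  obtain ⟨g, hgP, hgQ⟩ : ∃ g : G, g • P = Q ∧ g • Q = P := by
    obtain ⟨g1, hg1⟩ := MulAction.exists_smul_eq G P Q
    have hS : g1⁻¹ • P ≠ P := fun h => hQP (by rw [← hg1]; nth_rw 1 [← h]; rw [smul_inv_smul])
    obtain ⟨x, hx, hxS⟩ := htrans _ hS
    exact ⟨g1 * x, by rw [mul_smul, hPfix x hx, hg1], by rw [mul_smul, hxS, smul_inv_smul]⟩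
  have hgg : g * g ∈ Subgroup.zpowers k := by
    rw [← hKz]
    exact ⟨show (g * g) • P = P by rw [mul_smul, hgP, hgQ],
      show (g * g) • Q = Q by rw [mul_smul, hgQ, hgP]⟩
  have hgk : g * k * g⁻¹ ∈ Subgroup.zpowers k := by
    rw [← hKz]
    refine ⟨show (g * k * g⁻¹) • P = P from ?_, show (g * k * g⁻¹) • Q = Q from ?_⟩
    · have : g⁻¹ • P = Q := by rw [inv_smul_eq_iff, hgQ]
      rw [mul_smul, mul_smul, this, show k • Q = Q from hk.2, hgQ]
    · have : g⁻¹ • Q = P := by rw [inv_smul_eq_iff, hgP]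
      rw [mul_smul, mul_smul, this, show k • P = P from hk.1, hgP]
  have hz4 : ∀ y ∈ Subgroup.zpowers k, y = 1 ∨ y = k ∨ y = k * k ∨ y = k * k * k := by
    intro y hy
    obtain ⟨n, hn, hn'⟩ := (mem_zpowers_iff_mem_range_orderOf).1 hy |> Finset.mem_image.1
    rw [Finset.mem_range, hkord] at hn
    subst hn'
    interval_cases n
    · exact Or.inl (pow_zero k)
    · exact Or.inr (Or.inl (pow_one k))
    · exact Or.inr (Or.inr (Or.inl (pow_two k)))
    · exact Or.inr (Or.inr (Or.inr (by rw [pow_succ, pow_two])))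
  have hkinv : k * k * k = k⁻¹ := (inv_eq_of_mul_eq_one_right (by
    rw [← hkpow]; simp [pow_succ, mul_assoc])).symm
  have hconj : g * k = k * g ∨ g * k = k⁻¹ * g := by
    have hord : orderOf (g * k * g⁻¹) = 4 := by
      rw [← hkord]; exact ((MulAut.conj g).orderOf_eq k)
    rcases hz4 _ hgk with h | h | h | h
    · rw [h, orderOf_one] at hord; omega
    · exact Or.inl (mul_inv_eq_iff_eq_mul.1 h)
    · exfalso
      have hd : orderOf (k * k) ∣ 2 := orderOf_dvd_of_pow_eq_one (by
        rw [← hkpow]; simp [pow_succ, mul_assoc])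
      rw [h] at hord
      rw [hord] at hd
      norm_num at hd
    · exact Or.inr (mul_inv_eq_iff_eq_mul.1 (h.trans hkinv))
  have hg4 : g ^ 4 = 1 := by
    have h8 : orderOf g ∣ 2 ^ 3 := by
      refine orderOf_dvd_of_pow_eq_one ?_
      rw [show 2 ^ 3 = 2 * 4 by norm_num, pow_mul, pow_two]
      exact orderOf_dvd_iff_pow_eq_one.1 (hkord ▸ (by
        have := Subgroup.orderOf_dvd_natCard _ hgg
        rwa [Nat.card_zpowers] at this))
    obtain ⟨i, hi, hi'⟩ := (Nat.dvd_prime_pow Nat.prime_two).1 h8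
    have hi2 : i ≤ 2 := by
      by_contra hh
      exact orderOf_ne_eight hG g (by rw [hi', show i = 3 by omega]; norm_num)
    refine orderOf_dvd_iff_pow_eq_one.1 ?_
    rw [hi']
    exact pow_dvd_pow 2 hi2
  have h360 : ∀ x : G, x ^ 360 = 1 := fun x => hG ▸ pow_card_eq_one'
  have hW := mem_cases (f g)
    (by rw [hf, show (0 : Fin 10) = lab 0 0 from rfl, hσ, pow_zero, pow_zero, one_mul, one_smul, hgQ,
      Equiv.symm_apply_eq, hσ9])
    (by rw [hf, hσ9, hgP, Equiv.symm_apply_eq, show (0 : Fin 10) = lab 0 0 from rfl, hσ, pow_zero,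
      pow_zero, one_mul, one_smul])
    (by
      rcases hconj with h | h
      · exact Or.inl (by rw [← hfk, ← map_mul, h, map_mul])
      · exact Or.inr (by rw [← hfk, ← map_mul, h, map_mul, map_inv]))
    (by rw [← map_pow, hg4, map_one])
    (by
      rw [← hfk, ← map_mul]
      rcases hz4 _ hgg with h | h | h | h <;> rw [h] <;> simp [map_mul])
    (Small.hom_comm_eq_one hncomm (Perm.sign.comp f) g)
    (by rw [← hfa, ← map_mul, ← map_pow, h360, map_one])
    (by rw [← hfa, ← hfc, ← map_mul, ← map_mul, ← map_pow, h360, map_one])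
  have hWmem : permW ∈ f.range := by
    have hKm : permK⁻¹ ∈ f.range := inv_mem ⟨k, hfk⟩
    have hw' : f g ∈ f.range := ⟨g, rfl⟩
    rcases hW with h | h | h | h
    · rwa [h] at hw'
    · rw [h] at hw'
      simpa using mul_mem hKm hw'
    · rw [h] at hw'
      simpa [mul_assoc] using mul_mem hKm (mul_mem hKm hw')
    · rw [h] at hw'
      simpa [mul_assoc] using mul_mem hKm (mul_mem hKm (mul_mem hKm hw'))
  obtain ⟨w, hw⟩ := hWmem
  have hle : refGroup ≤ f.range := by
    rw [refGroup, Subgroup.closure_le]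
    rintro x (rfl | rfl | rfl | rfl)
    · exact ⟨a, hfa⟩
    · exact ⟨c, hfc⟩
    · exact ⟨k, hfk⟩
    · exact ⟨w, hw⟩
  set H := refGroup.comap f with hH
  have haH : a ∈ H := show f a ∈ refGroup by rw [hfa]; exact Subgroup.subset_closure (by simp)
  have hcH : c ∈ H := show f c ∈ refGroup by rw [hfc]; exact Subgroup.subset_closure (by simp)
  have hkH : k ∈ H := show f k ∈ refGroup by rw [hfk]; exact Subgroup.subset_closure (by simp)
  have hwH : w ∈ H := show f w ∈ refGroup by rw [hw]; exact Subgroup.subset_closure (by simp)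
  have h9 : 9 ∣ Nat.card H := hP9 ▸ Subgroup.card_dvd_of_le (fun x hx => by
    obtain ⟨i, j, rfl⟩ := hPgen x hx
    exact mul_mem (pow_mem haH _) (pow_mem hcH _))
  have h4 : 4 ∣ Nat.card H := hkord ▸ Subgroup.orderOf_dvd_natCard _ hkH
  have h5 : 5 ∣ Nat.card H := by
    have hord : orderOf (a * c * w) = 5 := by
      rw [← orderOf_injective f hfinj, map_mul, map_mul, hfa, hfc, hw]
      exact orderOf_eq_prime (by decide +kernel) (by decide +kernel)
    exact hord ▸ Subgroup.orderOf_dvd_natCard _ (mul_mem (mul_mem haH hcH) hwH)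
  have h180 : 180 ∣ Nat.card H := (Nat.Coprime.mul_dvd_of_dvd_of_dvd (by norm_num)
    (Nat.Coprime.mul_dvd_of_dvd_of_dvd (by norm_num) h4 h9) h5 : 4 * 9 * 5 ∣ _)
  have htop : H = ⊤ := by
    by_contra hne
    have h6 := six_le_index hG hne
    have hmulH := H.card_mul_index
    rw [hG] at hmulH
    have := Nat.le_of_dvd Nat.card_pos h180
    nlinarith
  have heq : f.range = refGroup := by
    refine le_antisymm ?_ hle
    rintro x ⟨y, rfl⟩
    have hy : y ∈ H := htop ▸ Subgroup.mem_top y
    exact hy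
  exact ⟨(MonoidHom.ofInjective hfinj).trans (MulEquiv.subgroupCongr heq)⟩

/-- Simple groups of order 360 are isomorphic. -/
theorem nonempty_equiv {H : Type*} [Group H] [Finite H] [IsSimpleGroup H]
    (hG : Nat.card G = 360) (hH : Nat.card H = 360) : Nonempty (G ≃* H) := by
  obtain ⟨a⟩ := equiv_refGroup hG
  obtain ⟨b⟩ := equiv_refGroup hH
  exact ⟨a.trans b.symm⟩

end Cfsg.Agent.Simple360
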