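import Cfsg.Agent.Lib.Recog.NineA6Local
import Cfsg.Agent.Lib.SelfThree.Chars
import Cfsg.Agent.S0496
import Cfsg.Agent.S0497

/-!
A simple group with a self-centralizing elementary abelian Sylow 3-subgroup of order 9
-/

set_option autoImplicit false
set_option linter.unusedSectionVars false

namespace Cfsg.Agent.NineA6

open Cfsg Cfsg.Agent.Char
open scoped ComplexConjugate

universe u

variable {G : Type u} [Group G] [Finite G] {S : Subgroup G}

theorem inv_mul_ne_left {x : G} (hx : orderOf x = 3) : x⁻¹ ≠ x ∧ x⁻¹ * x⁻¹ = x ∧ x * x = x⁻¹ := by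
  have h3 : x * (x * x) = 1 := by rw [← pow_three, ← hx, pow_orderOf_eq_one]
  have h2 : x * x = x⁻¹ := eq_inv_of_mul_eq_one_right h3
  refine ⟨fun e => ?_, by rw [← mul_inv_rev, h2, inv_inv], h2⟩
  have : x * x = 1 := by nth_rewrite 1 [← e]; exact inv_mul_cancel x
  rw [this, mul_one] at h3
  rw [h3, orderOf_one] at hx
  omega

/-- The classes meeting `S`. -/
theorem exists_split [IsSimpleGroup G] (h : Cfg S) (hnp : ¬ (Nat.card G).Prime) (P : Sylow 3 G)
    (hSP : S = P) (hcl : ∃ a b : G, orderOf a = 3 ∧ orderOf b = 3 ∧ ∀ g : G, g * a * g⁻¹ ≠ b) :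
    ∃ x y : G, x ∈ S ∧ y ∈ S ∧ x ≠ 1 ∧ y ≠ 1 ∧ ¬ IsConj x y ∧ (∀ s ∈ S, IsConj s s⁻¹) ∧
      ((Nat.card {a : G // a ∈ S ∧ IsConj x a} = 2 ∧ Nat.card {a : G // a ∈ S ∧ IsConj y a} = 2) ∨
        (Nat.card {a : G // a ∈ S ∧ IsConj x a} = 4 ∧ (∀ s ∈ S, s ≠ 1 → IsConj x s ∨ IsConj y s) ∧
          Nat.card {a : G // a ∈ S ∧ IsConj y a} = 4)) ∧
      Nat.card (Subgroup.normalizer (S : Set G)) = 9 * Nat.card {a : G // a ∈ S ∧ IsConj x a} := by
  classical
  letI := Fintype.ofFinite G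
  haveI : Fact (Nat.Prime 3) := ⟨Nat.prime_three⟩
  obtain ⟨a, b, ha, hb, hab⟩ := hcl
  obtain ⟨g, hg⟩ := h.into a ha
  obtain ⟨g', hg'⟩ := h.into b hb
  set x := g * a * g⁻¹ with hxd
  set y := g' * b * g'⁻¹ with hyd
  have hax : IsConj a x := isConj_iff.2 ⟨g, rfl⟩
  have hby : IsConj b y := isConj_iff.2 ⟨g', rfl⟩
  have hx1 : x ≠ 1 := fun e => by rw [conj_eq_one_iff.1 e, orderOf_one] at ha; omega
  have hy1 : y ≠ 1 := fun e => by rw [conj_eq_one_iff.1 e, orderOf_one] at hb; omega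
  have hxy : ¬ IsConj x y := fun hc => by
    obtain ⟨c, hc'⟩ := isConj_iff.1 ((hax.trans hc).trans hby.symm)
    exact hab c hc'
  set T : Finset G := Finset.univ.filter (fun s => s ∈ S ∧ s ≠ 1) with hT
  have hTcard : T.card = 8 := by
    have : T = (Finset.univ.filter (fun s => s ∈ S)).erase 1 := by
      ext s; simp [hT, and_comm]
    rw [this, Finset.card_erase_of_mem (by simp [one_mem]), ← Fintype.card_subtype,
      ← Nat.card_eq_fintype_card, show Nat.card {s : G // s ∈ S} = Nat.card S from rfl, h.card]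
  set e := Nat.card {a : G // a ∈ S ∧ IsConj x a} with he
  have hcls : ∀ s ∈ T, (T.filter fun r => ConjClasses.mk r = ConjClasses.mk s).card = e := by
    intro s hs
    rw [hT, Finset.mem_filter] at hs
    have h1 := h.card_class hs.2.1 hs.2.2
    have h2 := h.card_class hg hx1
    rw [h2] at h1
    rw [he, Nat.eq_of_mul_eq_mul_left (by norm_num) h1, Nat.card_eq_fintype_card, Fintype.card_subtype]
    congr 1
    ext r
    simp only [hT, Finset.mem_filter, Finset.mem_univ, true_and, ConjClasses.mk_eq_mk_iff_isConj]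
    exact ⟨fun hr => ⟨hr.1.1, hr.2.symm⟩, fun hr => ⟨⟨hr.1, fun e1 => hs.2.2 (by
      have := hr.2; rw [e1] at this; exact isConj_one_left.1 this)⟩, hr.2.symm⟩⟩
  set K := T.image ConjClasses.mk with hK
  have hsum : 8 = K.card * e := by
    rw [← hTcard, Finset.card_eq_sum_card_image ConjClasses.mk T, ← hK,
      Finset.sum_const_nat (m := e) fun c hc => ?_]
    obtain ⟨s, hs, rfl⟩ := Finset.mem_image.1 hc
    exact hcls s hs
  have hxT : x ∈ T := by simp [hT, hg, hx1]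
  have hyT : y ∈ T := by simp [hT, hg', hy1]
  have hK2 : 2 ≤ K.card := by
    refine Finset.one_lt_card.2 ⟨_, Finset.mem_image_of_mem _ hxT, _, Finset.mem_image_of_mem _ hyT, fun e => ?_⟩
    exact hxy (ConjClasses.mk_eq_mk_iff_isConj.1 e)
  have he1 : e ≠ 1 := by
    intro e1
    have hN := h.card_class hg hx1
    rw [← he, e1, mul_one] at hN
    refine Small.centralizer_ne_normalizer hnp ?_ P ?_
    · rw [← ha]; exact orderOf_dvd_natCard a
    · rw [← hSP, hN]
      have : Subgroup.centralizer (S : Set G) = S := by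
        refine le_antisymm (fun u hu => ?_) (fun u hu => ?_)
        · exact h.mem_of_commute hg hx1 (Subgroup.mem_centralizer_iff.1 hu x hg).symm
        · exact Subgroup.mem_centralizer_iff.2 fun v hv => (h.comm hv hu).eq
      rw [this, h.card]
  have he24 : (e = 2 ∨ e = 4) := by
    have h8 : e ∣ 8 := ⟨K.card, by rw [hsum, mul_comm]⟩
    have hle : e ≤ 4 := by
      by_contra hc
      nlinarith
    have := Nat.pos_of_dvd_of_pos h8 (by norm_num)
    interval_cases e <;> omega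
  have hN := h.card_class hg hx1
  rw [← he] at hN
  have hinv : ∀ s ∈ S, IsConj s s⁻¹ := by
    intro s hs
    haveI : Fact (Nat.Prime 2) := ⟨Nat.prime_two⟩
    obtain ⟨⟨t, htN⟩, ht⟩ := exists_prime_orderOf_dvd_card' (G := Subgroup.normalizer (S : Set G)) 2
      (by rw [hN]; rcases he24 with e' | e' <;> rw [e'] <;> norm_num)
    rw [Subgroup.orderOf_mk] at ht
    have htt : t * t = 1 := by rw [← pow_two, ← ht, pow_orderOf_eq_one]
    have htS : t ∉ S := fun hts => by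
      have := orderOf_dvd_of_pow_eq_one (h.exp t hts)
      rw [ht] at this; omega
    refine isConj_iff.2 ⟨t, ?_⟩
    set r := t * s * t⁻¹ with hr
    have hrS : r ∈ S := (Subgroup.mem_normalizer_iff.1 htN s).1 hs
    refine eq_inv_of_mul_eq_one_left ?_
    by_contra hne
    refine htS (h.mem_of_commute (mul_mem hrS hs) hne ?_)
    have hti : t⁻¹ = t := inv_eq_of_mul_eq_one_right htt
    show t * (r * s) = r * s * t
    calc t * (r * s) = (t * t) * s * (t⁻¹ * s) := by rw [hr]; group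
      _ = s * (t⁻¹ * s * t⁻¹) * t := by rw [htt]; group
      _ = s * r * t := by rw [hr, hti]
      _ = r * s * t := by rw [(h.comm hs hrS).eq]
  have he' : Nat.card {a : G // a ∈ S ∧ IsConj y a} = e := by
    have h1 := h.card_class hg' hy1
    rw [hN] at h1
    exact (Nat.eq_of_mul_eq_mul_left (by norm_num) h1).symm
  refine ⟨x, y, hg, hg', hx1, hy1, hxy, hinv, ?_, hN⟩
  rcases he24 with e2 | e4
  · exact Or.inl ⟨he ▸ e2, he'.trans e2⟩
  · refine Or.inr ⟨he ▸ e4, fun s hs hs1 => ?_, he'.trans e4⟩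
    have hK' : K.card = 2 := by rw [e4] at hsum; omega
    have hKe : ({ConjClasses.mk x, ConjClasses.mk y} : Finset (ConjClasses G)) = K := by
      refine Finset.eq_of_subset_of_card_le ?_ ?_
      · intro c hc
        simp only [Finset.mem_insert, Finset.mem_singleton] at hc
        rcases hc with rfl | rfl <;> exact Finset.mem_image_of_mem _ (by assumption)
      · rw [hK', Finset.card_pair (fun e => hxy (ConjClasses.mk_eq_mk_iff_isConj.1 e))]
    have : ConjClasses.mk s ∈ K := Finset.mem_image_of_mem _ (by simp [hT, hs, hs1])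
    rw [← hKe, Finset.mem_insert, Finset.mem_singleton, ConjClasses.mk_eq_mk_iff_isConj,
      ConjClasses.mk_eq_mk_iff_isConj] at this
    exact this.imp IsConj.symm IsConj.symm

theorem two_of_sum_sq {ι : Type*} [DecidableEq ι] (s : Finset ι) (f : ι → ℤ) (h3 : ∀ i ∈ s, 3 ∣ f i)
    (hs : ∑ i ∈ s, f i * f i = 18) :
    ∃ i j, i ≠ j ∧ i ∈ s ∧ j ∈ s ∧ (f i = 3 ∨ f i = -3) ∧ (f j = 3 ∨ f j = -3) ∧
      ∀ k ∈ s, k ≠ i → k ≠ j → f k = 0 := by
  have key : ∀ i ∈ s, f i = 0 ∨ f i = 3 ∨ f i = -3 := by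
    intro i hi
    obtain ⟨m, hm⟩ := h3 i hi
    have : f i * f i ≤ 18 := hs ▸ Finset.single_le_sum (fun k _ => mul_self_nonneg (f k)) hi
    rw [hm] at this
    have h1 : -1 ≤ m := by nlinarith
    have h2 : m ≤ 1 := by nlinarith
    interval_cases m <;> omega
  have hc : ((s.filter fun i => f i ≠ 0).card : ℤ) * 9 = 18 := by
    rw [← hs, ← Finset.sum_filter_of_ne (p := fun i => f i ≠ 0) (fun i _ hne => fun e => hne (by rw [e, mul_zero])),
      Finset.sum_congr rfl (g := fun _ => (9 : ℤ)) fun i hi => ?_, Finset.sum_const, nsmul_eq_mul]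
    rw [Finset.mem_filter] at hi
    rcases key i hi.1 with e | e | e
    · exact absurd e hi.2
    all_goals rw [e]; norm_num
  obtain ⟨i, j, hij, he⟩ := Finset.card_eq_two.1 (show (s.filter fun i => f i ≠ 0).card = 2 by omega)
  have hi : i ∈ s.filter fun i => f i ≠ 0 := he ▸ Finset.mem_insert_self _ _
  have hj : j ∈ s.filter fun i => f i ≠ 0 := he ▸ Finset.mem_insert_of_mem (Finset.mem_singleton_self _)
  rw [Finset.mem_filter] at hi hj
  refine ⟨i, j, hij, hi.1, hj.1, (key i hi.1).resolve_left hi.2, (key j hj.1).resolve_left hj.2,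
    fun k hk h1 h2 => ?_⟩
  by_contra hne
  have : k ∈ s.filter fun i => f i ≠ 0 := Finset.mem_filter.2 ⟨hk, hne⟩
  rw [he] at this
  simp [h1, h2] at this

open scoped Classical in
/-- Sums of a character over a subgroup. -/
theorem dvd_sum_subgroup [Fintype G] (ξ : IrrCharacter G) (H : Subgroup G) [Fintype H] (v : G → ℤ)
    (hv : ∀ u ∈ H, u ≠ 1 → (ξ : G → ℂ) u = v u) :
    ∃ m : ℕ, (Cfsg.charDegree (ξ : G → ℂ) : ℤ) +
      ∑ u ∈ (Finset.univ : Finset H).erase 1, v u = (Nat.card H : ℤ) * m := by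
  classical
  obtain ⟨m, hm⟩ := IsCharacter.exists_classInner_nat
    (IsCharacter.restrict (IsIrrCharacter.isCharacter ξ.2) H) (isCharacter_one (G := H))
  refine ⟨m, ?_⟩
  simp only [Cfsg.classInner, Function.comp_apply, Subgroup.coe_subtype, map_one, mul_one] at hm
  rw [inv_mul_eq_iff_eq_mul₀ (Nat.cast_ne_zero.2 Nat.card_pos.ne'),
    ← Finset.add_sum_erase _ _ (Finset.mem_univ (1 : H)), Subgroup.coe_one, CharX.irr_deg,
    Finset.sum_congr rfl fun (u : H) hu => hv (u : G) u.2 fun e => Finset.ne_of_mem_erase hu (Subtype.ext e)] at hm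
  exact_mod_cast hm

theorem dvd_three [Fintype G] (h : Cfg S) (hinv : ∀ s ∈ S, IsConj s s⁻¹) {x : G} (hx : x ∈ S) (hx1 : x ≠ 1)
    (ξ : IrrCharacter G) {p : ℤ} (hp : (ξ : G → ℂ) x = p) :
    (3 : ℤ) ∣ (Cfsg.charDegree (ξ : G → ℂ) : ℤ) + 2 * p := by
  classical
  have h3 := h.order_three hx hx1
  obtain ⟨m, hm⟩ := dvd_sum_subgroup ξ (Subgroup.zpowers x) (fun _ => p) (fun u hu hu1 => by
    have : u = x ∨ u = x⁻¹ := by
      obtain ⟨k, rfl⟩ := Subgroup.mem_zpowers_iff.1 hu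
      rw [← zpow_mod_orderOf, h3] at hu1 ⊢
      have hk : k % ((3 : ℕ) : ℤ) = 0 ∨ k % ((3 : ℕ) : ℤ) = 1 ∨ k % ((3 : ℕ) : ℤ) = 2 := by omega
      rcases hk with e | e | e <;> rw [e] at hu1 ⊢
      · simp at hu1
      · simp
      · right; rw [show (2 : ℤ) = 1 + 1 from rfl, zpow_add, zpow_one]
        exact (inv_mul_ne_left h3).2.2
    rcases this with rfl | rfl
    · exact hp
    · obtain ⟨c, hc⟩ := isConj_iff.1 (hinv x hx)
      rw [← hc, ← hp]
      exact (IsCharacter.isClassFunction (IsIrrCharacter.isCharacter ξ.2)) x c)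
  rw [Finset.sum_const, Finset.card_erase_of_mem (Finset.mem_univ _), Finset.card_univ,
    ← Nat.card_eq_fintype_card, Nat.card_zpowers, h3] at hm
  exact ⟨(m : ℤ), by simpa using hm⟩

theorem dvd_nine [Fintype G] (h : Cfg S) {x y : G} (hxy : ¬ IsConj x y)
    (hcov : ∀ s ∈ S, s ≠ 1 → IsConj x s ∨ IsConj y s) (hx1 : x ≠ 1) (hy1 : y ≠ 1)
    (hxc : Nat.card {a : G // a ∈ S ∧ IsConj x a} = 4)
    (ξ : IrrCharacter G) {p q : ℤ} (hp : (ξ : G → ℂ) x = p) (hq : (ξ : G → ℂ) y = q) :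
    (9 : ℤ) ∣ (Cfsg.charDegree (ξ : G → ℂ) : ℤ) + 4 * p + 4 * q := by
  classical
  have hcl : ∀ {a b : G}, IsConj a b → (ξ : G → ℂ) a = (ξ : G → ℂ) b := fun {a b} hab => by
    obtain ⟨c, hc⟩ := isConj_iff.1 hab
    rw [← hc]
    exact ((IsCharacter.isClassFunction (IsIrrCharacter.isCharacter ξ.2)) a c).symm
  obtain ⟨m, hm⟩ := dvd_sum_subgroup ξ S (fun u => if IsConj x u then p else q) (fun u hu hu1 => by
    split_ifs with hc
    · rw [← hcl hc, hp]
    · rw [← hcl ((hcov u hu hu1).resolve_left hc), hq])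
  rw [Finset.sum_ite, Finset.sum_const, Finset.sum_const] at hm
  set E := (Finset.univ : Finset S).erase 1 with hE
  have hA : (E.filter fun u : S => IsConj x (u : G)).card = 4 := by
    rw [← hxc, Nat.card_eq_fintype_card, ← Finset.card_univ]
    refine Finset.card_bij (fun u hu => ⟨(u : G), u.2, (Finset.mem_filter.1 hu).2⟩)
      (fun _ _ => Finset.mem_univ _) (fun u _ u' _ e => Subtype.ext (congrArg (fun w => w.1) e)) ?_
    rintro ⟨w, hw, hxw⟩ -
    refine ⟨⟨w, hw⟩, Finset.mem_filter.2 ⟨Finset.mem_erase.2 ⟨fun e => hx1 ?_, Finset.mem_univ _⟩, hxw⟩, rfl⟩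
    rw [show w = 1 from congrArg Subtype.val e] at hxw
    exact isConj_one_left.1 hxw
  have hB : (E.filter fun u : S => ¬ IsConj x (u : G)).card = 4 := by
    have := Finset.card_filter_add_card_filter_not (s := E) (fun u : S => IsConj x (u : G))
    rw [hA, hE, Finset.card_erase_of_mem (Finset.mem_univ _), Finset.card_univ,
      ← Nat.card_eq_fintype_card, h.card] at this
    rw [hE]; omega
  rw [hA, hB, h.card] at hm
  exact ⟨(m : ℤ), by simp at hm; linear_combination hm⟩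

theorem pair_formula [Fintype G] (v : IrrCharacter G → G → ℤ) {c d w : G}
    (hv : ∀ s ∈ ({c, d, w} : Set G), ∀ ξ : IrrCharacter G, (ξ : G → ℂ) s = v ξ s) :
    (Nat.card {a : G // IsConj c a ∧ IsConj d (a⁻¹ * w)} : ℚ) *
        (Nat.card (Subgroup.centralizer ({c} : Set G)) : ℚ) *
        (Nat.card (Subgroup.centralizer ({d} : Set G)) : ℚ) =
      (Nat.card G : ℚ) * ∑ ξ : IrrCharacter G,
        ((v ξ c * v ξ d * v ξ w : ℤ) : ℚ) / (Cfsg.charDegree (ξ : G → ℂ) : ℚ) := by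
  have h := ClassCount.pair_count c d w
  have e : ∀ ξ : IrrCharacter G,
      (ξ : G → ℂ) c * (ξ : G → ℂ) d * conj ((ξ : G → ℂ) w) / (ξ : G → ℂ) 1 =
      ((((v ξ c * v ξ d * v ξ w : ℤ) : ℚ) / (Cfsg.charDegree (ξ : G → ℂ) : ℚ) : ℚ) : ℂ) := by
    intro ξ
    rw [hv c (by simp), hv d (by simp), hv w (by simp), CharX.irr_deg, map_intCast]
    push_cast
    ring
  rw [Finset.sum_congr rfl fun ξ _ => e ξ] at h
  exact_mod_cast h

variable [IsSimpleGroup G]

theorem two_classes [Fintype G] (h : Cfg S) {x y : G} (hx : x ∈ S) (hy : y ∈ S) (hx1 : x ≠ 1) (hy1 : y ≠ 1)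
    (hxy : ¬ IsConj x y) (hinv : ∀ s ∈ S, IsConj s s⁻¹)
    (hcx : Nat.card {a : G // a ∈ S ∧ IsConj x a} = 2)
    (hcy : Nat.card {a : G // a ∈ S ∧ IsConj y a} = 2) : Nat.card G ≤ 144 := by
  classical
  have hox := h.order_three hx hx1
  have hoy := h.order_three hy hy1
  obtain ⟨hxn, hxx', hxx⟩ := inv_mul_ne_left hox
  obtain ⟨hyn, hyy', hyy⟩ := inv_mul_ne_left hoy
  have clsx : ∀ a ∈ S, IsConj x a → a = x ∨ a = x⁻¹ := by
    intro a ha hc
    by_contra hne
    push Not at hne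
    have hs : ({x, x⁻¹, a} : Finset G) ⊆ Finset.univ.filter (fun a => a ∈ S ∧ IsConj x a) := by
      intro u hu
      simp only [Finset.mem_insert, Finset.mem_singleton] at hu
      rw [Finset.mem_filter]
      refine ⟨Finset.mem_univ _, ?_⟩
      rcases hu with rfl | rfl | rfl
      exacts [⟨hx, IsConj.refl _⟩, ⟨inv_mem hx, hinv _ hx⟩, ⟨ha, hc⟩]
    have := Finset.card_le_card hs
    rw [← Fintype.card_subtype, ← Nat.card_eq_fintype_card, hcx,
      Finset.card_eq_three.2 ⟨x, x⁻¹, a, hxn.symm, hne.1.symm, hne.2.symm, rfl⟩] at this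
    omega
  have clsy : ∀ a ∈ S, IsConj y a → a = y ∨ a = y⁻¹ := by
    intro a ha hc
    by_contra hne
    push Not at hne
    have hs : ({y, y⁻¹, a} : Finset G) ⊆ Finset.univ.filter (fun a => a ∈ S ∧ IsConj y a) := by
      intro u hu
      simp only [Finset.mem_insert, Finset.mem_singleton] at hu
      rw [Finset.mem_filter]
      refine ⟨Finset.mem_univ _, ?_⟩
      rcases hu with rfl | rfl | rfl
      exacts [⟨hy, IsConj.refl _⟩, ⟨inv_mem hy, hinv _ hy⟩, ⟨ha, hc⟩]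
    have := Finset.card_le_card hs
    rw [← Fintype.card_subtype, ← Nat.card_eq_fintype_card, hcy,
      Finset.card_eq_three.2 ⟨y, y⁻¹, a, hyn.symm, hne.1.symm, hne.2.symm, rfl⟩] at this
    omega
  have hyx : y ≠ x ∧ y ≠ x⁻¹ :=
    ⟨fun e => hxy (e ▸ IsConj.refl x), fun e => hxy (e ▸ hinv x hx)⟩
  set z := x * y with hzd
  have hzS : z ∈ S := mul_mem hx hy
  have hz1 : z ≠ 1 := fun e => hyx.2 (eq_inv_of_mul_eq_one_right e)
  have hxz : ¬ IsConj x z := fun hc => by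
    rcases clsx z hzS hc with e | e
    · exact hy1 (mul_left_cancel (a := x) (by rw [mul_one]; exact e))
    · refine hyx.1 (mul_left_cancel (a := x) ?_)
      rw [hxx]; exact e
  have hyz : ¬ IsConj y z := fun hc => by
    rcases clsy z hzS hc with e | e
    · exact hx1 (mul_right_cancel (b := y) (by rw [one_mul]; exact e))
    · refine hyx.1 (mul_right_cancel (b := y) ?_).symm
      rw [hyy]; exact e
  have n1 : Nat.card {a : G // IsConj x a ∧ IsConj x (a⁻¹ * z)} = 0 := by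
    rw [Nat.card_eq_zero]
    refine Or.inl ⟨fun ⟨a, ha, hb⟩ => ?_⟩
    obtain ⟨haS, hbS⟩ := h.mem_of_pair hx hx1 hx hzS hz1 ha hb (fun _ hc => hxz ((hinv x hx).trans hc))
    have hz : z = a * (a⁻¹ * z) := (mul_inv_cancel_left a z).symm
    rcases clsx _ hbS hb with eb | eb <;> rw [eb] at hz <;>
      rcases clsx a haS ha with ea | ea <;> rw [ea] at hz <;>
      simp only [hxx, hxx', mul_inv_cancel, inv_mul_cancel] at hz
    all_goals first
      | exact hz1 hz
      | exact hxz (hz.symm ▸ IsConj.refl _)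
      | exact hxz (hz.symm ▸ hinv x hx)
  have n2 : Nat.card {a : G // IsConj y a ∧ IsConj y (a⁻¹ * z)} = 0 := by
    rw [Nat.card_eq_zero]
    refine Or.inl ⟨fun ⟨a, ha, hb⟩ => ?_⟩
    obtain ⟨haS, hbS⟩ := h.mem_of_pair hy hy1 hy hzS hz1 ha hb (fun _ hc => hyz ((hinv y hy).trans hc))
    have hz : z = a * (a⁻¹ * z) := (mul_inv_cancel_left a z).symm
    rcases clsy _ hbS hb with eb | eb <;> rw [eb] at hz <;>
      rcases clsy a haS ha with ea | ea <;> rw [ea] at hz <;>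
      simp only [hyy, hyy', mul_inv_cancel, inv_mul_cancel] at hz
    all_goals first
      | exact hz1 hz
      | exact hyz (hz.symm ▸ IsConj.refl _)
      | exact hyz (hz.symm ▸ hinv y hy)
  have n3 : Nat.card {a : G // IsConj x a ∧ IsConj y (a⁻¹ * z)} = 1 := by
    rw [Nat.card_eq_one_iff_unique]
    refine ⟨⟨fun ⟨a, ha, hb⟩ ⟨a', ha', hb'⟩ => Subtype.ext ?_⟩,
      ⟨⟨x, IsConj.refl x, by rw [hzd, inv_mul_cancel_left]⟩⟩⟩
    have key : ∀ a, IsConj x a → IsConj y (a⁻¹ * z) → a = x := by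
      intro a ha hb
      obtain ⟨haS, hbS⟩ := h.mem_of_pair hx hx1 hy hzS hz1 ha hb (fun hc => absurd hc hxy)
      rcases clsx a haS ha with rfl | rfl
      · rfl
      exfalso
      rw [inv_inv, hzd, ← mul_assoc, hxx] at hb hbS
      rcases clsy _ hbS hb with e | e
      · exact hx1 (by rw [← inv_inv x, mul_eq_right.1 e, inv_one])
      · refine hyx.1 ?_
        have e2 : x⁻¹ = y⁻¹ * y⁻¹ := by
          calc x⁻¹ = x⁻¹ * y * y⁻¹ := by group
            _ = y⁻¹ * y⁻¹ := by rw [e]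
        rw [hyy'] at e2
        exact absurd e2.symm hyx.2
    exact (key a ha hb).trans (key a' ha' hb').symm
  have hval : ∀ s ∈ S, s ≠ 1 → ∀ ξ : IrrCharacter G, ∃ v : ℤ, (ξ : G → ℂ) s = v := fun s hs hs1 ξ =>
    SelfThree.value_int (h.order_three hs hs1) (hinv s hs) ξ
  choose vx hvx using hval x hx hx1
  choose vy hvy using hval y hy hy1
  choose vz hvz using hval z hzS hz1
  let v : IrrCharacter G → G → ℤ := fun ξ s => if s = x then vx ξ else if s = y then vy ξ else vz ξ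
  have hzx : z ≠ x := fun e => hxz (e.symm ▸ IsConj.refl x)
  have hzy : z ≠ y := fun e => hyz (e.symm ▸ IsConj.refl y)
  have vex : ∀ ξ, v ξ x = vx ξ := fun ξ => if_pos rfl
  have vey : ∀ ξ, v ξ y = vy ξ := fun ξ => by simp [v, hyx.1]
  have vez : ∀ ξ, v ξ z = vz ξ := fun ξ => by simp [v, hzx, hzy]
  have hv : ∀ s ∈ ({x, y, z} : Set G), ∀ ξ : IrrCharacter G, (ξ : G → ℂ) s = v ξ s := by
    intro s hs ξ
    rcases hs with rfl | rfl | rfl
    · rw [vex, hvx]
    · rw [vey, hvy]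
    · rw [vez, hvz]
  have hC : ∀ s ∈ S, s ≠ 1 → (Nat.card (Subgroup.centralizer ({s} : Set G)) : ℚ) = 9 := by
    intro s hs hs1; rw [h.cent s hs hs1, h.card]; norm_num
  have f1 := pair_formula v (c := x) (d := x) (w := z) fun s hs ξ => hv s (by
    rcases hs with rfl | rfl | rfl <;> simp) ξ
  have f2 := pair_formula v (c := y) (d := y) (w := z) fun s hs ξ => hv s (by
    rcases hs with rfl | rfl | rfl <;> simp) ξ
  have f3 := pair_formula v (c := x) (d := y) (w := z) hv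
  simp only [n1, n2, n3, hC x hx hx1, hC y hy hy1, vex, vey, vez, Nat.cast_zero, Nat.cast_one,
    zero_mul, one_mul] at f1 f2 f3
  -- the differences at `x`, `y`
  have hsq : ∀ (s : G) (hs : s ∈ S) (hs1 : s ≠ 1) (w : IrrCharacter G → ℤ),
      (∀ ξ : IrrCharacter G, (ξ : G → ℂ) s = w ξ) → ∑ ξ, w ξ * w ξ = 9 := by
    intro s hs hs1 w hw
    have h2 := column_orth_of_isConj (IsConj.refl s)
    rw [h.cent s hs hs1, h.card] at h2
    simp only [hw, map_intCast] at h2
    exact_mod_cast h2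
  have hor : ∀ (s r : G), ¬ IsConj s r → ∀ (w w' : IrrCharacter G → ℤ),
      (∀ ξ : IrrCharacter G, (ξ : G → ℂ) s = w ξ) → (∀ ξ : IrrCharacter G, (ξ : G → ℂ) r = w' ξ) →
      ∑ ξ, w ξ * w' ξ = 0 := by
    intro s r hsr w w' hw hw'
    have h2 := column_orth_of_not_isConj hsr
    simp only [hw, hw', map_intCast] at h2
    exact_mod_cast h2
  have h18 : ∑ ξ : IrrCharacter G, (vx ξ - vy ξ) * (vx ξ - vy ξ) = 18 := by
    have e : ∀ ξ, (vx ξ - vy ξ) * (vx ξ - vy ξ) = vx ξ * vx ξ + vy ξ * vy ξ - 2 * (vx ξ * vy ξ) :=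
      fun ξ => by ring
    simp only [e, Finset.sum_sub_distrib, Finset.sum_add_distrib, ← Finset.mul_sum,
      hsq x hx hx1 vx hvx, hsq y hy hy1 vy hvy, hor x y hxy vx vy hvx hvy]
    norm_num
  obtain ⟨χ₁, χ₂, hne, -, -, f₁, f₂, hoff⟩ := two_of_sum_sq Finset.univ (fun ξ => vx ξ - vy ξ)
    (fun ξ _ => by
      show (3 : ℤ) ∣ vx ξ - vy ξ
      have := dvd_three h hinv hx hx1 ξ (hvx ξ)
      have := dvd_three h hinv hy hy1 ξ (hvy ξ)
      omega) h18
  set deg : IrrCharacter G → ℕ := fun ξ => Cfsg.charDegree (ξ : G → ℂ) with hdeg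
  have hz1' : ∀ (s : G), s ≠ 1 → ∀ w : IrrCharacter G → ℤ, (∀ ξ : IrrCharacter G, (ξ : G → ℂ) s = w ξ) →
      ∑ ξ, w ξ * (deg ξ : ℤ) = 0 := by
    intro s hs1 w hw
    refine hor s 1 (fun hc => hs1 (isConj_one_left.1 hc)) w (fun ξ => (deg ξ : ℤ)) hw fun ξ => ?_
    rw [CharX.irr_deg]; simp [hdeg]
  have hd : (vx χ₁ - vy χ₁) * (deg χ₁ : ℤ) + (vx χ₂ - vy χ₂) * (deg χ₂ : ℤ) = 0 := by
    have e := sub_eq_zero.2 ((hz1' x hx1 vx hvx).trans (hz1' y hy1 vy hvy).symm)
    rw [← Finset.sum_sub_distrib] at e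
    rw [← Finset.sum_eq_add_of_mem (f := fun ξ => (vx ξ - vy ξ) * (deg ξ : ℤ)) χ₁ χ₂ (Finset.mem_univ _)
      (Finset.mem_univ _) hne (fun ξ _ hξ => by rw [hoff ξ (Finset.mem_univ _) hξ.1 hξ.2, zero_mul]), ← e]
    exact Finset.sum_congr rfl fun ξ _ => by ring
  have hdpos : ∀ ξ, 0 < deg ξ := CharX.irr_deg_pos
  have hd12 : deg χ₁ = deg χ₂ := by
    have := hdpos χ₁
    have := hdpos χ₂
    rcases f₁ with e1 | e1 <;> rcases f₂ with e2 | e2 <;> rw [e1, e2] at hd <;> omega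
  have key : (Nat.card G : ℚ) * ∑ ξ : IrrCharacter G,
      (((vx ξ - vy ξ) * (vx ξ - vy ξ) * vz ξ : ℤ) : ℚ) / (deg ξ : ℚ) = -162 := by
    have e : ∀ ξ : IrrCharacter G, (((vx ξ - vy ξ) * (vx ξ - vy ξ) * vz ξ : ℤ) : ℚ) / (deg ξ : ℚ) =
        ((vx ξ * vx ξ * vz ξ : ℤ) : ℚ) / (deg ξ : ℚ) + ((vy ξ * vy ξ * vz ξ : ℤ) : ℚ) / (deg ξ : ℚ) -
          2 * (((vx ξ * vy ξ * vz ξ : ℤ) : ℚ) / (deg ξ : ℚ)) := fun ξ => by push_cast; ring
    rw [Finset.sum_congr rfl fun ξ _ => e ξ, Finset.sum_sub_distrib, Finset.sum_add_distrib,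
      ← Finset.mul_sum]
    linear_combination (-(1 : ℚ)) * f1 - f2 + 2 * f3
  rw [Finset.sum_eq_add_of_mem χ₁ χ₂ (Finset.mem_univ _) (Finset.mem_univ _) hne (fun ξ _ hξ => by
    rw [hoff ξ (Finset.mem_univ _) hξ.1 hξ.2]; simp)] at key
  have s1 : (vx χ₁ - vy χ₁) * (vx χ₁ - vy χ₁) = 9 := by rcases f₁ with e | e <;> rw [e] <;> norm_num
  have s2 : (vx χ₂ - vy χ₂) * (vx χ₂ - vy χ₂) = 9 := by rcases f₂ with e | e <;> rw [e] <;> norm_num
  rw [s1, s2, ← hd12] at key
  have hdq : (deg χ₁ : ℚ) ≠ 0 := by exact_mod_cast (hdpos χ₁).ne'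
  field_simp at key
  have key' : (Nat.card G : ℤ) * (vz χ₁ + vz χ₂) = -18 * (deg χ₁ : ℤ) := by
    have : (Nat.card G : ℚ) * ((vz χ₁ : ℚ) + vz χ₂) = -18 * (deg χ₁ : ℚ) := by
      push_cast at key; linarith
    exact_mod_cast this
  have hG : (Nat.card G : ℤ) ≤ 18 * (deg χ₁ : ℤ) := by
    refine Int.le_of_dvd (by have := hdpos χ₁; omega) ⟨-(vz χ₁ + vz χ₂), ?_⟩
    linarith
  have hlt : 2 * (deg χ₁) ^ 2 < Nat.card G := by
    have h2 := column_orth_of_isConj (IsConj.refl (1 : G))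
    rw [show Subgroup.centralizer ({1} : Set G) = ⊤ from eq_top_iff.2 fun u _ =>
      Subgroup.mem_centralizer_iff.2 fun w hw => by rw [Set.mem_singleton_iff.1 hw, one_mul, mul_one],
      Subgroup.card_top] at h2
    simp only [CharX.irr_deg, map_natCast] at h2
    have h3 : ∑ ξ : IrrCharacter G, deg ξ * deg ξ = Nat.card G := by exact_mod_cast h2
    have hone : ∀ χ, χ ∈ ({χ₁, χ₂} : Finset (IrrCharacter G)) → χ ≠ Exc.one G := fun χ hχ e => by
      have a1 : vx χ = 1 := by exact_mod_cast (hvx χ).symm.trans (show (χ : G → ℂ) x = 1 by rw [e, Exc.one_apply])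
      have a2 : vy χ = 1 := by exact_mod_cast (hvy χ).symm.trans (show (χ : G → ℂ) y = 1 by rw [e, Exc.one_apply])
      rcases Finset.mem_insert.1 hχ with rfl | hχ
      · simp only [a1, a2] at f₁; omega
      · rw [Finset.mem_singleton] at hχ; subst hχ
        simp only [a1, a2] at f₂; omega
    rw [← h3]
    refine lt_of_lt_of_le ?_ (Finset.sum_le_sum_of_subset (Finset.subset_univ {Exc.one G, χ₁, χ₂}))
    rw [Finset.sum_insert (by simp [(hone χ₁ (by simp)).symm, (hone χ₂ (by simp)).symm]), Finset.sum_pair hne,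
      ← hd12]
    have := hdpos (Exc.one G)
    nlinarith
  have h8 : deg χ₁ ≤ 8 := by
    by_contra hc
    push Not at hc
    have : (Nat.card G : ℤ) ≤ 18 * (deg χ₁ : ℤ) := hG
    have h5 : Nat.card G ≤ 18 * deg χ₁ := by exact_mod_cast this
    nlinarith
  have h5 : Nat.card G ≤ 18 * deg χ₁ := by exact_mod_cast hG
  omega

theorem four_classes [Fintype G] (h : Cfg S) {x y : G} (hx : x ∈ S) (hy : y ∈ S) (hx1 : x ≠ 1) (hy1 : y ≠ 1)
    (hxy : ¬ IsConj x y) (hinv : ∀ s ∈ S, IsConj s s⁻¹)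
    (hcov : ∀ s ∈ S, s ≠ 1 → IsConj x s ∨ IsConj y s)
    (hcx : Nat.card {a : G // a ∈ S ∧ IsConj x a} = 4) : Nat.card G ≤ 720 := by
  classical
  have hox := h.order_three hx hx1
  obtain ⟨hxn, hxx', hxx⟩ := inv_mul_ne_left hox
  set A : Finset G := Finset.univ.filter (fun a => a ∈ S ∧ IsConj x a) with hA
  have hA4 : A.card = 4 := by rw [hA, ← Fintype.card_subtype, ← Nat.card_eq_fintype_card, hcx]
  have hxA : x ∈ A := Finset.mem_filter.2 ⟨Finset.mem_univ _, hx, IsConj.refl _⟩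
  have hxiA : x⁻¹ ∈ A := Finset.mem_filter.2 ⟨Finset.mem_univ _, inv_mem hx, hinv x hx⟩
  have hn : Nat.card {a : G // IsConj x a ∧ IsConj y (a⁻¹ * x)} = 2 := by
    have e : (Finset.univ.filter fun a => IsConj x a ∧ IsConj y (a⁻¹ * x)) = (A.erase x).erase x⁻¹ := by
      ext a
      simp only [Finset.mem_filter, Finset.mem_univ, true_and, Finset.mem_erase]
      constructor
      · rintro ⟨ha, hb⟩
        obtain ⟨haS, -⟩ := h.mem_of_pair hx hx1 hy hx hx1 ha hb (fun hc => absurd hc hxy)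
        refine ⟨fun e => ?_, fun e => ?_, Finset.mem_filter.2 ⟨Finset.mem_univ _, haS, ha⟩⟩
        · rw [e, inv_inv, hxx] at hb
          exact hxy ((hinv x hx).trans hb.symm)
        · rw [e, inv_mul_cancel] at hb
          exact hy1 (isConj_one_left.1 hb)
      · rintro ⟨ha2, ha1, haA⟩
        obtain ⟨haS, ha⟩ : a ∈ S ∧ IsConj x a := (Finset.mem_filter.1 haA).2
        refine ⟨ha, (hcov _ (mul_mem (inv_mem haS) hx) (fun e => ha1 (inv_mul_eq_one.1 e))).resolve_left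
          fun hc => ?_⟩
        have hoa : orderOf a = 3 := h.order_three haS fun e => hx1 (by rw [e] at ha; exact isConj_one_left.1 ha)
        obtain ⟨han, haa', haa⟩ := inv_mul_ne_left hoa
        have hsub : ({x, x⁻¹, a, a⁻¹} : Finset G) ⊆ A := by
          intro u hu
          simp only [Finset.mem_insert, Finset.mem_singleton] at hu
          rcases hu with rfl | rfl | rfl | rfl
          · exact hxA
          · exact hxiA
          · exact haA
          · exact Finset.mem_filter.2 ⟨Finset.mem_univ _, inv_mem haS, ha.trans (hinv a haS)⟩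
        have heq : ({x, x⁻¹, a, a⁻¹} : Finset G) = A := Finset.eq_of_subset_of_card_le hsub (by
          rw [hA4, Finset.card_eq_four.2 ⟨x, x⁻¹, a, a⁻¹, hxn.symm, fun e => ha1 e.symm,
            fun e => ha2 (by rw [e, inv_inv]), fun e => ha2 e.symm, fun e => ha1 (inv_inj.1 e).symm,
            han.symm, rfl⟩])
        have hm : a⁻¹ * x ∈ ({x, x⁻¹, a, a⁻¹} : Finset G) := by
          rw [heq]; exact Finset.mem_filter.2 ⟨Finset.mem_univ _, mul_mem (inv_mem haS) hx, hc⟩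
        simp only [Finset.mem_insert, Finset.mem_singleton] at hm
        rcases hm with e | e | e | e
        · have e1 : a = 1 := inv_eq_one.1 (mul_eq_right.1 e)
          rw [e1, orderOf_one] at hoa; omega
        · apply ha2
          rw [inv_mul_eq_iff_eq_mul] at e
          calc a = a * x⁻¹ * x := by group
            _ = x⁻¹ := by rw [← e, hxx]
        · rw [inv_mul_eq_iff_eq_mul, haa] at e
          exact ha2 (by rw [e, inv_inv])
        · rw [inv_mul_eq_iff_eq_mul, mul_inv_cancel] at e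
          exact hx1 e
    rw [Nat.card_eq_fintype_card, Fintype.card_subtype, e, Finset.card_erase_of_mem
      (Finset.mem_erase.2 ⟨hxn, hxiA⟩), Finset.card_erase_of_mem hxA, hA4]
  have hval : ∀ s ∈ S, s ≠ 1 → ∀ ξ : IrrCharacter G, ∃ v : ℤ, (ξ : G → ℂ) s = v := fun s hs hs1 ξ =>
    SelfThree.value_int (h.order_three hs hs1) (hinv s hs) ξ
  choose p hp using hval x hx hx1
  choose q hq using hval y hy hy1
  have hyx : y ≠ x := fun e => hxy (e ▸ IsConj.refl x)
  let v : IrrCharacter G → G → ℤ := fun ξ s => if s = x then p ξ else q ξ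
  have vex : ∀ ξ, v ξ x = p ξ := fun ξ => if_pos rfl
  have vey : ∀ ξ, v ξ y = q ξ := fun ξ => if_neg hyx
  have f := pair_formula v (c := x) (d := y) (w := x) (by
    intro s hs ξ
    rcases hs with rfl | rfl | rfl
    · rw [vex, hp]
    · rw [vey, hq]
    · rw [vex, hp])
  simp only [hn, h.cent x hx hx1, h.cent y hy hy1, h.card, vex, vey, Nat.cast_ofNat] at f
  have hpp : ∑ ξ, p ξ * p ξ = 9 := by
    have h2 := column_orth_of_isConj (IsConj.refl x)
    rw [h.cent x hx hx1, h.card] at h2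
    simp only [hp, map_intCast] at h2
    exact_mod_cast h2
  have hqq : ∑ ξ, q ξ * q ξ = 9 := by
    have h2 := column_orth_of_isConj (IsConj.refl y)
    rw [h.cent y hy hy1, h.card] at h2
    simp only [hq, map_intCast] at h2
    exact_mod_cast h2
  have hpq : ∑ ξ, p ξ * q ξ = 0 := by
    have h2 := column_orth_of_not_isConj hxy
    simp only [hp, hq, map_intCast] at h2
    exact_mod_cast h2
  have h18 : ∑ ξ : IrrCharacter G, (p ξ - q ξ) * (p ξ - q ξ) = 18 := by
    have e : ∀ ξ, (p ξ - q ξ) * (p ξ - q ξ) = p ξ * p ξ + q ξ * q ξ - 2 * (p ξ * q ξ) := fun ξ => by ring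
    simp only [e, Finset.sum_sub_distrib, Finset.sum_add_distrib, ← Finset.mul_sum, hpp, hqq, hpq]
    norm_num
  obtain ⟨χ₁, χ₂, hne, -, -, f₁, f₂, hoff⟩ := two_of_sum_sq Finset.univ (fun ξ => p ξ - q ξ)
    (fun ξ _ => by
      show (3 : ℤ) ∣ p ξ - q ξ
      have := dvd_three h hinv hx hx1 ξ (hp ξ)
      have := dvd_three h hinv hy hy1 ξ (hq ξ)
      omega) h18
  set deg : IrrCharacter G → ℕ := fun ξ => Cfsg.charDegree (ξ : G → ℂ) with hdeg
  have hdpos : ∀ ξ, 0 < deg ξ := CharX.irr_deg_pos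
  have hd1 : ∀ {s : G}, s ≠ 1 → ∀ w : IrrCharacter G → ℤ, (∀ ξ : IrrCharacter G, (ξ : G → ℂ) s = w ξ) →
      ∑ ξ, w ξ * (deg ξ : ℤ) = 0 := by
    intro s hs1 w hw
    have h2 := column_orth_of_not_isConj (g := s) (h := 1) fun hc => hs1 (isConj_one_left.1 hc)
    simp only [hw, CharX.irr_deg, map_natCast] at h2
    exact_mod_cast h2
  have two : ∀ F : IrrCharacter G → ℤ, ∑ ξ, (p ξ - q ξ) * F ξ = (p χ₁ - q χ₁) * F χ₁ + (p χ₂ - q χ₂) * F χ₂ :=
    fun F => Finset.sum_eq_add_of_mem χ₁ χ₂ (Finset.mem_univ _) (Finset.mem_univ _) hne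
      (fun ξ _ hξ => by rw [hoff ξ (Finset.mem_univ _) hξ.1 hξ.2, zero_mul])
  have hd : (p χ₁ - q χ₁) * (deg χ₁ : ℤ) + (p χ₂ - q χ₂) * (deg χ₂ : ℤ) = 0 := by
    rw [← two fun ξ => (deg ξ : ℤ)]
    simp only [sub_mul, Finset.sum_sub_distrib, hd1 hx1 p hp, hd1 hy1 q hq, sub_zero]
  have hd12 : deg χ₁ = deg χ₂ := by
    have := hdpos χ₁
    have := hdpos χ₂
    rcases f₁ with e1 | e1 <;> rcases f₂ with e2 | e2 <;> rw [e1, e2] at hd <;> omega
  wlog hpos : p χ₁ - q χ₁ = 3 generalizing χ₁ χ₂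
  · exact this χ₂ χ₁ hne.symm f₂ f₁ (fun ξ hξ a b => hoff ξ hξ b a)
      (fun F => by rw [two F, add_comm]) (by rw [add_comm]; exact hd) hd12.symm (by
        rcases f₁ with e1 | e1
        · exact absurd e1 hpos
        · rcases f₂ with e2 | e2
          · exact e2
          · rw [e1, e2] at hd
            have := hdpos χ₁
            omega)
  have hneg : p χ₂ - q χ₂ = -3 := by
    rcases f₂ with e2 | e2
    · rw [hpos, e2] at hd
      have := hdpos χ₁
      omega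
    · exact e2
  have h9 : 3 * p χ₁ - 3 * p χ₂ = 9 := by
    have e := two p
    simp only [sub_mul, Finset.sum_sub_distrib, hpp] at e
    rw [show ∑ ξ, q ξ * p ξ = 0 by rw [← hpq]; exact Finset.sum_congr rfl fun ξ _ => mul_comm _ _] at e
    have e1 : p χ₁ * p χ₁ - q χ₁ * p χ₁ = 3 * p χ₁ := by rw [← sub_mul, hpos]
    have e2 : p χ₂ * p χ₂ - q χ₂ * p χ₂ = -3 * p χ₂ := by rw [← sub_mul, hneg]
    linarith
  set a := p χ₁ with ha
  have hb : p χ₂ = a - 3 := by omega
  have h1ne : ∀ χ, χ = χ₁ ∨ χ = χ₂ → χ ≠ Exc.one G := fun χ hχ e => by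
    have a1 : p χ = 1 := by exact_mod_cast (hp χ).symm.trans (show (χ : G → ℂ) x = 1 by rw [e, Exc.one_apply])
    have a2 : q χ = 1 := by exact_mod_cast (hq χ).symm.trans (show (χ : G → ℂ) y = 1 by rw [e, Exc.one_apply])
    rcases hχ with rfl | rfl <;> omega
  have hp1 : p (Exc.one G) = 1 := by exact_mod_cast (hp _).symm.trans (Exc.one_apply x)
  have hq1 : q (Exc.one G) = 1 := by exact_mod_cast (hq _).symm.trans (Exc.one_apply y)
  set R : Finset (IrrCharacter G) := Finset.univ \ {χ₁, χ₂, Exc.one G} with hR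
  have hsplit : ∀ {M : Type} [AddCommMonoid M] (F : IrrCharacter G → M),
      ∑ ξ, F ξ = ∑ ξ ∈ R, F ξ + (F χ₁ + (F χ₂ + F (Exc.one G))) := by
    intro M _ F
    rw [hR, ← Finset.sum_sdiff (Finset.subset_univ {χ₁, χ₂, Exc.one G}), Finset.sum_insert
      (by simp [hne, h1ne χ₁ (Or.inl rfl)]), Finset.sum_pair (h1ne χ₂ (Or.inr rfl))]
  have hRp : ∑ ξ ∈ R, p ξ * p ξ + (a * a + ((a - 3) * (a - 3) + 1)) = 9 := by
    have e := hsplit fun ξ => p ξ * p ξ
    rw [hpp, hp1, hb, mul_one] at e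
    exact e.symm
  have hR0 : 0 ≤ ∑ ξ ∈ R, p ξ * p ξ := Finset.sum_nonneg fun ξ _ => mul_self_nonneg _
  have ha12 : a = 1 ∨ a = 2 := by
    have : 0 ≤ a := by nlinarith
    have : a ≤ 3 := by nlinarith
    interval_cases a <;> norm_num at hRp ⊢ <;> omega
  have hR3 : ∑ ξ ∈ R, p ξ * p ξ = 3 := by rcases ha12 with e | e <;> rw [e] at hRp <;> omega
  have hRterm : ∀ ξ ∈ R, -((p ξ * p ξ : ℤ) : ℚ) / 8 ≤ ((p ξ * q ξ * p ξ : ℤ) : ℚ) / (deg ξ : ℚ) := by
    intro ξ hξ
    have hle : p ξ * p ξ ≤ 3 := hR3 ▸ Finset.single_le_sum (fun k _ => mul_self_nonneg (p k)) hξ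
    simp only [hR, Finset.mem_sdiff, Finset.mem_univ, true_and, Finset.mem_insert, Finset.mem_singleton,
      not_or] at hξ
    have hqe : q ξ = p ξ := by have := hoff ξ (Finset.mem_univ _) hξ.1 hξ.2.1; omega
    have h9' := dvd_nine h hxy hcov hx1 hy1 hcx ξ (hp ξ) (hq ξ)
    rw [hqe] at h9' ⊢
    have hb1 : -1 ≤ p ξ := by nlinarith
    have hb2 : p ξ ≤ 1 := by nlinarith
    have hdp := hdpos ξ
    interval_cases hpe : p ξ
    · have h8 : (8 : ℤ) ≤ (deg ξ : ℤ) := by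
        show (8 : ℤ) ≤ (Cfsg.charDegree (ξ : G → ℂ) : ℤ)
        have : (0 : ℤ) < (Cfsg.charDegree (ξ : G → ℂ) : ℤ) := by exact_mod_cast hdp
        omega
      have h8' : (8 : ℚ) ≤ (deg ξ : ℚ) := by exact_mod_cast h8
      push_cast
      rw [div_le_div_iff₀ (by norm_num) (by linarith)]
      linarith
    · simp
    · refine le_trans ?_ (div_nonneg (by norm_num) (Nat.cast_nonneg _))
      norm_num
  have hR8 : -(3 / 8 : ℚ) ≤ ∑ ξ ∈ R, ((p ξ * q ξ * p ξ : ℤ) : ℚ) / (deg ξ : ℚ) := by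
    refine le_trans (le_of_eq ?_) (Finset.sum_le_sum hRterm)
    rw [← Finset.sum_div, Finset.sum_neg_distrib, ← Int.cast_sum, hR3]
    norm_num
  have hdq : (0 : ℚ) < (deg χ₁ : ℚ) := by exact_mod_cast hdpos χ₁
  have hsp : -(2 / 5 : ℚ) ≤ ((p χ₁ * q χ₁ * p χ₁ : ℤ) : ℚ) / (deg χ₁ : ℚ) +
      ((p χ₂ * q χ₂ * p χ₂ : ℤ) : ℚ) / (deg χ₂ : ℚ) := by
    rw [← hd12, show q χ₁ = a - 3 by omega, show q χ₂ = a by omega, hb, ← ha, ← add_div]
    rcases ha12 with e | e
    · rw [e]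
      refine le_trans ?_ (div_nonneg (by norm_num) hdq.le)
      norm_num
    · have h9' := dvd_nine h hxy hcov hx1 hy1 hcx χ₁ (hp χ₁) (hq χ₁)
      rw [show q χ₁ = a - 3 by omega, ← ha, e] at h9'
      have h5 : (5 : ℤ) ≤ (deg χ₁ : ℤ) := by
        show (5 : ℤ) ≤ (Cfsg.charDegree (χ₁ : G → ℂ) : ℤ)
        have : (0 : ℤ) < (Cfsg.charDegree (χ₁ : G → ℂ) : ℤ) := by exact_mod_cast hdpos χ₁
        omega
      have h5' : (5 : ℚ) ≤ (deg χ₁ : ℚ) := by exact_mod_cast h5
      rw [e]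
      push_cast
      rw [le_div_iff₀ hdq]
      linarith
  have h1d : ((p (Exc.one G) * q (Exc.one G) * p (Exc.one G) : ℤ) : ℚ) / (deg (Exc.one G) : ℚ) = 1 := by
    have : (deg (Exc.one G) : ℂ) = 1 := by
      show ((Cfsg.charDegree ((Exc.one G : IrrCharacter G) : G → ℂ) : ℕ) : ℂ) = 1
      rw [← CharX.irr_deg, Exc.one_apply]
    rw [hp1, hq1, show deg (Exc.one G) = 1 by exact_mod_cast this]
    norm_num
  rw [hsplit (M := ℚ) fun ξ => ((p ξ * q ξ * p ξ : ℤ) : ℚ) / (deg ξ : ℚ)] at f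
  have hG0 : (0 : ℚ) ≤ (Nat.card G : ℚ) := Nat.cast_nonneg _
  have hfin : (Nat.card G : ℚ) ≤ 720 := by nlinarith
  exact_mod_cast hfin

theorem main (P : Sylow 3 G) (hSP : S = P) (h : Cfg S)
    (hcl : ∃ a b : G, orderOf a = 3 ∧ orderOf b = 3 ∧ ∀ g : G, g * a * g⁻¹ ≠ b) :
    Nonempty (G ≃* alternatingGroup (Fin 6)) := by
  classical
  letI := Fintype.ofFinite G
  haveI : Fact (Nat.Prime 3) := ⟨Nat.prime_three⟩
  have h9 : 9 ∣ Nat.card G := h.card ▸ Subgroup.card_subgroup_dvd_card S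
  have hnp : ¬ (Nat.card G).Prime := fun hp => by
    rcases (Nat.dvd_prime hp).1 h9 with e | e
    · omega
    · rw [← e] at hp; norm_num at hp
  have hG := Small.not_comm_of_card hnp
  obtain ⟨x, y, hx, hy, hx1, hy1, hxy, hinv, hcase, hN⟩ := exists_split h hnp P hSP hcl
  have hNd := Subgroup.card_subgroup_dvd_card (Subgroup.normalizer (S : Set G))
  rw [hN] at hNd
  rcases hcase with ⟨hcx, hcy⟩ | ⟨hcx, hcov, -⟩
  · have hle := two_classes h hx hy hx1 hy1 hxy hinv hcx hcy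
    rw [hcx] at hNd
    rcases Cfsg.Agent.S0496.result hG (by omega) with e | e | e | e | e | e <;> omega
  · have hle := four_classes h hx hy hx1 hy1 hxy hinv hcov hcx
    rw [hcx] at hNd
    rcases Cfsg.Agent.S0496.result hG (by omega) with e | e | e | e | e | e
    · omega
    · omega
    · exact Cfsg.Agent.S0497.result e
    · exfalso
      have h1 := card_sylow_modEq_one 3 G
      have h2 := Small.card_normalizer_mul P
      rw [← hSP, hN, hcx, e] at h2
      rw [show Nat.card (Sylow 3 G) = 14 by omega] at h1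
      exact absurd h1 (by decide)
    · omega
    · omega

end Cfsg.Agent.NineA6
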