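import Mathlib.LinearAlgebra.Matrix.ProjectiveSpecialLinearGroup
import Mathlib.LinearAlgebra.Matrix.Charpoly.Coeff
import Mathlib.LinearAlgebra.Matrix.CharP
import Mathlib.FieldTheory.IsAlgClosed.AlgebraicClosure
import Mathlib.FieldTheory.Finite.Basic
import Mathlib.RingTheory.RootsOfUnity.AlgebraicallyClosed
import Mathlib.GroupTheory.OrderOfElement

/-!
Element orders in `SL(2,q)` and `PSL(2,q)`.
-/

namespace Cfsg.Agent.SL2Orders

open Polynomial Matrix

variable {F : Type*} [Field F]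

/-- Cayley–Hamilton for `SL(2)`. -/
theorem sq_eq (x : SpecialLinearGroup (Fin 2) F) :
    (x : Matrix (Fin 2) (Fin 2) F) ^ 2 -
      (x : Matrix (Fin 2) (Fin 2) F).trace • (x : Matrix (Fin 2) (Fin 2) F) + 1 = 0 := by
  have hdet := x.det_coe
  rw [det_fin_two] at hdet
  ext i j
  fin_cases i <;> fin_cases j <;>
    simp [pow_two, mul_apply, Fin.sum_univ_two, trace_fin_two] <;> grind

theorem sub_one_sq_of_fixed (x : SpecialLinearGroup (Fin 2) F) (v : Fin 2 → F) (hv : v ≠ 0)
    (hfix : (x : Matrix (Fin 2) (Fin 2) F) *ᵥ v = v) :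
    ((x : Matrix (Fin 2) (Fin 2) F) - 1) ^ 2 = 0 := by
  have hdet0 : ((x : Matrix (Fin 2) (Fin 2) F) - 1).det = 0 := by
    rw [← exists_mulVec_eq_zero_iff]
    exact ⟨v, hv, by rw [sub_mulVec, one_mulVec, hfix, sub_self]⟩
  have hdet := x.det_coe
  rw [det_fin_two] at hdet hdet0
  simp at hdet0
  ext i j
  fin_cases i <;> fin_cases j <;>
    simp [pow_two, mul_apply, Fin.sum_univ_two] <;> grind

/-- An element of `SL(2)` fixing a non-zero vector has order dividing the characteristic. -/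
theorem pow_char_of_fixed (p : ℕ) [hp : Fact p.Prime] [CharP F p] (x : SpecialLinearGroup (Fin 2) F)
    (v : Fin 2 → F) (hv : v ≠ 0) (hfix : (x : Matrix (Fin 2) (Fin 2) F) *ᵥ v = v) : x ^ p = 1 := by
  apply Subtype.ext
  rw [SpecialLinearGroup.coe_pow, SpecialLinearGroup.coe_one]
  have h := sub_one_sq_of_fixed x v hv hfix
  have h2 : ((x : Matrix (Fin 2) (Fin 2) F) - 1) ^ p = 0 := pow_eq_zero_of_le hp.out.two_le h
  rw [sub_pow_char_of_commute p (Commute.one_right _), one_pow, sub_eq_zero] at h2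
  exact h2

/-- If the eigenvalues `μ, μ⁻¹` are distinct and `μ ^ m = c = ±1` then `x ^ m` is the scalar `c`. -/
theorem pow_eq_scalar {K : Type*} [Field K] (f : F →+* K) (x : SpecialLinearGroup (Fin 2) F)
    (μ : K) (hμ : μ ^ 2 - f (x : Matrix (Fin 2) (Fin 2) F).trace * μ + 1 = 0) (hne : μ ≠ μ⁻¹)
    (m : ℕ) (c : F) (hc : c * c = 1) (hm : μ ^ m = f c) :
    (x : Matrix (Fin 2) (Fin 2) F) ^ m = c • 1 := by
  set M := f.mapMatrix (x : Matrix (Fin 2) (Fin 2) F) with hM
  have hμ0 : μ ≠ 0 := fun h => by simp [h] at hμ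
  have htr : μ + μ⁻¹ = f (x : Matrix (Fin 2) (Fin 2) F).trace := by
    field_simp
    linear_combination hμ
  have hCH : aeval M (X ^ 2 - C (f (x : Matrix (Fin 2) (Fin 2) F).trace) * X + 1) = 0 := by
    have h := congrArg f.mapMatrix (sq_eq x)
    rw [map_add, map_sub, map_pow, map_one, map_zero] at h
    have hsm : f.mapMatrix ((x : Matrix (Fin 2) (Fin 2) F).trace • (x : Matrix (Fin 2) (Fin 2) F)) =
        f (x : Matrix (Fin 2) (Fin 2) F).trace • M := by
      ext i j; simp [hM]
    rw [hsm] at h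
    rw [← hM, Algebra.smul_def] at h
    simp only [map_add, map_sub, map_pow, map_mul, aeval_X, aeval_C, map_one]
    exact h
  have hfac : X ^ 2 - C (f (x : Matrix (Fin 2) (Fin 2) F).trace) * X + 1 =
      (X - C μ) * (X - C μ⁻¹) := by
    have e1 : C μ * C μ⁻¹ = (1 : K[X]) := by rw [← C_mul, mul_inv_cancel₀ hμ0, C_1]
    rw [← htr, C_add]
    linear_combination -e1
  have hdvd : (X - C μ) * (X - C μ⁻¹) ∣ X ^ m - C (f c) := by
    apply IsCoprime.mul_dvd
    · exact isCoprime_X_sub_C_of_isUnit_sub (sub_ne_zero.2 hne).isUnit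
    · rw [dvd_iff_isRoot]; simp [hm]
    · rw [dvd_iff_isRoot]
      have : (f c)⁻¹ = f c := inv_eq_of_mul_eq_one_right (by rw [← map_mul, hc, map_one])
      simp [hm, this]
  obtain ⟨k, hk⟩ := hfac ▸ hdvd
  have := congrArg (aeval M) hk
  rw [map_mul, hCH, zero_mul, map_sub, map_pow, aeval_X, aeval_C, sub_eq_zero] at this
  apply Matrix.map_injective f.injective
  show f.mapMatrix _ = f.mapMatrix _
  rw [map_pow, ← hM, this]
  ext i j
  simp [Matrix.algebraMap_matrix_apply, Matrix.one_apply, apply_ite f]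

theorem mem_center_of_scalar (x : SpecialLinearGroup (Fin 2) F) (c : F)
    (h : (x : Matrix (Fin 2) (Fin 2) F) = c • 1) : x ∈ Subgroup.center (SpecialLinearGroup (Fin 2) F) := by
  rw [Subgroup.mem_center_iff]
  intro y
  apply Subtype.ext
  rw [SpecialLinearGroup.coe_mul, SpecialLinearGroup.coe_mul, h]
  simp

theorem exists_scalar_of_mem_center (x : SpecialLinearGroup (Fin 2) F)
    (h : x ∈ Subgroup.center (SpecialLinearGroup (Fin 2) F)) :
    ∃ c : F, c * c = 1 ∧ (x : Matrix (Fin 2) (Fin 2) F) = c • 1 := by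
  obtain ⟨c, hc, hx⟩ := SpecialLinearGroup.mem_center_iff.1 h
  refine ⟨c, by simpa [pow_two] using hc, ?_⟩
  rw [← hx]
  ext i j
  simp [Matrix.one_apply, Matrix.diagonal_apply]

/-- In even characteristic the centre of `SL(2)` is trivial. -/
theorem center_eq_bot [CharP F 2] : Subgroup.center (SpecialLinearGroup (Fin 2) F) = ⊥ := by
  rw [Subgroup.eq_bot_iff_forall]
  intro x hx
  obtain ⟨c, hc, hxc⟩ := exists_scalar_of_mem_center x hx
  have hc1 : c = 1 := by
    rcases mul_self_eq_one_iff.1 hc with h | h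
    · exact h
    · rw [h, CharTwo.neg_eq]
  apply Subtype.ext
  rw [hxc, hc1, one_smul, SpecialLinearGroup.coe_one]

variable [Fintype F]

/-- The trichotomy for an element of `SL(2,q)`. -/
theorem trichotomy (p : ℕ) [hp : Fact p.Prime] [CharP F p] (a b : ℕ)
    (ha : (Fintype.card F - 1) ∣ 2 * a) (hb : (Fintype.card F + 1) ∣ 2 * b)
    (x : SpecialLinearGroup (Fin 2) F) :
    x ^ p ∈ Subgroup.center (SpecialLinearGroup (Fin 2) F) ∨
      x ^ a ∈ Subgroup.center (SpecialLinearGroup (Fin 2) F) ∨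
      x ^ b ∈ Subgroup.center (SpecialLinearGroup (Fin 2) F) := by
  let f := algebraMap F (AlgebraicClosure F)
  let q : (AlgebraicClosure F)[X] := X ^ 2 - C (f (x : Matrix (Fin 2) (Fin 2) F).trace) * X + 1
  have hqdeg : q.degree ≠ 0 := by
    have : q.degree = 2 := by
      simp only [q]
      compute_degree!
    rw [this]; decide
  obtain ⟨μ, hμ⟩ := IsAlgClosed.exists_root q hqdeg
  have hμ' : μ ^ 2 - f (x : Matrix (Fin 2) (Fin 2) F).trace * μ + 1 = 0 := by
    simpa [q, IsRoot] using hμ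
  have hμ0 : μ ≠ 0 := fun h => by simp [h] at hμ'
  by_cases hne : μ = μ⁻¹
  · -- repeated eigenvalue `±1`
    left
    have hμ2 : μ * μ = 1 := by
      nth_rewrite 2 [hne]
      exact mul_inv_cancel₀ hμ0
    have htr : f (x : Matrix (Fin 2) (Fin 2) F).trace = μ + μ := by
      apply mul_right_cancel₀ hμ0
      linear_combination -hμ' + (-1 : AlgebraicClosure F) * hμ2
    obtain ⟨c, hc, hct⟩ : ∃ c : F, c * c = 1 ∧ (x : Matrix (Fin 2) (Fin 2) F).trace = c + c := by
      rcases mul_self_eq_one_iff.1 hμ2 with h | h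
      · exact ⟨1, one_mul 1, f.injective (by rw [htr, h, map_add, map_one])⟩
      · exact ⟨-1, by ring, f.injective (by rw [htr, h, map_add, map_neg, map_one])⟩
    have hnil : ((x : Matrix (Fin 2) (Fin 2) F) - c • 1) ^ 2 = 0 := by
      have h := sq_eq x
      rw [hct, add_smul] at h
      rw [pow_two] at h ⊢
      rw [sub_mul, mul_sub, mul_sub, smul_mul_assoc, one_mul, mul_smul_comm, mul_one,
        smul_mul_smul_comm, hc, one_smul, one_mul]
      rw [← h]
      abel
    have h2 : ((x : Matrix (Fin 2) (Fin 2) F) - c • 1) ^ p = 0 := pow_eq_zero_of_le hp.out.two_le hnil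
    rw [sub_pow_char_of_commute p ((Commute.one_right _).smul_right c), smul_pow, one_pow,
      sub_eq_zero] at h2
    exact mem_center_of_scalar _ (c ^ p) (by rw [SpecialLinearGroup.coe_pow, h2])
  · -- `μ ^ q` is again a root
    right
    have hroot : μ ^ Fintype.card F = μ ∨ μ ^ Fintype.card F = μ⁻¹ := by
      obtain ⟨n, hp2, hn⟩ := FiniteField.card F p
      have hfix : ∀ y : F, (f y) ^ Fintype.card F = f y := fun y => by
        rw [← map_pow, FiniteField.pow_card]
      have hfrob : ∀ u v : AlgebraicClosure F,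
          (u + v) ^ Fintype.card F = u ^ Fintype.card F + v ^ Fintype.card F := fun u v => by
        rw [hn]; exact add_pow_char_pow u v p n
      have htr : μ + μ⁻¹ = f (x : Matrix (Fin 2) (Fin 2) F).trace := by
        field_simp
        linear_combination hμ'
      have hQ : μ ^ Fintype.card F + (μ ^ Fintype.card F)⁻¹ = μ + μ⁻¹ := by
        rw [← inv_pow, ← hfrob, htr, hfix]
      have hz : μ ^ Fintype.card F ≠ 0 := pow_ne_zero _ hμ0
      have : (μ ^ Fintype.card F - μ) * (μ ^ Fintype.card F - μ⁻¹) = 0 := by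
        linear_combination (μ ^ Fintype.card F) * hQ + mul_inv_cancel₀ hμ0 - mul_inv_cancel₀ hz
      rcases mul_eq_zero.1 this with h | h
      · exact Or.inl (sub_eq_zero.1 h)
      · exact Or.inr (sub_eq_zero.1 h)
    have hF : 1 < Fintype.card F := Fintype.one_lt_card
    have key : ∀ d : ℕ, (μ ^ d) * (μ ^ d) = 1 → x ^ d ∈ Subgroup.center (SpecialLinearGroup (Fin 2) F) := by
      intro d hd
      rcases mul_self_eq_one_iff.1 hd with h | h
      · exact mem_center_of_scalar _ 1 (by
          rw [SpecialLinearGroup.coe_pow]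
          exact pow_eq_scalar f x μ hμ' hne d 1 (one_mul 1) (by rw [h, map_one]))
      · exact mem_center_of_scalar _ (-1) (by
          rw [SpecialLinearGroup.coe_pow]
          exact pow_eq_scalar f x μ hμ' hne d (-1) (by ring) (by rw [h, map_neg, map_one]))
    rcases hroot with h | h
    · refine Or.inl (key a ?_)
      have h1 : μ ^ (Fintype.card F - 1) = 1 := by
        apply mul_right_cancel₀ hμ0
        rw [← pow_succ, Nat.sub_add_cancel hF.le, h, one_mul]
      obtain ⟨k, hk⟩ := ha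
      rw [← pow_add, ← two_mul, hk, pow_mul, h1, one_pow]
    · refine Or.inr (key b ?_)
      have h1 : μ ^ (Fintype.card F + 1) = 1 := by
        rw [pow_succ, h, inv_mul_cancel₀ hμ0]
      obtain ⟨k, hk⟩ := hb
      rw [← pow_add, ← two_mul, hk, pow_mul, h1, one_pow]

omit [Fintype F] in
/-- Order of a projective element with distinct eigenvalues `μ, μ⁻¹`. -/
theorem orderOf_mk_eq {K : Type*} [Field K] (f : F →+* K) (x : SpecialLinearGroup (Fin 2) F)
    (μ : K) (hμ : μ ^ 2 - f (x : Matrix (Fin 2) (Fin 2) F).trace * μ + 1 = 0) (hne : μ ≠ μ⁻¹)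
    (v : Fin 2 → K) (hv : v ≠ 0) (hev : (f.mapMatrix (x : Matrix (Fin 2) (Fin 2) F)) *ᵥ v = μ • v)
    (e : ℕ) (he : ∀ m, μ ^ (2 * m) = 1 ↔ e ∣ m) :
    orderOf (QuotientGroup.mk x : ProjectiveSpecialLinearGroup (Fin 2) F) = e := by
  apply Nat.dvd_antisymm
  · apply orderOf_dvd_of_pow_eq_one
    rw [← QuotientGroup.mk_pow, QuotientGroup.eq_one_iff]
    have h := (he e).2 dvd_rfl
    rw [two_mul, pow_add] at h
    rcases mul_self_eq_one_iff.1 h with h | h
    · exact mem_center_of_scalar _ 1 (by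
        rw [SpecialLinearGroup.coe_pow]
        exact pow_eq_scalar f x μ hμ hne e 1 (one_mul 1) (by rw [h, map_one]))
    · exact mem_center_of_scalar _ (-1) (by
        rw [SpecialLinearGroup.coe_pow]
        exact pow_eq_scalar f x μ hμ hne e (-1) (by ring) (by rw [h, map_neg, map_one]))
  · set n := orderOf (QuotientGroup.mk x : ProjectiveSpecialLinearGroup (Fin 2) F)
    have h : (QuotientGroup.mk x : ProjectiveSpecialLinearGroup (Fin 2) F) ^ n = 1 :=
      pow_orderOf_eq_one _
    rw [← QuotientGroup.mk_pow, QuotientGroup.eq_one_iff] at h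
    obtain ⟨c, hc, hxc⟩ := exists_scalar_of_mem_center _ h
    rw [← he, two_mul, pow_add]
    have hpow : ∀ k : ℕ, (f.mapMatrix ((x : Matrix (Fin 2) (Fin 2) F) ^ k)) *ᵥ v = μ ^ k • v := by
      intro k
      induction k with
      | zero => simp
      | succ k ih =>
        rw [pow_succ, map_mul, ← mulVec_mulVec, hev, mulVec_smul, ih, smul_smul, pow_succ', mul_comm]
    have h1 := hpow n
    rw [SpecialLinearGroup.coe_pow] at hxc
    have hm : f.mapMatrix (c • (1 : Matrix (Fin 2) (Fin 2) F)) *ᵥ v = f c • v := by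
      have : f.mapMatrix (c • (1 : Matrix (Fin 2) (Fin 2) F)) = f c • 1 := by
        ext i j; simp [Matrix.one_apply, apply_ite f]
      rw [this, smul_mulVec, one_mulVec]
    rw [hxc, hm] at h1
    rw [← smul_left_injective K hv h1, ← map_mul, hc, map_one]

/-- The half (in odd characteristic) of `q - 1`. -/
def halfPred (q : ℕ) : ℕ := (q - 1) / (q - 1).gcd 2

/-- The half (in odd characteristic) of `q + 1`. -/
def halfSucc (q : ℕ) : ℕ := (q + 1) / (q + 1).gcd 2

theorem dvd_two_mul_div_gcd (n : ℕ) : n ∣ 2 * (n / n.gcd 2) := by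
  obtain ⟨c, hc⟩ := Nat.gcd_dvd_right n 2
  refine ⟨c, ?_⟩
  calc 2 * (n / n.gcd 2) = n.gcd 2 * c * (n / n.gcd 2) := by rw [← hc]
    _ = n * c := by rw [mul_right_comm, Nat.mul_div_cancel' (Nat.gcd_dvd_left n 2)]

/-- Element orders of `PSL(2,q)`. -/
theorem psl_cases (p : ℕ) [Fact p.Prime] [CharP F p] (g : ProjectiveSpecialLinearGroup (Fin 2) F) :
    g ^ p = 1 ∨ g ^ halfPred (Fintype.card F) = 1 ∨ g ^ halfSucc (Fintype.card F) = 1 := by
  obtain ⟨x, rfl⟩ := QuotientGroup.mk_surjective g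
  simp only [← QuotientGroup.mk_pow, QuotientGroup.eq_one_iff]
  exact trichotomy p _ _ (dvd_two_mul_div_gcd _) (dvd_two_mul_div_gcd _) x

omit [Fintype F] in
theorem exists_orderOf_char (p : ℕ) [hp : Fact p.Prime] [CharP F p] :
    ∃ g : ProjectiveSpecialLinearGroup (Fin 2) F, orderOf g = p := by
  let x : SpecialLinearGroup (Fin 2) F := ⟨!![1, 1; 0, 1], by simp⟩
  refine ⟨QuotientGroup.mk x, orderOf_eq_prime ?_ ?_⟩
  · rw [← QuotientGroup.mk_pow, QuotientGroup.eq_one_iff]
    have hfix : (x : Matrix (Fin 2) (Fin 2) F) *ᵥ ![1, 0] = ![1, 0] := by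
      ext i; fin_cases i <;> simp [x, mulVec, dotProduct, Fin.sum_univ_two]
    rw [pow_char_of_fixed p x ![1, 0] (fun h => by simpa using congrFun h 0) hfix]
    exact Subgroup.one_mem _
  · intro h
    rw [QuotientGroup.eq_one_iff] at h
    obtain ⟨c, -, hc⟩ := exists_scalar_of_mem_center x h
    have := congrFun (congrFun hc 0) 1
    simp [x] at this

theorem exists_orderOf_split (h : 2 < Fintype.card F - 1) :
    ∃ g : ProjectiveSpecialLinearGroup (Fin 2) F, orderOf g = halfPred (Fintype.card F) := by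
  classical
  obtain ⟨μ, hμ⟩ := IsCyclic.exists_ofOrder_eq_natCard (α := Fˣ)
  have hord : orderOf μ = Fintype.card F - 1 := by
    rw [hμ, Nat.card_eq_fintype_card, Fintype.card_units]
  have hne : (μ : F) ≠ (μ : F)⁻¹ := by
    intro he
    rw [← Units.val_inv_eq_inv_val, Units.val_inj, eq_inv_iff_mul_eq_one, ← pow_two] at he
    have := Nat.le_of_dvd two_pos (orderOf_dvd_of_pow_eq_one he)
    omega
  have he : ∀ m, (μ : F) ^ (2 * m) = 1 ↔ halfPred (Fintype.card F) ∣ m := by
    intro m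
    rw [← Units.val_pow_eq_pow_val, Units.val_eq_one, pow_mul, ← orderOf_dvd_iff_pow_eq_one,
      orderOf_pow, hord]
    rfl
  let x : SpecialLinearGroup (Fin 2) F := ⟨!![(μ : F), 0; 0, (μ : F)⁻¹], by simp⟩
  refine ⟨QuotientGroup.mk x, orderOf_mk_eq (RingHom.id F) x μ ?_ hne ![1, 0]
    (fun h => by simpa using congrFun h 0) ?_ _ he⟩
  · simp [x, trace_fin_two]
    field_simp
    ring
  · ext i; fin_cases i <;> simp [x, mulVec, dotProduct, Fin.sum_univ_two]

theorem exists_orderOf_nonsplit (p : ℕ) [hp : Fact p.Prime] [CharP F p] :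
    ∃ g : ProjectiveSpecialLinearGroup (Fin 2) F, orderOf g = halfSucc (Fintype.card F) := by
  classical
  obtain ⟨n, -, hn⟩ := FiniteField.card F p
  have hF : 1 < Fintype.card F := Fintype.one_lt_card
  have hnp : ¬ p ∣ Fintype.card F + 1 := by
    intro hd
    have h1 : p ∣ Fintype.card F := hn ▸ dvd_pow_self p n.ne_zero
    have := (Nat.dvd_add_right h1).1 hd
    exact hp.out.ne_one (Nat.dvd_one.1 this)
  have : NeZero ((Fintype.card F + 1 : ℕ) : AlgebraicClosure F) :=
    ⟨fun h => hnp ((CharP.cast_eq_zero_iff (AlgebraicClosure F) p _).1 h)⟩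
  obtain ⟨μ, hμ⟩ := HasEnoughRootsOfUnity.exists_primitiveRoot (AlgebraicClosure F) (Fintype.card F + 1)
  have hord : orderOf μ = Fintype.card F + 1 := hμ.eq_orderOf.symm
  have hμ0 : μ ≠ 0 := fun h => by
    have := hμ.pow_eq_one
    rw [h, zero_pow (Nat.succ_ne_zero _)] at this
    exact zero_ne_one this
  have hne : μ ≠ μ⁻¹ := by
    intro he
    have h2 : μ ^ 2 = 1 := by rw [pow_two]; nth_rewrite 2 [he]; exact mul_inv_cancel₀ hμ0
    have := Nat.le_of_dvd two_pos (orderOf_dvd_of_pow_eq_one h2)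
    omega
  let f := algebraMap F (AlgebraicClosure F)
  have hq : μ ^ Fintype.card F = μ⁻¹ := by
    apply mul_right_cancel₀ hμ0
    rw [← pow_succ, inv_mul_cancel₀ hμ0, hμ.pow_eq_one]
  obtain ⟨t, ht⟩ : ∃ t : F, f t = μ + μ⁻¹ := by
    have hfixed : (μ + μ⁻¹) ^ Fintype.card F = μ + μ⁻¹ := by
      rw [hn, add_pow_char_pow _ _ p n, ← hn, inv_pow, hq, inv_inv, add_comm]
    by_contra hnot
    push Not at hnot
    -- `X ^ q - X` would have more than `q` roots
    let S : Finset (AlgebraicClosure F) := insert (μ + μ⁻¹) (Finset.univ.image f)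
    have hSc : S.card = Fintype.card F + 1 := by
      rw [Finset.card_insert_of_notMem (fun h => ?_), Finset.card_image_of_injective _ f.injective,
        Finset.card_univ]
      obtain ⟨t, -, ht⟩ := Finset.mem_image.1 h
      exact hnot t ht
    have hpol : (X ^ Fintype.card F - X : (AlgebraicClosure F)[X]) ≠ 0 :=
      FiniteField.X_pow_card_sub_X_ne_zero _ hF
    have hle : S.card ≤ (X ^ Fintype.card F - X : (AlgebraicClosure F)[X]).natDegree := by
      apply card_le_degree_of_subset_roots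
      intro z hz
      rw [mem_roots hpol, IsRoot.def, eval_sub, eval_pow, eval_X, sub_eq_zero]
      rcases Finset.mem_insert.1 hz with h | h
      · rw [h, hfixed]
      · obtain ⟨y, -, rfl⟩ := Finset.mem_image.1 h
        rw [← map_pow, FiniteField.pow_card]
    rw [FiniteField.X_pow_card_sub_X_natDegree_eq _ hF, hSc] at hle
    omega
  have he : ∀ m, μ ^ (2 * m) = 1 ↔ halfSucc (Fintype.card F) ∣ m := by
    intro m
    rw [pow_mul, ← orderOf_dvd_iff_pow_eq_one, orderOf_pow' _ two_ne_zero, hord]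
    rfl
  let x : SpecialLinearGroup (Fin 2) F := ⟨!![0, -1; 1, t], by simp⟩
  refine ⟨QuotientGroup.mk x, orderOf_mk_eq f x μ ?_ hne ![1, -μ]
    (fun h => by simpa using congrFun h 0) ?_ _ he⟩
  · have htr : f (x : Matrix (Fin 2) (Fin 2) F).trace = μ + μ⁻¹ := by
      rw [← ht]; simp [x, trace_fin_two]
    rw [htr]
    field_simp
    ring
  · ext i
    fin_cases i
    · simp [x, mulVec, dotProduct, Fin.sum_univ_two]
    · simp [x, mulVec, dotProduct, Fin.sum_univ_two, ht]
      field_simp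
      ring

end Cfsg.Agent.SL2Orders
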