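import Mathlib.GroupTheory.OrderOfElement
import Mathlib.GroupTheory.Index
import Mathlib.Algebra.BigOperators.Group.Finset.Piecewise
import Mathlib.Algebra.Group.Commute.Defs
import Mathlib.Algebra.Group.End
import Mathlib.Tactic.Group

/-!
A Frobenius group cannot act with all complement norms trivial.
-/

namespace Cfsg.Agent.NormTrick

variable {S V : Type*} [Group S] [CommGroup V] (φ : S →* MulAut V) (R : Subgroup S) [Fintype R]

/-- The norm of the subgroup `R`. -/
def norm (v : V) : V := ∏ r : R, φ (r : S) v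

theorem norm_smul (r : R) (v : V) : norm φ R (φ (r : S) v) = norm φ R v := by
  unfold norm
  refine Fintype.prod_equiv (Equiv.mulRight r) _ _ fun k => ?_
  simp [← MulAut.mul_apply, ← map_mul]

/-- If `y` normalises `R` with `y ^ i` fixed-point-free on it for `0 < i < m`, and all norms of `y`
vanish, then `R` acts trivially up to `|R|`-th powers. -/
theorem smul_pow_card_eq (y : S) (m : ℕ) (hm : 0 < m)
    (hnorm : ∀ r ∈ R, y * r * y⁻¹ ∈ R)
    (hfpf : ∀ i, 0 < i → i < m → ∀ r ∈ R, r * y ^ i = y ^ i * r → r = 1)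
    (hy : ∀ v : V, ∏ i ∈ Finset.range m, φ (y ^ i) v = 1) (r : R) (v : V) :
    (φ (r : S) v) ^ Nat.card R = v ^ Nat.card R := by
  classical
  have hconj : ∀ (i : ℕ) (k : S), k ∈ R → y ^ i * k * (y ^ i)⁻¹ ∈ R := by
    intro i
    induction i with
    | zero => simp
    | succ i ih =>
      intro k hk
      have := hnorm _ (ih k hk)
      rw [pow_succ', mul_inv_rev]
      simpa [mul_assoc] using this
  have hφ : ∀ (a b : S) (u : V), φ a (φ b u) = φ (a * b) u := fun a b u => by
    rw [map_mul, MulAut.mul_apply]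
  have key : ∀ w : V,
      w ^ Nat.card R * ∏ i ∈ (Finset.range m).erase 0, norm φ R (φ (y ^ i) w) = 1 := by
    intro w
    have h1 : ∏ k : R, φ (k : S) (∏ i ∈ Finset.range m, φ (y ^ i) (φ ((k : S)⁻¹) w)) = 1 :=
      Finset.prod_eq_one fun k _ => by rw [hy, map_one]
    simp only [map_prod, hφ] at h1
    rw [Finset.prod_comm, ← Finset.mul_prod_erase _ _ (Finset.mem_range.2 hm)] at h1
    convert h1 using 2
    · simp [Nat.card_eq_fintype_card]
    · refine Finset.prod_congr rfl fun i hi => ?_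
      have hi0 : 0 < i := Nat.pos_of_ne_zero (Finset.ne_of_mem_erase hi)
      have him : i < m := Finset.mem_range.1 (Finset.mem_of_mem_erase hi)
      let T : R → R := fun k =>
        ⟨(k : S) * (y ^ i * (k : S)⁻¹ * (y ^ i)⁻¹), R.mul_mem k.2 (hconj i _ (R.inv_mem k.2))⟩
      have hT : Function.Injective T := by
        intro k l h
        have h' : (k : S) * (y ^ i * (k : S)⁻¹ * (y ^ i)⁻¹) =
            (l : S) * (y ^ i * (l : S)⁻¹ * (y ^ i)⁻¹) := congrArg Subtype.val h
        simp only [← mul_assoc] at h'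
        replace h' := mul_right_cancel h'
        have h2 : (l : S)⁻¹ * (k : S) * y ^ i = y ^ i * ((l : S)⁻¹ * k) := by
          calc (l : S)⁻¹ * (k : S) * y ^ i
              = (l : S)⁻¹ * ((k : S) * y ^ i * (k : S)⁻¹) * k := by group
            _ = (l : S)⁻¹ * ((l : S) * y ^ i * (l : S)⁻¹) * k := by rw [h']
            _ = y ^ i * ((l : S)⁻¹ * k) := by group
        have := hfpf i hi0 him _ (R.mul_mem (R.inv_mem l.2) k.2) h2
        exact Subtype.ext (inv_mul_eq_one.1 this).symm
      refine (Fintype.prod_bijective T (Finite.injective_iff_bijective.1 hT) _ _ fun k => ?_).symm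
      rw [hφ]
      congr 2
      simp [T, mul_assoc]
  have e1 := key (φ (r : S) v)
  have e2 := key v
  have hsame : ∀ i, norm φ R (φ (y ^ i) (φ (r : S) v)) = norm φ R (φ (y ^ i) v) := by
    intro i
    rw [← norm_smul φ R ⟨y ^ i * (r : S) * (y ^ i)⁻¹, hconj i _ r.2⟩ (φ (y ^ i) v)]
    simp [hφ, mul_assoc]
  simp only [hsame] at e1
  exact mul_right_cancel (e1.trans e2.symm)

/-- Coprime form. -/
theorem smul_eq (y : S) (m : ℕ) (hm : 0 < m)
    (hnorm : ∀ r ∈ R, y * r * y⁻¹ ∈ R)
    (hfpf : ∀ i, 0 < i → i < m → ∀ r ∈ R, r * y ^ i = y ^ i * r → r = 1)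
    (hy : ∀ v : V, ∏ i ∈ Finset.range m, φ (y ^ i) v = 1)
    [Finite V] (hcop : (Nat.card V).Coprime (Nat.card R)) (r : R) (v : V) :
    φ (r : S) v = v :=
  (powCoprime hcop).injective (smul_pow_card_eq φ R y m hm hnorm hfpf hy r v)

end Cfsg.Agent.NormTrick
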