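import Mathlib.GroupTheory.SemidirectProduct
import Mathlib.GroupTheory.OrderOfElement
import Mathlib.GroupTheory.Solvable
import Mathlib.GroupTheory.Perm.Cycle.Type
import Mathlib.Logic.Equiv.Fin.Basic
import Mathlib.Algebra.Group.TransferInstance
import Mathlib.GroupTheory.PGroup
import Mathlib.Algebra.CharP.Basic
import Mathlib.Algebra.CharP.Defs
import Mathlib.Algebra.Field.Basic

/-!
Extensions of an abelian group by a group acting without fixed points, and their element orders.
-/

namespace Cfsg.Agent.AffineExt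

open SemidirectProduct

/-- A finite group has an isomorphic copy in universe zero. -/
theorem exists_small_copy (G : Type*) [Group G] [Finite G] :
    ∃ (H : Type) (_ : Group H) (_ : Fintype H), Nonempty (H ≃* G) := by
  obtain ⟨n, ⟨e⟩⟩ := Finite.exists_equiv_fin G
  exact ⟨Fin n, e.symm.group, inferInstance, ⟨e.symm.mulEquiv⟩⟩

theorem range_orderOf_congr {G H : Type*} [Group G] [Group H] (e : G ≃* H) :
    Set.range (orderOf : G → ℕ) = Set.range (orderOf : H → ℕ) := by
  ext n
  exact ⟨fun ⟨g, hg⟩ => ⟨e g, by rw [MulEquiv.orderOf_eq, hg]⟩,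
    fun ⟨h, hh⟩ => ⟨e.symm h, by rw [MulEquiv.orderOf_eq, hh]⟩⟩

theorem exists_orderOf_congr {G H : Type*} [Group G] [Group H] (e : G ≃* H) (n : ℕ) :
    (∃ g : G, orderOf g = n) ↔ ∃ h : H, orderOf h = n := by
  have := Set.ext_iff.1 (range_orderOf_congr e) n
  simpa only [Set.mem_range] using this

variable {W L : Type*} [CommGroup W] [Group L] {φ : L →* MulAut W}

theorem right_pow (g : W ⋊[φ] L) (n : ℕ) : (g ^ n).right = g.right ^ n :=
  map_pow (rightHom : W ⋊[φ] L →* L) g n

theorem eq_inl_of_right_eq_one (g : W ⋊[φ] L) (h : g.right = 1) : g = inl g.left := by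
  ext <;> simp [h]

/-- An element commuting with a translation fixes it. -/
theorem fixed_of_commute (g : W ⋊[φ] L) (w : W) (h : Commute g (inl w)) : φ g.right w = w := by
  have h1 := congrArg SemidirectProduct.left h.eq
  simp only [mul_left, left_inl, right_inl, map_one, MulAut.one_apply] at h1
  rw [mul_comm g.left] at h1
  exact mul_right_cancel h1

/-- Where `l` fixes only the identity, every lift of `l` has the order of `l`. -/
theorem pow_orderOf_eq_one (g : W ⋊[φ] L) (hfpf : ∀ w : W, φ g.right w = w → w = 1) :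
    g ^ orderOf g.right = 1 := by
  have hr : (g ^ orderOf g.right).right = 1 := by rw [right_pow, _root_.pow_orderOf_eq_one]
  have h := eq_inl_of_right_eq_one _ hr
  have hc : Commute g (inl (g ^ orderOf g.right).left) := by
    rw [← h]
    exact (Commute.refl g).pow_right _
  rw [h, hfpf _ (fixed_of_commute g _ hc), map_one]

theorem orderOf_eq_of_fpf (g : W ⋊[φ] L) (hfpf : ∀ w : W, φ g.right w = w → w = 1) :
    orderOf g = orderOf g.right :=
  Nat.dvd_antisymm (orderOf_dvd_of_pow_eq_one (pow_orderOf_eq_one g hfpf))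
    (orderOf_map_dvd (rightHom : W ⋊[φ] L →* L) g)

theorem finite_ext [Finite W] [Finite L] (φ : L →* MulAut W) : Finite (W ⋊[φ] L) :=
  Finite.of_equiv _ SemidirectProduct.equivProd.symm

theorem natCard_ext (φ : L →* MulAut W) : Nat.card (W ⋊[φ] L) = Nat.card W * Nat.card L := by
  rw [Nat.card_congr SemidirectProduct.equivProd, Nat.card_prod]

theorem isSolvable_ext (hL : ∀ a b : L, a * b = b * a) :
    Group.IsSolvable (W ⋊[φ] L) := by
  have : Group.IsSolvable W := Group.isSolvable_of_comm mul_comm
  have : Group.IsSolvable L := Group.isSolvable_of_comm hL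
  exact Group.isSolvable_of_ker_le_range (inl : W →* W ⋊[φ] L) rightHom
    (le_of_eq range_inl_eq_ker_rightHom.symm)

/-- Frobenius extension: the orders are the orders in `L` together with those in `W`. -/
theorem orderOf_cases (hfpf : ∀ l : L, l ≠ 1 → ∀ w : W, φ l w = w → w = 1) (g : W ⋊[φ] L) :
    (∃ w : W, orderOf g = orderOf w) ∨ (∃ l : L, orderOf g = orderOf l) := by
  by_cases h : g.right = 1
  · refine Or.inl ⟨g.left, ?_⟩
    conv_lhs => rw [eq_inl_of_right_eq_one g h]
    exact orderOf_injective _ inl_injective _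
  · exact Or.inr ⟨g.right, orderOf_eq_of_fpf g (hfpf _ h)⟩

variable [Finite W] [Finite L]

/-- Extending by a `p`-group on which elements of other prime orders act without fixed points
leaves the prime graph unchanged. -/
theorem primeGraph_eq (p : ℕ) (hp : p.Prime) (hW : ∀ w : W, w ^ p = 1) (hpL : p ∣ Nat.card L)
    (hfpf : ∀ l : L, (orderOf l).Prime → orderOf l ≠ p → ∀ w : W, φ l w = w → w = 1) :
    (∀ r : ℕ, r.Prime → (r ∣ Nat.card L ↔ r ∣ Nat.card (W ⋊[φ] L))) ∧
    (∀ r s : ℕ, r.Prime → s.Prime → r ≠ s →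
      ((∃ g : L, orderOf g = r * s) ↔ ∃ g : W ⋊[φ] L, orderOf g = r * s)) := by
  have := finite_ext φ
  refine ⟨fun r hr => ⟨fun h => by rw [natCard_ext]; exact h.mul_left _, fun h => ?_⟩, ?_⟩
  · rw [natCard_ext] at h
    rcases hr.dvd_mul.1 h with h | h
    · have : Fact r.Prime := ⟨hr⟩
      obtain ⟨w, hw⟩ := exists_prime_orderOf_dvd_card' r h
      have := orderOf_dvd_of_pow_eq_one (hW w)
      rw [hw, Nat.prime_dvd_prime_iff_eq hr hp] at this
      rwa [this]
    · exact h
  intro r s hr hs hrs
  refine ⟨fun ⟨g, hg⟩ => ⟨inr g, by rw [orderOf_injective _ inr_injective, hg]⟩, fun ⟨g, hg⟩ => ?_⟩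
  -- the only case to exclude: `g` projects to an element of order `r` (or `s`)
  have main : ∀ a b : ℕ, a.Prime → b.Prime → a ≠ b → orderOf g = a * b →
      g.right ^ a = 1 → False := by
    intro a b ha hb hab ho h1
    have hcop : Nat.Coprime a b := (Nat.coprime_primes ha hb).2 hab
    have hb' : (g ^ a) = inl (g ^ a).left := eq_inl_of_right_eq_one _ (by rw [right_pow, h1])
    have hoa : orderOf (g ^ a) = b := by
      rw [orderOf_pow, ho, Nat.gcd_mul_right_left, Nat.mul_div_cancel_left _ ha.pos]
    have hne : (g ^ a).left ≠ 1 := fun h0 => by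
      rw [hb', h0, map_one, orderOf_one] at hoa
      exact hb.ne_one hoa.symm
    have hbp : b = p := by
      have hpow : (g ^ a) ^ p = 1 := by rw [hb', ← map_pow, hW, map_one]
      have := orderOf_dvd_of_pow_eq_one hpow
      rwa [hoa, Nat.prime_dvd_prime_iff_eq hb hp] at this
    have hor : orderOf g.right = a := by
      rcases (Nat.dvd_prime ha).1 (orderOf_dvd_of_pow_eq_one h1) with h | h
      · rw [orderOf_eq_one_iff] at h
        have hg' := eq_inl_of_right_eq_one g h
        have hpow : g ^ p = 1 := by rw [hg', ← map_pow, hW, map_one]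
        have := orderOf_dvd_of_pow_eq_one hpow
        rw [ho, hbp] at this
        have h2 := Nat.le_of_dvd hp.pos this
        have h3 := ha.two_le
        have h4 := hp.pos
        have h5 : 1 * p < a * p := Nat.mul_lt_mul_of_pos_right (by omega) h4
        omega
      · exact h
    apply hne
    refine hfpf g.right (hor.symm ▸ ha) (by rw [hor]; exact hbp ▸ hab) _ ?_
    exact fixed_of_commute g _ (by rw [← hb']; exact (Commute.refl g).pow_right a)
  refine ⟨g.right, ?_⟩
  have hd := orderOf_map_dvd (rightHom : W ⋊[φ] L →* L) g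
  rw [hg, rightHom_eq_right] at hd
  obtain ⟨d₁, d₂, hd₁, hd₂, hd'⟩ := Nat.dvd_mul.1 hd
  rcases (Nat.dvd_prime hr).1 hd₁ with rfl | rfl
  · exfalso
    rw [one_mul] at hd'
    subst hd'
    exact main s r hs hr (Ne.symm hrs) (by rw [hg, mul_comm]) (orderOf_dvd_iff_pow_eq_one.1 hd₂)
  · rcases (Nat.dvd_prime hs).1 hd₂ with rfl | rfl
    · exfalso
      rw [mul_one] at hd'
      exact main _ s hr hs hrs hg (orderOf_dvd_iff_pow_eq_one.1 (dvd_of_eq hd'.symm))
    · exact hd'.symm

section Frobenius

variable {K : Type*} [Field K]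

/-- Multiplication by non-zero scalars as automorphisms of the additive group. -/
def scalarAct (A : Subgroup Kˣ) : A →* MulAut (Multiplicative K) where
  toFun a :=
    { toFun := fun w => Multiplicative.ofAdd ((a : Kˣ) * w.toAdd)
      invFun := fun w => Multiplicative.ofAdd (((a : Kˣ)⁻¹ : Kˣ) * w.toAdd)
      left_inv := fun w => Multiplicative.toAdd.injective (by simp)
      right_inv := fun w => Multiplicative.toAdd.injective (by simp)
      map_mul' := fun v w => Multiplicative.toAdd.injective (by simp [mul_add]) }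
  map_one' := by ext w; simp
  map_mul' a b := MulEquiv.ext fun w => Multiplicative.toAdd.injective (by simp [mul_assoc])

theorem scalarAct_fpf (A : Subgroup Kˣ) (a : A) (ha : a ≠ 1) (w : Multiplicative K)
    (h : scalarAct A a w = w) : w = 1 := by
  have h' : ((a : Kˣ) : K) * w.toAdd = w.toAdd := congrArg Multiplicative.toAdd h
  have h2 : (((a : Kˣ) : K) - 1) * w.toAdd = 0 := by rw [sub_mul, one_mul, h', sub_self]
  rcases mul_eq_zero.1 h2 with h3 | h3
  · exact absurd (Subtype.ext (Units.ext (sub_eq_zero.1 h3))) ha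
  · exact Multiplicative.toAdd.injective h3

/-- The Frobenius group `K ⋊ ⟨u⟩`. -/
abbrev Frob (u : Kˣ) : Type _ :=
  Multiplicative K ⋊[scalarAct (Subgroup.zpowers u)] (Subgroup.zpowers u)

theorem frob_range (p : ℕ) [hp : Fact p.Prime] [CharP K p] [Finite K] (u : Kˣ) :
    Set.range (orderOf : Frob u → ℕ) = {n | n ∣ p ∨ n ∣ orderOf u} := by
  ext n
  constructor
  · rintro ⟨g, rfl⟩
    rcases orderOf_cases (scalarAct_fpf (Subgroup.zpowers u)) g with ⟨w, hw⟩ | ⟨l, hl⟩
    · refine Or.inl ?_
      rw [hw]
      apply orderOf_dvd_of_pow_eq_one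
      apply Multiplicative.toAdd.injective
      simp [nsmul_eq_mul]
    · refine Or.inr ?_
      rw [hl]
      exact (orderOf_dvd_natCard l).trans (Nat.card_zpowers u).dvd
  · rintro (h | h)
    · have h1 : orderOf (inl (Multiplicative.ofAdd (1 : K)) : Frob u) = p := by
        rw [orderOf_injective _ inl_injective]
        apply orderOf_eq_prime
        · apply Multiplicative.toAdd.injective
          simp [nsmul_eq_mul]
        · simp
      rcases (Nat.dvd_prime hp.out).1 h with rfl | rfl
      · exact ⟨1, orderOf_one⟩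
      · exact ⟨_, h1⟩
    · refine ⟨inr (⟨u, Subgroup.mem_zpowers u⟩ ^ (orderOf u / n)), ?_⟩
      rw [orderOf_injective _ inr_injective, ← Subgroup.orderOf_coe, Subgroup.coe_pow]
      exact orderOf_pow_orderOf_div (orderOf_pos u).ne' h

theorem frob_solvable (u : Kˣ) : Group.IsSolvable (Frob u) :=
  isSolvable_ext fun a b => Subtype.ext (mul_comm (a : Kˣ) b)

theorem frob_finite [Finite K] (u : Kˣ) : Finite (Frob u) :=
  finite_ext _

/-- The kernel of the Frobenius group. -/
theorem frob_kernel (p : ℕ) [hp : Fact p.Prime] [CharP K p] [Finite K] (u : Kˣ)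
    (hu : ¬ p ∣ orderOf u) :
    ∃ M : Subgroup (Frob u), M.Normal ∧ IsPGroup p M ∧ ¬ p ∣ M.index := by
  refine ⟨(rightHom : Frob u →* Subgroup.zpowers u).ker, inferInstance, fun ⟨g, hg⟩ => ⟨1, ?_⟩, ?_⟩
  · apply Subtype.ext
    show g ^ (p ^ 1) = 1
    rw [pow_one, eq_inl_of_right_eq_one g hg, ← map_pow]
    convert map_one inl using 2
    apply Multiplicative.toAdd.injective
    simp [nsmul_eq_mul]
  · rwa [Subgroup.index_ker, MonoidHom.range_eq_top.2 rightHom_surjective, Subgroup.card_top,
      Nat.card_zpowers]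

end Frobenius

end Cfsg.Agent.AffineExt
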