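import Mathlib.GroupTheory.Subgroup.Simple
import Mathlib.GroupTheory.Subgroup.Center
import Mathlib.Algebra.Group.TransferInstance
import Mathlib.Logic.Equiv.Fin.Basic
import Mathlib.Data.Fintype.EquivFin
import Mathlib.Order.Preorder.Finite
import Mathlib.GroupTheory.NoncommCoprod
import Mathlib.Data.SetLike.Fintype
import Mathlib.Algebra.Group.Subgroup.Finite
import Mathlib.GroupTheory.Index
import Cfsg.Agent.Lib.Recog.AffineExt

/-!
# Minimal normal subgroups are powers of simple groups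
-/

set_option autoImplicit false

namespace Cfsg.Agent.CharSimple

variable {H : Type*} [Group H]

/-- `Fin (n+1) → S` as a product. -/
def piSucc (S : Type*) [Group S] (n : ℕ) : (Fin (n + 1) → S) ≃* S × (Fin n → S) where
  toFun f := (f 0, fun i => f i.succ)
  invFun p := Fin.cons p.1 p.2
  left_inv f := Fin.cons_self_tail f
  right_inv p := Prod.ext rfl (funext fun i => by simp)
  map_mul' _ _ := rfl

/-- Reindexing a power. -/
def piCongr (S : Type*) [Group S] {α β : Type*} (e : α ≃ β) : (α → S) ≃* (β → S) where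
  toFun f b := f (e.symm b)
  invFun f a := f (e a)
  left_inv f := funext fun a => by simp
  right_inv f := funext fun b => by simp
  map_mul' _ _ := rfl

/-- A power of a power, two factors. -/
def piDouble (S : Type*) [Group S] (n : ℕ) : (Fin n → S) × (Fin n → S) ≃* (Fin (n + n) → S) :=
  MulEquiv.trans
    { toFun := fun p => Sum.elim p.1 p.2
      invFun := fun f => (fun i => f (Sum.inl i), fun i => f (Sum.inr i))
      left_inv := fun p => rfl
      right_inv := fun f => funext fun x => by cases x <;> rfl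
      map_mul' := fun p q => funext fun x => by cases x <;> rfl }
    (piCongr S finSumFinEquiv)

/-- Two commuting subgroups with trivial intersection generate their direct product. -/
noncomputable def prodEquiv (A B : Subgroup H) (hcomm : ∀ a ∈ A, ∀ b ∈ B, a * b = b * a)
    (hdis : A ⊓ B = ⊥) : A × B ≃* (A ⊔ B : Subgroup H) :=
  have hc : ∀ (a : A) (b : B), Commute (A.subtype a) (B.subtype b) := fun a b => hcomm a a.2 b b.2
  (MonoidHom.ofInjective (f := A.subtype.noncommCoprod B.subtype hc) (by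
    rw [injective_iff_map_eq_one]
    rintro ⟨a, b⟩ h
    rw [MonoidHom.noncommCoprod_apply] at h
    have hab : (a : H) = (b : H)⁻¹ := eq_inv_of_mul_eq_one_left h
    have hmem : (a : H) ∈ A ⊓ B := ⟨a.2, hab ▸ B.inv_mem b.2⟩
    rw [hdis, Subgroup.mem_bot] at hmem
    rw [hmem, eq_comm, inv_eq_one] at hab
    exact Prod.ext (Subtype.ext hmem) (Subtype.ext hab))).trans
  (MulEquiv.subgroupCongr (by
    rw [MonoidHom.noncommCoprod_range, Subgroup.range_subtype, Subgroup.range_subtype]))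

/-- Subgroups normalising each other with trivial intersection commute. -/
theorem commute_of_disjoint {A B : Subgroup H} (hA : ∀ b ∈ B, ∀ a ∈ A, b * a * b⁻¹ ∈ A)
    (hB : ∀ a ∈ A, ∀ b ∈ B, a * b * a⁻¹ ∈ B) (hdis : A ⊓ B = ⊥) :
    ∀ a ∈ A, ∀ b ∈ B, a * b = b * a := by
  intro a ha b hb
  have hmem : a * b * a⁻¹ * b⁻¹ ∈ A ⊓ B :=
    ⟨by simpa [mul_assoc] using A.mul_mem ha (hA b hb a⁻¹ (A.inv_mem ha)),
      B.mul_mem (hB a ha b hb) (B.inv_mem hb)⟩
  rw [hdis, Subgroup.mem_bot, mul_inv_eq_one] at hmem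
  exact mul_inv_eq_iff_eq_mul.1 hmem

theorem minimalNormal_iso_pi [Finite H] (N : Subgroup H) [hN' : N.Normal] (hN : N ≠ ⊥)
    (hmin : ∀ M : Subgroup H, M.Normal → M ≤ N → M = ⊥ ∨ M = N) :
    ∃ (T : Type) (_ : Group T) (m : ℕ), IsSimpleGroup T ∧ 0 < m ∧ Nonempty (N ≃* (Fin m → T)) := by
  -- a subgroup minimal among those normalised by `N`
  obtain ⟨S, -, hS⟩ := Finite.exists_le_minimal
    (p := fun K : Subgroup H => K ≠ ⊥ ∧ K ≤ N ∧ ∀ n ∈ N, ∀ k ∈ K, n * k * n⁻¹ ∈ K) (a := N)
    ⟨hN, le_rfl, fun n hn k hk => N.mul_mem (N.mul_mem hn hk) (N.inv_mem hn)⟩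
  obtain ⟨⟨hS1, hSN, hSn⟩, hSmin⟩ := hS
  let P : Subgroup H → Prop := fun D =>
    D ≤ N ∧ (∀ n ∈ N, ∀ k ∈ D, n * k * n⁻¹ ∈ D) ∧ ∃ j : ℕ, Nonempty (D ≃* (Fin j → S))
  obtain ⟨D, -, hD⟩ := Finite.exists_le_maximal (p := P) (a := ⊥) ⟨bot_le, fun n _ k hk => by
    rw [Subgroup.mem_bot] at hk ⊢
    rw [hk, mul_one, mul_inv_cancel], 0, ⟨MulEquiv.ofUnique⟩⟩
  obtain ⟨⟨hDN, hDn, j, ⟨eD⟩⟩, hDmax⟩ := hD
  have hconjn : ∀ (g : H), ∀ n ∈ N, ∀ s ∈ S, g⁻¹ * (n * (g * s * g⁻¹) * n⁻¹) * g ∈ S := by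
    intro g n hn s hs
    have h : g⁻¹ * n * g ∈ N := by simpa using hN'.conj_mem n hn g⁻¹
    simpa [mul_assoc] using hSn _ h s hs
  -- `D` contains every conjugate of `S`
  have hall : ∀ (g : H), ∀ s ∈ S, g * s * g⁻¹ ∈ D := by
    intro g
    by_contra hcon
    push Not at hcon
    obtain ⟨s₀, hs₀, hs₀D⟩ := hcon
    set A : Subgroup H := S.map (MulAut.conj g).toMonoidHom with hA
    have hmemA : ∀ x, x ∈ A ↔ g⁻¹ * x * g ∈ S := by
      intro x
      constructor
      · rintro ⟨s, hs, rfl⟩; simpa [mul_assoc] using hs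
      · intro h; exact ⟨_, h, by simp [mul_assoc]⟩
    have hAN : A ≤ N := by
      rintro - ⟨s, hs, rfl⟩
      exact hN'.conj_mem s (hSN hs) g
    have hAn : ∀ n ∈ N, ∀ a ∈ A, n * a * n⁻¹ ∈ A := by
      intro n hn a ha
      rw [hmemA] at ha ⊢
      have h := hconjn g n hn _ ha
      simpa [mul_assoc] using h
    have hdis : D ⊓ A = ⊥ := by
      by_contra hne
      set K : Subgroup H := (D ⊓ A).map (MulAut.conj g⁻¹).toMonoidHom with hK
      have hKS : K ≤ S := by
        rintro - ⟨x, hx, rfl⟩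
        have := (hmemA x).1 hx.2
        simpa using this
      have hSK : S ≤ K := hSmin ⟨fun h => hne (Subgroup.map_eq_bot_iff_of_injective _
          (MulAut.conj g⁻¹).injective |>.1 h), hKS.trans hSN, ?_⟩ hKS
      · obtain ⟨x, hx, hxs⟩ := hSK hs₀
        apply hs₀D
        have : g * s₀ * g⁻¹ = x := by
          rw [← hxs]; simp [mul_assoc]
        rw [this]; exact hx.1
      · rintro n hn - ⟨x, hx, rfl⟩
        have hn' : g * n * g⁻¹ ∈ N := hN'.conj_mem n hn g
        refine ⟨(g * n * g⁻¹) * x * (g * n * g⁻¹)⁻¹, ⟨hDn _ hn' x hx.1, hAn _ hn' x hx.2⟩, ?_⟩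
        simp [mul_assoc]
    have hcomm := commute_of_disjoint (A := D) (B := A) (fun a ha d hd => hDn a (hAN ha) d hd)
      (fun d hd a ha => hAn d (hDN hd) a ha) hdis
    have hle : D ⊔ A ≤ D := hDmax ⟨sup_le hDN hAN, fun n hn k hk => ?_, j + 1, ⟨?_⟩⟩ le_sup_left
    · exact hs₀D (hle (Subgroup.mem_sup_right ⟨s₀, hs₀, rfl⟩))
    · have hmap : (D ⊔ A).map (MulAut.conj n).toMonoidHom ≤ D ⊔ A := by
        rw [Subgroup.map_sup]
        refine sup_le_sup ?_ ?_ <;> rintro - ⟨x, hx, rfl⟩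
        · exact hDn n hn x hx
        · exact hAn n hn x hx
      exact hmap ⟨k, hk, rfl⟩
    · let eA : A ≃* S := (Subgroup.equivMapOfInjective S _ (MulAut.conj g).injective).symm
      exact (prodEquiv D A hcomm hdis).symm.trans
        (((eD.prodCongr eA).trans MulEquiv.prodComm).trans (piSucc S j).symm)
  have hND : N ≤ D := by
    have hle : Subgroup.normalClosure (S : Set H) ≤ D := by
      rw [Subgroup.normalClosure, Subgroup.closure_le]
      intro x hx
      obtain ⟨s, hs, hsx⟩ := Group.mem_conjugatesOfSet_iff.1 hx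
      obtain ⟨c, rfl⟩ := isConj_iff.1 hsx
      exact hall c s hs
    rcases hmin _ Subgroup.normalClosure_normal (Subgroup.normalClosure_le_normal hSN) with h | h
    · exact absurd (le_bot_iff.1 (h ▸ Subgroup.le_normalClosure)) hS1
    · rw [← h]; exact hle
  have hDeq : D = N := le_antisymm hDN hND
  subst hDeq
  -- `S` is simple
  have hsimple : IsSimpleGroup S := by
    have : Nontrivial S := (Subgroup.nontrivial_iff_ne_bot S).2 hS1
    refine ⟨fun K hK => ?_⟩
    set K' : Subgroup H := K.map S.subtype with hK'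
    by_cases hKbot : K = ⊥
    · exact Or.inl hKbot
    refine Or.inr ?_
    have hj : 0 < j := by
      rcases Nat.eq_zero_or_pos j with rfl | h
      · have hsub : Subsingleton D := eD.toEquiv.injective.subsingleton
        exact absurd ((Subgroup.eq_bot_iff_forall D).2 fun x hx =>
          congrArg Subtype.val (Subsingleton.elim (⟨x, hx⟩ : D) 1)) hN
      · exact h
    have hSle : S ≤ K' := hSmin ⟨fun h => hKbot ((Subgroup.map_eq_bot_iff_of_injective _
        S.subtype_injective).1 h), (Subgroup.map_subtype_le K).trans hSN, ?_⟩ (Subgroup.map_subtype_le K)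
    · apply eq_top_iff.2
      intro x _
      obtain ⟨y, hy, hyx⟩ := hSle x.2
      rwa [show y = x from Subtype.ext hyx] at hy
    -- `N` acts on `S` by inner automorphisms
    intro n hn k hk
    obtain ⟨k, hk, rfl⟩ := hk
    suffices h : ∃ s ∈ S, ∀ x ∈ S, n * x * n⁻¹ = s * x * s⁻¹ by
      obtain ⟨s, hs, hsx⟩ := h
      exact ⟨⟨s, hs⟩ * k * ⟨s, hs⟩⁻¹, hK.conj_mem k hk _, (hsx k k.2).symm⟩
    let Q : Subgroup D :=
      { carrier := {n | ∃ s ∈ S, ∀ x ∈ S, (n : H) * x * (n : H)⁻¹ = s * x * s⁻¹}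
        one_mem' := ⟨1, S.one_mem, fun x _ => by simp⟩
        mul_mem' := by
          rintro a b ⟨s, hs, hsx⟩ ⟨t, ht, htx⟩
          refine ⟨s * t, S.mul_mem hs ht, fun x hx => ?_⟩
          calc ((a * b : D) : H) * x * ((a * b : D) : H)⁻¹
              = (a : H) * ((b : H) * x * (b : H)⁻¹) * (a : H)⁻¹ := by simp [mul_assoc]
            _ = s * (t * x * t⁻¹) * s⁻¹ := by
              rw [htx x hx, hsx _ (S.mul_mem (S.mul_mem ht hx) (S.inv_mem ht))]
            _ = _ := by simp [mul_assoc]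
        inv_mem' := by
          rintro a ⟨s, hs, hsx⟩
          refine ⟨s⁻¹, S.inv_mem hs, fun x hx => ?_⟩
          have h := hsx (s⁻¹ * x * s) (S.mul_mem (S.mul_mem (S.inv_mem hs) hx) hs)
          rw [show s * (s⁻¹ * x * s) * s⁻¹ = x by simp [mul_assoc]] at h
          rw [Subgroup.coe_inv]
          calc (a : H)⁻¹ * x * (a : H)⁻¹⁻¹
              = (a : H)⁻¹ * ((a : H) * (s⁻¹ * x * s) * (a : H)⁻¹) * (a : H)⁻¹⁻¹ := by rw [h]
            _ = _ := by simp [mul_assoc] }
    have hQ : ∀ g : H, ∀ s ∈ S, ∀ hmem : g * s * g⁻¹ ∈ D, (⟨g * s * g⁻¹, hmem⟩ : D) ∈ Q := by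
      intro g s hs hmem
      by_cases hgs : g * s * g⁻¹ ∈ S
      · exact ⟨_, hgs, fun x _ => rfl⟩
      · refine ⟨1, S.one_mem, fun x hx => ?_⟩
        set A : Subgroup H := S.map (MulAut.conj g).toMonoidHom with hA
        have hsA : g * s * g⁻¹ ∈ A := ⟨s, hs, rfl⟩
        have hAn : ∀ n ∈ D, ∀ a ∈ A, n * a * n⁻¹ ∈ A := by
          rintro n hn - ⟨t, ht, rfl⟩
          exact ⟨_, hconjn g n hn t ht, by simp [mul_assoc]⟩
        have hAle : A ≤ D := by
          rintro - ⟨t, ht, rfl⟩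
          exact hall g t ht
        have hdis : A ⊓ S = ⊥ := by
          by_contra hne
          have hle : S ≤ A ⊓ S := hSmin ⟨hne, inf_le_right.trans hSN, fun n hn k hk =>
            ⟨hAn n hn k hk.1, hSn n hn k hk.2⟩⟩ inf_le_right
          have hSA : S ≤ A := hle.trans inf_le_left
          have hcard : Nat.card A = Nat.card S :=
            Subgroup.card_map_of_injective (MulAut.conj g).injective
          exact hgs (by rw [Subgroup.eq_of_le_of_card_ge hSA hcard.le]; exact hsA)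
        have h := commute_of_disjoint (A := A) (B := S) (fun b hb a ha => hAn b (hSN hb) a ha)
          (fun a ha b hb => hSn a (hAle ha) b hb) hdis _ hsA x hx
        show g * s * g⁻¹ * x * (g * s * g⁻¹)⁻¹ = _
        rw [h]
        simp [mul_assoc]
    have htop : D ≤ Q.map D.subtype := by
      have hle : Subgroup.normalClosure (S : Set H) ≤ Q.map D.subtype := by
        rw [Subgroup.normalClosure, Subgroup.closure_le]
        intro x hx
        obtain ⟨s, hs, hsx⟩ := Group.mem_conjugatesOfSet_iff.1 hx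
        obtain ⟨c, rfl⟩ := isConj_iff.1 hsx
        exact ⟨⟨_, hall c s hs⟩, hQ c s hs _, rfl⟩
      rcases hmin _ Subgroup.normalClosure_normal (Subgroup.normalClosure_le_normal hSN) with h | h
      · exact absurd (le_bot_iff.1 (h ▸ Subgroup.le_normalClosure)) hS1
      · exact le_trans h.ge hle
    obtain ⟨⟨n', hn'⟩, hq, rfl⟩ := htop hn
    exact hq
  obtain ⟨T, iT, -, ⟨eS⟩⟩ := Cfsg.Agent.AffineExt.exists_small_copy S
  have hj : 0 < j := by
    rcases Nat.eq_zero_or_pos j with rfl | h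
    · have hsub : Subsingleton D := eD.toEquiv.injective.subsingleton
      exact absurd ((Subgroup.eq_bot_iff_forall D).2 fun x hx =>
        congrArg Subtype.val (Subsingleton.elim (⟨x, hx⟩ : D) 1)) hN
    · exact h
  have : Nontrivial T := eS.toEquiv.nontrivial
  exact ⟨T, iT, j, IsSimpleGroup.isSimpleGroup_of_surjective eS.symm.toMonoidHom
    eS.symm.surjective, hj, ⟨eD.trans (MulEquiv.piCongrRight fun _ => eS.symm)⟩⟩

end Cfsg.Agent.CharSimple
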