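import Cfsg.Agent.Lib.Perm.AutAlternatingThree

/-!
# The square of an automorphism of an alternating group is induced by a permutation
-/

set_option autoImplicit false

open Equiv

namespace Cfsg.Agent.AutAlt

theorem map_isConj {n : ℕ} (φ : MulAut ↥(alternatingGroup (Fin n))) {g h : alternatingGroup (Fin n)}
    (hc : IsConj g h) : IsConj (φ g) (φ h) := φ.toMonoidHom.map_isConj hc

theorem isThreeCycle_of_isConj {n : ℕ} {g h : alternatingGroup (Fin n)} (hc : IsConj g h)
    (hg : (g : Perm (Fin n)).IsThreeCycle) : (h : Perm (Fin n)).IsThreeCycle := by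
  have := (alternatingGroup (Fin n)).subtype.map_isConj hc
  exact ((Perm.isConj_iff_cycleType_eq.1 this).symm.trans hg :)

theorem sq_mem_range {n : ℕ} (h5 : 5 ≤ n) (φ : MulAut ↥(alternatingGroup (Fin n))) :
    ∃ σ : Perm (Fin n), MulAut.conjNormal σ = φ * φ := by
  by_cases h6 : n ≠ 6
  · exact (bijective_conjNormal (by omega) h6).2 _
  push Not at h6
  subst h6
  refine mem_range_of_threeCycle (by omega) _ fun g hg => ?_
  show ((φ (φ g) : _) : Perm (Fin 6)).IsThreeCycle
  have hord : ∀ h : alternatingGroup (Fin 6), orderOf h = 3 →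
      (h : Perm (Fin 6)).IsThreeCycle ∨ (h : Perm (Fin 6)).cycleType = {3, 3} := by
    intro h hh
    rw [← Subgroup.orderOf_coe] at hh
    obtain ⟨k, hk⟩ := Perm.cycleType_prime_order (σ := (h : Perm (Fin 6))) (hh ▸ Nat.prime_three)
    rw [hh] at hk
    have := Perm.sum_cycleType_le (h : Perm (Fin 6))
    rw [hk, Multiset.sum_replicate, smul_eq_mul, Fintype.card_fin] at this
    rcases (show k = 0 ∨ k = 1 by omega) with rfl | rfl
    · exact Or.inl hk
    · exact Or.inr hk
  have hconj33 : ∀ a b : alternatingGroup (Fin 6), (a : Perm (Fin 6)).cycleType = {3, 3} →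
      (b : Perm (Fin 6)).cycleType = {3, 3} → IsConj a b := by
    intro a b ha hb
    obtain ⟨π, hπ⟩ := isConj_iff.1 (Perm.isConj_iff_cycleType_eq.2 (ha.trans hb.symm))
    by_cases hs : π ∈ alternatingGroup (Fin 6)
    · exact isConj_iff.2 ⟨⟨π, hs⟩, Subtype.ext hπ⟩
    · obtain ⟨c, hc, hcA⟩ := SetLike.not_le_iff_exists.1
        (show ¬ Subgroup.centralizer {(a : Perm (Fin 6))} ≤ alternatingGroup (Fin 6) by
          rw [Perm.centralizer_le_alternating_iff, ha]
          rintro ⟨-, -, h⟩
          have := h 3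
          simp at this)
      refine isConj_iff.2 ⟨⟨π * c, ?_⟩, Subtype.ext ?_⟩
      · rw [Perm.mem_alternatingGroup] at hs hcA ⊢
        rw [map_mul, Int.units_ne_iff_eq_neg.1 hs, Int.units_ne_iff_eq_neg.1 hcA]
        rfl
      · simp only [Subgroup.coe_mul, Subgroup.coe_inv]
        rw [mul_inv_rev, mul_assoc π, Subgroup.mem_centralizer_singleton_iff.1 hc]
        simpa [mul_assoc] using hπ
  have ho : ∀ h : alternatingGroup (Fin 6), orderOf (φ h) = orderOf h := fun h => φ.orderOf_eq h
  have hg3 : orderOf g = 3 := by rw [← Subgroup.orderOf_coe, hg.orderOf]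
  rcases hord (φ g) (by rw [ho, hg3]) with h1 | h1
  · exact isThreeCycle_of_isConj
      (map_isConj φ (alternatingGroup.isThreeCycle_isConj (by simp) hg h1)) h1
  · rcases hord (φ (φ g)) (by rw [ho, ho, hg3]) with h2 | h2
    · exact h2
    · exfalso
      -- `φ g` and `φ (φ g)` are conjugate, hence so are `g` and `φ g`
      have hcg : IsConj (φ.symm (φ g)) (φ.symm (φ (φ g))) := map_isConj φ.symm (hconj33 _ _ h1 h2)
      rw [MulEquiv.symm_apply_apply, MulEquiv.symm_apply_apply] at hcg
      have := isThreeCycle_of_isConj hcg hg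
      rw [Perm.IsThreeCycle, h1] at this
      simpa using congrArg Multiset.card this

end Cfsg.Agent.AutAlt
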