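import Cfsg.Agent.Lib.Recog.NineA6
import Cfsg.Agent.Lib.Recog.AltAutSq
import Cfsg.Agent.Lib.Solvable.Coprime
import Cfsg.Agent.S3716
import Cfsg.Agent.S3805
import Cfsg.Agent.S3341
import Mathlib.GroupTheory.Transfer
import Mathlib.GroupTheory.SpecificGroups.Dihedral
import Mathlib.GroupTheory.SpecificGroups.KleinFour

/-!
A self-centralizing Sylow 3-subgroup of order 9 with dihedral automizer of order 8
(recognition of the symmetric group of degree 6).
-/

set_option autoImplicit false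
set_option linter.unusedSectionVars false

namespace Cfsg.Agent.NineS6

open Equiv

variable {G : Type*} [Group G] [Finite G]

/-! ### Actions on the group of order 9 -/

theorem sq_fix {F : Subgroup G} (hF : Nat.card F = 3) {h : G}
    (hn : ∀ f ∈ F, h * f * h⁻¹ ∈ F) {f : G} (hf : f ∈ F) : Commute (h * h) f := by
  haveI : Fact (Nat.Prime 3) := ⟨Nat.prime_three⟩
  rw [commute_iff_eq]
  by_cases h1 : f = 1
  · subst h1; simp
  set f' : F := ⟨f, hf⟩
  have hgen : Subgroup.zpowers f' = ⊤ :=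
    zpowers_eq_top_of_prime_card hF (fun e => h1 (congrArg Subtype.val e))
  have hf3 : f ^ 3 = 1 := by
    have := congrArg Subtype.val (pow_card_eq_one' (x := f'))
    rwa [hF, Subgroup.coe_pow] at this
  obtain ⟨k, hk⟩ := Subgroup.mem_zpowers_iff.1
    (hgen ▸ Subgroup.mem_top (⟨h * f * h⁻¹, hn f hf⟩ : F))
  have hk' : h * f * h⁻¹ = f ^ k := by
    have := congrArg Subtype.val hk
    rw [SubgroupClass.coe_zpow] at this
    exact this.symm
  have h2 : h * h * f * (h * h)⁻¹ = f ^ (k * k) := by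
    rw [zpow_mul, ← hk', conj_zpow, ← hk']
    group
  have hk3 : k % 3 ≠ 0 := by
    intro e
    obtain ⟨j, rfl⟩ := Int.dvd_of_emod_eq_zero e
    rw [zpow_mul, zpow_ofNat, hf3, one_zpow, conj_eq_one_iff] at hk'
    exact h1 hk'
  have hkk : f ^ (k * k) = f := by
    have : k * k % 3 = 1 := by
      rw [Int.mul_emod]
      rcases (show k % 3 = 1 ∨ k % 3 = 2 by omega) with e | e <;> rw [e] <;> rfl
    rw [← Int.emod_add_mul_ediv (k * k) 3, this, zpow_add, zpow_one, zpow_mul, zpow_ofNat, hf3,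
      one_zpow, mul_one]
  rw [hkk] at h2
  exact mul_inv_eq_iff_eq_mul.1 h2

section Action

variable {S : Subgroup G} (hcard : Nat.card S = 9)
  (hC : Subgroup.centralizer (S : Set G) = S)
include hcard hC

theorem comm {a b : G} (ha : a ∈ S) (hb : b ∈ S) : a * b = b * a :=
  ((Subgroup.mem_centralizer_iff.1 (hC.symm.le ha)) b hb).symm

theorem mem_of_fix {t : G} (h : ∀ s ∈ S, Commute t s) : t ∈ S :=
  hC.le (Subgroup.mem_centralizer_iff.2 fun s hs => (h s hs).eq.symm)

theorem card_cases {F : Subgroup G} (hF : F ≤ S) :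
    F = ⊥ ∨ Nat.card F = 3 ∨ F = S := by
  have hd : Nat.card F ∣ 3 ^ 2 := by
    rw [show (3 : ℕ) ^ 2 = 9 by norm_num, ← hcard]
    exact Subgroup.card_dvd_of_le hF
  obtain ⟨i, hi, he⟩ := (Nat.dvd_prime_pow Nat.prime_three).1 hd
  interval_cases i
  · exact Or.inl (Subgroup.card_eq_one.1 (by simpa using he))
  · exact Or.inr (Or.inl (by simpa using he))
  · exact Or.inr (Or.inr (Subgroup.eq_of_le_of_card_ge hF (by rw [hcard, he]; norm_num)))

/-- An involutive automorphism without fixed points inverts. -/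
theorem inverts {t : G} (ht : ∀ s ∈ S, t * s * t⁻¹ ∈ S) (ht2 : t * t ∈ S)
    (hfpf : ∀ s ∈ S, Commute t s → s = 1) {s : G} (hs : s ∈ S) : t * s * t⁻¹ = s⁻¹ := by
  refine eq_inv_of_mul_eq_one_left (hfpf _ (mul_mem (ht s hs) hs) ?_)
  rw [commute_iff_eq, ← mul_inv_eq_iff_eq_mul]
  have h2 : t * t * s * (t * t)⁻¹ = s := mul_inv_eq_iff_eq_mul.2 (comm hcard hC ht2 hs)
  calc t * (t * s * t⁻¹ * s) * t⁻¹ = (t * t * s * (t * t)⁻¹) * (t * s * t⁻¹) := by group
    _ = s * (t * s * t⁻¹) := by rw [h2]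
    _ = t * s * t⁻¹ * s := comm hcard hC hs (ht s hs)

/-- If `h` induces an automorphism of order 4 then its square has no fixed point. -/
theorem no_fixed {h : G} (hn : ∀ s ∈ S, h * s * h⁻¹ ∈ S) (h4 : h * h * (h * h) ∈ S)
    (h2 : h * h ∉ S) {s : G} (hs : s ∈ S) (hc : Commute (h * h) s) : s = 1 := by
  set t := h * h with ht
  set C : Subgroup G := S ⊓ Subgroup.centralizer ({t} : Set G) with hCdef
  have htn : ∀ x ∈ S, t * x * t⁻¹ ∈ S := fun x hx => by
    have := hn _ (hn x hx)
    rwa [show h * (h * x * h⁻¹) * h⁻¹ = t * x * t⁻¹ by rw [ht]; group] at this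
  have hth : Commute h t := (Commute.refl h).mul_right (Commute.refl h)
  have hmem : ∀ x, x ∈ C ↔ x ∈ S ∧ Commute t x := fun x => by
    rw [hCdef, Subgroup.mem_inf, Subgroup.mem_centralizer_singleton_iff, commute_iff_eq, eq_comm (a := t * x)]
  have hCh : ∀ x ∈ C, h * x * h⁻¹ ∈ C := fun x hx => by
    rw [hmem] at hx ⊢
    exact ⟨hn x hx.1, (hth.symm.mul_right hx.2).mul_right hth.symm.inv_right⟩
  rcases card_cases hcard hC (F := C) inf_le_left with hb | h3 | hS
  · exact Subgroup.mem_bot.1 (hb ▸ (hmem s).2 ⟨hs, hc⟩)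
  · exfalso
    let I : Subgroup G :=
      { carrier := {x | x ∈ S ∧ t * x * t⁻¹ = x⁻¹}
        one_mem' := ⟨S.one_mem, by simp⟩
        mul_mem' := by
          rintro x y ⟨hx, ex⟩ ⟨hy, ey⟩
          refine ⟨mul_mem hx hy, ?_⟩
          rw [← conj_mul, ex, ey, mul_inv_rev]
          exact comm hcard hC (inv_mem hx) (inv_mem hy)
        inv_mem' := by
          rintro x ⟨hx, ex⟩
          exact ⟨inv_mem hx, by rw [← conj_inv, ex]⟩ }
    have hIS : I ≤ S := fun x hx => hx.1
    have hIC : ∀ x ∈ I, x ∈ C → x = 1 := fun x hx hxC => by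
      have e : x = x⁻¹ := by
        rw [← hx.2, eq_comm, mul_inv_eq_iff_eq_mul]
        exact ((hmem x).1 hxC).2.eq
      have h9 : x ^ 9 = 1 := by
        have := congrArg Subtype.val (pow_card_eq_one' (x := (⟨x, hx.1⟩ : S)))
        rwa [hcard, Subgroup.coe_pow] at this
      have hxx : x ^ 2 = 1 := by
        rw [pow_two]
        nth_rw 2 [e]
        exact mul_inv_cancel x
      simpa [pow_succ, hxx, show x ^ 9 = (x ^ 2) ^ 4 * x by group] using h9
    have hIh : ∀ x ∈ I, h * x * h⁻¹ ∈ I := fun x hx => ⟨hn x hx.1, by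
      calc t * (h * x * h⁻¹) * t⁻¹ = (t * h) * x * (t * h)⁻¹ := by group
        _ = (h * t) * x * (h * t)⁻¹ := by rw [hth.eq]
        _ = h * (t * x * t⁻¹) * h⁻¹ := by group
        _ = (h * x * h⁻¹)⁻¹ := by rw [hx.2]; group⟩
    rcases card_cases hcard hC hIS with hb | hI3 | hIeq
    · have : S ≤ C := fun x hx => by
        refine (hmem x).2 ⟨hx, ?_⟩
        have hy : x⁻¹ * (t * x * t⁻¹) ∈ I := by
          refine ⟨mul_mem (inv_mem hx) (htn x hx), ?_⟩
          have h2' : t * t * x * (t * t)⁻¹ = x :=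
            mul_inv_eq_iff_eq_mul.2 (comm hcard hC h4 hx)
          calc t * (x⁻¹ * (t * x * t⁻¹)) * t⁻¹ = (t * x * t⁻¹)⁻¹ * (t * t * x * (t * t)⁻¹) := by group
            _ = (x⁻¹ * (t * x * t⁻¹))⁻¹ := by rw [h2']; group
        rw [hb, Subgroup.mem_bot, inv_mul_eq_one] at hy
        exact (mul_inv_eq_iff_eq_mul.1 hy.symm)
      have := Subgroup.card_le_of_le this
      omega
    · have hIC' : I ≤ C := fun x hx => (hmem x).2 ⟨hx.1, sq_fix hI3 hIh hx⟩
      have : I = ⊥ := Subgroup.eq_bot_iff_forall _ |>.2 fun x hx => hIC x hx (hIC' hx)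
      rw [this, Subgroup.card_bot] at hI3
      omega
    · have : C = ⊥ := Subgroup.eq_bot_iff_forall _ |>.2 fun x hx =>
        hIC x (hIeq.symm.le ((hmem x).1 hx).1) hx
      rw [this, Subgroup.card_bot] at h3
      omega
  · exact absurd (mem_of_fix hcard hC fun x hx => ((hmem x).1 (hS.symm.le hx)).2) h2

/-- An element inducing an automorphism of order 4 acts irreducibly. -/
theorem irred {h : G} (hn : ∀ s ∈ S, h * s * h⁻¹ ∈ S) (h4 : h * h * (h * h) ∈ S)
    (h2 : h * h ∉ S) {F : Subgroup G} (hF : F ≤ S) (hFh : ∀ f ∈ F, h * f * h⁻¹ ∈ F) :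
    F = ⊥ ∨ F = S := by
  rcases card_cases hcard hC hF with hb | h3 | hS
  · exact Or.inl hb
  · refine Or.inl ((Subgroup.eq_bot_iff_forall _).2 fun x hx => ?_)
    exact no_fixed hcard hC hn h4 h2 (hF hx) (sq_fix h3 hFh hx)
  · exact Or.inr hS

/-- Such a group is elementary abelian. -/
theorem exponent_three {h : G} (hn : ∀ s ∈ S, h * s * h⁻¹ ∈ S) (h4 : h * h * (h * h) ∈ S)
    (h2 : h * h ∉ S) : ∀ a ∈ S, a ^ 3 = 1 := by
  haveI : Fact (Nat.Prime 3) := ⟨Nat.prime_three⟩
  let F : Subgroup G :=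
    { carrier := {x | x ∈ S ∧ x ^ 3 = 1}
      one_mem' := ⟨S.one_mem, one_pow _⟩
      mul_mem' := by
        rintro x y ⟨hx, ex⟩ ⟨hy, ey⟩
        exact ⟨mul_mem hx hy, by
          rw [(show Commute x y from comm hcard hC hx hy).mul_pow, ex, ey, one_mul]⟩
      inv_mem' := by
        rintro x ⟨hx, ex⟩
        exact ⟨inv_mem hx, by rw [inv_pow, ex, inv_one]⟩ }
  rcases irred hcard hC hn h4 h2 (F := F) (fun x hx => hx.1)
      (fun x hx => ⟨hn x hx.1, by rw [conj_pow, hx.2, mul_one, mul_inv_cancel]⟩) with hb | hS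
  · obtain ⟨a, ha⟩ := exists_prime_orderOf_dvd_card' (G := S) 3 (by rw [hcard]; norm_num)
    have : (a : G) ∈ F := ⟨a.2, by
      rw [← Subgroup.coe_pow, ← ha, pow_orderOf_eq_one, Subgroup.coe_one]⟩
    rw [hb, Subgroup.mem_bot, OneMemClass.coe_eq_one] at this
    rw [this, orderOf_one] at ha
    omega
  · exact fun a ha => (hS.symm.le ha).2

end Action

/-! ### An automorphism of the alternating group of degree 6 fixing an element of order 3 -/

theorem mem_range_of_fixed (ψ : MulAut ↥(alternatingGroup (Fin 6))) {a : alternatingGroup (Fin 6)}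
    (ha : orderOf a = 3) (hfix : ψ a = a) :
    ∃ σ : Perm (Fin 6), MulAut.conjNormal σ = ψ := by
  refine AutAlt.mem_range_of_threeCycle (by omega) _ fun g hg => ?_
  have hord : ∀ h : alternatingGroup (Fin 6), orderOf h = 3 →
      (h : Perm (Fin 6)).IsThreeCycle ∨ (h : Perm (Fin 6)).cycleType = {3, 3} := by
    intro h hh
    rw [← Subgroup.orderOf_coe] at hh
    obtain ⟨k, hk⟩ := Perm.cycleType_prime_order (σ := (h : Perm (Fin 6))) (hh ▸ Nat.prime_three)
    rw [hh] at hk
    have := Perm.sum_cycleType_le (h : Perm (Fin 6))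
    rw [hk, Multiset.sum_replicate, smul_eq_mul, Fintype.card_fin] at this
    rcases (show k = 0 ∨ k = 1 by omega) with rfl | rfl
    · exact Or.inl hk
    · exact Or.inr hk
  have hconj33 : ∀ a b : alternatingGroup (Fin 6), (a : Perm (Fin 6)).cycleType = {3, 3} →
      (b : Perm (Fin 6)).cycleType = {3, 3} → IsConj a b := by
    intro a b ha hb
    obtain ⟨π, hπ⟩ := isConj_iff.1 (Perm.isConj_iff_cycleType_eq.2 (ha.trans hb.symm))
    by_cases hs : π ∈ alternatingGroup (Fin 6)
    · exact isConj_iff.2 ⟨⟨π, hs⟩, Subtype.ext hπ⟩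
    · obtain ⟨c, hc, hcA⟩ := SetLike.not_le_iff_exists.1
        (show ¬ Subgroup.centralizer {(a : Perm (Fin 6))} ≤ alternatingGroup (Fin 6) by
          rw [Perm.centralizer_le_alternating_iff, ha]
          rintro ⟨-, -, h⟩
          have := h 3
          simp at this)
      refine isConj_iff.2 ⟨⟨π * c, ?_⟩, Subtype.ext ?_⟩
      · rw [Perm.mem_alternatingGroup] at hs hcA ⊢
        rw [map_mul, Int.units_ne_iff_eq_neg.1 hs, Int.units_ne_iff_eq_neg.1 hcA]
        rfl
      · simp only [Subgroup.coe_mul, Subgroup.coe_inv]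
        rw [mul_inv_rev, mul_assoc π, Subgroup.mem_centralizer_singleton_iff.1 hc]
        simpa [mul_assoc] using hπ
  have hg3 : orderOf g = 3 := by rw [← Subgroup.orderOf_coe, hg.orderOf]
  rcases hord (ψ g) (by rw [ψ.orderOf_eq, hg3]) with h1 | h1
  · exact h1
  rcases hord a ha with h2 | h2
  · exact AutAlt.isThreeCycle_of_isConj
      (hfix ▸ AutAlt.map_isConj ψ (alternatingGroup.isThreeCycle_isConj (by simp) h2 hg)) h2
  · exfalso
    have hcg : IsConj (ψ.symm (ψ g)) (ψ.symm (ψ a)) :=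
      AutAlt.map_isConj ψ.symm (hconj33 _ _ h1 (hfix.symm ▸ h2))
    rw [MulEquiv.symm_apply_apply, MulEquiv.symm_apply_apply] at hcg
    have := AutAlt.isThreeCycle_of_isConj hcg hg
    rw [Perm.IsThreeCycle, h2] at this
    simpa using congrArg Multiset.card this

/-! ### Sylow facts -/

theorem sylow_inf_normal_ne_bot (P : Sylow 3 G) (K : Subgroup G) [K.Normal] (h : 3 ∣ Nat.card K) :
    (P : Subgroup G) ⊓ K ≠ ⊥ := by
  haveI : Fact (Nat.Prime 3) := ⟨Nat.prime_three⟩
  obtain ⟨x, hx⟩ := exists_prime_orderOf_dvd_card' 3 h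
  rw [← Subgroup.orderOf_coe] at hx
  obtain ⟨U, hU⟩ := (IsPGroup.of_card (p := 3) (n := 1) (by rw [Nat.card_zpowers, hx, pow_one]) :
    IsPGroup 3 (Subgroup.zpowers (x : G))).exists_le_sylow
  obtain ⟨g, hg⟩ := MulAction.exists_smul_eq G U P
  intro hbot
  have h1 : g * x * g⁻¹ ∈ (P : Subgroup G) ⊓ K := by
    refine ⟨?_, Subgroup.Normal.conj_mem inferInstance _ x.2 g⟩
    rw [← hg, Sylow.coe_subgroup_smul]
    exact ⟨x, hU (Subgroup.mem_zpowers _), rfl⟩
  rw [hbot, Subgroup.mem_bot, conj_eq_one_iff] at h1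
  rw [h1, orderOf_one] at hx
  omega

theorem mem_sylow_of_normal (P : Sylow 3 G) (K : Subgroup G) [K.Normal]
    (h : ∀ k ∈ K, k ^ 9 = 1) : K ≤ P := by
  have hK : IsPGroup 3 K := fun k => ⟨2, Subtype.ext (by simpa using h k k.2)⟩
  exact sup_eq_right.mp <| P.is_maximal' (hK.to_sup_of_normal_left P.isPGroup') le_sup_right

/-! ### The main configuration -/

section Main

variable (P : Sylow 3 G) (hcard : Nat.card (P : Subgroup G) = 9)
  (hC : Subgroup.centralizer ((P : Subgroup G) : Set G) = P)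
  (hcent : ∀ x ∈ (P : Subgroup G), x ≠ 1 →
    Subgroup.centralizer ({x} : Set G) ≤ Subgroup.normalizer ((P : Subgroup G) : Set G))
include hcard hC hcent


theorem coprime_eq_bot (hexp : ∀ a ∈ (P : Subgroup G), a ^ 3 = 1) (K : Subgroup G)
    (hSK : (P : Subgroup G) ≤ Subgroup.normalizer (K : Set G)) (h3 : ¬ 3 ∣ Nat.card K) : K = ⊥ := by
  haveI : IsMulCommutative (P : Subgroup G) :=
    ⟨⟨fun a b => Subtype.ext (comm hcard hC a.2 b.2)⟩⟩
  have hnc : ¬ IsCyclic (P : Subgroup G) := by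
    intro hc
    obtain ⟨g, hg⟩ := hc.exists_ofOrder_eq_natCard
    have : orderOf g ∣ 3 := orderOf_dvd_of_pow_eq_one (Subtype.ext (by simpa using hexp g g.2))
    rw [hg, hcard] at this
    norm_num at this
  have hcop : (Nat.card (P : Subgroup G)).Coprime (Nat.card K) := by
    rw [hcard, show (9 : ℕ) = 3 ^ 2 by norm_num]
    exact ((Nat.Prime.coprime_iff_not_dvd Nat.prime_three).2 h3).pow_left 2
  have hSKi : (P : Subgroup G) ⊓ K = ⊥ := Subgroup.disjoint_of_coprime_natCard hcop |>.eq_bot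
  rw [eq_bot_iff, ← CoprimeAct.generated_by_centralizers hnc hSK hcop]
  refine iSup₂_le fun a ha => fun k hk => ?_
  obtain ⟨hkK, hkc⟩ := hk
  have hkN := hcent a ha.1 ha.2 hkc
  have hkS : k ∈ (P : Subgroup G) := mem_of_fix hcard hC fun s hs => by
    have h1 : k * s * k⁻¹ * s⁻¹ ∈ (P : Subgroup G) ⊓ K := by
      refine Subgroup.mem_inf.2 ⟨mul_mem ((Subgroup.mem_normalizer_iff.1 hkN s).1 hs) (inv_mem hs), ?_⟩
      rw [show k * s * k⁻¹ * s⁻¹ = k * (s * k⁻¹ * s⁻¹) by group]
      exact mul_mem hkK ((Subgroup.mem_normalizer_iff.1 (hSK hs) _).1 (inv_mem hkK))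
    rw [hSKi, Subgroup.mem_bot, mul_inv_eq_one, mul_inv_eq_iff_eq_mul] at h1
    exact h1
  exact hSKi ▸ ⟨hkS, hkK⟩

variable (π : ↥(Subgroup.normalizer ((P : Subgroup G) : Set G)) →* DihedralGroup 4) (hπ : Function.Surjective π)
  (hker : ∀ x : ↥(Subgroup.normalizer ((P : Subgroup G) : Set G)), π x = 1 ↔ (x : G) ∈ (P : Subgroup G))
include hπ hker

theorem exists_quarter : ∃ h : ↥(Subgroup.normalizer ((P : Subgroup G) : Set G)), π h = .r 1 ∧ (∀ s ∈ (P : Subgroup G), (h : G) * s * (h : G)⁻¹ ∈ (P : Subgroup G)) ∧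
    (h : G) * h * ((h : G) * h) ∈ (P : Subgroup G) ∧ (h : G) * h ∉ (P : Subgroup G) := by
  obtain ⟨h, hh⟩ := hπ (.r 1)
  refine ⟨h, hh, fun s hs => (Subgroup.mem_normalizer_iff.1 h.2 s).1 hs, ?_, ?_⟩
  · refine (hker (h * h * (h * h))).1 ?_
    rw [map_mul, map_mul, hh]
    decide
  · intro e
    have e' := (hker (h * h)).2 e
    rw [map_mul, hh] at e'
    exact absurd e' (by decide)

theorem minimal_simple (hns : ¬ Subgroup.Normal (P : Subgroup G)) :
    ∃ M : Subgroup G, M.Normal ∧ (P : Subgroup G) ≤ M ∧ IsSimpleGroup M := by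
  haveI : Fact (Nat.Prime 3) := ⟨Nat.prime_three⟩
  obtain ⟨h, -, hn, h4, h2⟩ := exists_quarter P hcard hC hcent π hπ hker
  have hexp := exponent_three hcard hC hn h4 h2
  have hGne : ({K : Subgroup G | K.Normal ∧ K ≠ ⊥}).Nonempty := by
    refine ⟨⊤, inferInstance, fun e => ?_⟩
    have := Subgroup.card_le_of_le (le_top : (P : Subgroup G) ≤ ⊤)
    rw [e, Subgroup.card_bot, hcard] at this
    omega
  obtain ⟨M, ⟨hMn, hM0⟩, hmin⟩ := wellFounded_lt.has_min _ hGne
  haveI := hMn
  have h3 : 3 ∣ Nat.card M := by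
    by_contra h3
    exact hM0 (coprime_eq_bot P hcard hC hcent hexp M
      (fun s _ => by rw [Subgroup.normalizer_eq_top]; trivial) h3)
  have hSM : (P : Subgroup G) ≤ M := by
    rcases irred hcard hC hn h4 h2 (F := (P : Subgroup G) ⊓ M) inf_le_left (fun f hf =>
      ⟨hn f hf.1, hMn.conj_mem f hf.2 (h : G)⟩) with hb | hS
    · exact absurd hb (sylow_inf_normal_ne_bot P M h3)
    · exact hS.symm.le.trans inf_le_right
  refine ⟨M, hMn, hSM, ?_⟩
  have hmin' : ∀ K : Subgroup G, K.Normal → K ≠ ⊥ → K ≤ M → K = M := fun K hK hK0 hle =>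
    eq_of_le_of_not_lt hle (hmin K ⟨hK, hK0⟩)
  have hne : ({K : Subgroup M | K.Normal ∧ K ≠ ⊥}).Nonempty := by
    refine ⟨⊤, inferInstance, fun e => hM0 ?_⟩
    rw [← Subgroup.range_subtype M, MonoidHom.range_eq_map, e, Subgroup.map_bot]
  obtain ⟨T, ⟨hTn, hT0⟩, hTmin⟩ := wellFounded_lt.has_min _ hne
  haveI := hTn
  have hTmin' : ∀ K : Subgroup M, K.Normal → K ≠ ⊥ → K ≤ T → K = T := fun K hK hK0 hle =>
    eq_of_le_of_not_lt hle (hTmin K ⟨hK, hK0⟩)
  by_cases hfix : ∀ g : G, T.map (MulAut.conjNormal g : MulAut M).toMonoidHom = T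
  · have hTtop : T = ⊤ := by
      have hn' : (T.map M.subtype).Normal := ⟨by
        rintro _ ⟨y, hy, rfl⟩ g
        refine ⟨MulAut.conjNormal g y, (hfix g).le ⟨y, hy, rfl⟩, ?_⟩
        simp⟩
      have := hmin' _ hn' (fun e => hT0 ((Subgroup.map_eq_bot_iff_of_injective _
        M.subtype_injective).1 e)) (Subgroup.map_subtype_le _)
      rw [eq_top_iff]
      intro x _
      obtain ⟨y, hy, e⟩ := this.symm.le x.2
      rwa [← M.subtype_injective e]
    haveI : Nontrivial M := (Subgroup.nontrivial_iff_ne_bot M).2 hM0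
    refine { eq_bot_or_eq_top_of_normal := fun K hK => ?_ }
    by_cases hK0 : K = ⊥
    · exact Or.inl hK0
    · exact Or.inr ((hTmin' K hK hK0 (hTtop ▸ le_top)).trans hTtop)
  exfalso
  push Not at hfix
  obtain ⟨g, hg⟩ := hfix
  set φ : MulAut M := MulAut.conjNormal g with hφ
  set T' := T.map φ.toMonoidHom with hT'
  haveI hT'n : T'.Normal := hTn.map _ φ.surjective
  have hT'0 : T' ≠ ⊥ := fun e => hT0 ((Subgroup.map_eq_bot_iff_of_injective _ φ.injective).1 e)
  have hcardT : Nat.card T' = Nat.card T := Subgroup.card_map_of_injective φ.injective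
  have hdisj : T ⊓ T' = ⊥ := by
    by_contra h0
    have := hTmin' (T ⊓ T') inferInstance h0 inf_le_left
    exact hg (Subgroup.eq_of_le_of_card_ge (inf_eq_left.1 this) hcardT.le).symm
  have h3T : 3 ∣ Nat.card T := by
    by_contra h3T
    refine hT0 ((Subgroup.map_eq_bot_iff_of_injective _ M.subtype_injective).1
      (coprime_eq_bot P hcard hC hcent hexp _ ?_ (by rwa [Subgroup.card_map_of_injective
        M.subtype_injective])))
    refine hSM.trans ?_
    intro m hm
    rw [Subgroup.mem_normalizer_iff]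
    have key : ∀ (m' : M) (x : G), x ∈ T.map M.subtype →
        (m' : G) * x * (m' : G)⁻¹ ∈ T.map M.subtype := by
      rintro m' _ ⟨y, hy, rfl⟩
      exact ⟨m' * y * m'⁻¹, hTn.conj_mem y hy m', by simp⟩
    intro x
    refine ⟨key ⟨m, hm⟩ x, fun hx => ?_⟩
    have := key ⟨m⁻¹, inv_mem hm⟩ _ hx
    simpa [mul_assoc] using this
  let P' : Sylow 3 M := P.subtype hSM
  obtain ⟨a, ha, ha1⟩ := (Subgroup.ne_bot_iff_exists_ne_one.1
    (sylow_inf_normal_ne_bot P' T h3T) |>.elim fun a ha => ⟨(a : M), a.2, fun e => ha (Subtype.ext e)⟩ :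
      ∃ a : M, a ∈ (P' : Subgroup M) ⊓ T ∧ a ≠ 1)
  have haS : (a : G) ∈ (P : Subgroup G) := Subgroup.mem_subgroupOf.1 (by
    have := ha.1; rwa [Sylow.coe_subtype] at this)
  have hT'N : ∀ y ∈ T', (y : G) ∈ (Subgroup.normalizer ((P : Subgroup G) : Set G)) := fun y hy => by
    refine hcent _ haS (fun e => ha1 (Subtype.ext e)) ?_
    rw [Subgroup.mem_centralizer_singleton_iff]
    exact (congrArg Subtype.val (Subgroup.commute_of_normal_of_disjoint T T' hTn hT'n
      (disjoint_iff.2 hdisj) a y ha.2 hy).eq).symm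
  have hS9 : ∀ s ∈ (P : Subgroup G), s ^ 9 = 1 := fun s hs => by
    rw [show s ^ 9 = (s ^ 3) ^ 3 by rw [← pow_mul], hexp s hs, one_pow]
  have hchar : ∀ y ∈ T', ((y : G) ∈ (P : Subgroup G) ↔ (y : G) ^ 9 = 1) := fun y hy => by
    refine ⟨hS9 _, fun e => (hker ⟨y, hT'N y hy⟩).1 ?_⟩
    have h9 : π ⟨y, hT'N y hy⟩ ^ 9 = 1 := by
      rw [← map_pow, show (⟨(y : G), hT'N y hy⟩ : ↥(Subgroup.normalizer ((P : Subgroup G) : Set G))) ^ 9 = 1 from Subtype.ext e, map_one]
    have h8 : ∀ d : DihedralGroup 4, d ^ 9 = d := by decide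
    rwa [h8] at h9
  let U : Subgroup M := T' ⊓ (P' : Subgroup M)
  have hUn : U.Normal := ⟨fun y hy m => by
    have hmy := hT'n.conj_mem y hy.1 m
    refine ⟨hmy, ?_⟩
    show m * y * m⁻¹ ∈ (P' : Subgroup M)
    rw [Sylow.coe_subtype, Subgroup.mem_subgroupOf, hchar _ hmy]
    have hyS : (y : G) ∈ (P : Subgroup G) := Subgroup.mem_subgroupOf.1 (by
      have := hy.2; rwa [Sylow.coe_subtype] at this)
    simp [conj_pow, hS9 _ hyS]⟩
  have hU0 : U ≠ ⊥ := by
    have := sylow_inf_normal_ne_bot P' T' (hcardT ▸ h3T)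
    rwa [inf_comm] at this
  -- `T'` is minimal normal
  have hT'min : U = T' := by
    have h1 : U.map φ.symm.toMonoidHom ≤ T := by
      rintro _ ⟨y, hy, rfl⟩
      obtain ⟨z, hz, rfl⟩ := hy.1
      simpa using hz
    have h2 := hTmin' _ (hUn.map _ φ.symm.surjective)
      (fun e => hU0 ((Subgroup.map_eq_bot_iff_of_injective _ φ.symm.injective).1 e)) h1
    refine Subgroup.eq_of_le_of_card_ge inf_le_left ?_
    rw [hcardT, ← h2]
    exact le_of_eq (Subgroup.card_map_of_injective φ.symm.injective)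
  have hcore : M ≤ (P : Subgroup G) := by
    obtain ⟨y, hy, hy1⟩ := (Subgroup.ne_bot_iff_exists_ne_one.1 hT'0 |>.elim fun a ha =>
      ⟨(a : M), a.2, fun e => ha (Subtype.ext e)⟩ : ∃ y : M, y ∈ T' ∧ y ≠ 1)
    have hconj : ∀ f : G, f * (y : G) * f⁻¹ ∈ (P : Subgroup G) := fun f => by
      set ρ : MulAut M := MulAut.conjNormal f
      haveI : (T'.map ρ.toMonoidHom).Normal := hT'n.map _ ρ.surjective
      have h9 : ∀ k ∈ T'.map ρ.toMonoidHom, k ^ 9 = 1 := by
        rintro _ ⟨z, hz, rfl⟩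
        have hzS : z ∈ (P' : Subgroup M) := (hT'min.symm.le hz).2
        rw [Sylow.coe_subtype, Subgroup.mem_subgroupOf] at hzS
        rw [← map_pow, show z ^ 9 = 1 from Subtype.ext (hS9 _ hzS), map_one]
      have := mem_sylow_of_normal P' _ h9 ⟨y, hy, rfl⟩
      rw [Sylow.coe_subtype, Subgroup.mem_subgroupOf] at this
      simpa [ρ] using this
    have hy' : (y : G) ∈ Subgroup.normalCore (P : Subgroup G) := hconj
    have hle : Subgroup.normalCore (P : Subgroup G) ≤ M := (Subgroup.normalCore_le (P : Subgroup G)).trans hSM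
    have := hmin' _ inferInstance (fun e => hy1 (Subtype.ext (Subgroup.mem_bot.1 (e ▸ hy')))) hle
    rw [← this]
    exact Subgroup.normalCore_le (P : Subgroup G)
  exact hns (le_antisymm hcore hSM ▸ hMn)

theorem main (hns : ¬ Subgroup.Normal (P : Subgroup G)) : Nonempty (G ≃* Equiv.Perm (Fin 6)) := by
  haveI : Fact (Nat.Prime 3) := ⟨Nat.prime_three⟩
  obtain ⟨h, hh, hn, h4, h2⟩ := exists_quarter P hcard hC hcent π hπ hker
  have hexp := exponent_three hcard hC hn h4 h2
  obtain ⟨M, hMn, hSM, hMs⟩ := minimal_simple P hcard hC hcent π hπ hker hns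
  haveI := hMn
  haveI := hMs
  let P' : Sylow 3 M := P.subtype hSM
  have hP' : (P' : Subgroup M) = (P : Subgroup G).subgroupOf M := P.coe_subtype hSM
  have hmemP : ∀ y : M, y ∈ (P' : Subgroup M) ↔ (y : G) ∈ (P : Subgroup G) := fun y => by
    rw [hP', Subgroup.mem_subgroupOf]
  have hcard' : Nat.card (P' : Subgroup M) = 9 := by
    rw [hP', Nat.card_congr (Subgroup.subgroupOfEquivOfLe hSM).toEquiv, hcard]
  have hexp' : ∀ a ∈ (P' : Subgroup M), a ^ 3 = 1 := fun a ha => by
    rw [hP', Subgroup.mem_subgroupOf] at ha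
    exact Subtype.ext (by simpa using hexp _ ha)
  have hC' : Subgroup.centralizer ((P' : Subgroup M) : Set M) = P' := by
    ext x
    rw [hP', Subgroup.mem_centralizer_iff, Subgroup.mem_subgroupOf]
    refine ⟨fun hx => mem_of_fix hcard hC fun s hs => ?_, fun hx y hy => ?_⟩
    · exact (congrArg Subtype.val (hx ⟨s, hSM hs⟩ (Subgroup.mem_subgroupOf.2 hs))).symm
    · exact Subtype.ext (comm hcard hC (Subgroup.mem_subgroupOf.1 hy) hx)
  have hN' : Subgroup.normalizer ((P' : Subgroup M) : Set M) = ((Subgroup.normalizer ((P : Subgroup G) : Set G))).subgroupOf M := by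
    rw [hP', Subgroup.subgroupOf_normalizer_eq hSM]
  have hcent' : ∀ t ∈ (P' : Subgroup M), t ≠ 1 → Subgroup.centralizer ({t} : Set M) ≤
      Subgroup.normalizer ((P' : Subgroup M) : Set M) := fun t ht ht1 x hx => by
    rw [hN', Subgroup.mem_subgroupOf]
    rw [hP', Subgroup.mem_subgroupOf] at ht
    refine hcent _ ht (fun e => ht1 (Subtype.ext e)) ?_
    rw [Subgroup.mem_centralizer_singleton_iff] at hx ⊢
    exact congrArg Subtype.val hx
  have hMnc : ¬ Subgroup.normalizer ((P' : Subgroup M) : Set M) = ⊤ := by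
    intro e
    have hn' : (P' : Subgroup M).Normal := Subgroup.normalizer_eq_top_iff.1 e
    rcases hn'.eq_bot_or_eq_top with e0 | e0
    · rw [e0, Subgroup.card_bot] at hcard'; omega
    · refine hns ?_
      have : M = (P : Subgroup G) := le_antisymm (fun x hx => Subgroup.mem_subgroupOf.1
        (hP' ▸ e0 ▸ Subgroup.mem_top (⟨x, hx⟩ : M))) hSM
      exact this ▸ hMn
  -- the automizer inside `M`
  let L : Subgroup ↥(Subgroup.normalizer ((P : Subgroup G) : Set G)) := M.subgroupOf (Subgroup.normalizer ((P : Subgroup G) : Set G))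
  set K : Subgroup (DihedralGroup 4) := L.map π with hK
  haveI hKn : K.Normal := (Subgroup.Normal.comap hMn _ : L.Normal).map π hπ
  have hkerL : π.ker ≤ L := fun x hx => Subgroup.mem_subgroupOf.2 (hSM ((hker x).1 hx))
  have hKidx : K.index = L.index := L.index_map_eq hπ hkerL
  have hKmem : ∀ x : ↥(Subgroup.normalizer ((P : Subgroup G) : Set G)), (x : G) ∈ M ↔ π x ∈ K := fun x => by
    refine ⟨fun hx => ⟨x, Subgroup.mem_subgroupOf.2 hx, rfl⟩, fun hx => ?_⟩
    obtain ⟨y, hy, e⟩ := hx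
    have := hkerL (show y⁻¹ * x ∈ π.ker by rw [MonoidHom.mem_ker, map_mul, map_inv, e, inv_mul_cancel])
    have := mul_mem hy this
    rw [mul_inv_cancel_left] at this
    exact Subgroup.mem_subgroupOf.1 this
  let π' : ↥(Subgroup.normalizer ((P' : Subgroup M) : Set M)) →* DihedralGroup 4 :=
    π.comp
      { toFun := fun x => ⟨((x : M) : G), Subgroup.mem_subgroupOf.1 (hN'.le x.2)⟩
        map_one' := rfl
        map_mul' := fun _ _ => rfl }
  have hπ'ker : π'.ker = (P' : Subgroup M).subgroupOf (Subgroup.normalizer ((P' : Subgroup M) : Set M)) := by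
    ext x
    rw [MonoidHom.mem_ker, Subgroup.mem_subgroupOf, hmemP]
    exact hker _
  have hπ'range : π'.range = K := by
    ext d
    constructor
    · rintro ⟨x, rfl⟩
      exact (hKmem _).1 ((x : M)).2
    · rintro ⟨x, hx, rfl⟩
      exact ⟨⟨⟨x, Subgroup.mem_subgroupOf.1 hx⟩, hN'.ge (Subgroup.mem_subgroupOf.2 x.2)⟩, rfl⟩
  have hNcard : Nat.card ↥(Subgroup.normalizer ((P' : Subgroup M) : Set M)) = 9 * Nat.card K := by
    rw [← π'.ker.card_mul_index, Subgroup.index_ker, hπ'range, hπ'ker,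
      Nat.card_congr (Subgroup.subgroupOfEquivOfLe Subgroup.le_normalizer).toEquiv, hcard']
  have hKdvd : Nat.card K ∣ 8 := by
    have := K.card_subgroup_dvd_card
    rwa [DihedralGroup.nat_card] at this
  -- trivial automizer
  have hK1 : Nat.card K ≠ 1 := by
    intro h1
    have hle : Subgroup.normalizer ((P' : Subgroup M) : Set M) ≤
        Subgroup.centralizer ((P' : Subgroup M) : Set M) := by
      refine le_of_le_of_eq (le_of_eq ?_) hC'.symm
      exact (Subgroup.eq_of_le_of_card_ge Subgroup.le_normalizer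
        (by rw [hNcard, h1, hcard'])).symm
    have hco := MonoidHom.ker_transferSylow_isComplement' P' hle
    rcases (inferInstance : (MonoidHom.transferSylow P' hle).ker.Normal).eq_bot_or_eq_top
      with e | e
    · rw [e, Subgroup.isComplement'_bot_left] at hco
      exact hMnc (eq_top_iff.2 (hco.symm.le.trans Subgroup.le_normalizer))
    · rw [e, Subgroup.isComplement'_top_left] at hco
      rw [hco, Subgroup.card_bot] at hcard'; omega
  -- full automizer
  have hK8 : Nat.card K ≠ 8 := by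
    intro h8
    refine Cfsg.Agent.S3716.result P' hcard' hexp' hC' _ rfl
      (fun g hg hg1 => hcent' g hg hg1) (fun Q => ?_) hMs
    have hQ8 : Nat.card Q = 8 := by
      haveI : Fact (Nat.Prime 2) := ⟨Nat.prime_two⟩
      rw [Q.card_eq_multiplicity, hNcard, h8]
      have : (9 * 8).factorization 2 = 3 := by
        rw [Nat.factorization_def _ Nat.prime_two]
        rw [show (9 * 8 : ℕ) = 2 ^ 3 * 9 by norm_num, padicValNat.mul (by norm_num) (by norm_num),
          padicValNat.prime_pow, padicValNat.eq_zero_of_not_dvd (by norm_num)]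
      rw [this]; norm_num
    refine ⟨MulEquiv.ofBijective (π'.comp (Q : Subgroup _).subtype)
      ((Nat.bijective_iff_injective_and_card _).2 ⟨?_, by rw [hQ8, DihedralGroup.nat_card]⟩)⟩
    rw [← MonoidHom.ker_eq_bot_iff, Subgroup.eq_bot_iff_forall]
    intro x hx
    have hxk : (x : ↥(Subgroup.normalizer ((P' : Subgroup M) : Set M))) ∈ π'.ker := hx
    rw [hπ'ker, Subgroup.mem_subgroupOf] at hxk
    have h9 : orderOf x ∣ 9 := by
      rw [← Subgroup.orderOf_coe, ← Subgroup.orderOf_coe]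
      exact (hcard' ▸ Subgroup.orderOf_dvd_natCard _ hxk)
    have h8' : orderOf x ∣ 8 := hQ8 ▸ orderOf_dvd_natCard x
    exact orderOf_eq_one_iff.1 (Nat.dvd_one.1 (by simpa using Nat.dvd_gcd h9 h8'))
  -- Klein automizer
  have hKlein : Nat.card K = 4 → ∃ z ∈ K, z * z ≠ 1 := by
    intro h4'
    by_contra hcon
    push Not at hcon
    refine hMnc (Cfsg.Agent.S3805.result P' ⟨⟨⟨fun a b => Subtype.ext ?_⟩⟩, hexp'⟩ hcard' hC' ?_
      hcent')
    · exact comm hcard' hC' a.2 b.2
    · set X := Subgroup.normalizer ((P' : Subgroup M) : Set M)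
      have hq : Nat.card (↥X ⧸ (P' : Subgroup M).subgroupOf X) = 4 := by
        have hm := ((P' : Subgroup M).subgroupOf X).card_mul_index
        rw [Nat.card_congr (Subgroup.subgroupOfEquivOfLe Subgroup.le_normalizer).toEquiv, hcard',
          hNcard, h4', Subgroup.index_eq_card] at hm
        omega
      refine ⟨hq, ?_⟩
      haveI : Nontrivial (↥X ⧸ (P' : Subgroup M).subgroupOf X) :=
        Finite.one_lt_card_iff_nontrivial.1 (by omega)
      refine (Monoid.exponent_eq_prime_iff Nat.prime_two).2 fun q hq1 => ?_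
      refine orderOf_eq_prime ?_ hq1
      induction q using QuotientGroup.induction_on with
      | H x =>
        rw [← QuotientGroup.mk_pow, QuotientGroup.eq_one_iff, ← hπ'ker, MonoidHom.mem_ker,
          map_pow, pow_two]
        exact hcon _ (hπ'range ▸ ⟨x, rfl⟩)
  -- the possible automizers consist of rotations
  have hKrot : ∀ d ∈ K, ∃ i, d = DihedralGroup.r i := by
    intro d hd
    by_contra hcon
    push Not at hcon
    obtain ⟨i, rfl⟩ : ∃ i, d = DihedralGroup.sr i := by
      rcases d with i | i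
      · exact absurd rfl (hcon i)
      · exact ⟨i, rfl⟩
    have hc : DihedralGroup.r 1 * DihedralGroup.sr i * (DihedralGroup.r 1)⁻¹ ∈ K :=
      hKn.conj_mem _ hd _
    have hprod := mul_mem hd hc
    have e2 : ∀ j : ZMod 4, DihedralGroup.sr j * (DihedralGroup.r 1 * DihedralGroup.sr j *
        (DihedralGroup.r 1)⁻¹) = DihedralGroup.r 2 := by decide
    rw [e2] at hprod
    rcases (Nat.dvd_prime_pow Nat.prime_two).1 (show Nat.card K ∣ 2 ^ 3 from hKdvd) with ⟨k, hk, e⟩
    interval_cases k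
    · exact hK1 (by simpa using e)
    · -- order two
      classical
      have h3e : ∀ j : ZMod 4, (DihedralGroup.sr j ≠ (1 : DihedralGroup 4)) ∧
          DihedralGroup.sr j ≠ DihedralGroup.r 2 := by decide
      have hsub : ({1, DihedralGroup.sr i, DihedralGroup.r 2} : Set (DihedralGroup 4)) ⊆ K := by
        simp [Set.insert_subset_iff, hd, hprod, K.one_mem]
      have := Nat.card_mono (Set.toFinite _) hsub
      rw [Nat.card_coe_set_eq, Set.ncard_eq_three.2 ⟨1, DihedralGroup.sr i, DihedralGroup.r 2,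
        (h3e i).1.symm, by decide, (h3e i).2, rfl⟩] at this
      simp only [SetLike.coe_sort_coe] at this
      omega
    · obtain ⟨z, hz, hzz⟩ := hKlein (by simpa using e)
      have hz' : z = DihedralGroup.r 1 ∨ z = DihedralGroup.r 3 :=
        (show ∀ z : DihedralGroup 4, z * z ≠ 1 → z = .r 1 ∨ z = .r 3 by decide) z hzz
      have hr1 : DihedralGroup.r 1 ∈ K := by
        rcases hz' with rfl | rfl
        · exact hz
        · have := pow_mem hz 3
          rwa [show (DihedralGroup.r 3 : DihedralGroup 4) ^ 3 = DihedralGroup.r 1 by decide] at this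
      have hgen : ∀ x : DihedralGroup 4, ∃ a : Fin 4, ∃ b : Fin 2,
          x = DihedralGroup.r 1 ^ a.val * DihedralGroup.sr i ^ b.val :=
        (show ∀ (j : ZMod 4) (x : DihedralGroup 4), ∃ a : Fin 4, ∃ b : Fin 2,
          x = DihedralGroup.r 1 ^ a.val * DihedralGroup.sr j ^ b.val by decide) i
      have : K = ⊤ := eq_top_iff.2 fun x _ => by
        obtain ⟨a, b, rfl⟩ := hgen x
        exact mul_mem (pow_mem hr1 _) (pow_mem hd _)
      rw [this, Subgroup.card_top, DihedralGroup.nat_card] at e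
      norm_num at e
    · exact hK8 (by simpa using e)
  -- nonidentity elements have centralizer `(P : Subgroup G)` in `M`
  have hcentS : ∀ s ∈ (P' : Subgroup M), s ≠ 1 →
      Subgroup.centralizer ({s} : Set M) = P' := by
    intro s hs hs1
    refine le_antisymm (fun g hg => ?_) (fun g hg => ?_)
    · have hgN := hcent' s hs hs1 hg
      rw [hN', Subgroup.mem_subgroupOf] at hgN
      rw [Subgroup.mem_centralizer_singleton_iff] at hg
      rw [hP', Subgroup.mem_subgroupOf]
      rw [hP', Subgroup.mem_subgroupOf] at hs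
      by_contra hgS
      obtain ⟨i, hi⟩ := hKrot _ ((hKmem ⟨g, hgN⟩).1 g.2)
      have hi0 : i ≠ 0 := fun e => hgS ((hker ⟨g, hgN⟩).1 (by rw [hi, e]; rfl))
      have hgs : Commute (g : G) (s : G) := congrArg Subtype.val hg
      have hfin : ∀ u : ↥(Subgroup.normalizer ((P : Subgroup G) : Set G)), π u = .r 2 → Commute (u : G) (s : G) → False := fun u hu huc => by
        refine hs1 (Subtype.ext (no_fixed hcard hC hn h4 h2 hs ?_))
        have hw : (u : G)⁻¹ * ((h : G) * h) ∈ (P : Subgroup G) := (hker (u⁻¹ * (h * h))).1 (by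
          rw [map_mul, map_inv, map_mul, hu, hh]; decide)
        have := huc.mul_left (show Commute ((u : G)⁻¹ * ((h : G) * h)) (s : G) from
          comm hcard hC hw hs)
        rwa [mul_inv_cancel_left] at this
      rcases (show ∀ j : ZMod 4, j ≠ 0 → j = 2 ∨ j + j = 2 by decide) i hi0 with e | e
      · exact hfin ⟨g, hgN⟩ (by rw [hi, e]) hgs
      · exact hfin (⟨g, hgN⟩ * ⟨g, hgN⟩) (by rw [map_mul, hi, DihedralGroup.r_mul_r, e])
          (hgs.mul_left hgs)
    · rw [Subgroup.mem_centralizer_singleton_iff]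
      exact comm hcard' hC' hg hs
  have hKle : Nat.card K ≤ 4 := by
    have := Nat.le_of_dvd (by norm_num) hKdvd
    obtain ⟨k, hk, e⟩ := (Nat.dvd_prime_pow Nat.prime_two).1 (show Nat.card K ∣ 2 ^ 3 from hKdvd)
    interval_cases k <;> simp_all
  -- two classes
  haveI hScomm : IsMulCommutative (P' : Subgroup M) :=
    ⟨⟨fun a b => Subtype.ext (comm hcard' hC' a.2 b.2)⟩⟩
  have hclasses : ∃ a b : M, orderOf a = 3 ∧ orderOf b = 3 ∧ ∀ g : M, g * a * g⁻¹ ≠ b := by
    classical
    obtain ⟨a, ha⟩ := exists_prime_orderOf_dvd_card' (G := (P' : Subgroup M)) 3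
      (by rw [hcard']; norm_num)
    rw [← Subgroup.orderOf_coe] at ha
    let f : K → (P' : Subgroup M) := fun k =>
      let x := (hπ'range.symm.le k.2).choose
      ⟨(x : M) * a * (x : M)⁻¹, (Subgroup.mem_normalizer_iff.1 x.2 _).1 a.2⟩
    obtain ⟨b, hb⟩ : ∃ b : (P' : Subgroup M), b ≠ 1 ∧ b ∉ Set.range f := by
      by_contra hcon
      push Not at hcon
      have hu : (Set.univ : Set (P' : Subgroup M)) ⊆ insert 1 (Set.range f) := fun b _ => by
        by_cases hb : b = 1
        · exact Or.inl hb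
        · exact Or.inr (hcon b hb)
      have h' := (Set.ncard_le_ncard hu).trans (Set.ncard_insert_le _ _)
      have hr : (Set.range f).ncard ≤ Nat.card K := by
        rw [← Nat.card_coe_set_eq]
        exact Finite.card_range_le f
      rw [Set.ncard_univ, hcard'] at h'
      omega
    refine ⟨a, b, ha, ?_, fun g e => hb.2 ?_⟩
    · exact orderOf_eq_prime (hexp' b b.2) (fun e => hb.1 (Subtype.ext e))
    obtain ⟨n, hn', en⟩ := P'.conj_eq_normalizer_conj_of_mem (a : M) g⁻¹ a.2
      (by rw [inv_inv, e]; exact b.2)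
    rw [inv_inv, e] at en
    have hk : π' ⟨n⁻¹, inv_mem hn'⟩ ∈ K := hπ'range.le ⟨_, rfl⟩
    refine ⟨⟨_, hk⟩, Subtype.ext ?_⟩
    have q1 : ∃ x, π' x = π' ⟨n⁻¹, inv_mem hn'⟩ := hπ'range.symm.le hk
    show (q1.choose : M) * a * (q1.choose : M)⁻¹ = b
    have hw : (n : M) * (q1.choose : M) ∈ (P' : Subgroup M) := by
      have hq : q1.choose * ⟨n, hn'⟩ ∈ π'.ker := by
        rw [MonoidHom.mem_ker, map_mul, q1.choose_spec, ← map_mul]
        exact (congrArg π' (Subtype.ext (inv_mul_cancel n))).trans (map_one π')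
      rw [hπ'ker, Subgroup.mem_subgroupOf] at hq
      have := (Subgroup.mem_normalizer_iff.1 hn' _).1 hq
      simpa [mul_assoc] using this
    rw [en]
    have hcm : Commute ((n : M) * (q1.choose : M)) (a : M) := comm hcard' hC' hw a.2
    calc (q1.choose : M) * a * (q1.choose : M)⁻¹
        = n⁻¹ * (((n : M) * q1.choose) * a * ((n : M) * q1.choose)⁻¹) * n := by group
      _ = n⁻¹ * a * n := by rw [hcm.eq, mul_inv_cancel_right]
  obtain ⟨φ⟩ := Cfsg.Agent.S3341.result P' (P' : Subgroup M) rfl hScomm hexp' hcard' hclasses hcentS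
  have hM360 : Nat.card M = 360 := by
    rw [Nat.card_congr φ.toEquiv, nat_card_alternatingGroup, Nat.card_fin]
    rfl
  -- the automizer has order four
  have hK4 : Nat.card K = 4 := by
    obtain ⟨k, hk, e⟩ := (Nat.dvd_prime_pow Nat.prime_two).1 (show Nat.card K ∣ 2 ^ 3 from hKdvd)
    interval_cases k
    · exact absurd (by simpa using e) hK1
    · exfalso
      have hm := (Subgroup.normalizer ((P' : Subgroup M) : Set M)).card_mul_index
      have hs : Nat.card (Sylow 3 M) =
          (Subgroup.normalizer ((P' : Subgroup M) : Set M)).index := P'.card_eq_index_normalizer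
      rw [hNcard, hM360, e, ← hs] at hm
      have := card_sylow_modEq_one 3 M
      rw [show Nat.card (Sylow 3 M) = 20 by omega] at this
      exact absurd this (by decide)
    · simpa using e
    · exact absurd (by simpa using e) hK8
  -- a reflection
  obtain ⟨n, hnr⟩ := hπ (.sr 0)
  have hnM : (n : G) ∉ M := fun e => by
    obtain ⟨i, hi⟩ := hKrot _ ((hKmem n).1 e)
    rw [hnr] at hi
    cases hi
  have hnS : ∀ s ∈ (P : Subgroup G), (n : G) * s * (n : G)⁻¹ ∈ (P : Subgroup G) := fun s hs =>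
    (Subgroup.mem_normalizer_iff.1 n.2 s).1 hs
  obtain ⟨s, hs, hs1, hns'⟩ : ∃ s ∈ (P : Subgroup G), s ≠ 1 ∧ Commute (n : G) s := by
    by_contra hcon
    push Not at hcon
    have htn : ∀ x ∈ (P : Subgroup G), (h : G) * h * x * ((h : G) * h)⁻¹ ∈ (P : Subgroup G) := fun x hx => by
      have := hn _ (hn x hx)
      rwa [show (h : G) * ((h : G) * x * (h : G)⁻¹) * (h : G)⁻¹
        = (h : G) * h * x * ((h : G) * h)⁻¹ by group] at this
    have hn2 : (n : G) * n ∈ (P : Subgroup G) := (hker (n * n)).1 (by rw [map_mul, hnr]; decide)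
    have hi1 := fun x (hx : x ∈ (P : Subgroup G)) => inverts hcard hC hnS hn2
      (fun y hy hyc => by_contra fun hy1 => hcon y hy hy1 hyc) hx
    have hi2 := fun x (hx : x ∈ (P : Subgroup G)) => inverts hcard hC htn h4
      (fun y hy hyc => no_fixed hcard hC hn h4 h2 hy hyc) hx
    have hmem : (n : G)⁻¹ * ((h : G) * h) ∈ (P : Subgroup G) := mem_of_fix hcard hC fun x hx => by
      have h1 : (n : G) * x * (n : G)⁻¹ = (h : G) * h * x * ((h : G) * h)⁻¹ :=
        (hi1 x hx).trans (hi2 x hx).symm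
      rw [commute_iff_eq, ← mul_inv_eq_iff_eq_mul]
      calc (n : G)⁻¹ * ((h : G) * h) * x * ((n : G)⁻¹ * ((h : G) * h))⁻¹
          = (n : G)⁻¹ * ((h : G) * h * x * ((h : G) * h)⁻¹) * n := by group
        _ = x := by rw [← h1]; group
    have := (hker (n⁻¹ * (h * h))).2 hmem
    rw [map_mul, map_inv, map_mul, hh, hnr] at this
    exact absurd this (by decide)
  -- the index of `M`
  have hidx : M.index = 2 := by
    have hsup : (Subgroup.normalizer ((P : Subgroup G) : Set G)) ⊔ M = ⊤ := by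
      have := Sylow.normalizer_sup_eq_top (N := M) P'
      rwa [hP', Subgroup.map_subgroupOf_eq_of_le hSM] at this
    have h1 : M.index = M.relIndex (Subgroup.normalizer ((P : Subgroup G) : Set G)) := by
      rw [← Subgroup.relIndex_top_right, ← hsup, Subgroup.relIndex_sup_right]
    have h2' : K.index = 2 := by
      have := K.card_mul_index
      rw [hK4, DihedralGroup.nat_card] at this
      omega
    rw [h1, Subgroup.relIndex, ← hKidx, h2']
  -- the embedding
  let c : Perm (Fin 6) →* MulAut ↥(alternatingGroup (Fin 6)) := MulAut.conjNormal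
  let Φ : G →* MulAut ↥(alternatingGroup (Fin 6)) :=
    (MulAut.congr φ).toMonoidHom.comp MulAut.conjNormal
  have hΦ : ∀ (g : G) (x : M), Φ g (φ x) = φ (MulAut.conjNormal g x) := fun g x => by
    simp [Φ, MulAut.congr]
  have hΦinj : Function.Injective Φ := by
    rw [← MonoidHom.ker_eq_bot_iff]
    have hcm : ∀ g ∈ Φ.ker, ∀ x : M, g * (x : G) * g⁻¹ = x := fun g hg x => by
      have := hΦ g x
      rw [MonoidHom.mem_ker.1 hg] at this
      simpa using (congrArg Subtype.val (φ.injective this)).symm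
    have hbot : Φ.ker.subgroupOf M = ⊥ := by
      rcases (inferInstance : (Φ.ker.subgroupOf M).Normal).eq_bot_or_eq_top with e | e
      · exact e
      · exfalso
        refine hMnc (eq_top_iff.2 fun m _ => Subgroup.le_normalizer (hC'.le ?_))
        rw [Subgroup.mem_centralizer_iff]
        intro x _
        have hm : (m : G) ∈ Φ.ker := Subgroup.mem_subgroupOf.1 (e ▸ Subgroup.mem_top m)
        exact (Subtype.ext (mul_inv_eq_iff_eq_mul.1 (hcm _ hm x))).symm
    refine coprime_eq_bot P hcard hC hcent hexp _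
      (by rw [Subgroup.normalizer_eq_top]; exact le_top) fun h3 => ?_
    have := sylow_inf_normal_ne_bot P Φ.ker h3
    refine this ((Subgroup.eq_bot_iff_forall _).2 fun x hx => ?_)
    have hx' : (⟨x, hSM hx.1⟩ : M) ∈ Φ.ker.subgroupOf M := Subgroup.mem_subgroupOf.2 hx.2
    rw [hbot, Subgroup.mem_bot] at hx'
    exact congrArg Subtype.val hx'
  have hinner : ∀ m : M, Φ (m : G) ∈ c.range := fun m => ⟨(φ m : Perm (Fin 6)), by
    refine DFunLike.ext _ _ fun y => ?_
    obtain ⟨x, rfl⟩ := φ.surjective y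
    rw [hΦ]
    refine Subtype.ext ?_
    show (MulAut.conjNormal (φ m : Perm (Fin 6)) (φ x) : Perm (Fin 6)) = _
    rw [MulAut.conjNormal_apply, show MulAut.conjNormal (m : G) x = m * x * m⁻¹ from
      Subtype.ext (by simp), map_mul, map_mul, map_inv]
    simp⟩
  have hn' : Φ (n : G) ∈ c.range := by
    refine mem_range_of_fixed _ (a := φ ⟨s, hSM hs⟩) ?_ ?_
    · rw [φ.orderOf_eq, ← Subgroup.orderOf_coe]
      exact orderOf_eq_prime (hexp s hs) hs1
    · rw [hΦ]
      exact congrArg φ (Subtype.ext (by simpa using mul_inv_eq_iff_eq_mul.2 hns'.eq))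
  have hrange : Φ.range ≤ c.range := by
    rintro _ ⟨g, rfl⟩
    by_cases hg : g ∈ M
    · exact hinner ⟨g, hg⟩
    · have hm : (n : G)⁻¹ * g ∈ M :=
        (Subgroup.mul_mem_iff_of_index_two hidx).2 (iff_of_false (fun e => hnM (inv_mem_iff.1 e)) hg)
      have := mul_mem hn' (hinner ⟨_, hm⟩)
      rwa [← map_mul, mul_inv_cancel_left] at this
  have hcinj : Function.Injective c := by
    rw [← MonoidHom.ker_eq_bot_iff]
    by_contra hne
    obtain ⟨σ, hσ, hσ1⟩ := (Subgroup.bot_or_exists_ne_one _).resolve_left hne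
    have hall : ∀ x ∈ alternatingGroup (Fin 6), σ * x * σ⁻¹ = x := fun x hx => by
      have := congrArg Subtype.val (DFunLike.congr_fun (MonoidHom.mem_ker.1 hσ) ⟨x, hx⟩)
      simpa [c] using this
    have key : ∀ τ : Perm (Fin 6), τ ≠ 1 → ∃ a b d : Fin 6, a ≠ b ∧ a ≠ d ∧ b ≠ d ∧
        τ a ≠ a ∧ τ a ≠ b ∧ τ a ≠ d := by
      intro τ hτ
      obtain ⟨a, ha⟩ : ∃ a, τ a ≠ a := by
        by_contra hcon
        push Not at hcon
        exact hτ (Equiv.ext hcon)
      obtain ⟨b, hb, hb'⟩ := (show ∀ u v : Fin 6, ∃ b, b ≠ u ∧ b ≠ v by decide) a (τ a)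
      obtain ⟨d, hd, hd', hd''⟩ :=
        (show ∀ u v w : Fin 6, ∃ b, b ≠ u ∧ b ≠ v ∧ b ≠ w by decide) a b (τ a)
      exact ⟨a, b, d, hb.symm, hd.symm, hd'.symm, ha, hb'.symm, hd''.symm⟩
    obtain ⟨a, b, d, hab, had, hbd, h1, h2', h3⟩ := key σ hσ1
    have hx := hall _ (AutAlt.c3_isThreeCycle hab had hbd).mem_alternatingGroup
    rw [AutAlt.conj_c3] at hx
    have e := Equiv.ext_iff.1 hx (σ a)
    rw [AutAlt.c3_apply_left (σ.injective.ne hab) (σ.injective.ne had),
      AutAlt.c3_apply_other h1 h2' h3] at e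
    exact hab (σ.injective e).symm
  have hG720 : Nat.card G = 720 := by
    rw [← M.card_mul_index, hM360, hidx]
  have heq : Φ.range = c.range := by
    refine Subgroup.eq_of_le_of_card_ge hrange ?_
    rw [← Nat.card_congr (MonoidHom.ofInjective hΦinj).toEquiv,
      ← Nat.card_congr (MonoidHom.ofInjective hcinj).toEquiv, hG720, Nat.card_perm, Nat.card_fin]
    decide
  exact ⟨((MonoidHom.ofInjective hΦinj).trans (MulEquiv.subgroupCongr heq)).trans
    (MonoidHom.ofInjective hcinj).symm⟩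

end Main

end Cfsg.Agent.NineS6
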