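import Cfsg.Agent.Lib.Recog.PrimeOrderPerm
import Mathlib.GroupTheory.SpecificGroups.Cyclic
import Mathlib.Algebra.BigOperators.Fin
import Mathlib.FieldTheory.Finite.Basic
import Mathlib.GroupTheory.GroupAction.MultipleTransitivity

/-!
# Schur rings over cyclic groups and the theorem of Burnside and Schur

A primitive group with a regular cyclic subgroup of composite order is doubly transitive.
-/

set_option autoImplicit false

namespace Cfsg.Agent.SchurRing

open Finset
open scoped Classical Pointwise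

section Abstract

variable {C : Type*} [CommGroup C] [Fintype C]

/-- Convolution. -/
def conv (f h : C → ℤ) (x : C) : ℤ := ∑ y, f y * h (y⁻¹ * x)

/-- Invariance under the equivalence relation. -/
def Inv (r : C → C → Prop) (f : C → ℤ) : Prop := ∀ x y, r x y → f x = f y

/-- The axioms of a primitive Schur ring that are used. -/
structure IsPrimSRing (r : C → C → Prop) : Prop where
  equiv : Equivalence r
  one : ∀ x, r 1 x → x = 1
  conv_inv : ∀ f h : C → ℤ, Inv r f → Inv r h → Inv r (conv f h)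
  inv_mem : ∀ x y, r x y → r x⁻¹ y⁻¹
  prim : ∀ H : Subgroup C, (∀ x y, r x y → x ∈ H → y ∈ H) → H = ⊥ ∨ H = ⊤

variable {r : C → C → Prop}

open scoped Classical in
/-- The indicator of a class. -/
noncomputable def ind (r : C → C → Prop) (x : C) (y : C) : ℤ := if r x y then 1 else 0

/-- The class of an element. -/
noncomputable def cls (r : C → C → Prop) (x : C) : Finset C :=
  open Classical in univ.filter (r x)

theorem mem_cls {x y : C} : y ∈ cls r x ↔ r x y := by simp [cls]

theorem ind_inv (hr : IsPrimSRing r) (x : C) : Inv r (ind r x) := by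
  classical
  intro a b hab
  unfold ind
  by_cases h : r x a
  · rw [if_pos h, if_pos (hr.equiv.trans h hab)]
  · rw [if_neg h, if_neg fun h' => h (hr.equiv.trans h' (hr.equiv.symm hab))]

theorem conv_ind (hr : IsPrimSRing r) (a b z : C) :
    conv (ind r a) (ind r b) z =
      ((cls r a).filter fun t => r b (t⁻¹ * z)).card := by
  classical
  have := hr.equiv
  rw [conv, cls, filter_filter, card_filter, Nat.cast_sum]
  refine sum_congr rfl fun y _ => ?_
  unfold ind
  by_cases h1 : r a y <;> by_cases h2 : r b (y⁻¹ * z) <;> simp [h1, h2]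

theorem mul_class (hr : IsPrimSRing r) {a b y : C} (h : r (a * b) y) :
    ∃ a' b', r a a' ∧ r b b' ∧ y = a' * b' := by
  classical
  have he := hr.conv_inv _ _ (ind_inv hr a) (ind_inv hr b) _ _ h
  rw [conv_ind hr, conv_ind hr] at he
  have hpos : 0 < ((cls r a).filter fun t => r b (t⁻¹ * (a * b))).card := card_pos.2
    ⟨a, mem_filter.2 ⟨mem_cls.2 (hr.equiv.refl a), by rw [inv_mul_cancel_left]; exact hr.equiv.refl b⟩⟩
  rw [Nat.cast_inj] at he
  rw [he] at hpos
  obtain ⟨t, ht⟩ := card_pos.1 hpos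
  rw [mem_filter, mem_cls] at ht
  exact ⟨t, t⁻¹ * y, ht.1, ht.2, by rw [mul_inv_cancel_left]⟩

/-- A closed subset inside a proper subgroup is inside the trivial subgroup. -/
theorem closed_subset_proper (hr : IsPrimSRing r) (S : Set C) (hS : ∀ x y, r x y → x ∈ S → y ∈ S)
    (H : Subgroup C) (hH : H ≠ ⊤) (hSH : S ⊆ H) : ∀ x ∈ S, x = 1 := by
  have hcl : ∀ x y, r x y → x ∈ Subgroup.closure S → y ∈ Subgroup.closure S := by
    intro x y hxy hx
    induction hx using Subgroup.closure_induction generalizing y with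
    | mem z hz => exact Subgroup.subset_closure (hS z y hxy hz)
    | one => rw [hr.one y hxy]; exact one_mem _
    | mul a b _ _ iha ihb =>
      obtain ⟨a', b', ha, hb, rfl⟩ := mul_class hr hxy
      exact mul_mem (iha a' ha) (ihb b' hb)
    | inv a _ iha =>
      have h := hr.inv_mem _ _ hxy
      rw [inv_inv] at h
      simpa using inv_mem (iha _ h)
  rcases hr.prim _ hcl with h | h
  · intro x hx
    have := Subgroup.subset_closure (k := S) hx
    rwa [h, SetLike.mem_coe, Subgroup.mem_bot] at this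
  · exact absurd (top_le_iff.1 (h ▸ (Subgroup.closure_le H).2 hSH)) hH

/-- Tuples with entries in `T`. -/
abbrev Tup (T : Finset C) (n : ℕ) (x : C) := {v : Fin n → T // ∏ i, (v i : C) = x}

/-- Iterated convolution powers of the indicator of a class. -/
noncomputable def pw (r : C → C → Prop) (x : C) : ℕ → C → ℤ
  | 0 => open Classical in fun z => if z = 1 then 1 else 0
  | n + 1 => conv (ind r x) (pw r x n)

theorem pw_inv (hr : IsPrimSRing r) (x : C) (n : ℕ) : Inv r (pw r x n) := by
  classical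
  induction n with
  | zero =>
    intro a b hab
    simp only [pw]
    by_cases ha : a = 1
    · subst ha; rw [hr.one b hab]
    · rw [if_neg ha, if_neg]
      rintro rfl
      exact ha (hr.one a (hr.equiv.symm hab))
  | succ n ih => exact hr.conv_inv _ _ (ind_inv hr x) ih

theorem pw_eq (x : C) (n : ℕ) : ∀ z : C, pw r x n z = Nat.card (Tup (cls r x) n z) := by
  classical
  induction n with
  | zero =>
    intro z
    simp only [pw]
    by_cases hz : z = 1
    · rw [if_pos hz, Nat.card_eq_one_iff_unique.2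
        ⟨⟨fun a b => Subtype.ext (funext fun i => i.elim0)⟩, ⟨⟨fun i => i.elim0, by simp [hz]⟩⟩⟩]
      rfl
    · have : IsEmpty (Tup (cls r x) 0 z) := ⟨fun v => hz (by simpa using v.2.symm)⟩
      rw [if_neg hz, Nat.card_of_isEmpty]
      rfl
  | succ n ih =>
    intro z
    have e : Tup (cls r x) (n + 1) z ≃ Σ t : cls r x, Tup (cls r x) n ((t : C)⁻¹ * z) :=
      { toFun := fun v => ⟨v.1 0, fun i => v.1 i.succ, by
          rw [eq_inv_mul_iff_mul_eq, ← Fin.prod_univ_succ (fun i => (v.1 i : C))]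
          exact v.2⟩
        invFun := fun w => ⟨Fin.cons w.1 w.2.1, by
          rw [Fin.prod_univ_succ]
          simp only [Fin.cons_zero, Fin.cons_succ]
          rw [w.2.2, mul_inv_cancel_left]⟩
        left_inv := fun v => Subtype.ext (Fin.cons_self_tail v.1)
        right_inv := fun w => rfl }
    rw [Nat.card_congr e, Nat.card_sigma, Nat.cast_sum]
    show ∑ y, ind r x y * pw r x n (y⁻¹ * z) = _
    rw [sum_coe_sort (cls r x) (fun t => (Nat.card (Tup (cls r x) n (t⁻¹ * z)) : ℤ)), cls, sum_filter]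
    refine sum_congr rfl fun y _ => ?_
    rw [ih]
    by_cases h : r x y <;> simp [ind, h, cls]

theorem pw_modEq (x : C) (p : ℕ) [hp : Fact p.Prime] (z : C) :
    (pw r x p z : ZMod p) =
      (Nat.card {t : cls r x // (t : C) ^ p = z} : ZMod p) := by
  rw [pw_eq, Int.cast_natCast, ZMod.natCast_eq_natCast_iff]
  let σ : Equiv.Perm (Tup (cls r x) p z) :=
    { toFun := fun v => ⟨v.1 ∘ finRotate p,
        (Equiv.prod_comp (finRotate p) (fun i => (v.1 i : C))).trans v.2⟩
      invFun := fun v => ⟨v.1 ∘ (finRotate p).symm,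
        (Equiv.prod_comp (finRotate p).symm (fun i => (v.1 i : C))).trans v.2⟩
      left_inv := fun v => Subtype.ext (funext fun i => by simp)
      right_inv := fun v => Subtype.ext (funext fun i => by simp) }
  have hpow : ∀ (m : ℕ) (v : Tup (cls r x) p z), ((σ ^ m) v).1 = v.1 ∘ ((finRotate p) ^ m : Equiv.Perm (Fin p)) := by
    intro m
    induction m with
    | zero => intro v; rfl
    | succ m ih =>
      intro v
      rw [pow_succ, Equiv.Perm.mul_apply, ih (σ v), pow_succ']
      rfl
  have hrot : (finRotate p : Equiv.Perm (Fin p)) ^ p = 1 := by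
    have h := orderOf_dvd_natCard (finRotate p : Equiv.Perm (Fin p))
    obtain ⟨q, hq⟩ : ∃ q, p = q + 2 := ⟨p - 2, by have := hp.out.two_le; omega⟩
    subst hq
    have hc := Equiv.Perm.IsCycle.orderOf (isCycle_finRotate (n := q))
    rw [support_finRotate, Finset.card_univ, Fintype.card_fin] at hc
    have h2 := pow_orderOf_eq_one (finRotate (q + 2) : Equiv.Perm (Fin (q + 2)))
    rwa [hc] at h2
  have hσ : σ ^ p = 1 := Equiv.ext fun v => Subtype.ext (by rw [hpow, hrot]; rfl)
  refine (PrimeOrderPerm.modEq σ hσ).trans ?_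
  show _ % p = _ % p
  congr 1
  rw [PrimeOrderPerm.nfix]
  have hp0 : 0 < p := hp.out.pos
  have hconst : ∀ v : {v // σ v = v}, ∀ i, v.1.1 i = v.1.1 ⟨0, hp0⟩ := by
    intro v
    obtain ⟨q, rfl⟩ : ∃ q, p = q + 1 := ⟨p - 1, by omega⟩
    intro i
    induction i using Fin.induction with
    | zero => rfl
    | succ i ih =>
      have h := congrFun (congrArg Subtype.val v.2) i.castSucc
      change v.1.1 (finRotate (q + 1) i.castSucc) = v.1.1 i.castSucc at h
      rw [finRotate_apply] at h
      rw [← ih, ← h]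
      congr 1
      ext
      simp [Fin.val_add_one_of_lt (Fin.castSucc_lt_last i)]
  exact (Nat.card_congr
    { toFun := fun t => ⟨⟨fun _ => t.1, by rw [prod_const, card_univ, Fintype.card_fin]; exact t.2⟩, rfl⟩
      invFun := fun v => ⟨v.1.1 ⟨0, hp0⟩, by
        refine Eq.trans ?_ v.1.2
        rw [prod_congr rfl (fun i _ => congrArg Subtype.val (hconst v i)), prod_const, card_univ,
          Fintype.card_fin]⟩
      left_inv := fun t => rfl
      right_inv := fun v => Subtype.ext (Subtype.ext (funext fun i => (hconst v i).symm)) }).symm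

/-- The theorem on multipliers, one direction. -/
theorem multiplier (hr : IsPrimSRing r) (m : ℕ) (hm : m.Coprime (Fintype.card C)) :
    ∀ x y : C, r (x ^ m) y → ∃ t, r x t ∧ y = t ^ m := by
  induction m using Nat.recOnMul with
  | zero =>
    intro x y h
    rw [pow_zero] at h
    exact ⟨x, hr.equiv.refl x, by rw [pow_zero]; exact hr.one y h⟩
  | one => intro x y h; exact ⟨y, by simpa using h, (pow_one y).symm⟩
  | prime q hq =>
    intro x y h
    haveI : Fact q.Prime := ⟨hq⟩
    have hinj : ∀ a b : C, a ^ q = b ^ q → a = b := fun a b hab => by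
      have hbij := (powCoprime (G := C) (n := q) (by rw [Nat.card_eq_fintype_card]; exact hm.symm)).injective
      exact hbij (by simpa using hab)
    have he := congrArg (fun i : ℤ => (i : ZMod q)) (pw_inv hr x q _ _ h)
    simp only [pw_modEq] at he
    have h1 : Nat.card {t : cls r x // (t : C) ^ q = x ^ q} = 1 :=
      Nat.card_eq_one_iff_unique.2 ⟨⟨fun a b => Subtype.ext (Subtype.ext (hinj _ _ (a.2.trans b.2.symm)))⟩,
        ⟨⟨⟨x, mem_cls.2 (hr.equiv.refl x)⟩, rfl⟩⟩⟩
    rw [h1, Nat.cast_one] at he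
    have hne : Nat.card {t : cls r x // (t : C) ^ q = y} ≠ 0 := fun h0 => by
      rw [h0, Nat.cast_zero] at he
      exact one_ne_zero he
    obtain ⟨⟨t, ht⟩, hty⟩ := (Nat.card_ne_zero.1 hne).1
    exact ⟨t, mem_cls.1 ht, hty.symm⟩
  | mul a b iha ihb =>
    intro x y h
    rw [pow_mul] at h
    obtain ⟨t, ht, rfl⟩ := ihb (Nat.Coprime.coprime_mul_left hm) (x ^ a) y h
    obtain ⟨s, hs, rfl⟩ := iha (Nat.Coprime.coprime_mul_right hm) x t ht
    exact ⟨s, hs, (pow_mul s a b).symm⟩

variable [IsCyclic C]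

theorem range_pow_ne_top (p : ℕ) (hp : p.Prime) (hpn : p ∣ Fintype.card C) :
    (powMonoidHom p : C →* C).range ≠ ⊤ := fun h => by
  haveI : Fact p.Prime := ⟨hp⟩
  obtain ⟨z, hz⟩ := exists_prime_orderOf_dvd_card p hpn
  have hsurj : Function.Surjective (powMonoidHom p : C → C) := MonoidHom.range_eq_top.1 h
  have hinj := (Finite.injective_iff_surjective).2 hsurj
  have : z = 1 := hinj (by
    show z ^ p = 1 ^ p
    rw [one_pow]; exact hz ▸ pow_orderOf_eq_one z)
  rw [this, orderOf_one] at hz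
  exact hp.ne_one hz.symm

/-- Every class is, outside the subgroup of order `p`, a union of cosets of it. -/
theorem coset_mem (hr : IsPrimSRing r) (p : ℕ) (hp : p.Prime) (hpn : p ∣ Fintype.card C)
    {x y u : C} (hy : r x y) (hy1 : y ^ p ≠ 1) (hu : u ^ p = 1) : r x (y * u) := by
  classical
  haveI : Fact p.Prime := ⟨hp⟩
  set W : Set C := {z | (pw r x p z : ZMod p) ≠ 0} with hW
  have hWc : ∀ a b, r a b → a ∈ W → b ∈ W := fun a b hab ha => by
    show (pw r x p b : ZMod p) ≠ 0
    rw [← pw_inv hr x p a b hab]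
    exact ha
  have hWH : W ⊆ (powMonoidHom p : C →* C).range := fun z hz => by
    by_contra hcon
    apply hz
    rw [pw_modEq]
    have : IsEmpty {t : cls r x // (t : C) ^ p = z} := ⟨fun t => hcon ⟨(t.1 : C), t.2⟩⟩
    rw [Nat.card_of_isEmpty, Nat.cast_zero]
  have hnot : (pw r x p (y ^ p) : ZMod p) = 0 := by
    by_contra hcon
    exact hy1 (closed_subset_proper hr W hWc _ (range_pow_ne_top p hp hpn) hWH _ hcon)
  rw [pw_modEq, ZMod.natCast_eq_zero_iff] at hnot
  have hle : Nat.card {t : C // t ^ p = y ^ p} ≤ p := by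
    calc Nat.card {t : C // t ^ p = y ^ p} = Nat.card {t : C // t ^ p = 1} :=
          Nat.card_congr ((Equiv.mulLeft y⁻¹).subtypeEquiv fun t => by
            simp only [Equiv.coe_mulLeft, mul_pow, inv_pow, inv_mul_eq_one]
            exact eq_comm)
      _ ≤ p := by
        rw [Nat.card_eq_fintype_card, Fintype.card_subtype]
        exact IsCyclic.card_pow_eq_one_le hp.pos
  let emb : {t : cls r x // (t : C) ^ p = y ^ p} → {t : C // t ^ p = y ^ p} := fun t => ⟨t.1.1, t.2⟩
  have hemb : Function.Injective emb := fun a b h =>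
    Subtype.ext (Subtype.ext (congrArg Subtype.val h :))
  haveI : Nonempty {t : cls r x // (t : C) ^ p = y ^ p} := ⟨⟨⟨y, mem_cls.2 hy⟩, rfl⟩⟩
  have hp' := Nat.le_of_dvd Nat.card_pos hnot
  have hbij : Function.Bijective emb := hemb.bijective_of_nat_card_le (hle.trans hp')
  obtain ⟨⟨⟨t, ht⟩, htp⟩, hte⟩ := hbij.2 ⟨y * u, by rw [mul_pow, hu, mul_one]⟩
  have : t = y * u := congrArg Subtype.val hte
  rw [← this]
  exact mem_cls.1 ht

/-- Every class meets the subgroup of order `p`. -/
theorem meets (hr : IsPrimSRing r) (p : ℕ) (hp : p.Prime) (hpn : p ∣ Fintype.card C)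
    {x : C} (hx : x ≠ 1) : ∃ u, r x u ∧ u ^ p = 1 := by
  classical
  by_contra hcon
  push Not at hcon
  let S : Subgroup C :=
    { carrier := {z | ∀ t, r x t ↔ r x (t * z)}
      one_mem' := fun t => by rw [mul_one]
      mul_mem' := fun {a b} ha hb t => by rw [← mul_assoc]; exact (ha t).trans (hb _)
      inv_mem' := fun {a} ha t => by
        have h := ha (t * a⁻¹)
        rw [inv_mul_cancel_right] at h
        exact h.symm }
  have hmem : ∀ z, z ∈ S ↔ conv (ind r x⁻¹) (ind r x) z = ((cls r x⁻¹).card : ℤ) := by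
    intro z
    rw [conv_ind hr, Nat.cast_inj, card_filter_eq_iff]
    constructor
    · intro h t ht
      rw [mem_cls] at ht
      have h2 := hr.inv_mem _ _ ht
      rw [inv_inv] at h2
      exact (h t⁻¹).1 h2
    · intro h
      have hsub : ∀ t, r x t → r x (t * z) := fun t ht => by
        have h2 := h _ (mem_cls.2 (hr.inv_mem _ _ ht))
        rwa [inv_inv] at h2
      intro t
      refine ⟨hsub t, fun ht => ?_⟩
      obtain ⟨⟨s, hs⟩, hst⟩ := ((Finite.injective_iff_surjective).1 (show Function.Injective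
        (fun s : {s // r x s} => (⟨s.1 * z, hsub s.1 s.2⟩ : {s // r x s})) from fun a b he =>
          Subtype.ext (mul_right_cancel (congrArg Subtype.val he :)))) ⟨t * z, ht⟩
      rwa [← mul_right_cancel (congrArg Subtype.val hst : s * z = t * z)]
  have hS : ∀ a b, r a b → a ∈ S → b ∈ S := fun a b hab ha => by
    rw [hmem] at ha ⊢
    rw [← hr.conv_inv _ _ (ind_inv hr x⁻¹) (ind_inv hr x) _ _ hab, ha]
  haveI : Fact p.Prime := ⟨hp⟩
  obtain ⟨u, hu⟩ := exists_prime_orderOf_dvd_card p hpn
  have hup : u ^ p = 1 := hu ▸ pow_orderOf_eq_one u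
  have huS : u ∈ S := fun t => by
    refine ⟨fun ht => coset_mem hr p hp hpn ht (hcon t ht) hup, fun ht => ?_⟩
    have h := coset_mem hr p hp hpn ht (hcon _ ht) (u := u⁻¹) (by rw [inv_pow, hup, inv_one])
    rwa [mul_inv_cancel_right] at h
  rcases hr.prim S hS with h | h
  · rw [h, Subgroup.mem_bot] at huS
    rw [huS, orderOf_one] at hu
    exact hp.ne_one hu.symm
  · have h1 : x⁻¹ ∈ S := h ▸ Subgroup.mem_top _
    have h2 := (h1 x).1 (hr.equiv.refl x)
    rw [mul_inv_cancel] at h2
    exact hx (hr.one x (hr.equiv.symm h2))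

/-- The theorem of Burnside and Schur for the Schur ring. -/
theorem trivial_of_composite (hr : IsPrimSRing r) (hcard : ¬ (Fintype.card C).Prime)
    {x y : C} (hx : x ≠ 1) (hy : y ≠ 1) : r x y := by
  classical
  set n := Fintype.card C with hn
  haveI : Nontrivial C := ⟨⟨x, 1, hx⟩⟩
  have hn1 : n ≠ 1 := by
    have := Fintype.one_lt_card (α := C)
    omega
  set p := n.minFac with hpdef
  have hp : p.Prime := Nat.minFac_prime hn1
  have hpn : p ∣ n := Nat.minFac_dvd n
  by_cases hq : ∃ q, q.Prime ∧ q ∣ n ∧ q ≠ p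
  · obtain ⟨q, hqp, hqn, hne⟩ := hq
    obtain ⟨u, hxu, hu⟩ := meets hr q hqp hqn hx
    obtain ⟨v, hyv, hv⟩ := meets hr p hp hpn hy
    have hboth : ∀ w : C, w ^ p = 1 → w ^ q = 1 → w = 1 := fun w h1 h2 => by
      have h := Nat.dvd_gcd (orderOf_dvd_of_pow_eq_one h1) (orderOf_dvd_of_pow_eq_one h2)
      rw [(Nat.coprime_primes hp hqp).2 (Ne.symm hne)] at h
      exact orderOf_eq_one_iff.1 (Nat.dvd_one.1 h)
    have hu1 : u ^ p ≠ 1 := fun h => hx (hr.one x (by rw [← hboth u h hu]; exact hr.equiv.symm hxu))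
    have hv1 : v ^ q ≠ 1 := fun h => hy (hr.one y (by rw [← hboth v hv h]; exact hr.equiv.symm hyv))
    have h1 := coset_mem hr p hp hpn hxu hu1 hv
    have h2 := coset_mem hr q hqp hqn hyv hv1 hu
    rw [mul_comm] at h2
    exact hr.equiv.trans h1 (hr.equiv.symm h2)
  -- prime power
  push Not at hq
  obtain ⟨k, hk⟩ : ∃ k, n = p ^ k := ⟨_, Nat.eq_prime_pow_of_unique_prime_dvd Fintype.card_ne_zero
    fun {d} hd hdn => hq d hd hdn⟩
  have hk2 : 2 ≤ k := by
    rcases k with _ | _ | k
    · rw [pow_zero] at hk; exact absurd hk hn1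
    · exact absurd (show n.Prime by rw [hk, zero_add, pow_one]; exact hp) hcard
    · omega
  by_contra hxy
  set H : Subgroup C := (powMonoidHom p : C →* C).range with hH
  have hHne : H ≠ ⊤ := range_pow_ne_top p hp hpn
  have hP : ∀ u : C, u ^ p = 1 → u ∈ H := by
    intro u hu
    obtain ⟨g, hg⟩ := IsCyclic.exists_monoid_generator (α := C)
    obtain ⟨i, rfl⟩ := hg u
    have h := orderOf_dvd_of_pow_eq_one (show g ^ (i * p) = 1 by rw [pow_mul]; exact hu)
    have hog : orderOf g = n := by
      rw [hn, ← Nat.card_eq_fintype_card]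
      exact orderOf_eq_card_of_forall_mem_zpowers fun z =>
        Subgroup.mem_zpowers_iff.2 (by obtain ⟨j, hj⟩ := hg z; exact ⟨j, by rw [zpow_natCast]; exact hj⟩)
    rw [hog, hk] at h
    obtain ⟨j, hj⟩ : ∃ j, k = j + 2 := ⟨k - 2, by omega⟩
    have h' : p * p ∣ i * p := (Dvd.intro_left (p ^ j) (by rw [hj]; ring)).trans h
    obtain ⟨c, hc⟩ := (Nat.mul_dvd_mul_iff_right hp.pos).1 h'
    exact ⟨g ^ c, by
      show (g ^ c) ^ p = g ^ i
      rw [← pow_mul, mul_comm c, ← hc]⟩
  have hgen : ∀ a : C, a ∉ H → ∀ z : C, ∃ i : ℕ, a ^ i = z := by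
    intro a ha z
    have hoa : orderOf a = n := by
      obtain ⟨i, -, hi⟩ := (Nat.dvd_prime_pow hp).1 (hk ▸ hn ▸ orderOf_dvd_card (x := a))
      by_contra hne
      apply ha
      obtain ⟨g, hg⟩ := IsCyclic.exists_monoid_generator (α := C)
      obtain ⟨j, rfl⟩ := hg a
      have hik : i + 1 ≤ k := by
        by_contra hcon
        have h1 : orderOf (g ^ j) ∣ p ^ k := hk ▸ hn ▸ orderOf_dvd_card
        rw [hi] at h1
        have h2 : i ≤ k := Nat.pow_dvd_pow_iff_le_right hp.one_lt |>.1 h1
        exact hne (by rw [hi, hk, show i = k by omega])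
      have hpow : (g ^ j) ^ p ^ (k - 1) = 1 :=
        orderOf_dvd_iff_pow_eq_one.1 (hi ▸ Nat.pow_dvd_pow p (by omega))
      have hog : orderOf g = n := by
        rw [hn, ← Nat.card_eq_fintype_card]
        exact orderOf_eq_card_of_forall_mem_zpowers fun z =>
          Subgroup.mem_zpowers_iff.2 (by obtain ⟨l, hl⟩ := hg z; exact ⟨l, by rw [zpow_natCast]; exact hl⟩)
      rw [← pow_mul] at hpow
      have hd := orderOf_dvd_of_pow_eq_one hpow
      rw [hog, hk, show k = (k - 1) + 1 by omega, pow_succ, Nat.add_sub_cancel, mul_comm] at hd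
      obtain ⟨c, hc⟩ := (Nat.mul_dvd_mul_iff_right (pow_pos hp.pos _)).1 hd
      exact ⟨g ^ c, by
        show (g ^ c) ^ p = g ^ j
        rw [← pow_mul, mul_comm c, ← hc]⟩
    have htop : Subgroup.zpowers a = ⊤ := Subgroup.eq_top_of_card_eq _ (by
      rw [Nat.card_zpowers, hoa, Nat.card_eq_fintype_card])
    exact Submonoid.mem_powers_iff z a |>.1
      (mem_powers_iff_mem_zpowers.2 (htop ▸ Subgroup.mem_top z))
  -- outside `H` classes are unions of cosets of `H`
  have hcoset : ∀ a z : C, r a z → z ∉ H → ∀ h ∈ H, r a (z * h) := by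
    intro a z haz hz h hh
    obtain ⟨w, rfl⟩ := hh
    have hz1 : z ≠ 1 := fun h => hz (h ▸ H.one_mem)
    obtain ⟨u, hzu, hu⟩ := meets hr p hp hpn hz1
    obtain ⟨i, hi⟩ := hgen z hz w
    set m := 1 + i * p with hm
    have hzm : z * (powMonoidHom p w) = z ^ m := by
      show z * w ^ p = _
      rw [hm, pow_add, pow_one, pow_mul, hi]
    have hmp : m.Coprime p := by
      rw [Nat.Coprime, hm, Nat.gcd_add_mul_right_left, Nat.gcd_one_left]
    have hmn : m.Coprime n := by rw [hk]; exact hmp.pow_right k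
    set m' := m ^ (n.totient - 1) with hm'
    have hmm' : m * m' ≡ 1 [MOD n] := by
      rw [hm', ← pow_succ', Nat.sub_add_cancel (Nat.totient_pos.2 Fintype.card_pos)]
      exact Nat.ModEq.pow_totient hmn
    have hm'p : m' ≡ 1 [MOD p] := by
      rw [hm']
      have h1 : m ≡ 1 [MOD p] := by
        show m % p = 1 % p
        rw [hm, Nat.add_mul_mod_self_right]
      simpa using h1.pow (n.totient - 1)
    have hum : u ^ m' = u := by
      conv_rhs => rw [← pow_one u]
      exact pow_eq_pow_iff_modEq.2 (hm'p.of_dvd (orderOf_dvd_of_pow_eq_one hu))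
    obtain ⟨t, hut, hzt⟩ := multiplier hr m' ((hmn.pow_left _)) u z (by
      rw [hum]; exact hr.equiv.symm hzu)
    have ht : z ^ m = t := by
      rw [hzt, ← pow_mul]
      conv_rhs => rw [← pow_one t]
      exact pow_eq_pow_iff_modEq.2 ((by rwa [mul_comm] at hmm' : m' * m ≡ 1 [MOD n]).of_dvd orderOf_dvd_card)
    rw [hzm, ht]
    exact hr.equiv.trans haz (hr.equiv.trans hzu hut)
  have hout : ∀ a : C, a ≠ 1 → ∃ z, r a z ∧ z ∉ H := by
    intro a ha
    by_contra hcon
    push Not at hcon
    exact ha (closed_subset_proper hr {z | r a z} (fun _ _ hxy hh => hr.equiv.trans hh hxy) H hHne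
      (fun z hz => hcon z hz) a (hr.equiv.refl a))
  -- a class small on `H`
  set HS : Finset C := (univ : Finset C).filter (fun z => z ∈ H) with hHS
  obtain ⟨a, ha1, hamin⟩ := Finset.exists_min_image ((univ : Finset C).erase 1)
    (fun a => ((cls r a).filter (· ∈ H)).card) ⟨x, mem_erase.2 ⟨hx, mem_univ x⟩⟩
  rw [mem_erase] at ha1
  obtain ⟨b, hb1, hab⟩ : ∃ b, b ≠ 1 ∧ ¬ r a b := by
    by_cases hax : r a x
    · exact ⟨y, hy, fun hay => hxy (hr.equiv.trans (hr.equiv.symm hax) hay)⟩
    · exact ⟨x, hx, hax⟩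
  set T := cls r a with hT
  set U := T.filter (· ∈ H) with hU
  set Z := T.filter (· ∉ H) with hZ
  have hU2 : 2 * U.card + 1 ≤ HS.card := by
    have hle := hamin b (mem_erase.2 ⟨hb1, mem_univ b⟩)
    have hd : Disjoint U ((cls r b).filter (· ∈ H)) := disjoint_left.2 fun z hz hz' => by
      rw [hU, mem_filter, hT, mem_cls] at hz
      rw [mem_filter, mem_cls] at hz'
      exact hab (hr.equiv.trans hz.1 (hr.equiv.symm hz'.1))
    have hsub : U ∪ (cls r b).filter (· ∈ H) ⊆ HS.erase 1 := by
      intro z hz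
      rw [mem_union, hU, mem_filter, mem_filter, hT, mem_cls, mem_cls] at hz
      rw [mem_erase, hHS, mem_filter]
      rcases hz with ⟨h1, h2⟩ | ⟨h1, h2⟩
      · exact ⟨fun h => ha1.1 (hr.one a (h ▸ hr.equiv.symm h1)), mem_univ z, h2⟩
      · exact ⟨fun h => hb1 (hr.one b (h ▸ hr.equiv.symm h1)), mem_univ z, h2⟩
    have h := card_le_card hsub
    rw [card_union_of_disjoint hd, card_erase_of_mem ((hHS ▸ mem_filter.2 ⟨mem_univ 1, H.one_mem⟩))] at h
    have hpos : 0 < HS.card :=
      card_pos.2 ⟨1, (hHS ▸ mem_filter.2 ⟨mem_univ 1, H.one_mem⟩)⟩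
    omega
  haveI : Fact p.Prime := ⟨hp⟩
  obtain ⟨u, hu⟩ := exists_prime_orderOf_dvd_card p hpn
  have hup : u ^ p = 1 := hu ▸ pow_orderOf_eq_one u
  have hu1 : u ≠ 1 := fun h => hp.ne_one (by rw [← hu, h, orderOf_one])
  obtain ⟨c, huc, hcH⟩ := hout u hu1
  let v : C → ℕ := fun z => (T.filter fun t => r a (t * z)).card
  have hv : v u = v c := by
    have h := hr.conv_inv _ _ (ind_inv hr a⁻¹) (ind_inv hr a) u c huc
    rw [conv_ind hr, conv_ind hr, Nat.cast_inj] at h
    have key : ∀ z, ((cls r a⁻¹).filter fun t => r a (t⁻¹ * z)).card = v z := fun z =>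
      card_bij' (fun t _ => t⁻¹) (fun t _ => t⁻¹)
        (fun t ht => by
          rw [mem_filter, mem_cls] at ht
          rw [mem_filter, hT, mem_cls]
          have h2 := hr.inv_mem _ _ ht.1
          rw [inv_inv] at h2
          exact ⟨h2, ht.2⟩)
        (fun t ht => by
          rw [mem_filter, hT, mem_cls] at ht
          rw [mem_filter, mem_cls, inv_inv]
          exact ⟨hr.inv_mem _ _ ht.1, ht.2⟩)
        (fun t _ => inv_inv t) (fun t _ => inv_inv t)
    rw [key, key] at h
    exact h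
  have hvu : Z.card ≤ v u := by
    refine card_le_card fun t ht => ?_
    rw [hZ, mem_filter, hT, mem_cls] at ht
    rw [mem_filter, hT, mem_cls]
    exact ⟨ht.1, hcoset a t ht.1 ht.2 u (hP u hup)⟩
  obtain ⟨t₀, ht₀, ht₀c⟩ : ∃ t₀ ∈ Z, t₀ * c ∉ Z := by
    by_contra hcon
    push Not at hcon
    obtain ⟨z₀, haz, hz₀⟩ := hout a ha1.1
    have hall : ∀ i : ℕ, z₀ * c ^ i ∈ Z := by
      intro i
      induction i with
      | zero => rw [pow_zero, mul_one, hZ, mem_filter, hT, mem_cls]; exact ⟨haz, hz₀⟩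
      | succ i ih => rw [pow_succ, ← mul_assoc]; exact hcon _ ih
    obtain ⟨i, hi⟩ := hgen c hcH z₀⁻¹
    have h := hall i
    rw [hi, mul_inv_cancel, hZ, mem_filter] at h
    exact h.2 H.one_mem
  have hvc : v c + HS.card ≤ Z.card + 2 * U.card := by
    set N := HS.image (fun h => t₀ * h) with hN
    have hNc : N.card = HS.card :=
      card_image_of_injective _ (mul_right_injective t₀)
    have hNZ : N ⊆ Z.filter fun t => t * c ∉ Z := by
      intro t ht
      obtain ⟨h, hh, rfl⟩ := mem_image.1 ht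
      rw [hHS, mem_filter] at hh
      rw [hZ, mem_filter, hT, mem_cls] at ht₀
      have hz1 : t₀ * h ∈ Z := by
        rw [hZ, mem_filter, hT, mem_cls]
        exact ⟨hcoset a t₀ ht₀.1 ht₀.2 h hh.2, fun hmem => ht₀.2 ((H.mul_mem_cancel_right hh.2).1 hmem)⟩
      rw [mem_filter]
      refine ⟨hz1, fun hmem => ht₀c ?_⟩
      rw [hZ, mem_filter, hT, mem_cls] at hmem ⊢
      have h' := hcoset a _ hmem.1 hmem.2 h⁻¹ (H.inv_mem hh.2)
      have e : t₀ * h * c * h⁻¹ = t₀ * c := by rw [mul_right_comm t₀ h c, mul_inv_cancel_right]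
      rw [e] at h'
      refine ⟨h', fun hmem' => hmem.2 ?_⟩
      rw [mul_right_comm t₀ h c]
      exact H.mul_mem hmem' hh.2
    have hsub : T.filter (fun t => r a (t * c)) ⊆
        (U ∪ U.image (fun t => t * c⁻¹)) ∪ Z.filter (fun t => t * c ∈ Z) := by
      intro t ht
      rw [mem_filter, hT, mem_cls] at ht
      by_cases h1 : t ∈ H
      · exact mem_union_left _ (mem_union_left _ (by rw [hU, mem_filter, hT, mem_cls]; exact ⟨ht.1, h1⟩))
      by_cases h2 : t * c ∈ H
      · refine mem_union_left _ (mem_union_right _ (mem_image.2 ⟨t * c, ?_, mul_inv_cancel_right t c⟩))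
        rw [hU, mem_filter, hT, mem_cls]; exact ⟨ht.2, h2⟩
      · refine mem_union_right _ ?_
        rw [mem_filter, hZ, mem_filter, mem_filter, hT, mem_cls, mem_cls]
        exact ⟨⟨ht.1, h1⟩, ht.2, h2⟩
    have h3 := (card_le_card hsub).trans (card_union_le _ _)
    have h4 := card_union_le U (U.image (fun t => t * c⁻¹))
    have h5 : (U.image (fun t => t * c⁻¹)).card ≤ U.card := card_image_le
    have h6 := card_le_card hNZ
    have h7 := card_filter_add_card_filter_not (s := Z) (fun t => t * c ∈ Z)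
    show (T.filter fun t => r a (t * c)).card + _ ≤ _
    omega
  omega

end Abstract

section Action

open MulAction

theorem two_transitive_of_regular_cyclic {G Ω : Type*} [Group G] [MulAction G Ω] [Finite Ω]
    (hprim : IsPreprimitive G Ω) (C : Subgroup G) [hcyc : IsCyclic C] (htr : IsPretransitive C Ω)
    (hfree : ∀ a : Ω, stabilizer C a = ⊥) (hcomp : ¬ (Nat.card Ω).Prime) :
    IsMultiplyPretransitive G Ω 2 := by
  classical
  rcases isEmpty_or_nonempty Ω with hΩ | ⟨⟨α⟩⟩
  · exact ⟨fun a => (IsEmpty.false (a 0)).elim⟩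
  have hGt : IsPretransitive G Ω := hprim.toIsPretransitive
  letI : CommGroup C := { (inferInstance : Group C) with mul_comm := fun a b => IsCyclic.commutative.1.comm a b }
  let θ : C ≃ Ω := Equiv.ofBijective (fun c => (c : G) • α) ⟨fun c d h => by
    have hm : d⁻¹ * c ∈ stabilizer C α := by
      rw [mem_stabilizer_iff, mul_smul, inv_smul_eq_iff]
      exact h
    rw [hfree, Subgroup.mem_bot, inv_mul_eq_one] at hm
    exact hm.symm, fun ω => exists_smul_eq C α ω⟩
  haveI : Finite C := Finite.of_equiv _ θ.symm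
  haveI := Fintype.ofFinite C
  have hθ : ∀ (c d : C), θ (c * d) = (c : G) • θ d := fun c d => mul_smul (c : G) (d : G) α
  let r : C → C → Prop := fun x y => ∃ g : G, g • α = α ∧ g • θ x = θ y
  -- invariant kernels
  have hK : ∀ f : C → ℤ, Inv r f → ∀ (g : G) (a b a' b' : C), g • θ a = θ a' → g • θ b = θ b' →
      f (a⁻¹ * b) = f (a'⁻¹ * b') := by
    intro f hf g a b a' b' ha hb
    refine hf _ _ ⟨((a'⁻¹ : C) : G) * g * (a : G), ?_, ?_⟩
    · rw [mul_smul, mul_smul, show (a : G) • α = θ a from rfl, ha, ← hθ, inv_mul_cancel]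
      exact one_smul G α
    · rw [mul_smul, mul_smul, ← hθ, mul_inv_cancel_left, hb, ← hθ]
  have hsr : IsPrimSRing r := by
    refine ⟨⟨fun x => ⟨1, one_smul _ _, one_smul _ _⟩, ?_, ?_⟩, ?_, ?_, ?_, ?_⟩
    · rintro x y ⟨g, hg, hxy⟩
      exact ⟨g⁻¹, inv_smul_eq_iff.2 hg.symm, inv_smul_eq_iff.2 hxy.symm⟩
    · rintro x y z ⟨g, hg, hxy⟩ ⟨g', hg', hyz⟩
      exact ⟨g' * g, by rw [mul_smul, hg, hg'], by rw [mul_smul, hxy, hyz]⟩
    · rintro x ⟨g, hg, hx⟩
      refine θ.injective ?_
      rw [← hx, show θ (1 : C) = α from one_smul G α, hg]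
    · rintro f h hf hh x y ⟨g, hg, hxy⟩
      let π : C ≃ C := θ.trans ((toPerm g).trans θ.symm)
      have hπ : ∀ z, g • θ z = θ (π z) := fun z => by simp [π]
      show conv f h x = conv f h y
      unfold conv
      refine Fintype.sum_equiv π _ _ fun z => ?_
      have h1 : θ (1 : C) = α := one_smul G α
      have e1 := hK f hf g 1 z 1 (π z) (by rw [h1, hg]) (hπ z)
      simp only [inv_one, one_mul] at e1
      rw [e1, hK h hh g z x (π z) y (hπ z) hxy]
    · rintro x y ⟨g, hg, hxy⟩
      refine ⟨((y⁻¹ : C) : G) * g * (x : G), ?_, ?_⟩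
      · rw [mul_smul, mul_smul, show (x : G) • α = θ x from rfl, hxy, ← hθ, inv_mul_cancel]
        exact one_smul G α
      · rw [mul_smul, mul_smul, ← hθ, mul_inv_cancel, show θ (1 : C) = α from one_smul G α, hg]
        rfl
    · intro H hH
      let B : Set Ω := θ '' (H : Set C)
      have hB : IsBlock G B := by
        rw [isBlock_iff_smul_eq_of_mem]
        rintro g _ ⟨a, ha, rfl⟩ ⟨a', ha', hga⟩
        have hsub : g • B ⊆ B := by
          rintro _ ⟨_, ⟨b, hb, rfl⟩, rfl⟩
          obtain ⟨b', hb'⟩ := θ.surjective (g • θ b)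
          refine ⟨b', ?_, hb'⟩
          have hmem : a'⁻¹ * b' ∈ H := hH (a⁻¹ * b) _ ⟨((a'⁻¹ : C) : G) * g * (a : G), by
              rw [mul_smul, mul_smul, show (a : G) • α = θ a from rfl, ← hga, ← hθ, inv_mul_cancel]
              exact one_smul G α, by
              rw [mul_smul, mul_smul, ← hθ, mul_inv_cancel_left, ← hb', ← hθ]⟩
            (H.mul_mem (H.inv_mem ha) hb)
          have := H.mul_mem ha' hmem
          rwa [mul_inv_cancel_left] at this
        refine Set.eq_of_subset_of_ncard_le hsub ?_ (Set.toFinite _)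
        rw [Set.ncard_smul_set]
      rcases hprim.isTrivialBlock_of_isBlock hB with h | h
      · refine Or.inl ((Subgroup.eq_bot_iff_forall H).2 fun z hz => ?_)
        exact θ.injective (h ⟨z, hz, rfl⟩ ⟨1, H.one_mem, rfl⟩)
      · refine Or.inr (eq_top_iff.2 fun z _ => ?_)
        have hz : θ z ∈ B := h ▸ Set.mem_univ _
        obtain ⟨w, hw, hwz⟩ := hz
        rwa [← θ.injective hwz]
  rw [is_two_pretransitive_iff]
  intro a b c d hab hcd
  obtain ⟨g, hg⟩ := exists_smul_eq G a α
  obtain ⟨g', hg'⟩ := exists_smul_eq G c α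
  obtain ⟨x, hx⟩ := θ.surjective (g • b)
  obtain ⟨y, hy⟩ := θ.surjective (g' • d)
  have hx1 : x ≠ 1 := fun h => hab (smul_left_cancel g (by
    rw [hg, ← hx, h]; exact (one_smul G α).symm))
  have hy1 : y ≠ 1 := fun h => hcd (smul_left_cancel g' (by
    rw [hg', ← hy, h]; exact (one_smul G α).symm))
  have hcardC : ¬ (Fintype.card C).Prime := by
    rwa [← Nat.card_eq_fintype_card, Nat.card_congr θ]
  obtain ⟨k, hk, hkxy⟩ := trivial_of_composite hsr hcardC hx1 hy1
  refine ⟨g'⁻¹ * k * g, ?_, ?_⟩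
  · rw [mul_smul, mul_smul, hg, hk, inv_smul_eq_iff, hg']
  · rw [mul_smul, mul_smul, ← hx, hkxy, inv_smul_eq_iff, hy]

end Action

end Cfsg.Agent.SchurRing
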