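import Cfsg.Agent.Lib.Recog.PSL2Spec
import Cfsg.Agent.S0914
import Cfsg.Agent.Lib.Blocks.Section
import Cfsg.Agent.Lib.Char.GlaubermanMod
import Cfsg.Agent.Lib.Char.Degree

/-!
A group of order `|PSL(2, p²)|` with the character degrees of `PSL(2, p²)` is `PSL(2, p²)`: characters of
defect zero and column orthogonality show that `p`-singular elements are `p`-elements.
-/

set_option autoImplicit false
set_option linter.style.haveILetI false
set_option linter.unusedSectionVars false

namespace Cfsg.Agent.PSL2Degrees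

open MulAction Cfsg.Agent.Char
open scoped ComplexConjugate

universe u

variable {G : Type u} [Group G] [Finite G]

/-- A character of `r`-defect zero vanishes on the elements of order divisible by `r`. -/
theorem eq_zero_of_defect_zero (r : ℕ) [hr : Fact r.Prime] (χ : Cfsg.IrrCharacter G)
    (hdef : ¬ r ∣ Nat.card G / Cfsg.charDegree (χ : G → ℂ)) {g : G} (hg : r ∣ orderOf g) :
    (χ : G → ℂ) g = 0 := by
  classical
  haveI := Fintype.ofFinite G
  obtain ⟨M, hM⟩ := Cfsg.Agent.GlaubermanMod.exists_isPModular r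
  haveI := Cfsg.Agent.Blocks.IsPModular.isPrime hM
  obtain ⟨x, hx⟩ := Cfsg.Agent.Blocks.exists_isPPart hr.out g
  refine Cfsg.Agent.Blocks.irr_eq_zero_of_notMem_defect hM (Cfsg.Agent.Blocks.isPBlock_blockOf χ)
    (Cfsg.Agent.Blocks.self_mem_blockOf χ) hx fun D hD hxD => ?_
  have hb := (Cfsg.Agent.S0914.result r M hM χ).1 hdef
  have hc := Cfsg.Agent.Blocks.card_defectGroup hM (Cfsg.Agent.Blocks.isPBlock_blockOf χ) hD
  have hfac : (Nat.card G).factorization r = (Cfsg.charDegree (χ : G → ℂ)).factorization r := by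
    by_contra hne
    apply hdef
    have hd := Cfsg.Agent.Blocks.charDegree_dvd_card χ
    have hle := Cfsg.Agent.Blocks.degExp_le_card (p := r) χ
    have hq : Nat.card G / Cfsg.charDegree (χ : G → ℂ) ≠ 0 :=
      Nat.div_ne_zero_iff.2 ⟨(Cfsg.Agent.Blocks.charDegree_pos χ).ne', Nat.le_of_dvd Nat.card_pos hd⟩
    rw [hr.out.dvd_iff_one_le_factorization hq, Nat.factorization_div hd]
    simp only [Finsupp.coe_tsub, Pi.sub_apply]
    omega
  have hbd : Cfsg.blockDefect r (Cfsg.blockOf M (χ : G → ℂ)) = 0 := by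
    rw [hb, Cfsg.blockDefect, Set.image_singleton, csInf_singleton, hfac, Nat.sub_self]
  rw [hbd, pow_zero, Subgroup.card_eq_one] at hc
  rw [hc, Subgroup.mem_bot] at hxD
  obtain ⟨y, hxy, -, -, hy⟩ := hx
  rw [hxD, one_mul] at hxy
  exact hy (hxy ▸ hg)

/-- `1 + D α ≠ 0` for an algebraic integer `α` and an integer `D > 1`. -/
theorem one_add_mul_ne_zero {α : ℂ} (hα : IsIntegral ℤ α) {D : ℕ} (hD : 2 ≤ D) : 1 + (D : ℂ) * α ≠ 0 := by
  intro h
  have hD0 : (D : ℚ) ≠ 0 := by positivity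
  have hval : α = algebraMap ℚ ℂ (-1 / D) := by
    rw [map_div₀, map_neg, map_one, map_natCast]
    have : (D : ℂ) ≠ 0 := by exact_mod_cast (show D ≠ 0 by omega)
    field_simp
    linear_combination h
  rw [hval] at hα
  rw [isIntegral_algebraMap_iff (algebraMap ℚ ℂ).injective] at hα
  obtain ⟨m, hm⟩ := IsIntegrallyClosed.isIntegral_iff.1 hα
  rw [eq_intCast] at hm
  have h2 : (m : ℚ) * D = -1 := by rw [hm]; field_simp
  have h3 : m * (D : ℤ) = -1 := by exact_mod_cast h2
  have h4 : (D : ℤ) ∣ 1 := ⟨-m, by linear_combination h3⟩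
  have := Int.le_of_dvd one_pos h4
  omega

/-- The degree pattern of `PSL(2, q)`. -/
structure Degrees (G : Type u) [Group G] (q d : ℕ) : Prop where
  deg : ∀ χ : Cfsg.IrrCharacter G,
    (χ : G → ℂ) 1 = 1 ∨ Cfsg.charDegree (χ : G → ℂ) = q ∨ Cfsg.charDegree (χ : G → ℂ) = q - 1 ∨
      Cfsg.charDegree (χ : G → ℂ) = q + 1 ∨ d * Cfsg.charDegree (χ : G → ℂ) = q + 1
  linear : Nat.card {χ : Cfsg.IrrCharacter G // (χ : G → ℂ) 1 = 1} = 1

theorem charDegree_eq {χ : Cfsg.IrrCharacter G} {m : ℕ} (h : (χ : G → ℂ) 1 = (m : ℂ)) :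
    Cfsg.charDegree (χ : G → ℂ) = m := by
  have h1 := Cfsg.Agent.CharX.irr_deg χ
  rw [h] at h1
  exact_mod_cast h1.symm

/-- `p`-singular elements are `p`-elements. -/
theorem not_dvd_orderOf {p f d : ℕ} [hp : Fact p.Prime] (hq3 : 3 < p ^ f) (hf : 0 < f)
    (hd : (p = 2 ∧ d = 1) ∨ (p ≠ 2 ∧ d = 2 ∧ 4 ∣ p ^ f - 1))
    (hcard : d * Nat.card G = (p ^ f + 1) * p ^ f * (p ^ f - 1)) (hD : Degrees G (p ^ f) d)
    {g : G} (hpg : p ∣ orderOf g) {r : ℕ} [hr : Fact r.Prime] (hrp : r ≠ p) : ¬ r ∣ orderOf g := by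
  classical
  intro hrg
  haveI := Fintype.ofFinite G
  set q := p ^ f with hqdef
  have hpq : p ∣ q := dvd_pow_self p hf.ne'
  have hg1 : g ≠ 1 := fun e => hp.out.ne_one (Nat.dvd_one.1 (by rwa [e, orderOf_one] at hpg))
  have hG : r ∣ Nat.card G := hrg.trans (orderOf_dvd_natCard g)
  have hd2 : d = 1 ∨ d = 2 := hd.elim (fun h => Or.inl h.2) fun h => Or.inr h.2.1
  have hrq : ¬ r ∣ q := fun h =>
    hrp ((Nat.prime_dvd_prime_iff_eq hr.out hp.out).1 (hr.out.dvd_of_dvd_pow h))
  -- the Steinberg character vanishes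
  have hSt : ∀ χ : Cfsg.IrrCharacter G, Cfsg.charDegree (χ : G → ℂ) = q → (χ : G → ℂ) g = 0 := by
    intro χ hχ
    refine eq_zero_of_defect_zero p χ ?_ hpg
    rw [hχ]
    intro hdv
    have hdvd := Cfsg.Agent.CharX.irr_deg_dvd_card χ
    rw [hχ] at hdvd
    have h2 : p ∣ d * (Nat.card G / q) := hdv.mul_left d
    rw [← Nat.mul_div_assoc d hdvd, hcard,
      show (q + 1) * q * (q - 1) = (q + 1) * (q - 1) * q by ring, Nat.mul_div_cancel _ (by omega)] at h2
    rcases hp.out.dvd_mul.1 h2 with h | h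
    · exact hp.out.one_lt.ne' (Nat.dvd_one.1 ((Nat.dvd_add_right hpq).1 h))
    · have h3 := Nat.dvd_sub hpq h
      rw [Nat.sub_sub_self (by omega : 1 ≤ q)] at h3
      exact hp.out.one_lt.ne' (Nat.dvd_one.1 h3)
  -- the divisor of the surviving degrees
  obtain ⟨D, hD2, hDsurv⟩ : ∃ D, 2 ≤ D ∧ ∀ χ : Cfsg.IrrCharacter G, (χ : G → ℂ) 1 ≠ 1 →
      (χ : G → ℂ) g = 0 ∨ D ∣ Cfsg.charDegree (χ : G → ℂ) := by
    have hdiv : r ∣ q + 1 ∨ r ∣ q - 1 := by
      have h1 : r ∣ (q + 1) * q * (q - 1) := hcard ▸ hG.mul_left d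
      rcases hr.out.dvd_mul.1 h1 with h | h
      · rcases hr.out.dvd_mul.1 h with h | h
        · exact Or.inl h
        · exact absurd h hrq
      · exact Or.inr h
    have hsmall : ∀ {a b : ℕ}, r ∣ a → r ∣ b → r ∣ a - b := fun ha hb => Nat.dvd_sub ha hb
    by_cases hcase : r ∣ q - 1
    · -- degrees `q - 1` have defect zero
      refine ⟨(q + 1) / d, ?_, fun χ hχ => ?_⟩
      · rcases hd2 with rfl | rfl <;> omega
      rcases hD.deg χ with h | h | h | h | h
      · exact absurd h hχ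
      · exact Or.inl (hSt χ h)
      · refine Or.inl (eq_zero_of_defect_zero r χ ?_ hrg)
        rw [h]
        intro hdv
        have hdvd := Cfsg.Agent.CharX.irr_deg_dvd_card χ
        rw [h] at hdvd
        have e : d * (Nat.card G / (q - 1)) = (q + 1) * q := by
          rw [← Nat.mul_div_assoc d hdvd, hcard, Nat.mul_div_cancel _ (by omega)]
        have h2 : r ∣ q + 1 := (hr.out.dvd_mul.1 (e ▸ hdv.mul_left d)).resolve_right hrq
        have h3 := hsmall h2 hcase
        rw [show q + 1 - (q - 1) = 2 by omega] at h3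
        have hr2 : r = 2 := (Nat.prime_dvd_prime_iff_eq hr.out Nat.prime_two).1 h3
        rcases hd with ⟨hp2, -⟩ | ⟨-, hd2', h4⟩
        · exact hrp (hr2.trans hp2.symm)
        · subst hr2 hd2'
          obtain ⟨i, hi⟩ := hdv
          rw [hi] at e
          rcases Nat.even_or_odd q with hev | hod
          · exact hrq hev.two_dvd
          · have : 4 ∣ (q + 1) * q := ⟨i, by rw [← e]; ring⟩
            have hcop : Nat.Coprime 4 q := by
              rw [show (4 : ℕ) = 2 ^ 2 by rfl]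
              exact Nat.Coprime.pow_left 2 ((Nat.Prime.coprime_iff_not_dvd Nat.prime_two).2 hrq)
            have := hcop.dvd_of_dvd_mul_right this
            omega
      · exact Or.inr (h ▸ Nat.div_dvd_of_dvd (by
          rcases hd with ⟨-, rfl⟩ | ⟨-, rfl, h4⟩
          · exact one_dvd _
          · omega))
      · refine Or.inr ?_
        rw [← h, Nat.mul_div_cancel_left _ (by omega)]
    · -- degrees divisible by `(q + 1) / d` have defect zero
      have hplus : r ∣ q + 1 := hdiv.resolve_right hcase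
      have hr2 : r ≠ 2 := by
        rintro rfl
        omega
      refine ⟨q - 1, by omega, fun χ hχ => ?_⟩
      rcases hD.deg χ with h | h | h | h | h
      · exact absurd h hχ
      · exact Or.inl (hSt χ h)
      · exact Or.inr (h ▸ dvd_rfl)
      all_goals
        refine Or.inl (eq_zero_of_defect_zero r χ ?_ hrg)
        intro hdv
        obtain ⟨i, hi⟩ := hdv
        have hdvd := Cfsg.Agent.CharX.irr_deg_dvd_card χ
        have hmul := Nat.mul_div_cancel' hdvd
        rw [hi] at hmul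
        have hdG := hcard
        rw [← hmul] at hdG
      · rw [h] at hdG
        have e : d * (r * i) = q * (q - 1) :=
          Nat.eq_of_mul_eq_mul_left (show 0 < q + 1 by omega)
            (by rw [← mul_assoc (q + 1) q, ← hdG]; ring)
        exact hcase ((hr.out.dvd_mul.1 ⟨d * i, by rw [← e]; ring⟩).resolve_left hrq)
      · have e : r * i = q * (q - 1) :=
          Nat.eq_of_mul_eq_mul_left (show 0 < q + 1 by omega)
            (by rw [← mul_assoc (q + 1) q, ← hdG, ← h]; ring)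
        exact hcase ((hr.out.dvd_mul.1 ⟨i, e.symm⟩).resolve_left hrq)
  -- column orthogonality with the identity
  have horth := column_orth_of_not_isConj (G := G) (g := g) (h := 1)
    fun hc => hg1 (isConj_one_left.1 hc)
  obtain ⟨⟨χ₁, hχ₁⟩, huniq⟩ : ∃ x : {χ : Cfsg.IrrCharacter G // (χ : G → ℂ) 1 = 1}, ∀ y, y = x := by
    obtain ⟨hs, ⟨x⟩⟩ := Nat.card_eq_one_iff_unique.1 hD.linear
    exact ⟨x, fun y => Subsingleton.elim _ _⟩
  have hχ₁g : (χ₁ : G → ℂ) g = 1 := by
    let one : Cfsg.IrrCharacter G := ⟨fun _ => 1, isIrrCharacter_one⟩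
    have := congrArg Subtype.val (huniq ⟨one, rfl⟩)
    rw [← show one = χ₁ from this]
  let α : ℂ := ∑ χ ∈ Finset.univ.erase χ₁,
    (χ : G → ℂ) g * ((Cfsg.charDegree (χ : G → ℂ) / D : ℕ) : ℂ)
  refine one_add_mul_ne_zero (α := α) ?_ hD2 ?_
  · refine IsIntegral.sum _ fun χ _ => IsIntegral.mul ?_ ?_
    · exact IsCharacter.isIntegral (IsIrrCharacter.isCharacter χ.2) g
    · have h := isIntegral_algebraMap (R := ℤ) (A := ℂ) (x := ((Cfsg.charDegree (χ : G → ℂ) / D : ℕ) : ℤ))
      rwa [eq_intCast, Int.cast_natCast] at h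
  · rw [← horth, ← Finset.add_sum_erase _ _ (Finset.mem_univ χ₁), hχ₁g, hχ₁, map_one, one_mul,
      Finset.mul_sum]
    congr 1
    refine Finset.sum_congr rfl fun χ hχ => ?_
    have hne : (χ : G → ℂ) 1 ≠ 1 := fun e =>
      Finset.ne_of_mem_erase hχ (congrArg Subtype.val (huniq ⟨χ, e⟩))
    rw [Cfsg.Agent.CharX.irr_deg, Complex.conj_natCast]
    rcases hDsurv χ hne with h | h
    · rw [h]; ring
    · conv_rhs => rw [← Nat.mul_div_cancel' h]
      push_cast
      ring

/-- The Sylow `p`-subgroups of order `p²` are not cyclic. -/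
theorem iso_of_singular {p d : ℕ} [hp : Fact p.Prime] (hd : d = 1 ∨ (p ≠ 2 ∧ d = 2))
    (hcard : d * Nat.card G = (p ^ 2 + 1) * p ^ 2 * (p ^ 2 - 1))
    (hsing : ∀ g : G, p ∣ orderOf g → ∃ j, orderOf g = p ^ j) : SylowTISpec.Iso p G := by
  classical
  intro g hg
  by_contra hne
  haveI := Fintype.ofFinite (Sylow p G)
  have hp2 := hp.out.two_le
  set q := p ^ 2 with hq
  have hq4 : 4 ≤ q := by rw [hq, pow_two]; exact Nat.mul_le_mul hp2 hp2
  have hpq : p ∣ q := dvd_pow_self p two_ne_zero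
  have hpd : p.Coprime d := by
    rcases hd with rfl | ⟨h2, rfl⟩
    · exact Nat.coprime_one_right p
    · exact (Nat.coprime_primes hp.out Nat.prime_two).2 h2
  obtain ⟨m, hm⟩ : q ∣ Nat.card G :=
    (Nat.Coprime.pow_left 2 hpd).dvd_of_dvd_mul_left ⟨(q + 1) * (q - 1), by rw [hcard]; ring⟩
  have hdm : d * m = (q + 1) * (q - 1) := by
    refine Nat.eq_of_mul_eq_mul_left (show 0 < q by omega) ?_
    rw [← mul_assoc, mul_comm q d, mul_assoc, ← hm, hcard]
    ring
  have hpm : ¬ p ∣ m := by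
    intro hdv
    rcases hp.out.dvd_mul.1 (hdm ▸ hdv.mul_left d) with h2 | h2
    · exact hp.out.one_lt.ne' (Nat.dvd_one.1 ((Nat.dvd_add_right hpq).1 h2))
    · have h3 := Nat.dvd_sub hpq h2
      rw [Nat.sub_sub_self (by omega : 1 ≤ q)] at h3
      exact hp.out.one_lt.ne' (Nat.dvd_one.1 h3)
  -- an element of order `p²`
  obtain ⟨j, hj⟩ := hsing g hg
  have hgq : orderOf g = q := by
    have h1 : orderOf g ∣ q * m := hm ▸ orderOf_dvd_natCard g
    have h2 : orderOf g ∣ q := by
      rw [hj] at h1 ⊢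
      exact (Nat.Coprime.pow_left j ((Nat.Prime.coprime_iff_not_dvd hp.out).2 hpm)).dvd_of_dvd_mul_right h1
    obtain ⟨i, hi, hi'⟩ := (Nat.dvd_prime_pow hp.out).1 h2
    interval_cases i
    · rw [hi', pow_zero, Nat.dvd_one] at hg; exact absurd hg hp.out.ne_one
    · exact absurd (by rw [hi', pow_one]) hne
    · exact hi'
  let x := g ^ p
  have hx : orderOf x = p := by
    show orderOf (g ^ p) = p
    rw [orderOf_pow, hgq, hq, Nat.gcd_eq_right hpq, pow_two, Nat.mul_div_cancel _ hp.out.pos]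
  obtain ⟨P, hgP⟩ := (IsPGroup.of_card (n := 2) (by rw [Nat.card_zpowers, hgq]) :
    IsPGroup p (Subgroup.zpowers g)).exists_le_sylow
  have hm0 : m ≠ 0 := fun e => hpm (e ▸ dvd_zero p)
  have hPc : ∀ A : Sylow p G, Nat.card (A : Subgroup G) = q := fun A => by
    rw [A.card_eq_multiplicity, hm, Nat.factorization_mul (by omega) hm0, Finsupp.add_apply,
      Nat.factorization_eq_zero_of_not_dvd hpm, hq, hp.out.factorization_pow, Finsupp.single_eq_same,
      add_zero]
  have hPeq : Subgroup.zpowers g = (P : Subgroup G) :=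
    Subgroup.eq_of_le_of_card_ge hgP (by rw [hPc, Nat.card_zpowers, hgq])
  -- centralisers of elements of order `p` are `p`-groups
  have hCp : ∀ y : G, orderOf y = p → IsPGroup p (Subgroup.centralizer ({y} : Set G)) := by
    intro y hy
    refine IsPGroup.iff_orderOf.2 fun z => ?_
    rw [← Subgroup.orderOf_coe]
    by_cases hpz : p ∣ orderOf (z : G)
    · exact hsing _ hpz
    · have hc : Commute y (z : G) := (Subgroup.mem_centralizer_singleton_iff.1 z.2).symm
      have ho := hc.orderOf_mul_eq_mul_orderOf_of_coprime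
        (by rw [hy]; exact (Nat.Prime.coprime_iff_not_dvd hp.out).2 hpz)
      rw [hy] at ho
      obtain ⟨i, hi⟩ := hsing (y * z) (by rw [ho]; exact dvd_mul_right _ _)
      obtain ⟨i', -, hi'⟩ := (Nat.dvd_prime_pow hp.out).1 (show orderOf (z : G) ∣ p ^ i from hi ▸ ho ▸ dvd_mul_left _ _)
      exact ⟨i', hi'⟩
  -- distinct Sylow subgroups are disjoint
  have hfree : ∀ Q : Sylow p G, Q ≠ P → ∀ u ∈ (P : Subgroup G), u • Q = Q → u = 1 := by
    intro Q hQ u hu huQ
    by_contra hu1
    have hle : Subgroup.zpowers u ≤ Subgroup.normalizer (Q : Set G) := by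
      rw [Subgroup.zpowers_le]; exact Sylow.smul_eq_iff_mem_normalizer.1 huQ
    have huQ' : u ∈ (Q : Subgroup G) :=
      (Q.3 ((P.2.to_le (Subgroup.zpowers_le.2 hu)).to_sup_of_normal_right' Q.2 hle) le_sup_right) ▸
        Subgroup.mem_sup_left (Subgroup.mem_zpowers u)
    have hI : Nontrivial ↥((P : Subgroup G) ⊓ (Q : Subgroup G)) :=
      ⟨⟨⟨u, hu, huQ'⟩, 1, fun e => hu1 (congrArg Subtype.val e)⟩⟩
    have hIp : IsPGroup p ↥((P : Subgroup G) ⊓ (Q : Subgroup G)) := P.2.to_le inf_le_left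
    obtain ⟨n, hn, hnc⟩ := hIp.nontrivial_iff_card.1 hI
    obtain ⟨⟨w, hwP, hwQ⟩, hw⟩ := exists_prime_orderOf_dvd_card' (G := ↥((P : Subgroup G) ⊓ (Q : Subgroup G))) p
      (hnc ▸ dvd_pow_self p hn.ne')
    have hw : orderOf w = p := by rw [← hw, ← Subgroup.orderOf_coe]
    have hcomm : ∀ A : Sylow p G, ∀ a ∈ (A : Subgroup G), ∀ b ∈ (A : Subgroup G), a * b = b * a :=
      fun A a ha b hb => congrArg Subtype.val
        ((IsPGroup.commutative_of_card_eq_prime_sq (p := p) (G := (A : Subgroup G)) (hPc A))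
          ⟨a, ha⟩ ⟨b, hb⟩)
    have hPC : (P : Subgroup G) ≤ Subgroup.centralizer ({w} : Set G) := fun a ha =>
      Subgroup.mem_centralizer_singleton_iff.2 (hcomm P a ha w hwP)
    have hQC : (Q : Subgroup G) ≤ Subgroup.centralizer ({w} : Set G) := fun a ha =>
      Subgroup.mem_centralizer_singleton_iff.2 (hcomm Q a ha w hwQ)
    exact hQ (Sylow.ext ((Q.3 (hCp w hw) hQC).symm.trans (P.3 (hCp w hw) hPC)))
  set N := Subgroup.normalizer (P : Set G) with hN
  have hPN : (P : Subgroup G) ≤ N := Subgroup.le_normalizer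
  haveI : ((P : Subgroup G).subgroupOf N).Normal := Subgroup.normal_in_normalizer
  have hcardP' : Nat.card ((P : Subgroup G).subgroupOf N) = q := by
    rw [Nat.card_congr (Subgroup.subgroupOfEquivOfLe hPN).toEquiv, hPc]
  set k := ((P : Subgroup G).subgroupOf N).index with hk
  have hNk : Nat.card N = q * k := by rw [← ((P : Subgroup G).subgroupOf N).card_mul_index, hcardP']
  set n := Nat.card (Sylow p G) with hn
  have hGn : Nat.card G = n * (q * k) := by
    rw [hn, Sylow.card_eq_index_normalizer P, ← hNk, mul_comm, ← hN, N.card_mul_index]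
  have hdvd : q ∣ n - 1 := by
    have hother : ∀ u : (P : Subgroup G), ∀ Q : Sylow p G, Q ≠ P → (u : G) • Q ≠ P := by
      intro u Q hQ e
      refine hQ ((smul_left_cancel_iff (u : G)).1 (e.trans ?_))
      exact (Sylow.smul_eq_iff_mem_normalizer.2 (hPN u.2)).symm
    letI : MulAction (P : Subgroup G) {Q : Sylow p G // Q ≠ P} :=
      { smul := fun u Q => ⟨(u : G) • Q.1, hother u _ Q.2⟩
        one_smul := fun Q => Subtype.ext (one_smul G Q.1)
        mul_smul := fun u v Q => Subtype.ext (mul_smul (u : G) (v : G) Q.1) }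
    have h1 := ZassAb.card_dvd_of_free (A := (P : Subgroup G)) (S := {Q : Sylow p G // Q ≠ P})
      fun u Q e => Subtype.ext (hfree Q.1 Q.2 u u.2 (congrArg Subtype.val e))
    rwa [hPc, Nat.card_eq_fintype_card (α := {Q : Sylow p G // Q ≠ P}), Fintype.card_subtype_compl,
      Fintype.card_subtype_eq, ← Nat.card_eq_fintype_card, ← hn] at h1
  have hkp : k ≤ p - 1 := by
    obtain ⟨K, hK⟩ := Subgroup.exists_right_complement'_of_coprime
      (N := (P : Subgroup G).subgroupOf N) (by
        rw [hcardP', ← hk]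
        refine Nat.Coprime.pow_left 2 ((Nat.Prime.coprime_iff_not_dvd hp.out).2 fun hd' => ?_)
        have : p * q ∣ Nat.card G := by
          rw [hGn, show n * (q * k) = q * (n * k) by ring, mul_comm p]
          exact mul_dvd_mul_left q (hd'.mul_left n)
        rw [hm, mul_comm p] at this
        exact hpm (Nat.dvd_of_mul_dvd_mul_left (by omega) this))
    have hKk : Nat.card K = k := by
      have h1 := hK.card_mul_card
      rw [hcardP', hNk] at h1
      exact Nat.eq_of_mul_eq_mul_left (by omega) h1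
    have hCx : Subgroup.centralizer ({x} : Set G) = (P : Subgroup G) :=
      P.3 (hCp x hx) (by
        rw [← hPeq, Subgroup.zpowers_le]
        exact Subgroup.mem_centralizer_singleton_iff.2 (Commute.pow_right (Commute.refl g) p).eq)
    have hzx : ∀ y : G, y ∈ N → y * x * y⁻¹ ∈ Subgroup.zpowers x := by
      intro y hy
      have h1 : y * g * y⁻¹ ∈ Subgroup.zpowers g :=
        hPeq.symm ▸ (Subgroup.mem_normalizer_iff.1 hy g).1 (hgP (Subgroup.mem_zpowers g))
      obtain ⟨i, hi⟩ := Subgroup.mem_zpowers_iff.1 h1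
      refine Subgroup.mem_zpowers_iff.2 ⟨i, ?_⟩
      show (g ^ p) ^ i = y * g ^ p * y⁻¹
      rw [← conj_pow, ← hi, ← zpow_natCast g p, ← zpow_mul, ← zpow_natCast (g ^ i) p, ← zpow_mul, mul_comm]
    have hx1 : x ≠ 1 := fun e => by rw [e, orderOf_one] at hx; omega
    let φ : K → {z : Subgroup.zpowers x // z ≠ 1} := fun y =>
      ⟨⟨((y : N) : G) * x * ((y : N) : G)⁻¹, hzx _ (y : N).2⟩,
        fun e => hx1 (conj_eq_one_iff.1 (congrArg Subtype.val e))⟩
    have hφ : Function.Injective φ := by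
      intro y z e
      have e' : ((y : N) : G) * x * ((y : N) : G)⁻¹ = ((z : N) : G) * x * ((z : N) : G)⁻¹ :=
        congrArg (fun a => ((a.1 : Subgroup.zpowers x) : G)) e
      set w : K := z⁻¹ * y with hw
      have hwP : ((w : N) : G) ∈ (P : Subgroup G) := by
        rw [← hCx, Subgroup.mem_centralizer_singleton_iff]
        show ((z : N) : G)⁻¹ * ((y : N) : G) * x = x * (((z : N) : G)⁻¹ * ((y : N) : G))
        symm
        calc x * (((z : N) : G)⁻¹ * ((y : N) : G))
            = ((z : N) : G)⁻¹ * (((z : N) : G) * x * ((z : N) : G)⁻¹) * ((y : N) : G) := by group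
          _ = ((z : N) : G)⁻¹ * (((y : N) : G) * x * ((y : N) : G)⁻¹) * ((y : N) : G) := by rw [e']
          _ = _ := by group
      have hw1 : (w : N) ∈ (P : Subgroup G).subgroupOf N ⊓ K := ⟨hwP, w.2⟩
      rw [disjoint_iff.1 hK.disjoint, Subgroup.mem_bot] at hw1
      exact (inv_mul_eq_one.1 (Subtype.ext hw1 : w = 1)).symm
    have h2 := Nat.card_le_card_of_injective φ hφ
    haveI := Fintype.ofFinite (Subgroup.zpowers x)
    rwa [hKk, Nat.card_eq_fintype_card (α := {z : Subgroup.zpowers x // z ≠ 1}), Fintype.card_subtype_compl,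
      Fintype.card_subtype_eq, ← Nat.card_eq_fintype_card, Nat.card_zpowers, hx] at h2
  obtain ⟨i, hi⟩ := hdvd
  have hnpos : 0 < n := Nat.card_pos
  have hnj : n = 1 + q * i := by omega
  have heq : d * n * k + 1 = q * q := by
    have h1 : d * (n * k) = d * m := by
      congr 1
      refine Nat.eq_of_mul_eq_mul_left (show 0 < q by omega) ?_
      rw [← hm, hGn]; ring
    obtain ⟨r, hr⟩ : ∃ r, q = r + 1 := ⟨q - 1, by omega⟩
    rw [mul_assoc, h1, hdm, hr, Nat.add_sub_cancel]
    ring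
  have h1 : q ∣ d * k + 1 := by
    refine (Nat.dvd_add_right (dvd_mul_right q (d * i * k))).1 ⟨q, ?_⟩
    rw [← heq, hnj]; ring
  have h2 := Nat.le_of_dvd (Nat.succ_pos _) h1
  have h3 : d * k ≤ 2 * (p - 1) :=
    Nat.mul_le_mul (by rcases hd with rfl | ⟨-, rfl⟩ <;> norm_num) hkp
  have h4 : 2 * p ≤ q := by rw [hq, pow_two]; exact Nat.mul_le_mul_right p hp2
  omega

end Cfsg.Agent.PSL2Degrees
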