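import Mathlib.GroupTheory.SpecificGroups.Alternating
import Mathlib.GroupTheory.SpecificGroups.Alternating.Simple
import Mathlib.GroupTheory.Perm.Cycle.Type
import Mathlib.Algebra.Group.Subgroup.Pointwise

/-!
# Alternating subgroups supported on a subset of points
-/

set_option autoImplicit false

namespace Cfsg.Agent.AltSub

open Equiv Equiv.Perm

variable {α : Type*}

/-- The setwise stabiliser of `Δ`. -/
def setStab (Δ : Finset α) : Subgroup (Perm α) where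
  carrier := {σ | ∀ x, σ x ∈ Δ ↔ x ∈ Δ}
  one_mem' x := Iff.rfl
  mul_mem' {σ τ} hσ hτ x := (hσ (τ x)).trans (hτ x)
  inv_mem' {σ} hσ x := by
    rw [← hσ (σ⁻¹ x)]
    simp

theorem mem_setStab {Δ : Finset α} {σ : Perm α} : σ ∈ setStab Δ ↔ ∀ x, σ x ∈ Δ ↔ x ∈ Δ := Iff.rfl

theorem mem_setStab_of_maps [Finite α] {Δ : Finset α} {σ : Perm α} (h : ∀ x ∈ Δ, σ x ∈ Δ) :
    σ ∈ setStab Δ := by
  classical
  haveI := Fintype.ofFinite α
  intro x
  refine ⟨fun hx => ?_, h x⟩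
  have heq : Δ.image σ = Δ :=
    Finset.eq_of_subset_of_card_le (Finset.image_subset_iff.2 h)
      (Finset.card_image_of_injective _ σ.injective).ge
  rw [← heq, Finset.mem_image] at hx
  obtain ⟨y, hy, hyx⟩ := hx
  rwa [σ.injective hyx] at hy

/-- The pointwise stabiliser of the complement of `Δ`. -/
def supp (Δ : Finset α) : Subgroup (Perm α) where
  carrier := {σ | ∀ x ∉ Δ, σ x = x}
  one_mem' x _ := rfl
  mul_mem' {σ τ} hσ hτ x hx := by rw [Perm.mul_apply, hτ x hx, hσ x hx]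
  inv_mem' {σ} hσ x hx := by
    rw [Perm.inv_eq_iff_eq]
    exact (hσ x hx).symm

theorem mem_supp {Δ : Finset α} {σ : Perm α} : σ ∈ supp Δ ↔ ∀ x ∉ Δ, σ x = x := Iff.rfl

theorem apply_mem_of_mem_supp {Δ : Finset α} {σ : Perm α} (h : σ ∈ supp Δ) {x : α} (hx : x ∈ Δ) :
    σ x ∈ Δ := by
  by_contra hc
  exact hc (by rwa [σ.injective (h _ hc)])

theorem supp_le_setStab (Δ : Finset α) : supp Δ ≤ setStab Δ := fun σ hσ x =>
  ⟨fun hx => by
    have := apply_mem_of_mem_supp (inv_mem hσ) hx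
    simpa using this, fun hx => apply_mem_of_mem_supp hσ hx⟩

theorem supp_commute {Δ Δ' : Finset α} (hd : ∀ x ∈ Δ, x ∉ Δ') {σ τ : Perm α} (hσ : σ ∈ supp Δ)
    (hτ : τ ∈ supp Δ') : σ * τ = τ * σ := by
  apply Equiv.ext
  intro x
  simp only [Perm.mul_apply]
  by_cases hx : x ∈ Δ
  · rw [hτ x (hd x hx), hτ _ (hd _ (apply_mem_of_mem_supp hσ hx))]
  · rw [hσ x hx]
    by_cases hx' : x ∈ Δ'
    · exact hσ _ fun h => hd _ h (apply_mem_of_mem_supp hτ hx')
    · rw [hτ x hx', hσ x hx]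

theorem supp_mono {Δ Δ' : Finset α} (h : Δ ⊆ Δ') : supp Δ ≤ supp Δ' :=
  fun _ hσ x hx => hσ x fun h' => hx (h h')

variable [DecidableEq α]

theorem conj_mem_supp {Δ : Finset α} {σ : Perm α} (g : Perm α) (hσ : σ ∈ supp Δ) :
    g * σ * g⁻¹ ∈ supp (Δ.image g) := by
  intro x hx
  have : g⁻¹ x ∉ Δ := fun h => hx (Finset.mem_image.2 ⟨_, h, by simp⟩)
  rw [Perm.mul_apply, Perm.mul_apply, hσ _ this]
  simp

theorem swap_mem_supp {Δ : Finset α} {a b : α} (ha : a ∈ Δ) (hb : b ∈ Δ) : swap a b ∈ supp Δ := by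
  intro x hx
  exact swap_apply_of_ne_of_ne (fun h => hx (h ▸ ha)) (fun h => hx (h ▸ hb))

/-- `a ↦ b ↦ c ↦ a`. -/
def cyc (a b c : α) : Perm α := swap a b * swap b c

theorem cyc_mem_supp {Δ : Finset α} {a b c : α} (ha : a ∈ Δ) (hb : b ∈ Δ) (hc : c ∈ Δ) :
    cyc a b c ∈ supp Δ := mul_mem (swap_mem_supp ha hb) (swap_mem_supp hb hc)

theorem cyc_conj (g : Perm α) (a b c : α) : g * cyc a b c * g⁻¹ = cyc (g a) (g b) (g c) := by
  simp only [cyc, Equiv.swap_apply_apply]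
  group

theorem cyc_inv (a b c : α) : (cyc a b c)⁻¹ = cyc c b a := by
  rw [cyc, cyc, mul_inv_rev, swap_inv, swap_inv, swap_comm b c, swap_comm a b]

theorem cyc_apply_left {a b c : α} (hab : a ≠ b) (hac : a ≠ c) : cyc a b c a = b := by
  rw [cyc, Perm.mul_apply, swap_apply_of_ne_of_ne hab hac, swap_apply_left]

theorem cyc_apply_mid {a b c : α} (hac : a ≠ c) (hbc : b ≠ c) : cyc a b c b = c := by
  rw [cyc, Perm.mul_apply, swap_apply_left, swap_apply_of_ne_of_ne hac.symm hbc.symm]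

theorem cyc_apply_right {a b c : α} : cyc a b c c = a := by
  rw [cyc, Perm.mul_apply, swap_apply_right, swap_apply_right]

theorem cyc_rot {a b c : α} (hab : a ≠ b) (hac : a ≠ c) (hbc : b ≠ c) :
    cyc a b c = cyc b c a := by
  apply Equiv.ext
  intro x
  by_cases hxa : x = a
  · subst hxa; rw [cyc_apply_left hab hac, cyc_apply_right]
  by_cases hxb : x = b
  · subst hxb; rw [cyc_apply_mid hac hbc, cyc_apply_left hbc hab.symm]
  by_cases hxc : x = c
  · subst hxc; rw [cyc_apply_right, cyc_apply_mid hab.symm hac.symm]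
  have hm : x ∉ ({a, b, c} : Finset α) := by simp [hxa, hxb, hxc]
  rw [cyc_mem_supp (by simp) (by simp) (by simp) x hm, cyc_mem_supp (by simp) (by simp) (by simp) x hm]

theorem cyc_ne_one {a b c : α} (hab : a ≠ b) (hac : a ≠ c) : cyc a b c ≠ 1 := fun h => by
  have := cyc_apply_left hab hac
  rw [h] at this
  exact hab this

variable [Fintype α]

theorem sign_cyc {a b c : α} (hab : a ≠ b) (hbc : b ≠ c) : sign (cyc a b c) = 1 := by
  rw [cyc, map_mul, sign_swap hab, sign_swap hbc]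
  rfl

/-- The alternating group on `Δ`. -/
def altSub (Δ : Finset α) : Subgroup (Perm α) := alternatingGroup α ⊓ supp Δ

theorem mem_altSub {Δ : Finset α} {σ : Perm α} : σ ∈ altSub Δ ↔ sign σ = 1 ∧ ∀ x ∉ Δ, σ x = x :=
  Iff.rfl

theorem altSub_le_supp (Δ : Finset α) : altSub Δ ≤ supp Δ := inf_le_right

theorem altSub_mono {Δ Δ' : Finset α} (h : Δ ⊆ Δ') : altSub Δ ≤ altSub Δ' :=
  inf_le_inf le_rfl (supp_mono h)

theorem conj_mem_altSub {Δ : Finset α} {σ : Perm α} (g : Perm α) (hσ : σ ∈ altSub Δ) :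
    g * σ * g⁻¹ ∈ altSub (Δ.image g) := by
  refine ⟨?_, conj_mem_supp g hσ.2⟩
  show sign (g * σ * g⁻¹) = 1
  rw [map_mul, map_mul, map_inv, mul_right_comm, mul_inv_cancel, one_mul]
  exact hσ.1

theorem cyc_mem_altSub {Δ : Finset α} {a b c : α} (ha : a ∈ Δ) (hb : b ∈ Δ) (hc : c ∈ Δ)
    (hab : a ≠ b) (hbc : b ≠ c) : cyc a b c ∈ altSub Δ :=
  ⟨sign_cyc hab hbc, cyc_mem_supp ha hb hc⟩

theorem exists_three {Δ : Finset α} (h : 3 ≤ Δ.card) :
    ∃ a b c, a ∈ Δ ∧ b ∈ Δ ∧ c ∈ Δ ∧ a ≠ b ∧ a ≠ c ∧ b ≠ c :=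
  Finset.two_lt_card_iff.1 h

theorem altSub_inj {Δ Δ' : Finset α} (h : 3 ≤ Δ.card) (hle : altSub Δ ≤ altSub Δ') : Δ ⊆ Δ' := by
  intro x hx
  by_contra hx'
  obtain ⟨a, b, hab, hax, hbx, ha, hb⟩ : ∃ a b, a ≠ b ∧ a ≠ x ∧ b ≠ x ∧ a ∈ Δ ∧ b ∈ Δ := by
    obtain ⟨a, ha, b, hb, hab⟩ := (Finset.one_lt_card (s := Δ.erase x)).1
      (by rw [Finset.card_erase_of_mem hx]; omega)
    rw [Finset.mem_erase] at ha hb
    exact ⟨a, b, hab, ha.1, hb.1, ha.2, hb.2⟩
  have := (hle (cyc_mem_altSub hx ha hb hax.symm hab)).2 x hx'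
  rw [cyc_apply_left hax.symm hbx.symm] at this
  exact hax this

theorem altSub_eq_map (Δ : Finset α) :
    altSub Δ = (alternatingGroup {x // x ∈ Δ}).map (ofSubtype : Perm {x // x ∈ Δ} →* Perm α) := by
  rw [alternatingGroup.map_ofSubtype, altSub, inf_comm]
  refine le_antisymm (inf_le_inf_right _ fun σ hσ => ?_) (inf_le_inf_right _ fun σ hσ => ?_)
  · rw [mem_range_ofSubtype_iff]
    intro x hx
    by_contra hc
    exact Perm.mem_support.1 hx (hσ x hc)
  · obtain ⟨τ, rfl⟩ := hσ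
    exact fun x hx => ofSubtype_apply_of_not_mem _ hx

/-- `altSub Δ` is the alternating group on `Δ`. -/
noncomputable def altSubEquiv (Δ : Finset α) : altSub Δ ≃* alternatingGroup {x // x ∈ Δ} :=
  (MulEquiv.subgroupCongr (altSub_eq_map Δ)).trans
    ((alternatingGroup {x // x ∈ Δ}).equivMapOfInjective _ ofSubtype_injective).symm

theorem altSub_le {Δ : Finset α} {H : Subgroup (Perm α)}
    (h : ∀ a ∈ Δ, ∀ b ∈ Δ, ∀ c ∈ Δ, a ≠ b → a ≠ c → b ≠ c → cyc a b c ∈ H) : altSub Δ ≤ H := by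
  rw [altSub_eq_map, ← closure_three_cycles_eq_alternating, MonoidHom.map_closure,
    Subgroup.closure_le]
  rintro _ ⟨τ, hτ, rfl⟩
  obtain ⟨a, ha⟩ : τ.support.Nonempty := by
    rw [← Finset.card_pos, hτ.card_support]; omega
  rw [(hτ.eq_swap_mul_swap_iff_mem_support).2 ha, map_mul, ofSubtype_swap_eq, ofSubtype_swap_eq]
  have hn := (hτ.nodup_iff_mem_support).2 ha
  simp only [List.nodup_cons, List.mem_cons, List.not_mem_nil, or_false, not_or, ne_eq] at hn
  exact h _ a.2 _ (τ a).2 _ (τ (τ a)).2 (fun e => hn.1.1 (Subtype.ext e))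
    (fun e => hn.1.2 (Subtype.ext e)) (fun e => hn.2.1 (Subtype.ext e))

theorem altSub_triple_le {H : Subgroup (Perm α)} {a b c : α} (hab : a ≠ b) (hac : a ≠ c)
    (hbc : b ≠ c) (h : cyc a b c ∈ H) : altSub {a, b, c} ≤ H := by
  have hi : cyc c b a ∈ H := cyc_inv a b c ▸ inv_mem h
  have h1 : cyc b c a ∈ H := cyc_rot hab hac hbc ▸ h
  have h2 : cyc c a b ∈ H := cyc_rot hbc hab.symm hac.symm ▸ h1
  have h3 : cyc b a c ∈ H := cyc_rot hbc.symm hac.symm hab.symm ▸ hi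
  have h4 : cyc a c b ∈ H := cyc_rot hab.symm hbc hac ▸ h3
  apply altSub_le
  intro x hx y hy z hz hxy hxz hyz
  simp only [Finset.mem_insert, Finset.mem_singleton] at hx hy hz
  rcases hx with rfl | rfl | rfl <;> rcases hy with rfl | rfl | rfl <;>
    rcases hz with rfl | rfl | rfl <;> first | assumption | exact absurd rfl ‹_›

theorem exists_cyc {g : Perm α} (hg : g.IsThreeCycle) :
    ∃ a b c, a ≠ b ∧ a ≠ c ∧ b ≠ c ∧ g = cyc a b c := by
  obtain ⟨a, ha⟩ : g.support.Nonempty := by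
    rw [← Finset.card_pos, hg.card_support]; omega
  have hn := (hg.nodup_iff_mem_support).2 ha
  simp only [List.nodup_cons, List.mem_cons, List.not_mem_nil, or_false, not_or] at hn
  exact ⟨a, g a, g (g a), hn.1.1, hn.1.2, hn.2.1, (hg.eq_swap_mul_swap_iff_mem_support).2 ha⟩

/-- Adding a point. -/
theorem altSub_insert {H : Subgroup (Perm α)} {Δ : Finset α} (hΔ : altSub Δ ≤ H) {d e x : α}
    (hd : d ∈ Δ) (he : e ∈ Δ) (hx : x ∉ Δ) (hde : d ≠ e) (h : cyc d e x ∈ H) :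
    altSub (insert x Δ) ≤ H := by
  have key : ∀ a ∈ Δ, ∀ b ∈ Δ, a ≠ b → cyc a b x ∈ H := by
    intro a ha b hb hab
    obtain ⟨τ, hτ, hτd, hτe⟩ : ∃ τ, τ ∈ supp Δ ∧ τ d = a ∧ τ e = b := by
      refine ⟨swap (swap d a e) b * swap d a, mul_mem (swap_mem_supp
        (apply_mem_of_mem_supp (swap_mem_supp hd ha) he) hb) (swap_mem_supp hd ha), ?_, ?_⟩
      · rw [Perm.mul_apply, swap_apply_left, swap_apply_of_ne_of_ne ?_ hab]
        intro heq
        exact hde ((swap d a).injective ((swap_apply_left d a).trans heq))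
      · rw [Perm.mul_apply, swap_apply_left]
    rcases Int.units_eq_one_or (sign τ) with hs | hs
    · have h1 := mul_mem (mul_mem (hΔ ⟨hs, hτ⟩) h) (inv_mem (hΔ ⟨hs, hτ⟩))
      rwa [cyc_conj, hτd, hτe, hτ x hx] at h1
    · have hm : swap a b * τ ∈ H := hΔ ⟨by
        show sign (swap a b * τ) = 1
        rw [map_mul, sign_swap hab, hs]; rfl, mul_mem (swap_mem_supp ha hb) hτ⟩
      have h1 := mul_mem (mul_mem hm h) (inv_mem hm)
      rw [cyc_conj, Perm.mul_apply, hτd, swap_apply_left, Perm.mul_apply, hτe, swap_apply_right,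
        Perm.mul_apply, hτ x hx, swap_apply_of_ne_of_ne (fun e' : x = a => hx (e' ▸ ha))
          (fun e' : x = b => hx (e' ▸ hb))] at h1
      -- `cyc b a x` is the inverse of `cyc a b x` up to rotation
      have h2 := inv_mem h1
      rw [cyc_inv] at h2
      rwa [cyc_rot (fun e' => hx (by rw [e']; exact ha)) (fun e' => hx (by rw [e']; exact hb)) hab] at h2
  apply altSub_le
  intro a ha b hb c hc hab hac hbc
  rw [Finset.mem_insert] at ha hb hc
  rcases ha with rfl | ha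
  · rw [cyc_rot hab hac hbc]
    exact key b (hb.resolve_left hab.symm) c (hc.resolve_left hac.symm) hbc
  rcases hb with rfl | hb
  · rw [cyc_rot hab hac hbc, cyc_rot hbc hab.symm hac.symm]
    exact key c (hc.resolve_left hbc.symm) a ha hac.symm
  rcases hc with rfl | hc
  · exact key a ha b hb hab
  · exact hΔ (cyc_mem_altSub ha hb hc hab hbc)

/-- Overlapping alternating groups generate the alternating group on the union. -/
theorem altSub_union {H : Subgroup (Perm α)} {Δ₁ Δ₂ : Finset α} (h1 : altSub Δ₁ ≤ H)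
    (h2 : altSub Δ₂ ≤ H) (c1 : 3 ≤ Δ₁.card) (c2 : 3 ≤ Δ₂.card) {o : α} (ho1 : o ∈ Δ₁)
    (ho2 : o ∈ Δ₂) : altSub (Δ₁ ∪ Δ₂) ≤ H := by
  have step : ∀ T ⊆ Δ₂, ∀ D : Finset α, altSub D ≤ H → ∀ d e, d ∈ D → e ∈ D → d ∈ Δ₂ → e ∈ Δ₂ →
      d ≠ e → altSub (D ∪ T) ≤ H := by
    intro T
    induction T using Finset.induction with
    | empty => intro _ D hD d e _ _ _ _ _; simpa using hD
    | insert x T hxT ih =>
      intro hT D hD d e hdD heD hd he hde
      have hT' : T ⊆ Δ₂ := fun y hy => hT (Finset.mem_insert_of_mem hy)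
      have hD' := ih hT' D hD d e hdD heD hd he hde
      rw [Finset.union_insert]
      by_cases hx : x ∈ D ∪ T
      · rwa [Finset.insert_eq_of_mem hx]
      · have hdx : d ≠ x := fun e' => hx (Finset.mem_union_left _ (e' ▸ hdD))
        have hex : e ≠ x := fun e' => hx (Finset.mem_union_left _ (e' ▸ heD))
        exact altSub_insert hD' (Finset.mem_union_left _ hdD) (Finset.mem_union_left _ heD) hx hde
          (h2 (cyc_mem_altSub hd he (hT (Finset.mem_insert_self _ _)) hde hex))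
  by_cases hd : ∃ d ∈ Δ₁, d ∈ Δ₂ ∧ d ≠ o
  · obtain ⟨d, hd1, hd2, hdo⟩ := hd
    exact step Δ₂ le_rfl Δ₁ h1 d o hd1 ho1 hd2 ho2 hdo
  push Not at hd
  obtain ⟨a, ha, b, hb, hab⟩ := (Finset.one_lt_card (s := Δ₁.erase o)).1
    (by rw [Finset.card_erase_of_mem ho1]; omega)
  obtain ⟨x, hx, w, hw, hxw⟩ := (Finset.one_lt_card (s := Δ₂.erase o)).1
    (by rw [Finset.card_erase_of_mem ho2]; omega)
  rw [Finset.mem_erase] at ha hb hx hw
  have hx1 : x ∉ Δ₁ := fun h => hx.1 (hd x h hx.2)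
  have hρ : cyc o x w ∈ H := h2 (cyc_mem_altSub ho2 hx.2 hw.2 hx.1.symm hxw)
  have hm : ∀ y ∈ Δ₁, y ≠ o → cyc o x w y = y := fun y hy hyo =>
    cyc_mem_supp (Δ := {o, x, w}) (by simp) (by simp) (by simp) y (by
      simp only [Finset.mem_insert, Finset.mem_singleton, hyo, false_or]
      rintro (rfl | rfl)
      · exact hx1 hy
      · exact hw.1 (hd _ hy hw.2))
  have hc := mul_mem (mul_mem hρ (h1 (cyc_mem_altSub ho1 ha.2 hb.2 ha.1.symm hab))) (inv_mem hρ)
  rw [cyc_conj, cyc_apply_left hx.1.symm hw.1.symm, hm a ha.2 ha.1, hm b hb.2 hb.1] at hc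
  rw [cyc_rot (fun e => hx1 (by rw [e]; exact ha.2)) (fun e => hx1 (by rw [e]; exact hb.2)) hab] at hc
  have h1' := altSub_insert h1 ha.2 hb.2 hx1 hab hc
  have := step Δ₂ le_rfl _ h1' x o (Finset.mem_insert_self _ _) (Finset.mem_insert_of_mem ho1)
    hx.2 ho2 hx.1
  exact le_trans (altSub_mono (fun y hy => by
    rcases Finset.mem_union.1 hy with h | h
    · exact Finset.mem_union_left _ (Finset.mem_insert_of_mem h)
    · exact Finset.mem_union_right _ h)) this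

theorem commute_four {Δ : Finset α} {σ τ : Perm α} (hσ : σ ∈ altSub Δ) (hτ : τ ∈ altSub Δ)
    (h : Δ.card ≤ 3 ∨ (Δ.card = 4 ∧ σ * σ = 1 ∧ τ * τ = 1)) : σ * τ = τ * σ := by
  suffices (altSubEquiv Δ ⟨σ, hσ⟩) * altSubEquiv Δ ⟨τ, hτ⟩
      = altSubEquiv Δ ⟨τ, hτ⟩ * altSubEquiv Δ ⟨σ, hσ⟩ by
    rw [← map_mul, ← map_mul] at this
    exact congrArg Subtype.val ((altSubEquiv Δ).injective this)
  rcases h with h | ⟨h, h1, h2⟩
  · haveI := alternatingGroup.isMulCommutative_of_card_le_three (α := {x // x ∈ Δ})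
      (by rw [Nat.card_eq_fintype_card, Fintype.card_coe]; exact h)
    exact mul_comm' _ _
  · let e := altCongrHom (Fintype.equivFinOfCardEq (α := {x // x ∈ Δ}) ((Fintype.card_coe Δ).trans h))
    have key : ∀ u v : Perm (Fin 4), sign u = 1 → sign v = 1 → u * u = 1 → v * v = 1 →
        u * v = v * u := by decide +kernel
    apply e.injective
    rw [map_mul, map_mul]
    apply Subtype.ext
    set f := (altSubEquiv Δ).trans e
    exact key (f ⟨σ, hσ⟩ : Perm (Fin 4)) (f ⟨τ, hτ⟩ : Perm (Fin 4)) (f _).2 (f _).2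
      (by rw [← Subgroup.coe_mul, ← map_mul, show (⟨σ, hσ⟩ : altSub Δ) * ⟨σ, hσ⟩ = 1 from
        Subtype.ext h1, map_one]; rfl)
      (by rw [← Subgroup.coe_mul, ← map_mul, show (⟨τ, hτ⟩ : altSub Δ) * ⟨τ, hτ⟩ = 1 from
        Subtype.ext h2, map_one]; rfl)

end Cfsg.Agent.AltSub
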