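import Cfsg.Agent.Lib.Recog.AltSub
import Cfsg.Agent.Lib.Components.FStar
import Cfsg.Agent.Lib.FiniteGroup.PermSmall
import Mathlib.GroupTheory.Sylow

/-!
# Permutation groups with quasisimple generalised Fitting subgroup containing a three-cycle
-/

set_option autoImplicit false

namespace Cfsg.Agent.AltComponent

open Equiv Equiv.Perm Cfsg.Agent.AltSub
open scoped commutatorElement

variable {α : Type*}

/-- `F*(H)` as a group of permutations. -/
def fstar (H : Subgroup (Perm α)) : Subgroup (Perm α) :=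
  (Cfsg.generalizedFittingSubgroup ↥H).map H.subtype

variable {H : Subgroup (Perm α)}

theorem fstar_le : fstar H ≤ H := Subgroup.map_subtype_le _

theorem conj_mem_fstar {h k : Perm α} (hh : h ∈ H) (hk : k ∈ fstar H) :
    h * k * h⁻¹ ∈ fstar H := by
  obtain ⟨k', hk', rfl⟩ := hk
  exact ⟨⟨h, hh⟩ * k' * ⟨h, hh⟩⁻¹,
    (Components.generalizedFitting_normal (G := ↥H)).conj_mem k' hk' ⟨h, hh⟩, rfl⟩

theorem quasisimple_fstar (hF : Cfsg.IsQuasisimple ↥(Cfsg.generalizedFittingSubgroup ↥H)) :
    Cfsg.IsQuasisimple ↥(fstar H) :=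
  (Components.quasisimple_congr
    ((Cfsg.generalizedFittingSubgroup ↥H).equivMapOfInjective H.subtype H.subtype_injective)).1 hF

theorem mem_of_centralizes [Finite α] {h : Perm α} (hh : h ∈ H)
    (hc : ∀ k ∈ fstar H, h * k = k * h) : h ∈ fstar H := by
  refine ⟨⟨h, hh⟩, Components.centralizer_generalizedFitting_le (G := ↥H) ?_, rfl⟩
  rw [Subgroup.mem_centralizer_iff]
  intro k hk
  exact Subtype.ext (hc k ⟨k, hk, rfl⟩).symm

variable (hF : Cfsg.IsQuasisimple ↥(Cfsg.generalizedFittingSubgroup ↥H))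
include hF

theorem fstar_not_comm : ¬ ∀ x ∈ fstar H, ∀ y ∈ fstar H, x * y = y * x := fun h =>
  Components.quasisimple_not_commutative (quasisimple_fstar hF)
    ⟨⟨fun a b => Subtype.ext (h a a.2 b b.2)⟩⟩

/-- A subgroup of `H` normalised by `F*(H)` contains it or is central in it. -/
theorem le_or_central [Finite α] {N : Subgroup (Perm α)} (hN : N ≤ H)
    (hn : ∀ k ∈ fstar H, ∀ n ∈ N, k * n * k⁻¹ ∈ N) :
    fstar H ≤ N ∨ (N ≤ fstar H ∧ ∀ n ∈ N, ∀ k ∈ fstar H, n * k = k * n) := by
  haveI : (N.subgroupOf (fstar H)).Normal := ⟨fun n hn' k => hn k k.2 n hn'⟩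
  rcases Components.quasisimple_normal (quasisimple_fstar hF) (N.subgroupOf (fstar H)) with h | h
  · exact Or.inl (Subgroup.subgroupOf_eq_top.1 h)
  right
  have hcen : ∀ c ∈ N, c ∈ fstar H → ∀ k ∈ fstar H, k * c = c * k := fun c hc hc' k hk =>
    congrArg Subtype.val (Subgroup.mem_center_iff.1 (h (x := ⟨c, hc'⟩) hc) ⟨k, hk⟩)
  suffices hall : ∀ n ∈ N, ∀ k ∈ fstar H, n * k = k * n from
    ⟨fun n hn' => mem_of_centralizes (hN hn') (hall n hn'), hall⟩
  intro n hn' k hk
  -- every commutator `[n, k]` is central in `F*`, and `F*` is perfect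
  have hz : ∀ k ∈ fstar H, ∀ j ∈ fstar H, j * (n * k * n⁻¹ * k⁻¹) = n * k * n⁻¹ * k⁻¹ * j := by
    intro k hk j hj
    refine hcen _ ?_ (mul_mem (conj_mem_fstar (hN hn') hk) (inv_mem hk)) j hj
    rw [mul_assoc, mul_assoc, ← mul_assoc k]
    exact mul_mem hn' (hn k hk _ (inv_mem hn'))
  have hcomm : ⁅fstar H, fstar H⁆ ≤ Subgroup.centralizer ({n} : Set (Perm α)) := by
    refine Subgroup.commutator_le.2 fun a ha b hb => ?_
    rw [Subgroup.mem_centralizer_iff]
    intro m hm
    rw [Set.mem_singleton_iff] at hm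
    rw [hm]
    have e : n * ⁅a, b⁆ * n⁻¹ = ⁅(n * a * n⁻¹ * a⁻¹) * a, (n * b * n⁻¹ * b⁻¹) * b⁆ := by
      simp only [commutatorElement_def]; group
    set u := n * a * n⁻¹ * a⁻¹ with hu
    set w := n * b * n⁻¹ * b⁻¹ with hw
    have hu' : u ∈ fstar H := mul_mem (conj_mem_fstar (hN hn') ha) (inv_mem ha)
    have hw' : w ∈ fstar H := mul_mem (conj_mem_fstar (hN hn') hb) (inv_mem hb)
    have cu : ∀ j ∈ fstar H, Commute u j := fun j hj => (hz a ha j hj).symm
    have cw : ∀ j ∈ fstar H, Commute w j := fun j hj => (hz b hb j hj).symm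
    have e2 : ⁅u * a, w * b⁆ = ⁅a, b⁆ := by
      have h1 : u * a * (w * b) = u * w * (a * b) := by
        rw [mul_assoc, ← mul_assoc a, ← (cw a ha).eq, mul_assoc w, ← mul_assoc u]
      have h2 : w * b * (u * a) = u * w * (b * a) := by
        rw [mul_assoc, ← mul_assoc b, ← (cu b hb).eq, mul_assoc u, ← mul_assoc w, (cu w hw').eq]
      rw [commutatorElement_def, commutatorElement_def,
        mul_assoc (u * a * (w * b)), ← mul_inv_rev (w * b) (u * a), h1, h2,
        mul_inv_rev (u * w) (b * a), ← mul_assoc, mul_assoc (u * w) (a * b)]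
      have hj : a * b * (b * a)⁻¹ ∈ fstar H :=
        mul_mem (mul_mem ha hb) (inv_mem (mul_mem hb ha))
      rw [((cu _ hj).mul_left (cw _ hj)).eq, mul_assoc (a * b * (b * a)⁻¹), mul_inv_cancel, mul_one,
        mul_inv_rev]
      group
    rw [e2] at e
    calc n * ⁅a, b⁆ = n * ⁅a, b⁆ * n⁻¹ * n := by group
      _ = ⁅a, b⁆ * n := by rw [e]
  rw [Components.quasisimple_commutator_eq (quasisimple_fstar hF)] at hcomm
  exact Subgroup.mem_centralizer_iff.1 (hcomm hk) n rfl

/-- A perfect group acting on at most four points acts trivially. -/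
theorem fixes_of_card_le_four [DecidableEq α] {Δ : Finset α} (hΔ : Δ.card ≤ 4)
    (hst : fstar H ≤ setStab Δ) : ∀ k ∈ fstar H, ∀ x ∈ Δ, k x = x := by
  haveI := PermSmall.isSolvable_perm_of_card_le_four (α := {x // x ∈ Δ}) (by simpa using hΔ)
  let f : ↥(fstar H) →* Perm {x // x ∈ Δ} :=
    { toFun := fun k => (k : Perm α).subtypePerm (fun x => hst k.2 x)
      map_one' := by ext x; rfl
      map_mul' := fun k j => by ext x; rfl }
  obtain ⟨n, hn⟩ := Group.IsSolvable.solvable (G := Perm {x // x ∈ Δ})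
  have htop : ∀ m, derivedSeries ↥(fstar H) m = ⊤ := by
    haveI := (quasisimple_fstar hF).1
    intro m
    induction m with
    | zero => rfl
    | succ m ih => rw [derivedSeries_succ, ih, ← commutator_def, Group.IsPerfect.commutator_eq_top]
  intro k hk x hx
  have := map_derivedSeries_le_derivedSeries f n
    (Subgroup.mem_map_of_mem f (show (⟨k, hk⟩ : ↥(fstar H)) ∈ derivedSeries _ n by rw [htop]; trivial))
  rw [hn, Subgroup.mem_bot] at this
  exact congrArg (fun e : Perm {x // x ∈ Δ} => ((e ⟨x, hx⟩ : {x // x ∈ Δ}) : α)) this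

/-- No element of small support is central in `F*(H)`. -/
theorem eq_one_of_central [DecidableEq α] [Fintype α] {v : Perm α} (hv : v ∈ fstar H)
    (hc : ∀ k ∈ fstar H, v * k = k * v) {Δ : Finset α} (hΔ : v ∈ supp Δ) (h4 : Δ.card ≤ 4) :
    v = 1 := by
  have hsub : v.support ⊆ Δ := fun x hx => by
    by_contra h
    exact Perm.mem_support.1 hx (hΔ x h)
  have hst : fstar H ≤ setStab v.support := fun k hk => mem_setStab_of_maps fun x hx => by
    rw [Perm.mem_support] at hx ⊢
    rw [← Perm.mul_apply v k, hc k hk, Perm.mul_apply]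
    exact fun h => hx (k.injective h)
  apply Equiv.ext
  intro x
  by_cases hx : x ∈ v.support
  · exact fixes_of_card_le_four hF ((Finset.card_le_card hsub).trans h4) hst v hv x hx
  · simpa using hx

variable [Fintype α] [DecidableEq α]

/-- A pairwise commuting, conjugation invariant set of elements of small support cannot be
non-trivial. -/
theorem eq_one_of_commuting {v : Perm α} (hv : v ∈ H) {Δ : Finset α} (hΔ : v ∈ supp Δ)
    (h4 : Δ.card ≤ 4)
    (hcomm : ∀ g ∈ H, ∀ h ∈ H, g * v * g⁻¹ * (h * v * h⁻¹) = h * v * h⁻¹ * (g * v * g⁻¹)) :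
    v = 1 := by
  set C : Set (Perm α) := {x | ∃ g ∈ H, x = g * v * g⁻¹} with hC
  have hvC : v ∈ C := ⟨1, one_mem _, by simp⟩
  have hNH : Subgroup.closure C ≤ H := by
    rw [Subgroup.closure_le]
    rintro _ ⟨g, hg, rfl⟩
    exact mul_mem (mul_mem hg hv) (inv_mem hg)
  have habel : Subgroup.closure C ≤ Subgroup.centralizer (Subgroup.closure C : Set (Perm α)) := by
    have h1 : Subgroup.closure C ≤ Subgroup.centralizer C := by
      rw [Subgroup.closure_le]
      rintro _ ⟨g, hg, rfl⟩
      rw [SetLike.mem_coe, Subgroup.mem_centralizer_iff]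
      rintro _ ⟨h, hh, rfl⟩
      exact hcomm h hh g hg
    rw [Subgroup.closure_le]
    intro x hx
    rw [SetLike.mem_coe, Subgroup.mem_centralizer_iff]
    intro y hy
    exact (Subgroup.mem_centralizer_iff.1 (h1 hy) x hx).symm
  have hn : ∀ k ∈ fstar H, ∀ n ∈ Subgroup.closure C, k * n * k⁻¹ ∈ Subgroup.closure C := by
    intro k hk n hn
    induction hn using Subgroup.closure_induction with
    | mem x hx =>
      obtain ⟨g, hg, rfl⟩ := hx
      exact Subgroup.subset_closure ⟨k * g, mul_mem (fstar_le hk) hg, by group⟩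
    | one => simp
    | mul x y _ _ hx hy =>
      convert mul_mem hx hy using 1
      group
    | inv x _ hx =>
      convert inv_mem hx using 1
      group
  rcases le_or_central hF hNH hn with h | ⟨hle, hc⟩
  · exact absurd (fun x hx y hy => (Subgroup.mem_centralizer_iff.1 (habel (h hx)) y (h hy)).symm)
      (fstar_not_comm hF)
  · exact eq_one_of_central hF (hle (Subgroup.subset_closure hvC))
      (hc v (Subgroup.subset_closure hvC)) hΔ h4

/-- A three-cycle forces `F*(H)` to be an alternating group on a set of points. -/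
theorem exists_altSub (hcyc : ∃ g ∈ H, g.IsThreeCycle) :
    ∃ Δ : Finset α, 5 ≤ Δ.card ∧ fstar H = altSub Δ ∧ H ≤ setStab Δ := by
  obtain ⟨g, hg, hg3⟩ := hcyc
  obtain ⟨a, b, c, hab, hac, hbc, rfl⟩ := exists_cyc hg3
  classical
  let S : Finset (Finset α) := Finset.univ.filter fun D => 3 ≤ D.card ∧ altSub D ≤ H
  have hS : ({a, b, c} : Finset α) ∈ S := Finset.mem_filter.2 ⟨Finset.mem_univ _,
    (Finset.card_eq_three.2 ⟨a, b, c, hab, hac, hbc, rfl⟩).ge, altSub_triple_le hab hac hbc hg⟩
  obtain ⟨Δ, hΔS, hmax⟩ := S.exists_max_image Finset.card ⟨_, hS⟩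
  obtain ⟨-, h3, hA⟩ := Finset.mem_filter.1 hΔS
  have hci : ∀ h : Perm α, (Δ.image h).card = Δ.card := fun h =>
    Finset.card_image_of_injective _ h.injective
  have hconjA : ∀ h ∈ H, altSub (Δ.image h) ≤ H := by
    intro h hh σ hσ
    have h1 := conj_mem_altSub h⁻¹ hσ
    rw [Finset.image_image, ← Perm.coe_mul, inv_mul_cancel, Perm.coe_one, Finset.image_id] at h1
    have := mul_mem (mul_mem hh (hA h1)) (inv_mem hh)
    simpa [mul_assoc] using this
  have hblock : ∀ h ∈ H, Δ.image h = Δ ∨ ∀ x ∈ Δ, x ∉ Δ.image h := by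
    intro h hh
    refine or_iff_not_imp_right.2 fun hne => ?_
    push Not at hne
    obtain ⟨x, hx, hx'⟩ := hne
    have hU := altSub_union hA (hconjA h hh) h3 (hci h ▸ h3) hx hx'
    have hUS : Δ ∪ Δ.image h ∈ S := Finset.mem_filter.2 ⟨Finset.mem_univ _,
      h3.trans (Finset.card_le_card Finset.subset_union_left), hU⟩
    have hsub : Δ ∪ Δ.image h = Δ :=
      (Finset.eq_of_subset_of_card_le Finset.subset_union_left (hmax _ hUS)).symm
    exact Finset.eq_of_subset_of_card_le (Finset.subset_union_right.trans hsub.le) (hci h).ge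
  obtain ⟨p, q, r, hp, hq, hr, hpq, hpr, hqr⟩ := exists_three h3
  by_cases h5 : 5 ≤ Δ.card
  · have hnc : ¬ ∀ x ∈ altSub Δ, ∀ y ∈ altSub Δ, x * y = y * x := by
      intro hcomm
      obtain ⟨s, hs, hsp, hsq, hsr⟩ : ∃ s ∈ Δ, s ≠ p ∧ s ≠ q ∧ s ≠ r := by
        by_contra hcon
        push Not at hcon
        have hsub : Δ ⊆ {p, q, r} := fun s hs => by
          simp only [Finset.mem_insert, Finset.mem_singleton]
          by_cases e1 : s = p
          · exact Or.inl e1
          by_cases e2 : s = q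
          · exact Or.inr (Or.inl e2)
          exact Or.inr (Or.inr (hcon s hs e1 e2))
        have := (Finset.card_le_card hsub).trans Finset.card_le_three
        omega
      have := congrArg (fun e : Perm α => e p)
        (hcomm _ (cyc_mem_altSub hp hq hr hpq hqr) _ (cyc_mem_altSub hp hq hs hpq hsq.symm))
      simp only [Perm.mul_apply] at this
      rw [cyc_apply_left hpq hsp.symm, cyc_apply_mid hpr hqr, cyc_apply_left hpq hpr,
        cyc_apply_mid hsp.symm hsq.symm] at this
      exact hsr this.symm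
    set C : Set (Perm α) := {x | ∃ h ∈ H, ∃ σ ∈ altSub Δ, x = h * σ * h⁻¹} with hC
    have hNH : Subgroup.closure C ≤ H := by
      rw [Subgroup.closure_le]
      rintro _ ⟨h, hh, σ, hσ, rfl⟩
      exact mul_mem (mul_mem hh (hA hσ)) (inv_mem hh)
    have hAC : altSub Δ ≤ Subgroup.closure C := fun σ hσ =>
      Subgroup.subset_closure ⟨1, one_mem _, σ, hσ, by simp⟩
    have hn : ∀ k ∈ fstar H, ∀ n ∈ Subgroup.closure C, k * n * k⁻¹ ∈ Subgroup.closure C := by
      intro k hk n hn
      induction hn using Subgroup.closure_induction with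
      | mem x hx =>
        obtain ⟨h, hh, σ, hσ, rfl⟩ := hx
        exact Subgroup.subset_closure ⟨k * h, mul_mem (fstar_le hk) hh, σ, hσ, by group⟩
      | one => simp
      | mul x y _ _ hx hy =>
        convert mul_mem hx hy using 1
        group
      | inv x _ hx =>
        convert inv_mem hx using 1
        group
    have hnorm : Subgroup.closure C ≤ Subgroup.normalizer (altSub Δ : Set (Perm α)) := by
      rw [Subgroup.closure_le]
      rintro _ ⟨h, hh, σ, hσ, rfl⟩
      have hτ := conj_mem_altSub h hσ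
      rcases hblock h hh with e | e
      · rw [e] at hτ
        exact Subgroup.le_normalizer hτ
      · have key : ∀ y ∈ altSub Δ, h * σ * h⁻¹ * y * (h * σ * h⁻¹)⁻¹ = y := fun y hy => by
          rw [mul_inv_eq_iff_eq_mul, (supp_commute e hy.2 hτ.2)]
        rw [SetLike.mem_coe, Subgroup.mem_normalizer_iff]
        intro y
        refine ⟨fun hy => by rwa [key y hy], fun hy => ?_⟩
        set τ := h * σ * h⁻¹
        have h1 := key _ hy
        have h2 : τ * y * τ⁻¹ = y := mul_left_cancel (a := τ) (mul_right_cancel (b := τ⁻¹) h1)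
        rwa [h2] at hy
    rcases le_or_central hF hNH hn with hKN | ⟨hle, hc⟩
    swap
    · exact absurd (fun x hx y hy => hc x (hAC hx) y (hle (hAC hy))) hnc
    rcases le_or_central hF hA (fun k hk n hn' => by
        have h1 := (Subgroup.mem_normalizer_iff.1 (hnorm (hKN hk)) n).1 hn'
        exact h1) with hKA | ⟨hle, hc⟩
    swap
    · exact absurd (fun x hx y hy => hc x hx y (hle hy)) hnc
    haveI : IsSimpleGroup ↥(altSub Δ) :=
      haveI := alternatingGroup.isSimpleGroup (α := {x // x ∈ Δ}) (by simpa using h5)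
      haveI := (altSubEquiv Δ).toEquiv.nontrivial
      IsSimpleGroup.isSimpleGroup_of_surjective (altSubEquiv Δ).symm.toMonoidHom
        (altSubEquiv Δ).symm.surjective
    haveI : ((fstar H).subgroupOf (altSub Δ)).Normal :=
      ⟨fun n hn' σ => conj_mem_fstar (hA σ.2) hn'⟩
    have hKA' : fstar H = altSub Δ := by
      rcases Subgroup.Normal.eq_bot_or_eq_top
        (inferInstance : ((fstar H).subgroupOf (altSub Δ)).Normal) with e | e
      · exfalso
        rw [Subgroup.subgroupOf_eq_bot] at e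
        have hbot : fstar H = ⊥ := disjoint_self.1 (e.mono_right hKA)
        haveI := Components.quasisimple_nontrivial (quasisimple_fstar hF)
        exact (Subgroup.nontrivial_iff_ne_bot _).1 inferInstance hbot
      · exact le_antisymm hKA (Subgroup.subgroupOf_eq_top.1 e)
    refine ⟨Δ, h5, hKA', fun h hh => mem_setStab_of_maps fun x hx => ?_⟩
    rcases hblock h hh with e | e
    · exact e ▸ Finset.mem_image_of_mem h hx
    · exfalso
      have h1 := conj_mem_altSub h (cyc_mem_altSub hp hq hr hpq hqr)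
      have h2 := conj_mem_fstar hh (hKA' ▸ cyc_mem_altSub hp hq hr hpq hqr)
      rw [hKA', cyc_conj] at h2
      rw [cyc_conj] at h1
      have hp' : h p ∉ Δ := fun hin => e _ hin (Finset.mem_image_of_mem h hp)
      have := h2.2 _ hp'
      rw [cyc_apply_left (h.injective.ne hpq) (h.injective.ne hpr)] at this
      exact h.injective.ne hpq this.symm
  exfalso
  obtain ⟨v, hvA, hv1, hvc⟩ : ∃ v ∈ altSub Δ, v ≠ 1 ∧ (Δ.card ≤ 3 ∨ (Δ.card = 4 ∧ v * v = 1)) := by
    by_cases h : Δ.card ≤ 3
    · exact ⟨cyc p q r, cyc_mem_altSub hp hq hr hpq hqr, cyc_ne_one hpq hpr, Or.inl h⟩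
    · obtain ⟨w, x, y, z, hwx, hwy, hwz, hxy, hxz, hyz, hΔe⟩ := Finset.card_eq_four.1
        (show Δ.card = 4 by omega)
      refine ⟨swap w x * swap y z, ⟨?_, mul_mem (swap_mem_supp (by simp [hΔe]) (by simp [hΔe]))
        (swap_mem_supp (by simp [hΔe]) (by simp [hΔe]))⟩, ?_, Or.inr ⟨by omega, ?_⟩⟩
      · show sign _ = 1
        rw [map_mul, sign_swap hwx, sign_swap hyz]; rfl
      · intro h1
        have := congrArg (fun e : Perm α => e w) h1
        simp [swap_apply_of_ne_of_ne hwy hwz] at this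
        exact hwx this.symm
      · have hcm : swap w x * swap y z = swap y z * swap w x :=
          supp_commute (Δ := {w, x}) (Δ' := {y, z}) (by simp [hwy, hwz, hxy, hxz])
            (swap_mem_supp (by simp) (by simp)) (swap_mem_supp (by simp) (by simp))
        rw [mul_assoc, ← mul_assoc (swap y z), ← hcm, mul_assoc (swap w x), swap_mul_self, mul_one,
          swap_mul_self]
  refine hv1 (eq_one_of_commuting hF (hA hvA) hvA.2 (by omega) fun g hg h hh => ?_)
  have hmem := conj_mem_altSub g hvA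
  have hmem' := conj_mem_altSub h hvA
  rcases hblock (g⁻¹ * h) (mul_mem (inv_mem hg) hh) with e | e
  · have e' : Δ.image h = Δ.image g := by
      have := congrArg (Finset.image g) e
      rwa [Finset.image_image, ← Perm.coe_mul, mul_inv_cancel_left] at this
    rw [e'] at hmem'
    refine commute_four hmem hmem' ?_
    rw [hci]
    rcases hvc with hv | ⟨hv, hvv⟩
    · exact Or.inl hv
    · exact Or.inr ⟨hv, by rw [show g * v * g⁻¹ * (g * v * g⁻¹) = g * (v * v) * g⁻¹ by group, hvv]; simp,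
        by rw [show h * v * h⁻¹ * (h * v * h⁻¹) = h * (v * v) * h⁻¹ by group, hvv]; simp⟩
  · refine supp_commute (fun x hx hx' => ?_) hmem.2 hmem'.2
    obtain ⟨y, hy, rfl⟩ := Finset.mem_image.1 hx
    obtain ⟨z, hz, hzy⟩ := Finset.mem_image.1 hx'
    exact e y hy (Finset.mem_image.2 ⟨z, hz, by rw [Perm.mul_apply, hzy]; simp⟩)

omit hF in
/-- Elements of `H` fixing `Δ` pointwise are trivial. -/
theorem eq_one_of_fixes {Δ : Finset α} (hK : fstar H = altSub Δ) {y : Perm α} (hy : y ∈ H)
    (hfix : y ∈ supp Δᶜ) : y = 1 := by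
  have h1 : y ∈ altSub Δ := hK ▸ mem_of_centralizes hy fun k hk =>
    (supp_commute (fun x hx => by simp [hx]) (hK ▸ hk : k ∈ altSub Δ).2 hfix).symm
  apply Equiv.ext
  intro x
  by_cases hx : x ∈ Δ
  · exact hfix x (by simp [hx])
  · exact h1.2 x hx

omit hF in
theorem nonempty_equiv {Δ : Finset α} (hK : fstar H = altSub Δ) :
    Nonempty (↥(Cfsg.generalizedFittingSubgroup ↥H) ≃* ↥(alternatingGroup (Fin Δ.card))) :=
  ⟨((((Cfsg.generalizedFittingSubgroup ↥H).equivMapOfInjective H.subtype H.subtype_injective).trans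
    (MulEquiv.subgroupCongr hK)).trans (altSubEquiv Δ)).trans
    (altCongrHom (Fintype.equivFinOfCardEq (Fintype.card_coe Δ)))⟩

omit hF in
/-- A Sylow subgroup inside `L` meets every subgroup normalised by `L` and containing an element of
order `p` of `L`. -/
theorem exists_mem_sylow {G : Type*} [Group G] [Finite G] {p : ℕ} [Fact p.Prime] (P : Sylow p G)
    {L N : Subgroup G} (hPL : (P : Subgroup G) ≤ L) (hLN : L ≤ Subgroup.normalizer (N : Set G))
    {x : G} (hxN : x ∈ N) (hxL : x ∈ L) (hxp : x ^ p = 1) (hx1 : x ≠ 1) :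
    ∃ y, y ∈ (P : Subgroup G) ∧ y ∈ N ∧ y ≠ 1 := by
  set x' : ↥L := ⟨x, hxL⟩
  have hx' : IsPGroup p (Subgroup.zpowers x') := by
    apply IsPGroup.of_card (n := 1)
    rw [Nat.card_zpowers, pow_one]
    exact orderOf_eq_prime (Subtype.ext hxp) (fun h => hx1 (congrArg Subtype.val h))
  obtain ⟨Q, hQ⟩ := hx'.exists_le_sylow
  obtain ⟨l, hl⟩ := MulAction.exists_smul_eq ↥L Q (P.subtype hPL)
  have hmem : l * x' * l⁻¹ ∈ (P.subtype hPL : Subgroup ↥L) := by
    rw [← hl]
    exact Subgroup.smul_mem_pointwise_smul x' (MulAut.conj l) _ (hQ (Subgroup.mem_zpowers x'))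
  refine ⟨((l * x' * l⁻¹ : ↥L) : G), hmem, (Subgroup.mem_normalizer_iff.1 (hLN l.2) x).1 hxN, ?_⟩
  intro h
  exact hx1 (congrArg Subtype.val (conj_eq_one_iff.1 (Subtype.ext h : l * x' * l⁻¹ = 1)))

omit hF in
theorem setStab_le_normalizer (Δ : Finset α) :
    setStab Δ ≤ Subgroup.normalizer (supp Δᶜ : Set (Perm α)) := by
  intro l hl
  rw [Subgroup.mem_normalizer_iff]
  have key : ∀ m : Perm α, m ∈ setStab Δ → ∀ n ∈ supp Δᶜ, m * n * m⁻¹ ∈ supp Δᶜ := by
    intro m hm n hn x hx
    have hx' : m⁻¹ x ∈ Δ := ((inv_mem hm : m⁻¹ ∈ setStab Δ) x).2 (by simpa using hx)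
    rw [Perm.mul_apply, Perm.mul_apply, hn _ (by simpa using hx')]
    simp
  refine fun n => ⟨key l hl n, fun hn => ?_⟩
  have := key l⁻¹ (inv_mem hl) _ hn
  simpa [mul_assoc] using this

end Cfsg.Agent.AltComponent
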