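import Mathlib.GroupTheory.GroupAction.Jordan

/-!
# Bases and three-cycles (Bochert)

If no set of at most half the points is a base of a faithful action, then the group contains a
three-cycle; otherwise the order of the group is bounded.
-/

set_option autoImplicit false

namespace Cfsg.Agent.Bochert

variable {G Ω : Type*} [Group G] [MulAction G Ω]

/-- `D` is a base: only the identity fixes it pointwise. -/
def IsBase (G : Type*) {Ω : Type*} [Group G] [MulAction G Ω] (D : Finset Ω) : Prop :=
  ∀ g : G, (∀ z ∈ D, g • z = z) → g = 1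

theorem isBase_univ [FaithfulSMul G Ω] [Fintype Ω] : IsBase G (Finset.univ : Finset Ω) := by
  intro g hg
  refine eq_of_smul_eq_smul (α := Ω) fun z => ?_
  rw [hg z (Finset.mem_univ z), one_smul]

variable [Fintype Ω] [DecidableEq Ω]

theorem card_mul_le (D : Finset Ω) (hD : IsBase G D) :
    Nat.card G * (Fintype.card Ω - D.card).factorial ≤ (Fintype.card Ω).factorial := by
  let f : G × Equiv.Perm {z : Ω // z ∉ D} → Equiv.Perm Ω :=
    fun p => MulAction.toPerm p.1 * Equiv.Perm.ofSubtype p.2
  have hf : Function.Injective f := by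
    rintro ⟨g, s⟩ ⟨g', s'⟩ h
    have hval : ∀ z, g • (Equiv.Perm.ofSubtype s z) = g' • (Equiv.Perm.ofSubtype s' z) :=
      fun z => congrArg (fun e : Equiv.Perm Ω => e z) h
    have hg : g = g' := by
      rw [← inv_mul_eq_one]
      refine hD _ fun z hz => ?_
      have h' := hval z
      rw [Equiv.Perm.ofSubtype_apply_of_not_mem s (not_not.2 hz),
        Equiv.Perm.ofSubtype_apply_of_not_mem s' (not_not.2 hz)] at h'
      rw [mul_smul, ← h', inv_smul_smul]
    subst hg
    have hs : Equiv.Perm.ofSubtype s = Equiv.Perm.ofSubtype s' :=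
      Equiv.ext fun z => smul_left_cancel g (hval z)
    rw [Equiv.Perm.ofSubtype_injective hs]
  have h := Nat.card_le_card_of_injective f hf
  rw [Nat.card_prod, Nat.card_perm, Nat.card_perm, Nat.card_eq_fintype_card (α := Ω)] at h
  refine le_of_eq_of_le ?_ h
  congr 2
  rw [Nat.card_eq_fintype_card, Fintype.card_subtype_compl, Fintype.card_coe]

/-- If every base has more than half the points then there is a three-cycle. -/
theorem exists_threeCycle [FaithfulSMul G Ω]
    (h : ∀ D : Finset Ω, IsBase G D → Fintype.card Ω < 2 * D.card) :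
    ∃ g : G, (MulAction.toPerm g : Equiv.Perm Ω).IsThreeCycle := by
  classical
  obtain ⟨D, hDmem, hDmin⟩ := Finset.exists_min_image
    ((Finset.univ : Finset (Finset Ω)).filter fun D => IsBase G D) (fun D => D.card)
    ⟨Finset.univ, by simp [isBase_univ]⟩
  simp only [Finset.mem_filter, Finset.mem_univ, true_and] at hDmem hDmin
  have hlt := h D hDmem
  have hC : ¬ IsBase G Dᶜ := fun hb => by
    have := hDmin _ hb
    rw [Finset.card_compl] at this
    omega
  simp only [IsBase, not_forall] at hC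
  obtain ⟨x, hx, hx1⟩ := hC
  obtain ⟨c, hc⟩ : ∃ c, x • c ≠ c := by
    by_contra hcon
    push Not at hcon
    exact hx1 (hDmem x fun z _ => hcon z)
  have hcD : c ∈ D := by
    by_contra hcD
    exact hc (hx c (Finset.mem_compl.2 hcD))
  have hE : ¬ IsBase G (D.erase c) := fun hb => by
    have := hDmin _ hb
    rw [Finset.card_erase_of_mem hcD] at this
    have : 0 < D.card := Finset.card_pos.2 ⟨c, hcD⟩
    omega
  simp only [IsBase, not_forall] at hE
  obtain ⟨y, hy, hy1⟩ := hE
  have hyc : y • c ≠ c := fun hcon => hy1 (hDmem y fun z hz => by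
    rcases eq_or_ne z c with rfl | hzc
    · exact hcon
    · exact hy z (Finset.mem_erase.2 ⟨hzc, hz⟩))
  have hxC : ∀ z, z ∉ D → x • z = z := fun z hz => hx z (Finset.mem_compl.2 hz)
  have hxC' : ∀ z, z ∉ D → x⁻¹ • z = z := fun z hz => inv_smul_eq_iff.2 (hxC z hz).symm
  have hyD : ∀ z, z ∈ D → z ≠ c → y • z = z := fun z hz hzc => hy z (Finset.mem_erase.2 ⟨hzc, hz⟩)
  have hyD' : ∀ z, z ∈ D → z ≠ c → y⁻¹ • z = z := fun z hz hzc =>
    inv_smul_eq_iff.2 (hyD z hz hzc).symm
  have hxD : ∀ z, z ∈ D → x • z ∈ D := fun z hz => by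
    by_contra hcon
    have h2 : x • z = z := smul_left_cancel x (hxC _ hcon)
    rw [h2] at hcon
    exact hcon hz
  have hxD' : ∀ z, z ∈ D → x⁻¹ • z ∈ D := fun z hz => by
    by_contra hcon
    have h2 := hxC _ hcon
    rw [smul_inv_smul] at h2
    exact hcon (h2 ▸ hz)
  -- `a` and `b`
  have haD : x • c ∈ D := hxD c hcD
  have hbD : y • c ∉ D := fun hb => hyc (by
    have h2 := hyD' _ hb hyc
    rw [inv_smul_smul] at h2
    exact h2.symm)
  refine ⟨x * y * x⁻¹ * y⁻¹, ?_⟩
  have hab : x • c ≠ y • c := fun he => hbD (he ▸ haD)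
  have heq : (MulAction.toPerm (x * y * x⁻¹ * y⁻¹) : Equiv.Perm Ω) =
      Equiv.swap c (y • c) * Equiv.swap c (x • c) := by
    ext w
    show (x * y * x⁻¹ * y⁻¹) • w = Equiv.swap c (y • c) (Equiv.swap c (x • c) w)
    simp only [mul_smul]
    rcases eq_or_ne w c with rfl | hwc
    · rw [Equiv.swap_apply_left, Equiv.swap_apply_of_ne_of_ne hc hab]
      have hu : y⁻¹ • w ∉ D := fun hu => hyc (by
        rcases eq_or_ne (y⁻¹ • w) w with hu' | hu'
        · exact (inv_smul_eq_iff.1 hu').symm
        · have h2 := hyD _ hu hu'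
          rw [smul_inv_smul] at h2
          exact absurd h2.symm hu')
      rw [hxC' _ hu, smul_inv_smul]
    rcases eq_or_ne w (x • c) with rfl | hwa
    · rw [Equiv.swap_apply_right, Equiv.swap_apply_left, hyD' _ haD hc, inv_smul_smul, hxC _ hbD]
    rw [Equiv.swap_apply_of_ne_of_ne hwc hwa]
    rcases eq_or_ne w (y • c) with rfl | hwb
    · rw [Equiv.swap_apply_right, inv_smul_smul]
      have hd : x⁻¹ • c ∈ D := hxD' c hcD
      have hdc : x⁻¹ • c ≠ c := fun he => hc (inv_smul_eq_iff.1 he).symm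
      rw [hyD _ hd hdc, smul_inv_smul]
    rw [Equiv.swap_apply_of_ne_of_ne hwc hwb]
    by_cases hw : w ∈ D
    · rw [hyD' w hw hwc, hyD _ (hxD' w hw) (fun he => hwa (inv_smul_eq_iff.1 he)), smul_inv_smul]
    · have hu : y⁻¹ • w ∉ D := fun hu => by
        rcases eq_or_ne (y⁻¹ • w) c with hu' | hu'
        · exact hwb (inv_smul_eq_iff.1 hu')
        · have h2 := hyD _ hu hu'
          rw [smul_inv_smul] at h2
          exact hw (h2 ▸ hu)
      rw [hxC' _ hu, smul_inv_smul, hxC w hw]
  rw [heq]
  exact Equiv.Perm.isThreeCycle_swap_mul_swap_same (Ne.symm hyc) (Ne.symm hc) hab.symm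

theorem alternating_le [FaithfulSMul G Ω] (hprim : MulAction.IsPreprimitive G Ω) {g : G}
    (hg : (MulAction.toPerm g : Equiv.Perm Ω).IsThreeCycle) :
    alternatingGroup Ω ≤ (MulAction.toPermHom G Ω).range := by
  refine Equiv.Perm.alternatingGroup_le_of_isPreprimitive_of_isThreeCycle_mem ?_ hg ⟨g, rfl⟩
  let f : Ω →ₑ[(MulAction.toPermHom G Ω).rangeRestrict] Ω :=
    { toFun := id
      map_smul' := fun _ _ => rfl }
  exact MulAction.IsPreprimitive.of_surjective (f := f) Function.surjective_id

end Cfsg.Agent.Bochert
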