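import Mathlib.GroupTheory.SpecificGroups.Alternating
import Mathlib.GroupTheory.SpecificGroups.Alternating.Centralizer
import Mathlib.GroupTheory.Perm.Fin
import Mathlib.Tactic

/-!
# The fixed point count on a product of two conjugacy classes of an alternating group
-/

set_option autoImplicit false

namespace Cfsg.Agent.ClassProdFix

open Equiv Equiv.Perm Finset

variable {α : Type*} [Fintype α] [DecidableEq α]

/-- The number of agreements of `g * a * g⁻¹` with `c`. -/
def agree (a c g : Perm α) : ℕ := #{i | g (a i) = c (g i)}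

theorem natCard_fixedPoints (a b g : Perm α) :
    Nat.card (Function.fixedPoints ⇑(g * a * g⁻¹ * b)) = agree a b⁻¹ g := by
  rw [agree, ← Fintype.card_subtype, ← Nat.card_eq_fintype_card]
  refine Nat.card_congr ((b.trans (g⁻¹ : Perm α)).subtypeEquiv fun x => ?_)
  show (g * a * g⁻¹ * b) x = x ↔ _
  simp [Perm.mul_apply]

theorem agree_eq_sum (a c g : Perm α) :
    agree a c g = ∑ i, if g (a i) = c (g i) then 1 else 0 :=
  Finset.card_filter _ _

/-- Conjugates of `a` cannot all agree with `c` at the same number of points. -/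
theorem not_constant (hn : 5 ≤ Fintype.card α) {a c : Perm α} (ha : a ≠ 1) (hc : c ≠ 1)
    (h : ∀ g, agree a c g = agree a c 1) : False := by
  obtain ⟨p, hp⟩ : ∃ p, a p ≠ p := by
    by_contra hh; push Not at hh; exact ha (Equiv.ext hh)
  obtain ⟨x, hx⟩ : ∃ x, c x ≠ x := by
    by_contra hh; push Not at hh; exact hc (Equiv.ext hh)
  set g₀ := swap (swap p x (a p)) (c x) * swap p x with hg₀
  have e1 : g₀ p = x := by
    rw [hg₀, Perm.mul_apply, swap_apply_left]
    refine swap_apply_of_ne_of_ne (fun e => hp ?_) hx.symm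
    exact ((swap p x).injective ((swap_apply_left p x).trans e)).symm
  have e2 : g₀ (a p) = c x := by rw [hg₀, Perm.mul_apply, swap_apply_left]
  set A := g₀ * a * g₀⁻¹ with hA
  have hAx : A x = c x := by
    have h1 : g₀⁻¹ x = p := by rw [← e1]; simp
    rw [hA, Perm.mul_apply, Perm.mul_apply, h1, e2]
  set y := c x with hy
  obtain ⟨z, -, hz⟩ := Finset.exists_mem_notMem_of_card_lt_card
    (show ({x, y, A⁻¹ (c y), c⁻¹ (A y)} : Finset α).card < (univ : Finset α).card from
      Finset.card_le_four.trans_lt (by rw [Finset.card_univ]; omega))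
  simp only [Finset.mem_insert, Finset.mem_singleton, not_or] at hz
  obtain ⟨hzx, hzy, hz1, hz2⟩ := hz
  have hcount : ∀ g, agree a c g = #{u | (g * a * g⁻¹) u = c u} := by
    intro g
    rw [agree]
    refine Finset.card_equiv g fun i => ?_
    rw [Finset.mem_filter, Finset.mem_filter]
    simp [Perm.mul_apply]
  have hlt : agree a c (swap y z * g₀) < agree a c g₀ := by
    rw [hcount, hcount]
    apply Finset.card_lt_card
    have hconj : swap y z * g₀ * a * (swap y z * g₀)⁻¹ = swap y z * A * swap y z := by
      rw [hA, mul_inv_rev, swap_inv]; group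
    refine ⟨fun u hu => ?_, fun hsub => ?_⟩
    · rw [Finset.mem_filter] at hu ⊢
      refine ⟨Finset.mem_univ _, ?_⟩
      replace hu := hu.2
      rw [hconj, Perm.mul_apply, Perm.mul_apply] at hu
      rw [← hA]
      by_cases huy : u = y
      · subst huy
        exfalso
        rw [swap_apply_left] at hu
        have hAz : A z = swap y z (c y) := by rw [← hu, swap_apply_self]
        by_cases e : c y = z
        · rw [e, swap_apply_right, ← hAx] at hAz
          exact hzx (A.injective hAz)
        · rw [swap_apply_of_ne_of_ne (fun e' => hx (c.injective (e' : c y = c x))) e] at hAz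
          exact hz1 (by rw [← hAz]; simp)
      by_cases huz : u = z
      · subst huz
        exfalso
        rw [swap_apply_right] at hu
        have hAy : A y = swap y u (c u) := by rw [← hu, swap_apply_self]
        by_cases e : A y = u
        · rw [e] at hu
          rw [swap_apply_right] at hu
          exact hzx (c.injective hu).symm
        · have hne : A y ≠ y := fun e' => hx (A.injective (e'.trans hAx.symm))
          rw [swap_apply_of_ne_of_ne hne e] at hu
          exact hz2 (by rw [hu]; simp)
      rw [swap_apply_of_ne_of_ne huy huz] at hu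
      have hAu : A u = swap y z (c u) := by rw [← hu, swap_apply_self]
      by_cases e1 : c u = y
      · have : u = x := c.injective e1
        rw [this, hAx, ← hy, swap_apply_left] at hAu
        exact absurd hAu.symm hzy
      by_cases e2 : c u = z
      · rw [e2, swap_apply_right, ← hAx] at hAu
        have : u = x := A.injective hAu
        rw [this] at e2
        exact absurd e2.symm hzy
      rw [hAu, swap_apply_of_ne_of_ne e1 e2]
    · have hxmem := (Finset.mem_filter.1 (hsub (Finset.mem_filter.2 ⟨Finset.mem_univ x, hAx⟩))).2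
      rw [hconj, Perm.mul_apply, Perm.mul_apply] at hxmem
      rw [swap_apply_of_ne_of_ne hx.symm (Ne.symm hzx), hAx, swap_apply_left] at hxmem
      exact hzy hxmem
  rw [h, h g₀] at hlt
  exact lt_irrefl _ hlt

/-- Sums over the even permutations of functions of four values agree with those over the odd ones. -/
theorem card_even_eq_odd (hn : 6 ≤ Fintype.card α) (i j k l : α) (P : α → α → α → α → Prop)
    [∀ x y z w, Decidable (P x y z w)] :
    #{g : Perm α | sign g = 1 ∧ P (g i) (g j) (g k) (g l)} =
      #{g : Perm α | ¬ sign g = 1 ∧ P (g i) (g j) (g k) (g l)} := by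
  obtain ⟨p, -, hp⟩ := Finset.exists_mem_notMem_of_card_lt_card
    (show ({i, j, k, l} : Finset α).card < (univ : Finset α).card from
      Finset.card_le_four.trans_lt (by rw [Finset.card_univ]; omega))
  obtain ⟨q, -, hq⟩ := Finset.exists_mem_notMem_of_card_lt_card
    (show (insert p ({i, j, k, l} : Finset α)).card < (univ : Finset α).card from
      ((Finset.card_insert_le _ _).trans (Nat.add_le_add_right Finset.card_le_four 1)).trans_lt
        (by rw [Finset.card_univ]; omega))
  simp only [Finset.mem_insert, Finset.mem_singleton, not_or] at hp hq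
  refine Finset.card_equiv (Equiv.mulRight (swap p q)) fun g => ?_
  simp only [Finset.mem_filter, Finset.mem_univ, true_and, Equiv.coe_mulRight, Perm.mul_apply,
    map_mul, sign_swap (Ne.symm hq.1)]
  rw [swap_apply_of_ne_of_ne (Ne.symm hp.1) (Ne.symm hq.2.1),
    swap_apply_of_ne_of_ne (Ne.symm hp.2.1) (Ne.symm hq.2.2.1),
    swap_apply_of_ne_of_ne (Ne.symm hp.2.2.1) (Ne.symm hq.2.2.2.1),
    swap_apply_of_ne_of_ne (Ne.symm hp.2.2.2) (Ne.symm hq.2.2.2.2)]
  rcases Int.units_eq_one_or (sign g) with e | e <;> simp [e]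

/-- Constancy on the even permutations gives constancy everywhere, in degree at least six. -/
theorem extend (hn : 6 ≤ Fintype.card α) {a c : Perm α} {k : ℕ}
    (h : ∀ g, sign g = 1 → agree a c g = k) : ∀ g, agree a c g = k := by
  set E := ({g | sign g = 1} : Finset (Perm α))
  set O := ({g | ¬ sign g = 1} : Finset (Perm α))
  have h1 : ∀ i, ∑ g ∈ E, (if g (a i) = c (g i) then 1 else 0 : ℕ) =
      ∑ g ∈ O, (if g (a i) = c (g i) then 1 else 0 : ℕ) := by
    intro i
    simp only [Finset.sum_boole, Nat.cast_id, E, O, Finset.filter_filter]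
    exact card_even_eq_odd hn i (a i) i i fun x y _ _ => y = c x
  have h2 : ∀ i j, ∑ g ∈ E, ((if g (a i) = c (g i) then 1 else 0) * (if g (a j) = c (g j) then 1 else 0) : ℕ) =
      ∑ g ∈ O, ((if g (a i) = c (g i) then 1 else 0) * (if g (a j) = c (g j) then 1 else 0) : ℕ) := by
    intro i j
    simp only [ite_mul, one_mul, zero_mul, ← ite_and, Finset.sum_boole, Nat.cast_id, E, O, Finset.filter_filter]
    exact card_even_eq_odd hn i (a i) j (a j) fun x y z w => y = c x ∧ w = c z
  have hEO : E.card = O.card := by
    obtain ⟨i₀⟩ : Nonempty α := Fintype.card_pos_iff.1 (by omega)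
    have := card_even_eq_odd hn i₀ i₀ i₀ i₀ fun _ _ _ _ => True
    simpa [E, O] using this
  have s1 : ∑ g ∈ O, agree a c g = ∑ g ∈ E, agree a c g := by
    simp only [agree_eq_sum]
    rw [Finset.sum_comm, Finset.sum_comm (s := E)]
    exact Finset.sum_congr rfl fun i _ => (h1 i).symm
  have s2 : ∑ g ∈ O, agree a c g * agree a c g = ∑ g ∈ E, agree a c g * agree a c g := by
    simp only [agree_eq_sum, Finset.sum_mul_sum]
    rw [Finset.sum_comm, Finset.sum_comm (s := E)]
    refine Finset.sum_congr rfl fun i _ => ?_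
    rw [Finset.sum_comm, Finset.sum_comm (s := E)]
    exact Finset.sum_congr rfl fun j _ => (h2 i j).symm
  have hE : ∀ g ∈ E, agree a c g = k := fun g hg => h g (by simpa [E] using hg)
  rw [Finset.sum_congr rfl hE, Finset.sum_const, smul_eq_mul, hEO] at s1
  rw [Finset.sum_congr rfl (fun g hg => by rw [hE g hg] : ∀ g ∈ E, agree a c g * agree a c g = k * k),
    Finset.sum_const, smul_eq_mul, hEO] at s2
  have hzero : ∑ g ∈ O, ((agree a c g : ℤ) - k) ^ 2 = 0 := by
    have s1' : (∑ g ∈ O, (agree a c g : ℤ)) = O.card * k := by exact_mod_cast s1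
    have s2' : (∑ g ∈ O, (agree a c g : ℤ) * agree a c g) = O.card * (k * k) := by exact_mod_cast s2
    have e : ∀ g ∈ O, ((agree a c g : ℤ) - k) ^ 2 =
        (agree a c g : ℤ) * agree a c g - 2 * k * agree a c g + k * k := fun g _ => by ring
    rw [Finset.sum_congr rfl e, Finset.sum_add_distrib, Finset.sum_sub_distrib, ← Finset.mul_sum,
      Finset.sum_const, s1', s2', nsmul_eq_mul]
    ring
  intro g
  by_cases hg : sign g = 1
  · exact h g hg
  · have := (Finset.sum_eq_zero_iff_of_nonneg fun g _ => sq_nonneg _).1 hzero g (by simpa [O] using hg)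
    exact_mod_cast sub_eq_zero.1 ((pow_eq_zero_iff (two_ne_zero)).1 this)

theorem five_cycles : ∀ c : Perm (Fin 5), c ^ 5 = 1 → c ≠ 1 →
    ∃ g : Perm (Fin 5), sign g = 1 ∧ agree (finRotate 5) c g ≠ agree (finRotate 5) c 1 := by
  decide +kernel

theorem not_constant_five (hn : Fintype.card α = 5) {a c : Perm α}
    (ha : a.cycleType = {5}) (hc : c.cycleType = {5}) {k : ℕ}
    (h : ∀ g, sign g = 1 → agree a c g = k) : False := by
  let e : Fin 5 ≃ α := (Fintype.equivFinOfCardEq hn).symm
  have he : ((e.permCongrHom (finRotate 5) : Perm α)).cycleType = {5} := by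
    have := cycleType_extendDomain (p := fun _ : α => True) (g := finRotate 5)
      (e.trans (Equiv.subtypeUnivEquiv fun _ => trivial).symm)
    rw [cycleType_finRotate] at this
    rw [← this]
    congr 1
  obtain ⟨π, hπ⟩ := isConj_iff.1 (isConj_iff_cycleType_eq.2 (he.trans ha.symm))
  let e' : Fin 5 ≃ α := e.trans π
  have ha' : ∀ i, a (e' i) = e' (finRotate 5 i) := by
    intro i
    rw [← hπ]
    simp [e']
  set c' : Perm (Fin 5) := e'.symm.permCongr c with hc'
  have hord : orderOf c = 5 := by rw [← lcm_cycleType, hc]; simp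
  have h5 : c' ^ 5 = 1 := by
    show (e'.symm.permCongrHom c) ^ 5 = 1
    have h' : c ^ 5 = 1 := hord ▸ pow_orderOf_eq_one c
    rw [← map_pow, h', map_one]
  have h1 : c' ≠ 1 := fun e1 => by
    have : c = 1 := e'.symm.permCongrHom.injective (e1.trans (map_one _).symm)
    rw [this, orderOf_one] at hord
    omega
  obtain ⟨g, hg, hne⟩ := five_cycles c' h5 h1
  have key : ∀ f : Perm (Fin 5), agree a c (e'.permCongr f) = agree (finRotate 5) c' f := by
    intro f
    refine (Finset.card_equiv e' fun i => ?_).symm
    rw [Finset.mem_filter, Finset.mem_filter]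
    simp only [Finset.mem_univ, true_and, Equiv.permCongr_apply,
      Equiv.symm_apply_apply, ha', hc', Equiv.symm_symm]
    exact ⟨fun h => by rw [h]; simp, fun h => by rw [← e'.injective.eq_iff]; simpa using h⟩
  exact hne (by
    rw [← key, ← key, h _ (by rw [sign_permCongr, hg]),
      h _ (by rw [sign_permCongr, Equiv.Perm.sign_one])])

theorem exists_odd_of_degree_five (hn : Fintype.card α = 5) {a : Perm α} (ha : a ≠ 1)
    (h : a.cycleType ≠ {5}) : ∃ d, sign d ≠ 1 ∧ d * a = a * d := by
  have hnot : ¬ Subgroup.centralizer {a} ≤ alternatingGroup α := by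
    rw [centralizer_le_alternating_iff]
    rintro ⟨hodd, hsum, hcount⟩
    apply h
    have hle : a.cycleType.sum ≤ 5 := hn ▸ (sum_cycleType_le a)
    obtain ⟨x, hx⟩ := Multiset.exists_mem_of_ne_zero (fun e => ha (cycleType_eq_zero.1 e))
    obtain ⟨t, ht⟩ := Multiset.exists_cons_of_mem hx
    have hx2 := two_le_of_mem_cycleType hx
    obtain ⟨i, hi⟩ := hodd x hx
    rw [ht, Multiset.sum_cons] at hle hsum
    rcases t.empty_or_exists_mem with rfl | ⟨y, hy⟩
    · rw [Multiset.sum_zero] at hsum hle
      rw [ht, show x = 5 by omega]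
      rfl
    · exfalso
      have hy' : y ∈ a.cycleType := by rw [ht]; exact Multiset.mem_cons_of_mem hy
      have := two_le_of_mem_cycleType hy'
      obtain ⟨j, hj⟩ := hodd y hy'
      have := Multiset.le_sum_of_mem hy
      omega
  obtain ⟨d, hd, hdA⟩ := SetLike.not_le_iff_exists.1 hnot
  exact ⟨d, fun e => hdA e, Subgroup.mem_centralizer_singleton_iff.1 hd⟩

/-- The count is not constant on the even permutations. -/
theorem not_constant_even (hn : 5 ≤ Fintype.card α) {a c : Perm α} (ha : a ≠ 1) (hc : c ≠ 1) {k : ℕ}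
    (h : ∀ g, sign g = 1 → agree a c g = k) : False := by
  suffices hall : ∀ g, agree a c g = k from
    not_constant hn ha hc fun g => (hall g).trans (hall 1).symm
  by_cases h6 : 6 ≤ Fintype.card α
  · exact extend h6 h
  have h5 : Fintype.card α = 5 := by omega
  by_cases ha5 : a.cycleType ≠ {5}
  · obtain ⟨d, hd, hda⟩ := exists_odd_of_degree_five h5 ha ha5
    intro g
    by_cases hg : sign g = 1
    · exact h g hg
    rw [← h (g * d) (by rw [map_mul, Int.units_ne_iff_eq_neg.1 hg, Int.units_ne_iff_eq_neg.1 hd]; rfl)]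
    refine (Finset.card_equiv d⁻¹ fun i => ?_)
    rw [Finset.mem_filter, Finset.mem_filter]
    have e : a i = d (a (d⁻¹ i)) := by
      have := congrArg (fun σ : Perm α => σ (d⁻¹ i)) hda
      simpa [Perm.mul_apply] using this.symm
    simp [Perm.mul_apply, e]
  by_cases hc5 : c.cycleType ≠ {5}
  · obtain ⟨d, hd, hdc⟩ := exists_odd_of_degree_five h5 hc hc5
    intro g
    by_cases hg : sign g = 1
    · exact h g hg
    rw [← h (d * g) (by rw [map_mul, Int.units_ne_iff_eq_neg.1 hg, Int.units_ne_iff_eq_neg.1 hd]; rfl)]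
    refine congrArg Finset.card (Finset.filter_congr fun i _ => ?_)
    have e : c (d (g i)) = d (c (g i)) := (congrArg (fun σ : Perm α => σ (g i)) hdc).symm
    simp [Perm.mul_apply, e]
  push Not at ha5 hc5
  exact (not_constant_five h5 ha5 hc5 h).elim

end Cfsg.Agent.ClassProdFix
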