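import Cfsg.Agent.Lib.MinNormal.Primitive
import Cfsg.Agent.Lib.FGStruct.Counting
import Cfsg.Agent.Lib.Perm.Sharp

/-!
Primitive groups with a single class of derangements.
-/

set_option autoImplicit false
set_option linter.unusedSectionVars false

namespace Cfsg.Agent.DerangClass

open MulAction Subgroup
open Cfsg.Agent.MinFactors

variable {G : Type*} [Group G] [Finite G] {Ω : Type*} [MulAction G Ω] [Finite Ω]
  [FaithfulSMul G Ω]

omit [Finite G] [Finite Ω] in
theorem transitive_of_normal (hprim : IsPreprimitive G Ω) (N : Subgroup G) [N.Normal]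
    (hN : N ≠ ⊥) : IsPretransitive N Ω := by
  have := hprim
  refine IsQuasiPreprimitive.isPretransitive_of_normal fun h => hN ?_
  rw [eq_bot_iff]
  intro x hx
  rw [Subgroup.mem_bot]
  refine eq_of_smul_eq_smul (α := Ω) fun a => ?_
  have ha : a ∈ fixedPoints N Ω := by rw [h]; trivial
  rw [one_smul]
  exact ha ⟨x, hx⟩

omit [Finite G] [Finite Ω] in
/-- A subgroup centralized by a transitive subgroup acts semiregularly. -/
theorem semiregular_of_comm (N C : Subgroup G) [IsPretransitive C Ω]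
    (hcomm : ∀ x ∈ N, ∀ c ∈ C, c * x = x * c) {x : G} (hx : x ∈ N) {a : Ω} (ha : x • a = a) :
    x = 1 := by
  refine eq_of_smul_eq_smul (α := Ω) fun b => ?_
  obtain ⟨⟨c, hc⟩, rfl⟩ := exists_smul_eq C a b
  show x • c • a = (1 : G) • c • a
  rw [smul_smul, ← hcomm x hx c hc, mul_smul, ha, one_smul]

/-- A regular normal subgroup and one class of derangements: sharply two-transitive. -/
theorem sharp_of_regular (hn : 2 ≤ Nat.card Ω) (hprim : IsPreprimitive G Ω)
    (hd : ∀ x y : G, (∀ a : Ω, x • a ≠ a) → (∀ a : Ω, y • a ≠ a) → ∃ g, g * x * g⁻¹ = y)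
    (N : Subgroup G) [hNn : N.Normal] (hN : N ≠ ⊥)
    (hreg : ∀ x ∈ N, ∀ a : Ω, x • a = a → x = 1) :
    IsMultiplyPretransitive G Ω 2 ∧
      ∀ g : G, g ≠ 1 → ∀ a b : Ω, a ≠ b → g • a = a → g • b ≠ b := by
  have hT := transitive_of_normal hprim N hN
  have hsmul : ∀ a b : Ω, ∃ x ∈ N, x • a = b := fun a b => by
    obtain ⟨⟨x, hx⟩, h⟩ := exists_smul_eq N a b
    exact ⟨x, hx, h⟩
  have hinj : ∀ x ∈ N, ∀ y ∈ N, ∀ a : Ω, x • a = y • a → x = y := by
    intro x hx y hy a h
    have := hreg (y⁻¹ * x) (mul_mem (inv_mem hy) hx) a (by rw [mul_smul, h, inv_smul_smul])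
    exact (inv_mul_eq_one.1 this).symm
  have hder : ∀ x ∈ N, x ≠ 1 → ∀ a : Ω, x • a ≠ a := fun x hx h1 a h => h1 (hreg x hx a h)
  obtain ⟨⟨x₀, hx₀⟩, hx₀'⟩ := Subgroup.ne_bot_iff_exists_ne_one.1 hN
  have hx₀1 : x₀ ≠ 1 := fun h => hx₀' (Subtype.ext h)
  have hmem : ∀ g : G, (∀ a : Ω, g • a ≠ a) → g ∈ N := by
    intro g hg
    obtain ⟨c, hc⟩ := hd x₀ g (hder x₀ hx₀ hx₀1) hg
    rw [← hc]; exact hNn.conj_mem _ hx₀ c
  have : Nontrivial N := (Subgroup.nontrivial_iff_ne_bot _).2 hN
  obtain ⟨p, hp, hpd⟩ := Nat.exists_prime_and_dvd (n := Nat.card N)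
    (fun h => by have := Finite.one_lt_card (α := N); omega)
  have := Fact.mk hp
  obtain ⟨y₀, hy₀⟩ := exists_prime_orderOf_dvd_card' p hpd
  have hy₀1 : (y₀ : G) ≠ 1 := fun h => by
    have : y₀ = 1 := Subtype.ext h
    rw [this, orderOf_one] at hy₀
    exact hp.one_lt.ne hy₀
  have hpN : IsPGroup p N := fun x => by
    refine ⟨1, ?_⟩
    by_cases hx1 : x = 1
    · simp [hx1]
    obtain ⟨c, hc⟩ := hd y₀ x (hder _ y₀.2 hy₀1) (hder _ x.2 fun h => hx1 (Subtype.ext h))
    have h0 : (y₀ : G) ^ p = 1 := by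
      rw [← SubgroupClass.coe_pow, ← hy₀, pow_orderOf_eq_one, OneMemClass.coe_one]
    refine Subtype.ext ?_
    rw [pow_one, SubgroupClass.coe_pow, ← hc, conj_pow, h0]
    simp
  have hab : ∀ x ∈ N, ∀ y ∈ N, x * y = y * x := by
    have := hpN.center_nontrivial
    let Z : Subgroup G := (center N).map N.subtype
    have : Z.Normal := inferInstanceAs ((center N).map N.subtype).Normal
    have hZ : Z ≠ ⊥ := fun h => by
      rw [Subgroup.map_eq_bot_iff_of_injective _ N.subtype_injective] at h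
      exact (Subgroup.nontrivial_iff_ne_bot _).1 ‹Nontrivial (center N)› h
    have hZT := transitive_of_normal hprim Z hZ
    have : Nonempty Ω := (Nat.card_pos_iff.1 (show 0 < Nat.card Ω by omega)).1
    obtain ⟨a⟩ := this
    intro x hx y hy
    obtain ⟨⟨z, hz⟩, hza⟩ := exists_smul_eq Z a (x • a)
    obtain ⟨w, hw, rfl⟩ := hz
    have e : (w : G) = x := hinj _ w.2 x hx a hza
    rw [← e]
    exact congrArg Subtype.val (Subgroup.mem_center_iff.1 hw ⟨y, hy⟩).symm
  refine ⟨is_two_pretransitive_iff.2 ?_, ?_⟩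
  · intro a b c d hab' hcd
    obtain ⟨x, hx, hxa⟩ := hsmul a b
    obtain ⟨y, hy, hyc⟩ := hsmul c d
    obtain ⟨g, hg⟩ := hd x y (hder x hx fun h => hab' (by rw [← hxa, h, one_smul]))
      (hder y hy fun h => hcd (by rw [← hyc, h, one_smul]))
    obtain ⟨ν, hν, hνc⟩ := hsmul (g • a) c
    refine ⟨ν * g, by rw [mul_smul, hνc], ?_⟩
    rw [← hxa, ← hyc, ← hνc]
    show (ν * g) • x • a = y • ν • g • a
    rw [smul_smul, smul_smul, smul_smul, ← hg]
    congr 1
    have e := hab ν hν (g * x * g⁻¹) (hNn.conj_mem x hx g)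
    calc ν * g * x = (ν * (g * x * g⁻¹)) * g := by group
      _ = (g * x * g⁻¹ * ν) * g := by rw [e]
      _ = _ := by group
  · intro g hg a b hne ha hb
    choose f hf hfx using fun x : Ω => hsmul (g • x) x
    have hnsurj : ¬ Function.Surjective (fun x => (⟨f x, hf x⟩ : N)) := fun hs => by
      have hfa : ∀ x, g • x = x → f x = 1 := fun x hx =>
        hreg _ (hf x) x (by conv_lhs => arg 2; rw [← hx]
                            exact hfx x)
      have hcard : Nat.card Ω = Nat.card N := by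
        refine Nat.card_eq_of_bijective (fun x => (⟨(hsmul a x).choose, (hsmul a x).choose_spec.1⟩ : N))
          ⟨fun x y h => ?_, fun ν => ⟨(ν : G) • a, Subtype.ext ?_⟩⟩
        · rw [← (hsmul a x).choose_spec.2, ← (hsmul a y).choose_spec.2]
          exact congrArg (fun z : N => (z : G) • a) h
        · exact hinj _ (hsmul a _).choose_spec.1 _ ν.2 a (hsmul a _).choose_spec.2
      have hb' := (Nat.bijective_iff_surjective_and_card _).2 ⟨hs, hcard⟩
      exact hne (hb'.1 (Subtype.ext ((hfa a ha).trans (hfa b hb).symm)))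
    rw [Function.Surjective] at hnsurj
    push Not at hnsurj
    obtain ⟨ν, hν⟩ := hnsurj
    have hνg : ∀ x : Ω, ((ν : G) * g) • x ≠ x := fun x h => hν x (Subtype.ext
      (hinj _ (hf x) _ ν.2 (g • x) ((hfx x).trans (by rw [← mul_smul, h]))))
    have : g ∈ N := by
      simpa using mul_mem (inv_mem ν.2) (hmem _ hνg)
    exact hg (hreg g this a ha)

section Socle

variable (S : NAMin G)

/-- An element of a factor, as an element of the socle. -/
def inc (U : S.Fac) : U.1 →* S.N := Subgroup.inclusion (S.fac_stable U).2.1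

omit [Finite G] in
theorem proj_inc (U : S.Fac) (u : U.1) : S.proj U (inc S U u) = u :=
  S.proj_self U _ u.2

omit [Finite G] in
theorem proj_inc_ne {U W : S.Fac} (h : W ≠ U) (u : U.1) : S.proj W (inc S U u) = 1 :=
  S.proj_other h.symm _ u.2

omit [Finite G] in
theorem eq_inc {U : S.Fac} {x : S.N} (h : ∀ W, W ≠ U → S.proj W x = 1) :
    x = inc S U (S.proj U x) := by
  rw [← mul_inv_eq_one]
  refine S.proj_injective fun W => ?_
  by_cases hW : W = U
  · subst hW; simp [proj_inc]
  · simp [h W hW, proj_inc_ne S hW]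

omit [Finite G] in
theorem conj_inc (U : S.Fac) (h : S.N) (u : U.1) :
    h * inc S U u * h⁻¹ = inc S U (S.proj U h * u * (S.proj U h)⁻¹) := by
  rw [← mul_inv_eq_one]
  refine S.proj_injective fun W => ?_
  by_cases hW : W = U
  · subst hW; simp [proj_inc]
  · simp [proj_inc_ne S hW]

omit [Finite G] in
theorem inc_mem_of_full (H : Subgroup S.N) (U : S.Fac)
    (hfull : Function.Surjective (S.dproj H U)) {a : U.1} (ha : inc S U a ∈ H) (ha1 : a ≠ 1)
    (u : U.1) : inc S U u ∈ H := by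
  have hn : (H.comap (inc S U)).Normal := ⟨fun b hb v => by
    obtain ⟨h, hh⟩ := hfull v
    have := H.mul_mem (H.mul_mem h.2 hb) (H.inv_mem h.2)
    rw [conj_inc] at this
    rw [Subgroup.mem_comap, ← hh]
    exact this⟩
  have := S.fac_simple U
  have h := hn.eq_bot_or_eq_top.resolve_left fun h => ha1 (Subgroup.mem_bot.1 (h ▸ ha))
  have : u ∈ H.comap (inc S U) := h ▸ Subgroup.mem_top _
  exact this

/-- A conjugate of an element supported on one factor is not supported on two. -/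
theorem not_conj_support {g : G} {U V W : S.Fac} {x y : S.N} (hUV : U ≠ V)
    (hx : ∀ F, F ≠ W → S.proj F x = 1) (hyU : S.proj U y ≠ 1) (hyV : S.proj V y ≠ 1)
    (hg : g * (x : G) * g⁻¹ = y) : False := by
  have key : ∀ F : S.Fac, S.proj F y ≠ 1 → S.moveFac g⁻¹ F = W := fun F hF => by
    by_contra hne
    apply hF
    have h := S.proj_move g (S.moveFac g⁻¹ F) x
    rw [hx _ hne, show S.moveElt g x = y from Subtype.ext hg] at h
    simp only [OneMemClass.coe_one, mul_one, mul_inv_cancel] at h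
    have e : S.moveFac g (S.moveFac g⁻¹ F) = F := S.moveFac_inv' g F
    rw [e] at h
    exact Subtype.ext h
  exact hUV (by
    rw [← S.moveFac_inv' g U, key U hyU, ← key V hyV, S.moveFac_inv' g V])

variable {S}

theorem socle_false (hn : 2 ≤ Nat.card Ω) [IsPretransitive S.N Ω] (hk : ∃ U V : S.Fac, U ≠ V)
    (hd : ∀ x y : G, (∀ a : Ω, x • a ≠ a) → (∀ a : Ω, y • a ≠ a) → ∃ g, g * x * g⁻¹ = y) :
    False := by
  classical
  have hne : Nonempty Ω := (Nat.card_pos_iff.1 (show 0 < Nat.card Ω by omega)).1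
  obtain ⟨α⟩ := hne
  set H : Subgroup S.N := stabilizer S.N α with hH
  have hder : ∀ x : S.N, (∀ m : S.N, m * x * m⁻¹ ∉ H) → ∀ a : Ω, (x : G) • a ≠ a := by
    intro x hx a ha
    obtain ⟨m, hm⟩ := exists_smul_eq S.N a α
    refine hx m (mem_stabilizer_iff.2 ?_)
    rw [← hm, smul_smul, inv_mul_cancel_right, mul_smul]
    exact congrArg (m • ·) (show x • a = a from ha)
  have hother : ∀ U : S.Fac, ∃ V, V ≠ U := fun U => by
    obtain ⟨A, B, hAB⟩ := hk
    by_cases h : A = U
    · exact ⟨B, fun e => hAB (h.trans e.symm)⟩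
    · exact ⟨A, h⟩
  have hnt : ∀ U : S.Fac, ∃ u : U.1, u ≠ 1 := fun U => by
    obtain ⟨u, hu, v, hv, h⟩ := S.fac_nonabelian U
    exact ⟨⟨u, hu⟩, fun e => h (by
      have e' : u = 1 := congrArg Subtype.val e
      rw [e', one_mul, mul_one])⟩
  by_cases hfull : ∀ U, Function.Surjective (S.dproj H U)
  swap
  · -- a proper projection
    push Not at hfull
    obtain ⟨U, hU⟩ := hfull
    obtain ⟨t, ht⟩ : ∃ t : U.1, ∀ c : U.1, c⁻¹ * t * c ∉ (S.dproj H U).range := by
      by_contra hcon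
      push Not at hcon
      exact hU (MonoidHom.range_eq_top.1 (Counting.eq_top_of_conj_cover _ hcon))
    have ht1 : t ≠ 1 := fun e => ht 1 (by simp [e])
    have hdx : ∀ x : S.N, S.proj U x = t → ∀ a : Ω, (x : G) • a ≠ a := fun x hx =>
      hder x fun m hm => ht (S.proj U m)⁻¹ ⟨⟨_, hm⟩, by
        show S.proj U (m * x * m⁻¹) = _
        rw [map_mul, map_mul, map_inv, hx, inv_inv]⟩
    obtain ⟨V, hVU⟩ := hother U
    obtain ⟨v, hv⟩ := hnt V
    have h2 : S.proj U (inc S U t * inc S V v) = t := by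
      rw [map_mul, proj_inc, proj_inc_ne S hVU.symm, mul_one]
    have h3 : S.proj V (inc S U t * inc S V v) = v := by
      rw [map_mul, proj_inc, proj_inc_ne S hVU, one_mul]
    obtain ⟨g, hg⟩ := hd _ _ (hdx (inc S U t) (proj_inc S U t)) (hdx _ h2)
    exact not_conj_support S hVU.symm (x := inc S U t) (fun F hF => proj_inc_ne S hF t)
      (by rw [h2]; exact ht1) (by rw [h3]; exact hv) hg
  · -- full projections
    obtain ⟨U, hU⟩ : ∃ U, ∀ u : U.1, inc S U u ∈ H → u = 1 := by
      by_contra hcon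
      push Not at hcon
      have hall : ∀ F : S.Fac, F.1 ≤ H.map S.N.subtype := fun F x hx => by
        obtain ⟨u, hu, hu1⟩ := hcon F
        exact ⟨_, inc_mem_of_full S H F (hfull F) hu hu1 ⟨x, hx⟩, rfl⟩
      have htop : ∀ x : S.N, x ∈ H := fun x => by
        have hle : (⨆ F : S.Fac, F.1) ≤ H.map S.N.subtype := iSup_le hall
        have h := hle (S.iSup_fac.symm ▸ x.2 : (x : G) ∈ ⨆ F : S.Fac, F.1)
        obtain ⟨y, hy, e⟩ := h
        rwa [show x = y from Subtype.ext e.symm]
      have : Subsingleton Ω := ⟨fun b c => by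
        obtain ⟨m, rfl⟩ := exists_smul_eq S.N α b
        obtain ⟨k, rfl⟩ := exists_smul_eq S.N α c
        rw [mem_stabilizer_iff.1 (htop m), mem_stabilizer_iff.1 (htop k)]⟩
      have := Finite.card_le_one_iff_subsingleton.2 this
      omega
    obtain ⟨t, ht⟩ := hnt U
    have hd1 : ∀ a : Ω, ((inc S U t : S.N) : G) • a ≠ a := hder _ fun m hm => by
      rw [conj_inc] at hm
      exact ht (conj_eq_one_iff.1 (hU _ hm))
    obtain ⟨V, hVU⟩ := hother U
    have hcov : ∀ a : U.1, a ≠ 1 → ∀ v : V.1, v ≠ 1 →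
        ∃ m : S.N, m * (inc S U a * inc S V v) * m⁻¹ ∈ H := by
      intro a ha v hv
      by_contra hcon
      push Not at hcon
      obtain ⟨g, hg⟩ := hd _ _ hd1 (hder _ hcon)
      refine not_conj_support S hVU.symm (x := inc S U t) (fun F hF => proj_inc_ne S hF t) ?_ ?_ hg
      · rw [map_mul, proj_inc, proj_inc_ne S hVU.symm, mul_one]; exact ha
      · rw [map_mul, proj_inc, proj_inc_ne S hVU, one_mul]; exact hv
    let K : Subgroup S.N := H ⊓ ⨅ F : {F : S.Fac // F ≠ U ∧ F ≠ V}, (S.proj F.1).ker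
    have hK : ∀ x, x ∈ K ↔ x ∈ H ∧ ∀ F, F ≠ U → F ≠ V → S.proj F x = 1 := by
      intro x; simp [K, Subgroup.mem_iInf, MonoidHom.mem_ker]
    have hmemK : ∀ (m : S.N) (a : U.1) (v : V.1),
        m * (inc S U a * inc S V v) * m⁻¹ ∈ H → m * (inc S U a * inc S V v) * m⁻¹ ∈ K := by
      intro m a v h
      refine (hK _).2 ⟨h, fun F h1 h2 => ?_⟩
      simp [proj_inc_ne S h1, proj_inc_ne S h2]
    have hV : ∀ v : V.1, inc S V v ∈ H → v = 1 := by
      intro v hv
      by_contra hv1
      obtain ⟨m, hm⟩ := hcov t ht v hv1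
      rw [conj_mul.symm, conj_inc, conj_inc] at hm
      have := H.mul_mem hm (H.inv_mem (inc_mem_of_full S H V (hfull V) hv hv1
        (S.proj V m * v * (S.proj V m)⁻¹)))
      rw [mul_inv_cancel_right] at this
      exact ht (conj_eq_one_iff.1 (hU _ this))
    have hKU : ∀ a : U.1, ∃ k ∈ K, S.proj U k = a := by
      have hn : (K.map (S.proj U)).Normal := ⟨by
        rintro _ ⟨k, hk', rfl⟩ a
        obtain ⟨h, rfl⟩ := hfull U a
        rw [SetLike.mem_coe, hK] at hk'
        refine ⟨(h : S.N) * k * (h : S.N)⁻¹, ?_, ?_⟩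
        · rw [SetLike.mem_coe, hK]
          refine ⟨H.mul_mem (H.mul_mem h.2 hk'.1) (H.inv_mem h.2), fun F h1 h2 => ?_⟩
          simp [hk'.2 F h1 h2]
        · rw [map_mul, map_mul, map_inv]; rfl⟩
      obtain ⟨v, hv⟩ := hnt V
      obtain ⟨m, hm⟩ := hcov t ht v hv
      have := S.fac_simple U
      have htop := hn.eq_bot_or_eq_top.resolve_left fun h => by
        have h' : S.proj U (m * (inc S U t * inc S V v) * m⁻¹) ∈ K.map (S.proj U) :=
          Subgroup.mem_map_of_mem _ (hmemK m t v hm)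
        rw [h, Subgroup.mem_bot] at h'
        simp [proj_inc, proj_inc_ne S hVU.symm] at h'
        exact ht h'
      intro a
      have ha : a ∈ K.map (S.proj U) := htop ▸ Subgroup.mem_top _
      exact ha
    have hconj : ∀ u v : V.1, u ≠ 1 → v ≠ 1 → IsConj u v := by
      intro u v hu hv
      obtain ⟨m, hm⟩ := hcov t ht u hu
      obtain ⟨n, hn'⟩ := hcov t ht v hv
      obtain ⟨k, hk', hkU⟩ := hKU (S.proj U n * (S.proj U m)⁻¹)
      set d := k * (m * (inc S U t * inc S V u) * m⁻¹) * k⁻¹ *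
        (n * (inc S U t * inc S V v) * n⁻¹)⁻¹ with hddef
      have hdK : d ∈ K :=
        K.mul_mem (K.mul_mem (K.mul_mem hk' (hmemK m t u hm)) (K.inv_mem hk'))
          (K.inv_mem (hmemK n t v hn'))
      have hdU : S.proj U d = 1 := by
        simp [hddef, hkU, proj_inc, proj_inc_ne S hVU.symm, mul_assoc]
      have he : d = inc S V (S.proj V d) := eq_inc S fun F hF => by
        by_cases h : F = U
        · subst h; exact hdU
        · exact ((hK d).1 hdK).2 F h hF
      have h1 : S.proj V d = 1 := hV _ (he ▸ ((hK d).1 hdK).1)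
      simp only [hddef, map_mul, map_inv, proj_inc, proj_inc_ne S hVU, one_mul,
        mul_inv_eq_one] at h1
      refine isConj_iff.2 ⟨(S.proj V n)⁻¹ * S.proj V k * S.proj V m, ?_⟩
      calc _ = (S.proj V n)⁻¹ * (S.proj V k * (S.proj V m * u * (S.proj V m)⁻¹) *
            (S.proj V k)⁻¹) * S.proj V n := by group
        _ = _ := by rw [h1]; group
    -- a simple group with one nontrivial class
    have : Nontrivial V.1 := (Subgroup.nontrivial_iff_ne_bot _).2 (S.fac_stable V).1
    obtain ⟨p, hp, hpd⟩ := Nat.exists_prime_and_dvd (n := Nat.card V.1)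
      (fun h => by have := Finite.one_lt_card (α := V.1); omega)
    have := Fact.mk hp
    obtain ⟨y, hy⟩ := exists_prime_orderOf_dvd_card' p hpd
    have hy1 : y ≠ 1 := fun h => by rw [h, orderOf_one] at hy; exact hp.one_lt.ne hy
    have hpV : IsPGroup p V.1 := fun x => by
      refine ⟨1, ?_⟩
      by_cases hx : x = 1
      · simp [hx]
      obtain ⟨c, hc⟩ := isConj_iff.1 (hconj y x hy1 hx)
      rw [pow_one, ← hc, conj_pow, ← hy, pow_orderOf_eq_one]
      simp
    have := hpV.center_nontrivial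
    obtain ⟨⟨z, hz⟩, hz1⟩ := exists_ne (1 : center V.1)
    exact hz1 (Subtype.ext (Subtype.ext (S.fac_center V z.2 fun w hw =>
      (congrArg Subtype.val (Subgroup.mem_center_iff.1 hz ⟨w, hw⟩)).symm)))

end Socle

end Cfsg.Agent.DerangClass
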