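import Mathlib.GroupTheory.GroupAction.Quotient
import Mathlib.GroupTheory.GroupAction.Blocks
import Mathlib.GroupTheory.Index
import Mathlib.Algebra.Group.Subgroup.Pointwise
import Mathlib.Algebra.Order.BigOperators.Group.Finset
import Mathlib.Algebra.BigOperators.Ring.Finset
import Mathlib.GroupTheory.PGroup
import Mathlib.Tactic.Ring

/-!
Subgroups containing all derangements of a transitive group.
-/

namespace Cfsg.Agent.Derange

open MulAction

variable {G Ω : Type*} [Group G] [MulAction G Ω]

/-- Burnside's counting lemma in `Nat.card` form. -/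
theorem sum_fix [Fintype G] [Finite Ω] :
    ∑ g : G, Nat.card (fixedBy Ω g) =
      Nat.card (orbitRel.Quotient G Ω) * Nat.card G := by
  classical
  have := Fintype.ofFinite Ω
  simp only [Nat.card_eq_fintype_card]
  exact sum_card_fixedBy_eq_card_orbits_mul_card_group G Ω

theorem card_orbits_eq_one [Nonempty Ω] [IsPretransitive G Ω] :
    Nat.card (orbitRel.Quotient G Ω) = 1 := by
  rw [Nat.card_eq_one_iff_unique]
  refine ⟨⟨?_⟩, ?_⟩
  · intro x y
    induction x using Quotient.inductionOn'
    induction y using Quotient.inductionOn'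
    rename_i x y
    exact Quotient.sound' (exists_smul_eq G y x)
  · exact ⟨Quotient.mk'' (Classical.arbitrary Ω)⟩

theorem pretransitive_of_card_orbits_le_one [Finite Ω]
    (h : Nat.card (orbitRel.Quotient G Ω) ≤ 1) : IsPretransitive G Ω := by
  refine ⟨fun x y => ?_⟩
  have : Subsingleton (orbitRel.Quotient G Ω) := Finite.card_le_one_iff_subsingleton.1 h
  have h2 : (Quotient.mk'' y : orbitRel.Quotient G Ω) = Quotient.mk'' x := Subsingleton.elim _ _
  exact Quotient.exact' h2

theorem fixedBy_coe (D : Subgroup G) (d : D) : fixedBy Ω d = fixedBy Ω (d : G) := rfl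

theorem sum_split [Fintype G] (D : Subgroup G) [DecidablePred (· ∈ D)] (f : G → ℕ) :
    ∑ g : G, f g = (∑ d : D, f (d : G)) +
      ∑ g ∈ Finset.univ.filter (fun g : G => g ∉ D), f g := by
  rw [← Finset.sum_filter_add_sum_filter_not Finset.univ (fun g : G => g ∈ D) f]
  congr 1
  exact Finset.sum_subtype (Finset.univ.filter (fun g : G => g ∈ D)) (by simp) f

variable [Finite G] [Finite Ω]

/-- A subgroup containing all derangements of a transitive group is transitive, and every
element outside it fixes exactly one point. -/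
theorem main [IsPretransitive G Ω] (D : Subgroup G)
    (hD : ∀ g : G, (∀ ω : Ω, g • ω ≠ ω) → g ∈ D) :
    IsPretransitive D Ω ∧ ∀ g : G, g ∉ D → Nat.card (fixedBy Ω g) = 1 := by
  classical
  cases isEmpty_or_nonempty Ω
  · exact ⟨⟨fun x => isEmptyElim x⟩, fun g hg => (hg (hD g fun ω => isEmptyElim ω)).elim⟩
  have := Fintype.ofFinite G
  have hsum := sum_fix (G := G) (Ω := Ω)
  rw [card_orbits_eq_one, one_mul] at hsum
  simp only [Nat.card_eq_fintype_card (α := G)] at hsum
  have hsumD := sum_fix (G := D) (Ω := Ω)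
  simp only [fixedBy_coe, Nat.card_eq_fintype_card (α := D)] at hsumD
  rw [sum_split D (fun g => Nat.card (fixedBy Ω g)), hsumD] at hsum
  have hc := sum_split D (fun _ : G => 1)
  simp only [Finset.sum_const, smul_eq_mul, mul_one, Finset.card_univ] at hc
  set S := Finset.univ.filter (fun g : G => g ∉ D)
  have hpos : ∀ g ∈ S, 1 ≤ Nat.card (fixedBy Ω g) := by
    intro g hg
    have hg' : g ∉ D := by simpa [S] using hg
    have : ∃ ω : Ω, g • ω = ω := by
      by_contra h
      exact hg' (hD g fun ω hω => h ⟨ω, hω⟩)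
    obtain ⟨ω, hω⟩ := this
    have : Nonempty (fixedBy Ω g) := ⟨⟨ω, hω⟩⟩
    exact Nat.card_pos
  have hle : S.card ≤ ∑ g ∈ S, Nat.card (fixedBy Ω g) := by
    simpa using Finset.sum_le_sum hpos
  have hk : Nat.card (orbitRel.Quotient D Ω) ≤ 1 := by
    by_contra hk
    have : 2 * Fintype.card D ≤ Nat.card (orbitRel.Quotient D Ω) * Fintype.card D :=
      Nat.mul_le_mul_right _ (by omega)
    have : 0 < Fintype.card D := Fintype.card_pos
    omega
  have hk1 : Nat.card (orbitRel.Quotient D Ω) = 1 := by
    have : Nonempty (orbitRel.Quotient D Ω) := ⟨Quotient.mk'' (Classical.arbitrary Ω)⟩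
    have := Nat.card_pos (α := orbitRel.Quotient D Ω)
    omega
  refine ⟨pretransitive_of_card_orbits_le_one hk, ?_⟩
  intro g hg
  rw [hk1, one_mul] at hsum
  by_contra hne
  have hlt : ∑ g' ∈ S, 1 < ∑ g' ∈ S, Nat.card (fixedBy Ω g') := by
    refine Finset.sum_lt_sum hpos ⟨g, by simp [S, hg], ?_⟩
    have := hpos g (by simp [S, hg])
    omega
  simp only [Finset.sum_const, smul_eq_mul, mul_one] at hlt
  omega

/-- Orbit-stabiliser in `Nat.card` form for a transitive action. -/
theorem card_stab_mul [IsPretransitive G Ω] (a : Ω) :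
    Nat.card (stabilizer G a) * Nat.card Ω = Nat.card G := by
  rw [← index_stabilizer_of_transitive G a, Subgroup.card_mul_index]

/-- In a transitive subgroup `D`, the index is the index of the point stabilisers. -/
theorem relIndex_stabilizer [Nonempty Ω] [IsPretransitive G Ω] (D : Subgroup G)
    [IsPretransitive D Ω] (a : Ω) : (D ⊓ stabilizer G a).relIndex (stabilizer G a) = D.index := by
  have h1 := card_stab_mul (G := G) a
  have h2 := card_stab_mul (G := D) a
  have h4 : Nat.card (stabilizer D a) = Nat.card (D ⊓ stabilizer G a : Subgroup G) := by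
    refine Nat.card_congr
      { toFun := fun x => ⟨((x : D) : G), (x : D).2, x.2⟩
        invFun := fun y => ⟨⟨(y : G), y.2.1⟩, y.2.2⟩
        left_inv := fun x => rfl
        right_inv := fun y => rfl }
  have h5 := Subgroup.relIndex_mul_relIndex ⊥ (D ⊓ stabilizer G a) (stabilizer G a)
    bot_le inf_le_right
  rw [Subgroup.relIndex_bot_left, Subgroup.relIndex_bot_left] at h5
  have hD := D.card_mul_index
  have hΩ : 0 < Nat.card Ω := Nat.card_pos
  have hpos : 0 < Nat.card (D ⊓ stabilizer G a : Subgroup G) := Nat.card_pos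
  rw [h4] at h2
  apply Nat.eq_of_mul_eq_mul_left hpos
  rw [h5]
  apply Nat.eq_of_mul_eq_mul_right hΩ
  rw [h1, ← hD, ← h2]
  ring

/-- Orbit sums: if every orbit apart from a fixed point has size divisible by `e`, then so is
the number of other points. -/
theorem dvd_card_sub_one {H : Type*} [Group H] [MulAction H Ω] (a : Ω) (e : ℕ)
    (ha : ∀ h : H, h • a = a) (h : ∀ x : Ω, x ≠ a → e ∣ Nat.card (orbit H x)) :
    e ∣ Nat.card Ω - 1 := by
  classical
  have := Fintype.ofFinite Ω
  have hcard := Nat.card_congr (selfEquivSigmaOrbits H Ω)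
  rw [Nat.card_sigma] at hcard
  rw [hcard]
  set q : orbitRel.Quotient H Ω := Quotient.mk'' a with hq
  rw [← Finset.add_sum_erase Finset.univ _ (Finset.mem_univ q)]
  have hqa : Nat.card (orbit H q.out) = 1 := by
    have : orbit H q.out = orbit H a := by
      rw [orbit_eq_iff]
      exact Quotient.exact' q.out_eq'
    rw [this, Nat.card_eq_one_iff_unique]
    refine ⟨⟨?_⟩, ⟨⟨a, mem_orbit_self a⟩⟩⟩
    rintro ⟨x, hx⟩ ⟨y, hy⟩
    obtain ⟨h1, rfl⟩ := mem_orbit_iff.1 hx
    obtain ⟨h2, rfl⟩ := mem_orbit_iff.1 hy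
    simp [ha]
  rw [hqa, Nat.add_sub_cancel_left]
  refine Finset.dvd_sum fun r hr => h _ ?_
  intro hra
  apply Finset.ne_of_mem_erase hr
  rw [← r.out_eq', hra, hq]

/-- If `D` is transitive and every element outside fixes at most one point, then the index of `D`
divides every orbit length of a point stabiliser on the other points. -/
theorem index_dvd_orbit [IsPretransitive G Ω] (D : Subgroup G) [IsPretransitive D Ω]
    (hone : ∀ g : G, g ∉ D → ∀ x y : Ω, g • x = x → g • y = y → x = y)
    (a x : Ω) (hxa : x ≠ a) : D.index ∣ Nat.card (orbit (stabilizer G a) x) := by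
  have : Nonempty Ω := ⟨a⟩
  rw [Nat.card_coe_set_eq, ← index_stabilizer, ← relIndex_stabilizer D a]
  apply Subgroup.index_dvd_of_le
  intro g hg
  have hg' : (g : G) • x = x := hg
  have hga : (g : G) • a = a := g.2
  refine Subgroup.mem_subgroupOf.2 ⟨?_, g.2⟩
  by_contra hD
  exact hxa (hone g hD x a hg' hga)

theorem index_dvd_card_sub_one [IsPretransitive G Ω] (D : Subgroup G) [IsPretransitive D Ω]
    (hone : ∀ g : G, g ∉ D → ∀ x y : Ω, g • x = x → g • y = y → x = y) (a : Ω) :
    D.index ∣ Nat.card Ω - 1 :=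
  dvd_card_sub_one (H := stabilizer G a) a _ (fun h => h.2)
    (fun x hx => index_dvd_orbit D hone a x hx)

theorem unique_fixed {g : G} (h : Nat.card (fixedBy Ω g) = 1) {x y : Ω} (hx : g • x = x)
    (hy : g • y = y) : x = y := by
  have := (Nat.card_eq_one_iff_unique.1 h).1
  have h2 : (⟨x, hx⟩ : fixedBy Ω g) = ⟨y, hy⟩ := Subsingleton.elim _ _
  exact congrArg Subtype.val h2

end Cfsg.Agent.Derange
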