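import Mathlib.LinearAlgebra.Matrix.ToLin
import Mathlib.LinearAlgebra.FiniteDimensional.Basic
import Mathlib.FieldTheory.Finiteness
import Mathlib.Algebra.Module.ZMod
import Mathlib.Data.ZMod.Basic
import Mathlib.Algebra.Field.ZMod
import Mathlib.Algebra.Group.Hom.End
import Mathlib.LinearAlgebra.Matrix.GeneralLinearGroup.Defs

/-! Automorphisms of a finite elementary abelian group as invertible matrices. -/

set_option autoImplicit false

namespace Cfsg.Agent.ElemAbAut

open Matrix

theorem exists_hom_aux {p : ℕ} [Fact p.Prime] {V : Type*} [AddCommGroup V] [Module (ZMod p) V] [Finite V]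
    {e : ℕ} (hV : Nat.card V = p ^ e) {A : Type*} [Group A] (act : A →* (AddMonoid.End V)ˣ) :
    ∃ φ : A →* GL (Fin e) (ZMod p), ∀ a, φ a = 1 ↔ ∀ x, ((act a : AddMonoid.End V) : V →+ V) x = x := by
  have hfr : Module.finrank (ZMod p) V = e := by
    have h2 := Module.natCard_eq_pow_finrank (K := ZMod p) (V := V)
    rw [hV, Nat.card_zmod] at h2
    exact (Nat.pow_right_injective (Fact.out : p.Prime).two_le h2).symm
  let b : Module.Basis (Fin e) (ZMod p) V := Module.finBasisOfFinrankEq (ZMod p) V hfr
  let φ₀ : A →* Matrix (Fin e) (Fin e) (ZMod p) :=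
    { toFun := fun a => LinearMap.toMatrix b b (AddMonoidHom.toZModLinearMap p ((act a : AddMonoid.End V) : V →+ V))
      map_one' := by
        have : AddMonoidHom.toZModLinearMap p ((act 1 : AddMonoid.End V) : V →+ V) = LinearMap.id := LinearMap.ext fun x => by
          rw [map_one]; rfl
        rw [this, LinearMap.toMatrix_id]
      map_mul' := fun g k => by
        have : AddMonoidHom.toZModLinearMap p ((act (g * k) : AddMonoid.End V) : V →+ V) =
            (AddMonoidHom.toZModLinearMap p ((act g : AddMonoid.End V) : V →+ V)).comp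
              (AddMonoidHom.toZModLinearMap p ((act k : AddMonoid.End V) : V →+ V)) := LinearMap.ext fun x => by
          rw [map_mul]; rfl
        rw [this, LinearMap.toMatrix_comp b b b] }
  refine ⟨φ₀.toHomUnits, fun a => ?_⟩
  rw [Units.ext_iff, MonoidHom.coe_toHomUnits, Units.val_one]
  show LinearMap.toMatrix b b (AddMonoidHom.toZModLinearMap p ((act a : AddMonoid.End V) : V →+ V)) = 1 ↔ _
  rw [← LinearMap.toMatrix_id b, (LinearMap.toMatrix b b).injective.eq_iff]
  exact ⟨fun h x => LinearMap.congr_fun h x, fun h => LinearMap.ext h⟩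

/-- A representation with the expected kernel. -/
theorem exists_hom {p : ℕ} [Fact p.Prime] {F : Type*} [CommGroup F] [Finite F] (hF : ∀ x : F, x ^ p = 1)
    {e : ℕ} (hcard : Nat.card F = p ^ e) {A : Type*} [Group A] (act : A →* MulAut F) :
    ∃ φ : A →* GL (Fin e) (ZMod p), ∀ a, φ a = 1 ↔ ∀ x, act a x = x := by
  letI : Module (ZMod p) (Additive F) := AddCommGroup.zmodModule (n := p) fun x => hF x.toMul
  let act' : A →* AddMonoid.End (Additive F) :=
    { toFun := fun a => MonoidHom.toAdditive (act a).toMonoidHom
      map_one' := by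
        refine AddMonoidHom.ext fun x => ?_
        show Additive.ofMul (act 1 x.toMul) = x
        rw [map_one]; rfl
      map_mul' := fun g k => by
        refine AddMonoidHom.ext fun x => ?_
        show Additive.ofMul (act (g * k) x.toMul) = Additive.ofMul (act g (act k x.toMul))
        rw [map_mul]; rfl }
  obtain ⟨φ, hφ⟩ := exists_hom_aux (p := p) (V := Additive F) hcard act'.toHomUnits
  refine ⟨φ, fun a => (hφ a).trans ⟨fun h x => ?_, fun h x => ?_⟩⟩
  · exact Additive.ofMul.injective (h (Additive.ofMul x))
  · exact congrArg Additive.ofMul (h x.toMul)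

end Cfsg.Agent.ElemAbAut
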