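import Cfsg.Agent.Lib.Recog.InvolGraph
import Mathlib.Combinatorics.SimpleGraph.Diam
import Mathlib.GroupTheory.Perm.Cycle.Type

/-!
# The odd product graph on a class of involutions has diameter two
-/

set_option autoImplicit false

namespace Cfsg.Agent.InvolDiam

open Equiv Equiv.Perm Cfsg.Agent.AltSub Cfsg.Agent.InvolGraph

variable {α : Type*} [Fintype α] [DecidableEq α]

theorem inv_sq_cycleType {σ : Perm α} (hsq : σ * σ = 1) {k : ℕ} (hk : σ.support.card = k) (hk0 : k ≠ 0) :
    σ.cycleType = Multiset.replicate (k / 2) 2 := by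
  have hne : σ ≠ 1 := fun e => hk0 (by rw [← hk, e]; simp)
  have ho : orderOf σ = 2 := orderOf_eq_prime (by rw [pow_two, hsq]) hne
  obtain ⟨m, hm⟩ := cycleType_prime_order (σ := σ) (by rw [ho]; exact Nat.prime_two)
  rw [ho] at hm
  have hs := congrArg Multiset.sum hm
  rw [sum_cycleType, hk, Multiset.sum_replicate, smul_eq_mul] at hs
  rw [hm, show k / 2 = m + 1 by omega]

theorem exists_two {t : Perm α} {k : ℕ} (ht : Inv Finset.univ k t) (hn : 5 ≤ Fintype.card α)
    (hk : k ≠ 0) : ∃ y, Inv Finset.univ k y ∧ y ≠ t ∧ Commute t y := by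
  obtain ⟨a, ha⟩ : t.support.Nonempty := Finset.card_pos.1 (by rw [ht.card]; omega)
  have hab : a ≠ t a := Ne.symm (Perm.mem_support.1 ha)
  obtain ⟨-, -, l, hl, hR1, e1⟩ := ht.peel (rfl : t a = t a) hab
  set b := t a with hb
  by_cases hl0 : l = 0
  · subst hl0
    have h1 : swap a b * t = 1 := by
      rw [← Perm.support_eq_empty_iff, ← Finset.card_eq_zero, hR1.card]
    have het : t = swap a b := by rw [e1, h1, mul_one]
    obtain ⟨c, hc⟩ : ∃ c, c ∉ ({a, b} : Finset α) := by
      by_contra h
      push Not at h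
      have := Finset.card_le_card (show Finset.univ ⊆ ({a, b} : Finset α) from fun x _ => h x)
      have := Finset.card_le_two (a := a) (b := b)
      rw [Finset.card_univ] at *
      omega
    obtain ⟨d, hd⟩ : ∃ d, d ∉ ({a, b, c} : Finset α) := by
      by_contra h
      push Not at h
      have := Finset.card_le_card (show Finset.univ ⊆ ({a, b, c} : Finset α) from fun x _ => h x)
      have := Finset.card_le_three (a := a) (b := b) (c := c)
      rw [Finset.card_univ] at *
      omega
    simp only [Finset.mem_insert, Finset.mem_singleton, not_or] at hc hd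
    refine ⟨swap c d, ?_, ?_, ?_⟩
    · rw [hl]
      exact (Inv.swap (Ne.symm hd.2.2)).mono (Finset.subset_univ _)
    · intro e
      have := congrArg (fun σ : Perm α => σ a) e
      rw [swap_apply_of_ne_of_ne (Ne.symm hc.1) (Ne.symm hd.1)] at this
      exact hab this
    · rw [het]
      exact swap_mul_swap_commute (Ne.symm hc.1) (Ne.symm hd.1) (Ne.symm hc.2) (Ne.symm hd.2.1)
  obtain ⟨c, hc⟩ : (swap a b * t).support.Nonempty := Finset.card_pos.1 (by rw [hR1.card]; omega)
  have hcd : c ≠ (swap a b * t) c := Ne.symm (Perm.mem_support.1 hc)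
  obtain ⟨hcS, hdS, l', hl', hR, e2⟩ := hR1.peel (rfl : (swap a b * t) c = (swap a b * t) c) hcd
  set d := (swap a b * t) c with hd
  set R := swap c d * (swap a b * t) with hRd
  simp only [Finset.mem_sdiff, Finset.mem_univ, true_and, Finset.mem_insert, Finset.mem_singleton,
    not_or] at hcS hdS
  have hnd : [a, b, c, d].Nodup := by
    simp [hab, Ne.symm hcS.1, Ne.symm hcS.2, Ne.symm hdS.1, Ne.symm hdS.2, hcd]
  set T : Finset α := (Finset.univ \ {a, b}) \ {c, d}
  have hd4 : ∀ i ∈ ({a, c} ∪ {b, d} : Finset α), i ∉ T := by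
    intro i hi hiT
    simp only [T, Finset.mem_sdiff, Finset.mem_univ, true_and, Finset.mem_union, Finset.mem_insert,
      Finset.mem_singleton, not_or] at hi hiT
    tauto
  have hQ : Inv ({a, c} ∪ {b, d}) 4 (swap a c * swap b d) :=
    (Inv.swap (Ne.symm hcS.1)).mul (by simp [hab, Ne.symm hdS.1, hcS.2, hcd])
      (Inv.swap (Ne.symm hdS.2))
  have hPm : swap a b * swap c d ∈ supp ({a, c} ∪ {b, d} : Finset α) :=
    mul_mem (swap_mem_supp (by simp) (by simp)) (swap_mem_supp (by simp) (by simp))
  have hPQ : Commute (swap a b * swap c d) (swap a c * swap b d) := by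
    obtain ⟨e, he⟩ := exists_embedding [a, b, c, d] hnd (n := 4) rfl
    have h4 : swap (0 : Fin 4) 1 * swap 2 3 * (swap 0 2 * swap 1 3) =
        swap 0 2 * swap 1 3 * (swap 0 1 * swap 2 3) := by decide +kernel
    have := congrArg (viaEmbeddingHom e) h4
    simp only [map_mul, via_swap, he] at this
    exact this
  have et : t = swap a b * swap c d * R := by
    rw [mul_assoc]
    exact e1.trans (congrArg (swap a b * ·) e2)
  refine ⟨swap a c * swap b d * R, ?_, ?_, ?_⟩
  · rw [show k = 4 + l' by omega]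
    exact (hQ.mul hd4 hR).mono (Finset.subset_univ _)
  · intro e
    rw [et] at e
    have h := congrArg (fun σ : Perm α => σ a) (mul_right_cancel e)
    simp only [Perm.mul_apply] at h
    rw [swap_apply_of_ne_of_ne hab (Ne.symm hdS.1), swap_apply_left,
      swap_apply_of_ne_of_ne (Ne.symm hcS.1) (Ne.symm hdS.1), swap_apply_left] at h
    exact hcS.2 h
  · rw [et]
    have hPR : Commute (swap a b * swap c d) R := supp_commute hd4 hPm hR.mem
    have hQR : Commute (swap a c * swap b d) R := supp_commute hd4 hQ.mem hR.mem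
    exact (hPQ.mul_right hPR).mul_left (hQR.symm.mul_right (Commute.refl R))

theorem diam_eq_two {V : Type*} (G : SimpleGraph V)
    (h : ∀ x y : V, x = y ∨ G.Adj x y ∨ ∃ z, G.Adj x z ∧ G.Adj z y)
    (h2 : ∃ x y : V, x ≠ y ∧ ¬ G.Adj x y) : G.Connected ∧ G.diam = 2 := by
  have hd : ∀ x y : V, G.edist x y ≤ 2 := by
    intro x y
    rcases h x y with rfl | hxy | ⟨z, h1, h3⟩
    · simp
    · exact (SimpleGraph.edist_eq_one_iff_adj.2 hxy).le.trans (by norm_num)
    · exact (SimpleGraph.edist_le (.cons h1 (.cons h3 .nil))).trans (by simp)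
  obtain ⟨x, y, hne, hna⟩ := h2
  refine ⟨?_, ?_⟩
  · haveI : Nonempty V := ⟨x⟩
    exact ⟨fun u v => SimpleGraph.reachable_of_edist_ne_top
      (ne_top_of_le_ne_top (by simp) (hd u v))⟩
  · have he : G.ediam = 2 := by
      refine le_antisymm (SimpleGraph.ediam_le_of_edist_le hd) (le_trans ?_ (SimpleGraph.edist_le_ediam (u := x) (v := y)))
      by_contra hlt
      have h0 : G.edist x y ≠ 0 := fun e => hne (SimpleGraph.edist_eq_zero_iff.1 e)
      have h1 : G.edist x y ≠ 1 := fun e => hna (SimpleGraph.edist_eq_one_iff_adj.1 e)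
      generalize G.edist x y = d at hlt h0 h1
      induction d using ENat.recTopCoe with
      | top => exact hlt le_top
      | coe d =>
        norm_cast at hlt h0 h1
        omega
    simp [SimpleGraph.diam, he]

theorem odd_product_graph (hn : 5 ≤ Fintype.card α) (t : Perm α) (ht : orderOf t = 2) :
    (SimpleGraph.fromRel fun x y : {x : Perm α // IsConj t x} => Odd (orderOf (x.1 * y.1))).Connected ∧
      (SimpleGraph.fromRel fun x y : {x : Perm α // IsConj t x} =>
        Odd (orderOf (x.1 * y.1))).diam = 2 := by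
  have hsq : t * t = 1 := by rw [← pow_two, ← ht]; exact pow_orderOf_eq_one t
  set k := t.support.card with hk
  have hk0 : k ≠ 0 := by
    rw [hk, Finset.card_ne_zero, Finset.nonempty_iff_ne_empty]
    intro e
    rw [Perm.support_eq_empty_iff] at e
    rw [e, orderOf_one] at ht
    omega
  have hinv : ∀ {σ : Perm α}, IsConj t σ ↔ Inv Finset.univ k σ := by
    intro σ
    constructor
    · intro h
      refine ⟨?_, fun x hx => absurd (Finset.mem_univ x) hx, by
        rw [hk, ← sum_cycleType, ← isConj_iff_cycleType_eq.1 h, sum_cycleType]⟩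
      obtain ⟨g, rfl⟩ := isConj_iff.1 h
      rw [show g * t * g⁻¹ * (g * t * g⁻¹) = g * (t * t) * g⁻¹ by group, hsq, mul_one, mul_inv_cancel]
    · intro h
      rw [isConj_iff_cycleType_eq, inv_sq_cycleType hsq hk.symm hk0, inv_sq_cycleType h.sq h.card hk0]
  refine diam_eq_two _ (fun x y => ?_) ?_
  · by_cases hxy : x = y
    · exact Or.inl hxy
    rcases main _ Finset.univ k x.1 y.1 rfl (hinv.1 x.2) (hinv.1 y.2) with ⟨h4, -, -⟩ | ⟨z, hz, h1, h2⟩
    · rw [Finset.card_univ] at h4; omega
    let zz : {x : Perm α // IsConj t x} := ⟨z, hinv.2 hz⟩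
    by_cases h : x = zz
    · refine Or.inr (Or.inl ⟨hxy, Or.inr ?_⟩)
      show Odd (orderOf (y.1 * x.1))
      rw [show x.1 = z from congrArg Subtype.val h]; exact h2
    by_cases h' : zz = y
    · refine Or.inr (Or.inl ⟨hxy, Or.inl ?_⟩)
      show Odd (orderOf (x.1 * y.1))
      rw [show y.1 = z from (congrArg Subtype.val h').symm]; exact h1
    exact Or.inr (Or.inr ⟨zz, ⟨h, Or.inl h1⟩, ⟨h', Or.inr h2⟩⟩)
  · obtain ⟨y, hy, hne, hc⟩ := exists_two (hinv.1 (IsConj.refl t)) hn hk0
    refine ⟨⟨t, IsConj.refl t⟩, ⟨y, hinv.2 hy⟩, fun e => hne (congrArg Subtype.val e).symm, ?_⟩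
    have heven : ∀ {u : Perm α}, u * u = 1 → u ≠ 1 → ¬ Odd (orderOf u) := fun {u} h1 h2 h => by
      rw [orderOf_eq_prime (p := 2) (by rw [pow_two, h1]) h2] at h
      exact absurd h (by decide)
    have hty : t * y * (t * y) = 1 := by
      rw [show t * y * (t * y) = t * (y * t) * y by group, ← hc.eq, ← mul_assoc, hsq, one_mul, hy.sq]
    have hne1 : t * y ≠ 1 := fun e => hne (mul_left_cancel (e.trans hsq.symm))
    rintro ⟨-, h | h⟩
    · exact heven hty hne1 h
    · change Odd (orderOf (y * t)) at h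
      rw [← hc.eq] at h
      exact heven hty hne1 h

end Cfsg.Agent.InvolDiam
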