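import Cfsg.Agent.Lib.Recog.AltSub
import Mathlib.GroupTheory.Perm.Cycle.Concrete
import Mathlib.GroupTheory.Perm.ViaEmbedding
import Mathlib.Logic.Embedding.Basic
import Mathlib.Tactic

/-!
# Two involutions of one cycle type have a common neighbour in the odd product graph
-/

set_option autoImplicit false

namespace Cfsg.Agent.InvolGraph

open Equiv Equiv.Perm Cfsg.Agent.AltSub

variable {α : Type*} [Fintype α] [DecidableEq α]

omit [Fintype α] [DecidableEq α] in
theorem odd_mul {σ τ : Perm α} (h : Commute σ τ) (hσ : Odd (orderOf σ)) (hτ : Odd (orderOf τ)) :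
    Odd (orderOf (σ * τ)) :=
  Odd.of_dvd_nat (hσ.mul hτ) (h.orderOf_mul_dvd_lcm.trans (Nat.lcm_dvd_mul _ _))

omit [Fintype α] in
theorem apply_eq_of_not_mem {S : Finset α} {σ : Perm α} (h : σ ∈ supp S) {a : α} (ha : σ a ≠ a) :
    a ∈ S := by
  by_contra hc
  exact ha (h a hc)

omit [Fintype α] in
theorem swap_mul_swap_commute {a b c d : α} (h1 : a ≠ c) (h2 : a ≠ d) (h3 : b ≠ c) (h4 : b ≠ d) :
    swap a b * swap c d = swap c d * swap a b :=
  supp_commute (Δ := {a, b}) (Δ' := {c, d}) (by simp [h1, h2, h3, h4])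
    (swap_mem_supp (by simp) (by simp)) (swap_mem_supp (by simp) (by simp))

omit [Fintype α] in
theorem formPerm_insert (u v r : α) (l : List α) :
    (u :: v :: r :: l).formPerm = swap u v * swap v r * (r :: l).formPerm := by
  rw [List.formPerm_cons_cons, List.formPerm_cons_cons, mul_assoc]

theorem orderOf_formPerm {l : List α} (hl : l.Nodup) (h2 : 2 ≤ l.length) :
    orderOf l.formPerm = l.length := by
  rw [(List.isCycle_formPerm hl h2).orderOf, List.support_formPerm_of_nodup l hl (fun x hx => by
    rw [hx] at h2; simp at h2), List.toFinset_card_of_nodup hl]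

/-- Inserting two fixed points into a cycle keeps the order odd. -/
theorem odd_insert_left {σ : Perm α} (hσ : Odd (orderOf σ)) {u v r : α} (hu : σ u = u) (hv : σ v = v)
    (huv : u ≠ v) (hru : r ≠ u) (hrv : r ≠ v) : Odd (orderOf (swap u v * swap v r * σ)) := by
  by_cases hr : σ r = r
  · have h3 : (swap u v * swap v r).IsThreeCycle := by
      rw [swap_comm u v]
      exact isThreeCycle_swap_mul_swap_same huv.symm hrv.symm hru.symm
    refine odd_mul ?_ (by rw [h3.orderOf]; decide) hσ
    refine supp_commute (Δ := {u, v, r}) (Δ' := {u, v, r}ᶜ) (fun x hx => by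
      rw [Finset.mem_compl]; exact not_not.2 hx)
      (mul_mem (swap_mem_supp (by simp) (by simp)) (swap_mem_supp (by simp) (by simp))) ?_
    intro x hx
    simp only [Finset.mem_compl, not_not, Finset.mem_insert, Finset.mem_singleton] at hx
    rcases hx with rfl | rfl | rfl <;> assumption
  set κ := σ.cycleOf r with hκ
  have hκc : κ.IsCycle := isCycle_cycleOf σ hr
  have hdvd : orderOf κ ∣ orderOf σ := by
    rw [hκc.orderOf, ← lcm_cycleType]
    refine Multiset.dvd_lcm ?_
    rw [cycleType_def, Multiset.mem_map]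
    exact ⟨κ, cycleOf_mem_cycleFactorsFinset_iff.2 (Perm.mem_support.2 hr), rfl⟩
  set τ := σ * κ⁻¹ with hτ
  have hdis : τ.Disjoint κ := disjoint_mul_inv_of_mem_cycleFactorsFinset
    (cycleOf_mem_cycleFactorsFinset_iff.2 (Perm.mem_support.2 hr))
  have hστ : σ = κ * τ := by
    rw [← hdis.commute.eq, hτ, mul_assoc, inv_mul_cancel, mul_one]
  have hoτ : Odd (orderOf τ) := by
    refine Odd.of_dvd_nat hσ ?_
    have h := hdis.symm.orderOf
    rw [← hστ] at h
    rw [h]
    exact Nat.dvd_lcm_right _ _
  set L := σ.toList r with hL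
  have hform : L.formPerm = κ := formPerm_toList σ r
  have hnd : L.Nodup := nodup_toList σ r
  have hlen : L.length = κ.support.card := length_toList σ r
  have hlen2 : 2 ≤ L.length := hlen ▸ hκc.two_le_card_support
  have hmem : ∀ x, x ∈ L ↔ SameCycle σ r x ∧ r ∈ σ.support := fun x => mem_toList_iff
  obtain ⟨l, hl⟩ : ∃ l, L = r :: l := by
    have hhead := toList_getElem_zero σ r (Perm.mem_support.2 hr)
    obtain ⟨a, l, hal⟩ := List.exists_cons_of_length_pos (lt_of_lt_of_le Nat.zero_lt_two hlen2)
    refine ⟨l, ?_⟩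
    simp only [← hL, hal, List.getElem_cons_zero] at hhead
    rw [hal, hhead]
  have hne : ∀ x ∈ L, x ≠ u ∧ x ≠ v := by
    intro x hx
    have hs := ((hmem x).1 hx)
    refine ⟨fun e => ?_, fun e => ?_⟩ <;> subst e
    · exact hru ((hs.1.symm).eq_of_left hu).symm
    · exact hrv ((hs.1.symm).eq_of_left hv).symm
  have hnd' : (u :: v :: r :: l).Nodup := by
    rw [List.nodup_cons, List.nodup_cons, ← hl, List.mem_cons, not_or]
    exact ⟨⟨huv, fun h => (hne u h).1 rfl⟩, fun h => (hne v h).2 rfl, hnd⟩
  have hmove : ∀ x ∈ (u :: v :: r :: l), τ x = x := by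
    intro x hx
    rw [List.mem_cons, List.mem_cons, ← hl] at hx
    rcases hx with rfl | rfl | hx
    · have : κ x = x := by
        by_contra hc
        exact hru (((mem_support_cycleOf_iff.1 (Perm.mem_support.2 hc)).1.symm).eq_of_left hu).symm
      rw [hτ, Perm.mul_apply, Perm.inv_eq_iff_eq.2 this.symm, hu]
    · have : κ x = x := by
        by_contra hc
        exact hrv (((mem_support_cycleOf_iff.1 (Perm.mem_support.2 hc)).1.symm).eq_of_left hv).symm
      rw [hτ, Perm.mul_apply, Perm.inv_eq_iff_eq.2 this.symm, hv]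
    · exact (hdis x).resolve_right (Perm.mem_support.1
        (mem_support_cycleOf_iff.2 ((hmem x).1 hx)))
  rw [hστ, ← mul_assoc, ← hform, hl, ← formPerm_insert]
  refine odd_mul ?_ ?_ hoτ
  · refine supp_commute (Δ := (u :: v :: r :: l).toFinset) (Δ' := ((u :: v :: r :: l).toFinset)ᶜ)
      (fun x hx => by rw [Finset.mem_compl]; exact not_not.2 hx) ?_ ?_
    · intro x hx
      exact List.formPerm_apply_of_notMem (fun h => hx (List.mem_toFinset.2 h))
    · intro x hx
      simp only [Finset.mem_compl, not_not, List.mem_toFinset] at hx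
      exact hmove x hx
  · rw [orderOf_formPerm hnd' (by simp)]
    have hodd := Odd.of_dvd_nat hσ hdvd
    rw [hκc.orderOf, ← hlen, hl, List.length_cons] at hodd
    simp only [List.length_cons]
    rw [Nat.odd_iff] at hodd ⊢
    omega

theorem odd_insert {σ : Perm α} (hσ : Odd (orderOf σ)) {u v r : α} (hu : σ u = u) (hv : σ v = v)
    (huv : u ≠ v) (hru : r ≠ u) (hrv : r ≠ v) : Odd (orderOf (σ * (swap v r * swap u v))) := by
  have := odd_insert_left (σ := σ⁻¹) (by rwa [orderOf_inv]) (Perm.inv_eq_iff_eq.2 hu.symm)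
    (Perm.inv_eq_iff_eq.2 hv.symm) huv hru hrv
  rwa [show swap u v * swap v r * σ⁻¹ = (σ * (swap v r * swap u v))⁻¹ by
    simp [mul_assoc], orderOf_inv] at this

/-- An involution supported in `S` moving exactly `k` points. -/
structure Inv (S : Finset α) (k : ℕ) (σ : Perm α) : Prop where
  sq : σ * σ = 1
  mem : σ ∈ supp S
  card : σ.support.card = k

theorem Inv.apply_apply {S : Finset α} {k : ℕ} {σ : Perm α} (h : Inv S k σ) (a : α) :
    σ (σ a) = a := by
  have := congrArg (fun τ : Perm α => τ a) h.sq
  simpa using this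

theorem Inv.moved {S : Finset α} {k : ℕ} {σ : Perm α} (h : Inv S k σ) {a : α} (ha : σ a ≠ a) :
    σ (σ a) ≠ σ a := fun e => ha (σ.injective e)

theorem Inv.swap {a b : α} (hab : a ≠ b) : Inv {a, b} 2 (swap a b) :=
  ⟨swap_mul_self a b, swap_mem_supp (by simp) (by simp), by rw [card_support_swap hab]⟩

theorem Inv.one (S : Finset α) : Inv S 0 (1 : Perm α) := ⟨mul_one 1, one_mem _, by simp⟩

theorem Inv.mono {S T : Finset α} {k : ℕ} {σ : Perm α} (h : Inv S k σ) (hST : S ⊆ T) : Inv T k σ :=
  ⟨h.sq, supp_mono hST h.mem, h.card⟩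

theorem Inv.support_subset {S : Finset α} {k : ℕ} {σ : Perm α} (h : Inv S k σ) : σ.support ⊆ S :=
  fun _ ha => apply_eq_of_not_mem h.mem (Perm.mem_support.1 ha)

theorem Inv.mul {A B : Finset α} (hd : ∀ x ∈ A, x ∉ B) {k l : ℕ} {σ τ : Perm α} (h : Inv A k σ)
    (h' : Inv B l τ) : Inv (A ∪ B) (k + l) (σ * τ) := by
  have hc := supp_commute hd h.mem h'.mem
  refine ⟨?_, mul_mem (supp_mono Finset.subset_union_left h.mem)
    (supp_mono Finset.subset_union_right h'.mem), ?_⟩
  · rw [mul_assoc, ← mul_assoc τ, ← hc, mul_assoc σ τ, h'.sq, mul_one, h.sq]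
  · rw [Perm.Disjoint.card_support_mul, h.card, h'.card]
    intro x
    by_cases hx : x ∈ A
    · exact Or.inr (h'.mem x (hd x hx))
    · exact Or.inl (h.mem x hx)

/-- Removing a transposition. -/
theorem Inv.peel {S : Finset α} {k : ℕ} {σ : Perm α} (h : Inv S k σ) {a b : α} (hab : σ a = b)
    (hne : a ≠ b) : a ∈ S ∧ b ∈ S ∧ ∃ l, k = 2 + l ∧ Inv (S \ {a, b}) l (Equiv.swap a b * σ) ∧
      σ = Equiv.swap a b * (Equiv.swap a b * σ) := by
  have hba : σ b = a := by rw [← hab, h.apply_apply]
  have ha : a ∈ S := apply_eq_of_not_mem h.mem (hab ▸ hne.symm)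
  have hb : b ∈ S := apply_eq_of_not_mem h.mem (hba ▸ hne)
  have heq : σ = Equiv.swap a b * (Equiv.swap a b * σ) := by
    rw [← mul_assoc, swap_mul_self, one_mul]
  have hmem : Equiv.swap a b * σ ∈ supp (S \ {a, b}) := by
    intro x hx
    rw [Perm.mul_apply]
    by_cases h1 : x = a
    · subst h1; rw [hab, swap_apply_right]
    by_cases h2 : x = b
    · subst h2; rw [hba, swap_apply_left]
    have : x ∉ S := fun hS => hx (by simp [hS, h1, h2])
    rw [h.mem x this, swap_apply_of_ne_of_ne h1 h2]
  have hd : ∀ x ∈ ({a, b} : Finset α), x ∉ S \ {a, b} := by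
    intro x hx hx'; exact (Finset.mem_sdiff.1 hx').2 hx
  have hc := supp_commute hd (swap_mem_supp (a := a) (b := b) (by simp) (by simp)) hmem
  have hsq : Equiv.swap a b * σ * (Equiv.swap a b * σ) = 1 := by
    have hsw : Equiv.swap a b * σ * Equiv.swap a b = σ := hc.symm.trans heq.symm
    rw [← mul_assoc, hsw, h.sq]
  refine ⟨ha, hb, (Equiv.swap a b * σ).support.card, ?_, ⟨hsq, hmem, rfl⟩, heq⟩
  rw [← h.card]
  conv_lhs => rw [heq]
  rw [Perm.Disjoint.card_support_mul, card_support_swap hne]
  intro x
  by_cases hx : x ∈ ({a, b} : Finset α)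
  · exact Or.inr (hmem x (hd x hx))
  · exact Or.inl (swap_mem_supp (Δ := {a, b}) (by simp) (by simp) x hx)

/-- A common neighbour supported in `S`. -/
def Good (S : Finset α) (k : ℕ) (x y : Perm α) : Prop :=
  ∃ z, Inv S k z ∧ Odd (orderOf (x * z)) ∧ Odd (orderOf (y * z))

/-- The configuration without a common neighbour. -/
def Exc (S : Finset α) (k : ℕ) (x y : Perm α) : Prop := S.card = 4 ∧ k = 4 ∧ x ≠ y

theorem Good.symm {S : Finset α} {k : ℕ} {x y : Perm α} (h : Good S k x y) : Good S k y x := by
  obtain ⟨z, hz, h1, h2⟩ := h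
  exact ⟨z, hz, h2, h1⟩

theorem Good.mono {S T : Finset α} {k : ℕ} {x y : Perm α} (h : Good S k x y) (hST : S ⊆ T) :
    Good T k x y := by
  obtain ⟨z, hz, h1, h2⟩ := h
  exact ⟨z, hz.mono hST, h1, h2⟩

theorem Good.combine {A B : Finset α} (hd : ∀ x ∈ A, x ∉ B) {k l : ℕ} {x y x' y' : Perm α}
    (hx : x ∈ supp A) (hy : y ∈ supp A) (hx' : x' ∈ supp B) (hy' : y' ∈ supp B)
    (h : Good A k x y) (h' : Good B l x' y') : Good (A ∪ B) (k + l) (x * x') (y * y') := by
  obtain ⟨z, hz, h1, h2⟩ := h
  obtain ⟨z', hz', h1', h2'⟩ := h'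
  refine ⟨z * z', hz.mul hd hz', ?_, ?_⟩
  · rw [mul_assoc, ← mul_assoc x', ← supp_commute hd hz.mem hx', mul_assoc z, ← mul_assoc]
    exact odd_mul (supp_commute hd (mul_mem hx hz.mem) (mul_mem hx' hz'.mem)) h1 h1'
  · rw [mul_assoc, ← mul_assoc y', ← supp_commute hd hz.mem hy', mul_assoc z, ← mul_assoc]
    exact odd_mul (supp_commute hd (mul_mem hy hz.mem) (mul_mem hy' hz'.mem)) h2 h2'

theorem via_swap {β : Type*} [DecidableEq β] (e : β ↪ α) (a b : β) :
    viaEmbeddingHom e (swap a b) = swap (e a) (e b) := by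
  rw [viaEmbeddingHom_apply]
  apply Equiv.ext
  intro x
  by_cases hx : x ∈ Set.range e
  · obtain ⟨y, rfl⟩ := hx
    rw [viaEmbedding_apply, e.injective.swap_apply]
  · rw [viaEmbedding_apply_of_notMem _ _ _ hx,
      swap_apply_of_ne_of_ne (fun h => hx ⟨a, h.symm⟩) (fun h => hx ⟨b, h.symm⟩)]

/-- Transporting a configuration on `Fin n`. -/
theorem Good.via {n : ℕ} (e : Fin n ↪ α) {k : ℕ} {X Y Z : Perm (Fin n)}
    (hZ : Z * Z = 1) (hk : Z.support.card = k) {N M : ℕ} (hN : N % 2 = 1) (hM : M % 2 = 1)
    (h1 : (X * Z) ^ N = 1) (h2 : (Y * Z) ^ M = 1) :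
    Good (Finset.univ.map e) k (viaEmbeddingHom e X) (viaEmbeddingHom e Y) := by
  refine ⟨viaEmbeddingHom e Z, ⟨?_, ?_, ?_⟩, ?_, ?_⟩
  · rw [← map_mul, hZ, map_one]
  · intro x hx
    rw [viaEmbeddingHom_apply, viaEmbedding_apply_of_notMem]
    rintro ⟨i, rfl⟩
    exact hx (Finset.mem_map_of_mem e (Finset.mem_univ i))
  · rw [← hk, ← Finset.card_map e]
    congr 1
    ext x
    rw [Perm.mem_support, viaEmbeddingHom_apply]
    by_cases hx : x ∈ Set.range e
    · obtain ⟨i, rfl⟩ := hx
      rw [viaEmbedding_apply, Finset.mem_map' e, Perm.mem_support, e.injective.ne_iff]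
    · rw [viaEmbedding_apply_of_notMem _ _ _ hx]
      simp only [ne_eq, not_true, false_iff, Finset.mem_map, not_exists, not_and]
      exact fun i _ h => hx ⟨i, h⟩
  · rw [← map_mul]
    exact Odd.of_dvd_nat (Nat.odd_iff.2 hN) (orderOf_dvd_of_pow_eq_one (by rw [← map_pow, h1, map_one]))
  · rw [← map_mul]
    exact Odd.of_dvd_nat (Nat.odd_iff.2 hM) (orderOf_dvd_of_pow_eq_one (by rw [← map_pow, h2, map_one]))

omit [Fintype α] in
theorem exists_embedding {n : ℕ} (l : List α) (hl : l.Nodup) (hn : l.length = n) :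
    ∃ e : Fin n ↪ α, ∀ i : Fin n, e i = l.get (i.cast hn.symm) :=
  ⟨⟨fun i => l.get (i.cast hn.symm), fun _ _ h => Fin.cast_injective _ (hl.injective_get h)⟩, fun _ => rfl⟩

theorem map_univ_eq {n : ℕ} {l : List α} (hn : l.length = n) (e : Fin n ↪ α)
    (he : ∀ i : Fin n, e i = l.get (i.cast hn.symm)) : Finset.univ.map e = l.toFinset := by
  ext x
  rw [Finset.mem_map, List.mem_toFinset, List.mem_iff_get]
  constructor
  · rintro ⟨i, -, rfl⟩; exact ⟨i.cast hn.symm, (he i).symm⟩
  · rintro ⟨i, rfl⟩; exact ⟨i.cast hn, Finset.mem_univ _, by rw [he]; rfl⟩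

/-- A disjoint pair of transpositions. -/
theorem gadget_pair {a b c d : α} (h : [a, b, c, d].Nodup) :
    Good ([a, b, c, d].toFinset) 2 (swap a b) (swap c d) := by
  obtain ⟨e, he⟩ := exists_embedding [a, b, c, d] h (n := 4) rfl
  have := Good.via e (X := swap 0 1) (Y := swap 2 3) (Z := swap 0 2) (k := 2) (by decide +kernel)
    (by decide +kernel) (N := 3) (M := 3) rfl rfl (by decide +kernel) (by decide +kernel)
  simp only [map_univ_eq (l := [a, b, c, d]) rfl e he, via_swap] at this
  simp only [he] at this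
  simpa using this

theorem gadget_fix {a b c d f : α} (h : [a, b, c, d, f].Nodup) :
    Good ([a, b, c, d, f].toFinset) 4 (swap a b * swap c d) (swap b c * swap d a) := by
  obtain ⟨e, he⟩ := exists_embedding [a, b, c, d, f] h (n := 5) rfl
  have := Good.via e (X := swap 0 1 * swap 2 3) (Y := swap 1 2 * swap 3 0) (Z := swap 0 1 * swap 2 4)
    (k := 4) (by decide +kernel) (by decide +kernel) (N := 15) (M := 15) rfl rfl (by decide +kernel)
    (by decide +kernel)
  simp only [map_mul, map_univ_eq (l := [a, b, c, d, f]) rfl e he, via_swap] at this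
  simp only [he] at this
  simpa using this

theorem gadget_dbl {a b c d f g : α} (h : [a, b, c, d, f, g].Nodup) :
    Good ([a, b, c, d, f, g].toFinset) 6 (swap a b * swap c d * swap f g)
      (swap b c * swap d a * swap f g) := by
  obtain ⟨e, he⟩ := exists_embedding [a, b, c, d, f, g] h (n := 6) rfl
  have := Good.via e (X := swap 0 1 * swap 2 3 * swap 4 5) (Y := swap 1 2 * swap 3 0 * swap 4 5)
    (Z := swap 0 2 * swap 1 4 * swap 3 5)
    (k := 6) (by decide +kernel) (by decide +kernel) (N := 15) (M := 15) rfl rfl (by decide +kernel)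
    (by decide +kernel)
  simp only [map_mul, map_univ_eq (l := [a, b, c, d, f, g]) rfl e he, via_swap] at this
  simp only [he] at this
  simpa using this

theorem gadget_eight {a b c d p q r s : α} (h : [a, b, c, d, p, q, r, s].Nodup) :
    Good ([a, b, c, d, p, q, r, s].toFinset) 8 (swap a b * swap c d * (swap p q * swap r s))
      (swap b c * swap d p * (swap q r * swap s a)) := by
  obtain ⟨e, he⟩ := exists_embedding [a, b, c, d, p, q, r, s] h (n := 8) rfl
  have := Good.via e (X := swap 0 1 * swap 2 3 * (swap 4 5 * swap 6 7))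
    (Y := swap 1 2 * swap 3 4 * (swap 5 6 * swap 7 0))
    (Z := swap 0 1 * swap 2 4 * (swap 3 7 * swap 5 6))
    (k := 8) (by decide +kernel) (by decide +kernel) (N := 105) (M := 105) rfl rfl (by decide +kernel)
    (by decide +kernel)
  simp only [map_mul, map_univ_eq (l := [a, b, c, d, p, q, r, s]) rfl e he, via_swap] at this
  simp only [he] at this
  simpa using this

theorem gadget_four_pair {a b c d p q r s : α} (h : [a, b, c, d, p, q, r, s].Nodup) :
    Good ([a, b, c, d, p, q, r, s].toFinset) 6 (swap p q * (swap a b * swap c d))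
      (swap r s * (swap b c * swap d a)) := by
  obtain ⟨e, he⟩ := exists_embedding [a, b, c, d, p, q, r, s] h (n := 8) rfl
  have := Good.via e (X := swap 4 5 * (swap 0 1 * swap 2 3))
    (Y := swap 6 7 * (swap 1 2 * swap 3 0))
    (Z := swap 0 1 * swap 2 4 * swap 3 6)
    (k := 6) (by decide +kernel) (by decide +kernel) (N := 105) (M := 105) rfl rfl (by decide +kernel)
    (by decide +kernel)
  simp only [map_mul, map_univ_eq (l := [a, b, c, d, p, q, r, s]) rfl e he, via_swap] at this
  simp only [he] at this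
  simpa using this

theorem gadget_two_fours {a b c d p q r s : α} (h : [a, b, c, d, p, q, r, s].Nodup) :
    Good ([a, b, c, d, p, q, r, s].toFinset) 8 (swap a b * swap c d * (swap p q * swap r s))
      (swap b c * swap d a * (swap q r * swap s p)) := by
  obtain ⟨e, he⟩ := exists_embedding [a, b, c, d, p, q, r, s] h (n := 8) rfl
  have := Good.via e (X := swap 0 1 * swap 2 3 * (swap 4 5 * swap 6 7))
    (Y := swap 1 2 * swap 3 0 * (swap 5 6 * swap 7 4))
    (Z := swap 0 1 * swap 2 4 * (swap 3 7 * swap 5 6))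
    (k := 8) (by decide +kernel) (by decide +kernel) (N := 105) (M := 105) rfl rfl (by decide +kernel)
    (by decide +kernel)
  simp only [map_mul, map_univ_eq (l := [a, b, c, d, p, q, r, s]) rfl e he, via_swap] at this
  simp only [he] at this
  simpa using this

theorem gadget_three_fours {a b c d p q r s i j l m : α}
    (h : [a, b, c, d, p, q, r, s, i, j, l, m].Nodup) :
    Good ([a, b, c, d, p, q, r, s, i, j, l, m].toFinset) 12
      (swap a b * swap c d * (swap p q * swap r s) * (swap i j * swap l m))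
      (swap b c * swap d a * (swap q r * swap s p) * (swap j l * swap m i)) := by
  obtain ⟨e, he⟩ := exists_embedding [a, b, c, d, p, q, r, s, i, j, l, m] h (n := 12) rfl
  have := Good.via e (X := swap 0 1 * swap 2 3 * (swap 4 5 * swap 6 7) * (swap 8 9 * swap 10 11))
    (Y := swap 1 2 * swap 3 0 * (swap 5 6 * swap 7 4) * (swap 9 10 * swap 11 8))
    (Z := swap 0 1 * swap 2 4 * (swap 3 6 * swap 5 8) * (swap 7 11 * swap 9 10))
    (k := 12) (by decide +kernel) (by decide +kernel) (N := 5) (M := 5) rfl rfl (by decide +kernel)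
    (by decide +kernel)
  simp only [map_mul, map_univ_eq (l := [a, b, c, d, p, q, r, s, i, j, l, m]) rfl e he, via_swap] at this
  simp only [he] at this
  simpa using this

/-- The shape of an exceptional configuration. -/
theorem exc_shape {S : Finset α} {x y : Perm α} (hS : S.card = 4) (hx : Inv S 4 x) (hy : Inv S 4 y)
    (hxy : x ≠ y) {a : α} (ha : a ∈ S) : ∃ b c d, [a, b, c, d].Nodup ∧ [a, b, c, d].toFinset = S ∧
      x = swap a b * swap c d ∧ y = swap b c * swap d a := by
  have full : ∀ {σ : Perm α}, Inv S 4 σ → ∀ u ∈ S, σ u ≠ u := by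
    intro σ hσ u hu
    have he : σ.support = S :=
      Finset.eq_of_subset_of_card_le hσ.support_subset (by rw [hσ.card, hS])
    exact Perm.mem_support.1 (he ▸ hu)
  -- an involution without fixed points on four points is determined by one value
  have four : ∀ {σ : Perm α}, Inv S 4 σ → ∀ u ∈ S, ∀ v w, v ∈ S → w ∈ S → v ≠ u → v ≠ σ u → w ≠ u →
      w ≠ σ u → v ≠ w → σ = swap u (σ u) * swap v w := by
    intro σ hσ u hu v w hv hw h1 h2 h3 h4 hvw
    have huu := full hσ u hu
    have hall : ∀ t ∈ S, t = u ∨ t = σ u ∨ t = v ∨ t = w := by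
      have heq : ({u, σ u, v, w} : Finset α) = S := by
        refine Finset.eq_of_subset_of_card_le ?_ ?_
        · intro t ht
          simp only [Finset.mem_insert, Finset.mem_singleton] at ht
          rcases ht with rfl | rfl | rfl | rfl
          · exact hu
          · exact apply_mem_of_mem_supp hσ.mem hu
          · exact hv
          · exact hw
        · rw [hS, Finset.card_eq_four.2 ⟨u, σ u, v, w, huu.symm, h1.symm, h3.symm, h2.symm, h4.symm,
            hvw, rfl⟩]
      intro t ht
      rw [← heq] at ht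
      simpa using ht
    have hσv : σ v = w := by
      rcases hall (σ v) (apply_mem_of_mem_supp hσ.mem hv) with e | e | e | e
      · exact absurd (by rw [← e, hσ.apply_apply]) h2
      · exact absurd (σ.injective e) h1
      · exact absurd e (full hσ v hv)
      · exact e
    apply Equiv.ext
    intro t
    rw [Perm.mul_apply]
    by_cases ht : t ∈ S
    · rcases hall t ht with rfl | rfl | rfl | rfl
      · rw [swap_apply_of_ne_of_ne h1.symm h3.symm, swap_apply_left]
      · rw [hσ.apply_apply, swap_apply_of_ne_of_ne h2.symm h4.symm, swap_apply_right]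
      · rw [swap_apply_left, swap_apply_of_ne_of_ne h3 h4, hσv]
      · rw [swap_apply_right, swap_apply_of_ne_of_ne h1 h2, ← hσv, hσ.apply_apply]
    · have hne : ∀ s ∈ S, t ≠ s := fun s hs e => ht (e ▸ hs)
      rw [hσ.mem t ht, swap_apply_of_ne_of_ne (hne v hv) (hne w hw),
        swap_apply_of_ne_of_ne (hne u hu) (hne _ (apply_mem_of_mem_supp hσ.mem hu))]
  have hxa := full hx a ha
  have hya := full hy a ha
  have hb : x a ∈ S := apply_mem_of_mem_supp hx.mem ha
  have hd : y a ∈ S := apply_mem_of_mem_supp hy.mem ha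
  obtain ⟨c, hc, hcn⟩ := Finset.exists_mem_notMem_of_card_lt_card
    (show ({a, x a, y a} : Finset α).card < S.card from Finset.card_le_three.trans_lt (by omega))
  simp only [Finset.mem_insert, Finset.mem_singleton, not_or] at hcn
  have hne : x a ≠ y a := by
    intro e
    obtain ⟨w, hw, hwn⟩ := Finset.exists_mem_notMem_of_card_lt_card
      (show ({a, x a, c} : Finset α).card < S.card from Finset.card_le_three.trans_lt (by omega))
    simp only [Finset.mem_insert, Finset.mem_singleton, not_or] at hwn
    apply hxy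
    rw [four hx a ha c w hc hw hcn.1 hcn.2.1 hwn.1 hwn.2.1 (Ne.symm hwn.2.2),
      four hy a ha c w hc hw hcn.1 hcn.2.2 hwn.1 (e ▸ hwn.2.1) (Ne.symm hwn.2.2), e]
  refine ⟨x a, c, y a, ?_, ?_, four hx a ha c (y a) hc hd hcn.1 hcn.2.1 hya hne.symm hcn.2.2, ?_⟩
  · simp [hxa.symm, hya.symm, hne, Ne.symm hcn.1, Ne.symm hcn.2.1, hcn.2.2]
  · refine Finset.eq_of_subset_of_card_le ?_ ?_
    · intro t ht
      simp only [List.mem_toFinset, List.mem_cons, List.not_mem_nil, or_false] at ht
      rcases ht with rfl | rfl | rfl | rfl <;> assumption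
    · rw [hS, List.toFinset_card_of_nodup]
      · simp
      · simp [hxa.symm, hya.symm, hne, Ne.symm hcn.1, Ne.symm hcn.2.1, hcn.2.2]
  · have h4 := four hy a ha (x a) c hb hc hxa hne hcn.1 hcn.2.2 (Ne.symm hcn.2.1)
    refine h4.trans ?_
    rw [swap_comm a (y a)]
    exact swap_mul_swap_commute hne.symm (Ne.symm hcn.2.2) hxa.symm (Ne.symm hcn.1)

/-- The product of two three-cycles appearing when two transpositions are removed from a cycle. -/
theorem insert_identity {r s a b c d : α} (h : [r, s, a, b, c, d].Nodup) :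
    swap r s * (swap r a * swap b c * swap d s) * (swap a b * swap c d) =
      (swap a r * swap c a) * (swap d s * swap b d) := by
  obtain ⟨e, he⟩ := exists_embedding [r, s, a, b, c, d] h (n := 6) rfl
  have h6 : swap (0 : Fin 6) 1 * (swap 0 2 * swap 3 4 * swap 5 1) * (swap 2 3 * swap 4 5) =
      (swap 2 0 * swap 4 2) * (swap 5 1 * swap 3 5) := by decide +kernel
  have := congrArg (viaEmbeddingHom e) h6
  simp only [map_mul, via_swap] at this
  simp only [he] at this
  simpa using this

/-- The case of a path end. -/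
theorem step_path {S : Finset α} {k : ℕ} {x y : Perm α} (hx : Inv S k x) (hy : Inv S k y) {u : α}
    (hxu : x u ≠ u) (hyu : y u = u) (hyv : y (x u) ≠ x u)
    (ih : ∀ (T : Finset α) (l : ℕ) (x' y' : Perm α), T.card < S.card → Inv T l x' → Inv T l y' →
      Exc T l x' y' ∨ Good T l x' y') : Good S k x y := by
  set v := x u with hv
  set w := y v with hw
  have huv : u ≠ v := Ne.symm hxu
  have hwu : w ≠ u := fun e => huv (by
    have := hy.apply_apply v
    rw [← hw, e, hyu] at this
    exact this)
  obtain ⟨hu, hvS, l, hl, hx', hxe⟩ := hx.peel (rfl : x u = v) huv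
  obtain ⟨-, hwS, l', hl', hy', hye⟩ := hy.peel (rfl : y v = w) (Ne.symm hyv)
  have hll : l' = l := by omega
  rw [hll] at hy'
  set T := S \ {u, v}
  have hwT : w ∈ T := Finset.mem_sdiff.2 ⟨hwS, by simp [hwu, hyv]⟩
  have hy'T : Inv T l (swap v w * y) := by
    refine ⟨hy'.sq, fun t ht => ?_, hy'.card⟩
    by_cases htu : t = u
    · subst htu
      rw [Perm.mul_apply, hyu, swap_apply_of_ne_of_ne huv hwu.symm]
    by_cases hm : t ∈ S \ {v, w}
    · rw [Finset.mem_sdiff, Finset.mem_insert, Finset.mem_singleton, not_or] at hm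
      exact absurd (Finset.mem_sdiff.2 ⟨hm.1, by simp [htu, hm.2.1]⟩) ht
    · exact hy'.mem t hm
  have hcard : T.card < S.card := Finset.card_lt_card ⟨Finset.sdiff_subset, fun h => by
    have := Finset.mem_sdiff.1 (h hu)
    simp at this⟩
  rcases ih T l _ _ hcard hx' hy'T with ⟨hT, hl4, -⟩ | ⟨z, hz, h1, h2⟩
  · exfalso
    have he : (swap v w * y).support = T :=
      Finset.eq_of_subset_of_card_le hy'T.support_subset (by rw [hy'T.card, hT, hl4])
    have := Perm.mem_support.1 (he.symm ▸ hwT : w ∈ (swap v w * y).support)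
    apply this
    rw [Perm.mul_apply, hw, hy.apply_apply, swap_apply_left]
  have hd : ∀ t ∈ T, t ∉ ({u, v} : Finset α) := fun t ht => (Finset.mem_sdiff.1 ht).2
  have hzu : z u = u := hz.mem u (fun h => hd u h (by simp))
  have hzv : z v = v := hz.mem v (fun h => hd v h (by simp))
  have hTS : T ∪ {u, v} ⊆ S := Finset.union_subset Finset.sdiff_subset (by
    intro t ht
    simp only [Finset.mem_insert, Finset.mem_singleton] at ht
    rcases ht with rfl | rfl <;> assumption)
  refine ⟨z * swap u v, (by rw [hl, add_comm]; exact (hz.mul hd (Inv.swap huv)).mono hTS), ?_, ?_⟩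
  · have hc : z * swap u v = swap u v * z := supp_commute hd hz.mem (Inv.swap huv).mem
    have hcx : x * swap u v = swap u v * x := by
      nth_rewrite 1 [hxe]
      rw [mul_assoc, supp_commute hd hx'.mem (Inv.swap huv).mem, ← mul_assoc (swap u v),
        swap_mul_self, one_mul]
    rw [hc, ← mul_assoc, hcx]
    exact h1
  · set r := z w with hr
    have hrT : r ∈ T := apply_mem_of_mem_supp hz.mem hwT
    have hru : r ≠ u := fun e => hd r hrT (by simp [e])
    have hrv : r ≠ v := fun e => hd r hrT (by simp [e])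
    have key : y * (z * swap u v) = swap v w * y * z * (swap v r * swap u v) := by
      have hvw' : swap v w * z = z * swap v r := by
        have h := Equiv.swap_apply_apply z v r
        rw [hzv, hr, hz.apply_apply] at h
        rw [h, ← hr]
        simp [mul_assoc]
      have hcy : (swap v w * y) * swap v w = y := by
        have := supp_commute (Δ := S \ {v, w}) (Δ' := {v, w})
          (fun t ht => (Finset.mem_sdiff.1 ht).2) hy'.mem
            (swap_mem_supp (a := v) (b := w) (by simp) (by simp))
        rw [this, ← hye]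
      nth_rewrite 1 [← hcy]
      rw [mul_assoc (swap v w * y), ← mul_assoc (swap v w) z, hvw']
      simp only [mul_assoc]
    rw [key]
    exact odd_insert h2 (by rw [Perm.mul_apply, hzu]; exact hy'T.mem u fun h => hd u h (by simp))
      (by rw [Perm.mul_apply, hzv]; exact hy'T.mem v fun h => hd v h (by simp)) huv hru hrv

set_option maxHeartbeats 1000000 in
/-- The main lemma. -/
theorem main : ∀ (N : ℕ) (S : Finset α) (k : ℕ) (x y : Perm α), S.card = N → Inv S k x → Inv S k y →
    Exc S k x y ∨ Good S k x y := by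
  intro N
  induction N using Nat.strong_induction_on with
  | _ N IH =>
  intro S k x y hN hx hy
  have ih : ∀ (T : Finset α) (l : ℕ) (x' y' : Perm α), T.card < S.card → Inv T l x' → Inv T l y' →
      Exc T l x' y' ∨ Good T l x' y' := fun T l x' y' hT => IH T.card (hN ▸ hT) T l x' y' rfl
  by_cases hexc : Exc S k x y
  · exact Or.inl hexc
  right
  by_cases hP : ∃ u, x u ≠ u ∧ y u = u ∧ y (x u) ≠ x u
  · obtain ⟨u, h1, h2, h3⟩ := hP
    exact step_path hx hy h1 h2 h3 ih
  by_cases hP' : ∃ u, y u ≠ u ∧ x u = u ∧ x (y u) ≠ y u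
  · obtain ⟨u, h1, h2, h3⟩ := hP'
    exact (step_path hy hx h1 h2 h3 ih).symm
  push Not at hP hP'
  by_cases hB : ∃ u ∈ S, x u = u ∧ y u = u
  · -- a common fixed point
    obtain ⟨s, hs, hxs, hys⟩ := hB
    have hsub : ∀ {σ : Perm α}, Inv S k σ → σ s = s → Inv (S.erase s) k σ := fun {σ} h he =>
      ⟨h.sq, fun t ht => by
        by_cases hts : t = s
        · rw [hts, he]
        · exact h.mem t fun hS => ht (Finset.mem_erase.2 ⟨hts, hS⟩), h.card⟩
    rcases ih (S.erase s) k x y (Finset.card_erase_lt_of_mem hs) (hsub hx hxs) (hsub hy hys) with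
      ⟨hT, rfl, hne⟩ | hg
    · obtain ⟨a, ha⟩ : (S.erase s).Nonempty := Finset.card_pos.1 (by omega)
      obtain ⟨b, c, d, hnd, hTe, rfl, rfl⟩ := exc_shape hT (hsub hx hxs) (hsub hy hys) hne ha
      have hsn : ∀ t ∈ [a, b, c, d], t ≠ s := fun t ht =>
        Finset.ne_of_mem_erase (hTe ▸ List.mem_toFinset.2 ht)
      refine (gadget_fix (f := s) (?_ : [a, b, c, d, s].Nodup)).mono ?_
      · rw [show [a, b, c, d, s] = [a, b, c, d] ++ [s] from rfl, List.nodup_append]
        exact ⟨hnd, by simp, fun t ht t' ht' => by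
          rw [List.mem_singleton] at ht'; subst ht'; exact hsn t ht⟩
      · intro t ht
        rw [show [a, b, c, d, s] = [a, b, c, d] ++ [s] from rfl, List.toFinset_append, hTe,
          Finset.mem_union] at ht
        rcases ht with h | h
        · exact Finset.mem_of_mem_erase h
        · simp at h; rw [h]; exact hs
    · exact hg.mono (Finset.erase_subset _ _)
  push Not at hB
  by_cases hD : ∃ u, x u ≠ u ∧ x u = y u
  · -- a common transposition
    obtain ⟨u, hu, he⟩ := hD
    set v := x u with hv
    have huv : u ≠ v := Ne.symm hu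
    obtain ⟨huS, hvS, l, hl, hx', hxe⟩ := hx.peel (rfl : x u = v) huv
    obtain ⟨-, -, l', hl', hy', hye⟩ := hy.peel he.symm huv
    have hll : l' = l := by omega
    rw [hll] at hy'
    have hd : ∀ t ∈ ({u, v} : Finset α), t ∉ S \ {u, v} := fun t ht h => (Finset.mem_sdiff.1 h).2 ht
    have hsw := Inv.swap huv
    have huvS : ({u, v} : Finset α) ⊆ S := by
      intro t ht
      simp only [Finset.mem_insert, Finset.mem_singleton] at ht
      rcases ht with rfl | rfl <;> assumption
    rcases ih _ l _ _ (Finset.card_lt_card ⟨Finset.sdiff_subset, fun h => hd u (by simp) (h huS)⟩)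
      hx' hy' with ⟨hT, rfl, hne⟩ | hg
    · obtain ⟨a, ha⟩ : (S \ {u, v}).Nonempty := Finset.card_pos.1 (by omega)
      obtain ⟨b, c, d, hnd, hTe, ex, ey⟩ := exc_shape hT hx' hy' hne ha
      have hnd6 : [a, b, c, d, u, v].Nodup := by
        rw [show [a, b, c, d, u, v] = [a, b, c, d] ++ [u, v] from rfl, List.nodup_append]
        refine ⟨hnd, by simp [huv], fun t ht t' ht' e => hd t' ?_ ?_⟩
        · simpa using ht'
        · rw [← e, ← hTe]; exact List.mem_toFinset.2 ht
      have hg := gadget_dbl hnd6
      have e1 : x = swap a b * swap c d * swap u v := by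
        rw [← ex]
        exact hxe.trans (supp_commute hd hsw.mem hx'.mem)
      have e2 : y = swap b c * swap d a * swap u v := by
        rw [← ey]
        exact hye.trans (supp_commute hd hsw.mem hy'.mem)
      rw [e1, e2, show k = 6 by omega]
      refine hg.mono ?_
      rw [show [a, b, c, d, u, v] = [a, b, c, d] ++ [u, v] from rfl, List.toFinset_append, hTe]
      exact Finset.union_subset Finset.sdiff_subset (by simpa using huvS)
    · obtain ⟨z, hz, h1, h2⟩ := hg
      have hgood : Good ({u, v} : Finset α) 2 (swap u v) (swap u v) :=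
        ⟨swap u v, hsw, by simp, by simp⟩
      rw [hxe, hye, hl]
      exact (Good.combine hd hsw.mem hsw.mem hx'.mem hy'.mem hgood ⟨z, hz, h1, h2⟩).mono
        (Finset.union_subset huvS Finset.sdiff_subset)
  push Not at hD
  by_cases hC : ∃ a, x a ≠ a ∧ y a ≠ a ∧ y (x (y (x a))) ≠ a
  · -- a long cycle
    obtain ⟨a, hxa, hya, hcyc⟩ := hC
    set p := y a with hp
    set b := x a with hb
    have exb' : x b = a := by rw [hb, hx.apply_apply]
    have hyb : y b ≠ b := fun e => by
      have h3 := hP b (by rw [exb']; exact Ne.symm hxa) e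
      rw [exb'] at h3
      exact hya h3
    set c := y b with hc
    have hxc : x c ≠ c := fun e => by
      have h3 := hP' c (hy.moved hyb) e
      rw [show y c = b by rw [hc, hy.apply_apply]] at h3
      exact hxa (x.injective h3)
    set d := x c with hd'
    have hyd : y d ≠ d := fun e => by
      have h3 := hP d (hx.moved hxc) e
      rw [show x d = c by rw [hd', hx.apply_apply]] at h3
      exact hyb (y.injective h3)
    set q := y d with hq
    have hqa : q ≠ a := hcyc
    have exb : x b = a := by rw [hb, hx.apply_apply]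
    have eyc : y c = b := by rw [hc, hy.apply_apply]
    have exd : x d = c := by rw [hd', hx.apply_apply]
    have eyq : y q = d := by rw [hq, hy.apply_apply]
    have eyp : y p = a := by rw [hp, hy.apply_apply]
    have hpb : p ≠ b := fun e => hD a hxa e.symm
    have hac : a ≠ c := fun e => hpb (by
      have := congrArg y e
      rwa [eyc] at this)
    have hbd : b ≠ d := fun e => hac (by
      have := congrArg x e
      rwa [exb, exd] at this)
    have had : a ≠ d := fun e => hyb (by
      have h1 := congrArg x e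
      rw [exd] at h1
      exact h1.symm)
    have hpc : p ≠ c := fun e => hxa (y.injective (by rw [← hc, ← hp, e]))
    have hpd : p ≠ d := fun e => hqa (by rw [hq, ← e, eyp])
    have hqb : q ≠ b := fun e => hxc (by
      have h1 := congrArg y e
      rw [eyq, ← hc] at h1
      exact h1)
    have hqc : q ≠ c := fun e => hD d (hx.moved hxc) (by rw [exd, ← hq, e])
    have hpq : p ≠ q := fun e => had (y.injective e)
    have hab : a ≠ b := Ne.symm hxa
    have hbc : b ≠ c := Ne.symm hyb
    have hcd : c ≠ d := Ne.symm hxc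
    obtain ⟨haS, hbS, l1, hl1, hx1, hxe1⟩ := hx.peel (rfl : x a = b) hab
    obtain ⟨hcS, hdS, l, hl, hx', hxe2⟩ := hx1.peel (show (swap a b * x) c = d by
      rw [Perm.mul_apply, ← hd', swap_apply_of_ne_of_ne had.symm hbd.symm]) hcd
    obtain ⟨-, -, m1, hm1, hy1, hye1⟩ := hy.peel eyp hya
    obtain ⟨-, -, m2, hm2, hy2, hye2⟩ := hy1.peel (show (swap p a * y) b = c by
      rw [Perm.mul_apply, ← hc, swap_apply_of_ne_of_ne hpc.symm hac.symm]) hbc
    obtain ⟨-, hqS', m3, hm3, hy3, hye3⟩ := hy2.peel (show (swap b c * (swap p a * y)) d = q by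
      rw [Perm.mul_apply, Perm.mul_apply, ← hq, swap_apply_of_ne_of_ne hpq.symm hqa,
        swap_apply_of_ne_of_ne hqb hqc]) (Ne.symm hyd)
    have hqS : q ∈ S := (Finset.mem_sdiff.1 (Finset.mem_sdiff.1 hqS').1).1
    have hpS : p ∈ S := apply_mem_of_mem_supp hy.mem haS
    set T := S \ {a, b, c, d} with hT
    have hpT : p ∈ T := Finset.mem_sdiff.2 ⟨hpS, by simp [hya, hpb, hpc, hpd]⟩
    have hqT : q ∈ T := Finset.mem_sdiff.2 ⟨hqS, by simp [hqa, hqb, hqc, hyd]⟩
    set x' := swap c d * (swap a b * x) with hx'def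
    set y'' := swap d q * (swap b c * (swap p a * y)) with hy''def
    have hx'T : Inv T l x' := hx'.mono (by
      intro t; simp only [hT, Finset.mem_sdiff, Finset.mem_insert, Finset.mem_singleton]; tauto)
    set U := T \ {p, q} with hU
    have hy''U : Inv U m3 y'' := hy3.mono (by
      intro t; simp only [hU, hT, Finset.mem_sdiff, Finset.mem_insert, Finset.mem_singleton]; tauto)
    have hdU : ∀ t ∈ U, t ∉ ({p, q} : Finset α) := fun t ht => (Finset.mem_sdiff.1 ht).2
    have hy'T : Inv T l (y'' * swap p q) := by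
      rw [show l = m3 + 2 by omega]
      exact (hy''U.mul hdU (Inv.swap hpq)).mono (Finset.union_subset Finset.sdiff_subset (by
        intro t ht
        simp only [Finset.mem_insert, Finset.mem_singleton] at ht
        rcases ht with rfl | rfl <;> assumption))
    have h4S : ({a, b, c, d} : Finset α) ⊆ S := by
      intro t ht
      simp only [Finset.mem_insert, Finset.mem_singleton] at ht
      rcases ht with rfl | rfl | rfl | rfl
      · exact haS
      · exact hbS
      · exact (Finset.mem_sdiff.1 hcS).1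
      · exact (Finset.mem_sdiff.1 hdS).1
    have hd4 : ∀ t ∈ T, t ∉ ({a, b, c, d} : Finset α) := fun t ht => (Finset.mem_sdiff.1 ht).2
    have hTlt : T.card < S.card :=
      Finset.card_lt_card ⟨Finset.sdiff_subset, fun h => hd4 a (h haS) (by simp)⟩
    have hab4 : swap a b * swap c d ∈ supp ({a, b, c, d} : Finset α) :=
      mul_mem (swap_mem_supp (by simp) (by simp)) (swap_mem_supp (by simp) (by simp))
    have hxprod : x = swap a b * swap c d * x' := by
      nth_rewrite 1 [hxe1]
      nth_rewrite 1 [hxe2]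
      rw [← mul_assoc]
    have hxprod' : x = x' * (swap a b * swap c d) :=
      hxprod.trans (supp_commute hd4 hx'T.mem hab4).symm
    have hyprod : y = swap p a * swap b c * swap d q * y'' := by
      nth_rewrite 1 [hye1]
      nth_rewrite 1 [hye2]
      nth_rewrite 1 [hye3]
      rw [← mul_assoc, ← mul_assoc]
    have hPd : swap p a * swap b c * swap d q ∈ supp ({p, q, a, b, c, d} : Finset α) :=
      mul_mem (mul_mem (swap_mem_supp (by simp) (by simp)) (swap_mem_supp (by simp) (by simp)))
        (swap_mem_supp (by simp) (by simp))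
    have hU6 : ∀ t ∈ U, t ∉ ({p, q, a, b, c, d} : Finset α) := by
      intro t ht
      simp only [hU, hT, Finset.mem_sdiff, Finset.mem_insert, Finset.mem_singleton] at ht ⊢
      tauto
    have hyprod' : y = y'' * (swap p a * swap b c * swap d q) :=
      hyprod.trans (supp_commute hU6 hy''U.mem hPd).symm
    rcases ih T l x' (y'' * swap p q) hTlt hx'T hy'T with ⟨hT4, rfl, hne⟩ | ⟨z, hz, h1, h2⟩
    · obtain ⟨g, f, e, hnd, hTe, ex, ey⟩ := exc_shape hT4 hx'T hy'T hne hpT
      -- the eight-cycle `a b c d q f g p`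
      have hpe : (y'' * swap p q) p = q := by
        rw [Perm.mul_apply, swap_apply_left]
        exact hy''U.mem q (fun h => hdU q h (by simp))
      have heq : e = q := by
        rw [ey, Perm.mul_apply, swap_apply_right] at hpe
        simp only [List.nodup_cons, List.mem_cons, List.not_mem_nil, or_false, not_or] at hnd
        rw [swap_apply_of_ne_of_ne (Ne.symm hnd.2.1.2) (Ne.symm hnd.2.2.1)] at hpe
        exact hpe
      rw [heq] at hnd hTe ex ey
      have hnd8 : [a, b, c, d, q, f, g, p].Nodup := by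
        rw [show [a, b, c, d, q, f, g, p] = [a, b, c, d] ++ [q, f, g, p] from rfl, List.nodup_append]
        refine ⟨by simp [hab, hac, had, hbc, hbd, hcd], ?_, fun t ht t' ht' h => hd4 t' ?_ ?_⟩
        · simp only [List.nodup_cons, List.mem_cons, List.not_mem_nil, or_false, not_or,
            not_false_eq_true, List.nodup_nil, and_true] at hnd ⊢
          exact ⟨⟨Ne.symm hnd.2.2, Ne.symm hnd.2.1.2, Ne.symm hnd.1.2.2⟩,
            ⟨Ne.symm hnd.2.1.1, Ne.symm hnd.1.2.1⟩, Ne.symm hnd.1.1⟩
        · rw [← hTe]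
          simp only [List.mem_toFinset, List.mem_cons, List.not_mem_nil, or_false] at ht' ⊢
          tauto
        · rw [← h]; simpa using ht
      have hy'' : y'' = swap g f := by
        have : y'' * swap p q * swap p q = swap g f * swap q p * swap p q := by rw [ey]
        rwa [mul_assoc, swap_mul_self, mul_one, swap_comm q p, mul_assoc, swap_mul_self, mul_one] at this
      have e1 : x = swap a b * swap c d * (swap q f * swap g p) := by
        rw [hxprod, ex, swap_comm f q, swap_comm p g]
        congr 1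
        simp only [List.nodup_cons, List.mem_cons, List.not_mem_nil, or_false, not_or] at hnd
        exact swap_mul_swap_commute hnd.2.1.2 hnd.2.1.1 hnd.1.2.2 hnd.1.2.1
      have e2 : y = swap b c * swap d q * (swap f g * swap p a) := by
        rw [hyprod, hy'', swap_comm g f]
        have hcomm : swap p a * (swap b c * swap d q * swap f g) =
            swap b c * swap d q * swap f g * swap p a := by
          refine supp_commute (Δ := {p, a}) (Δ' := {b, c, d, q, f, g}) ?_
            (swap_mem_supp (by simp) (by simp))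
            (mul_mem (mul_mem (swap_mem_supp (by simp) (by simp)) (swap_mem_supp (by simp) (by simp)))
              (swap_mem_supp (by simp) (by simp)))
          simp only [List.nodup_cons, List.mem_cons, List.not_mem_nil, or_false, not_or] at hnd8
          intro t ht
          simp only [Finset.mem_insert, Finset.mem_singleton, not_or] at ht ⊢
          simp only [List.nodup_cons, List.mem_cons, List.not_mem_nil, or_false, not_or] at hnd
          rcases ht with rfl | rfl
          · exact ⟨hpb, hpc, hpd, hpq, hnd.1.2.1, hnd.1.1⟩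
          · exact ⟨hab, hac, had, hnd8.1.2.2.2.1, hnd8.1.2.2.2.2.1, hnd8.1.2.2.2.2.2.1⟩
        rw [mul_assoc, mul_assoc, ← mul_assoc (swap b c), hcomm]
        simp only [mul_assoc]
      rw [e1, e2, show k = 8 by omega]
      refine (gadget_eight hnd8).mono ?_
      intro t ht
      simp only [List.mem_toFinset, List.mem_cons, List.not_mem_nil, or_false] at ht
      by_cases h4 : t ∈ ({a, b, c, d} : Finset α)
      · exact h4S h4
      · have : t ∈ T := by
          rw [← hTe]
          simp only [List.mem_toFinset, List.mem_cons, List.not_mem_nil, or_false]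
          simp only [Finset.mem_insert, Finset.mem_singleton] at h4
          tauto
        exact (Finset.mem_sdiff.1 this).1
    · have hc4 := supp_commute hd4 hz.mem hab4
      have hz4 : Inv ({a, b, c, d} : Finset α) 4 (swap a b * swap c d) :=
        ((Inv.swap hab).mul (by simp [hac, had, hbc, hbd]) (Inv.swap hcd)).mono (by
          intro t; simp only [Finset.mem_union, Finset.mem_insert, Finset.mem_singleton]; tauto)
      refine ⟨z * (swap a b * swap c d), ?_, ?_, ?_⟩
      · rw [show k = l + 4 by omega]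
        exact (hz.mul hd4 hz4).mono (Finset.union_subset Finset.sdiff_subset h4S)
      · rw [hc4, ← mul_assoc, hxprod', mul_assoc x', hz4.sq, mul_one]
        exact h1
      · set r := z p with hr
        set s := z q with hs
        have hrT : r ∈ T := apply_mem_of_mem_supp hz.mem hpT
        have hsT : s ∈ T := apply_mem_of_mem_supp hz.mem hqT
        have hrn : ∀ t ∈ ({a, b, c, d} : Finset α), r ≠ t := fun t ht e => hd4 r hrT (e ▸ ht)
        have hsn : ∀ t ∈ ({a, b, c, d} : Finset α), s ≠ t := fun t ht e => hd4 s hsT (e ▸ ht)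
        have hrs : r ≠ s := z.injective.ne hpq
        have hfix : ∀ t ∈ ({a, b, c, d} : Finset α), (y'' * swap p q * z) t = t := by
          intro t ht
          have hz' : z t = t := hz.mem t fun h => hd4 t h ht
          rw [Perm.mul_apply, hz']
          exact hy'T.mem t fun h => hd4 t h ht
        have hconj : ∀ u v, swap u v * z = z * swap (z u) (z v) := by
          intro u v
          rw [Equiv.swap_apply_apply]
          have hzinv : z⁻¹ = z := inv_eq_of_mul_eq_one_right hz.sq
          rw [hzinv, ← mul_assoc, ← mul_assoc, hz.sq, one_mul]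
        have hza : z a = a := hz.mem a fun h => hd4 a h (by simp)
        have hzb : z b = b := hz.mem b fun h => hd4 b h (by simp)
        have hzc : z c = c := hz.mem c fun h => hd4 c h (by simp)
        have hzd : z d = d := hz.mem d fun h => hd4 d h (by simp)
        have key : y * (z * (swap a b * swap c d)) =
            y'' * swap p q * z * (swap a r * swap c a) * (swap d s * swap b d) := by
          rw [mul_assoc (y'' * swap p q * z), ← insert_identity (r := r) (s := s)
            (by simp [hrs, hrn a (by simp), hrn b (by simp), hrn c (by simp), hrn d (by simp),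
              hsn a (by simp), hsn b (by simp), hsn c (by simp), hsn d (by simp), hab, hac, had, hbc,
              hbd, hcd])]
          have hmove : z * (swap r s * (swap r a * swap b c * swap d s)) =
              swap p q * (swap p a * swap b c * swap d q) * z := by
            have f1 := hconj p q
            have f2 := hconj p a
            have f3 := hconj b c
            have f4 := hconj d q
            rw [hza] at f2; rw [hzb, hzc] at f3; rw [hzd] at f4
            simp only [mul_assoc]
            rw [f4, ← mul_assoc (swap b c) z, f3, mul_assoc z, ← mul_assoc (swap p a) z, f2,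
              mul_assoc z, ← mul_assoc (swap p q) z, f1, mul_assoc z]
          rw [← mul_assoc (y'' * swap p q * z), mul_assoc (y'' * swap p q) z, hmove]
          nth_rewrite 1 [hyprod']
          simp only [mul_assoc, Equiv.swap_mul_self_mul]
        rw [key]
        refine odd_insert (odd_insert h2 (hfix c (by simp)) (hfix a (by simp)) hac.symm
          (hrn c (by simp)) (hrn a (by simp))) ?_ ?_ hbd (hsn b (by simp)) (hsn d (by simp))
        · rw [Perm.mul_apply, Perm.mul_apply (swap a r),
            swap_apply_of_ne_of_ne hbc hab.symm, swap_apply_of_ne_of_ne hab.symm (hrn b (by simp)).symm]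
          exact hfix b (by simp)
        · rw [Perm.mul_apply, Perm.mul_apply (swap a r),
            swap_apply_of_ne_of_ne hcd.symm had.symm, swap_apply_of_ne_of_ne had.symm (hrn d (by simp)).symm]
          exact hfix d (by simp)
  push Not at hC
  -- every cycle has length four
  have four : ∀ a ∈ S, x a ≠ a → y a ≠ a → ∀ {σ τ : Perm α} {l m : ℕ} {R : Finset α}, Inv R l σ →
      Inv R m τ → σ a = x a → σ (y a) = x (y a) → τ (x a) = y (x a) → τ (y a) = a →
      ∃ c, [a, x a, c, y a].Nodup ∧ [a, x a, c, y a].toFinset ⊆ R ∧ ∃ l' m', l = 4 + l' ∧ m = 4 + m' ∧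
        Inv (R \ [a, x a, c, y a].toFinset) l' (swap c (y a) * (swap a (x a) * σ)) ∧
        Inv (R \ [a, x a, c, y a].toFinset) m' (swap (y a) a * (swap (x a) c * τ)) ∧
        σ = swap a (x a) * swap c (y a) * (swap c (y a) * (swap a (x a) * σ)) ∧
        τ = swap (x a) c * swap (y a) a * (swap (y a) a * (swap (x a) c * τ)) := by
    intro a haS hxa hya σ τ l m R hσ hτ s1 s2 t1 t2
    set b := x a with hb
    set d := y a with hd
    set c := y b with hc
    have h4 := hC a hxa hya
    rw [← hb, ← hc] at h4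
    have hxc : x c = d := by
      rw [← hy.apply_apply (x c), h4]
    have hbd : b ≠ d := hD a hxa
    have hyb : y b ≠ b := fun e => by
      rw [← hc] at e
      rw [e, hb, hx.apply_apply] at hxc
      exact hya hxc.symm
    have hac : a ≠ c := fun e => by
      rw [← e, ← hb] at hxc
      exact hbd hxc
    have hcd : c ≠ d := fun e => by
      rw [hd, hc] at e
      exact hxa (y.injective e)
    have had : a ≠ d := Ne.symm hya
    have hab : a ≠ b := Ne.symm hxa
    have hxd : x d = c := by rw [← hxc, hx.apply_apply]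
    obtain ⟨a1, b1, l1, hl1, hσ1, se1⟩ := hσ.peel s1 hab
    obtain ⟨c1, d1, l2, hl2, hσ2, se2⟩ := hσ1.peel (show (swap a b * σ) d = c by
      rw [Perm.mul_apply, s2, hxd, swap_apply_of_ne_of_ne hac.symm hyb]) hcd.symm
    obtain ⟨-, -, m1, hm1, hτ1, te1⟩ := hτ.peel t1 (Ne.symm hyb)
    obtain ⟨-, -, m2, hm2, hτ2, te2⟩ := hτ1.peel (show (swap b c * τ) d = a by
      rw [Perm.mul_apply, t2, swap_apply_of_ne_of_ne hab hac]) (Ne.symm had)
    rw [swap_comm d c] at hσ2 se2
    have hbc : b ≠ c := Ne.symm hyb
    refine ⟨c, by simp [hab, hac, had, hbc, hbd, hcd], ?_, l2, m2, by omega, by omega,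
      hσ2.mono ?_, hτ2.mono ?_, ?_, ?_⟩
    · intro t ht
      simp only [List.mem_toFinset, List.mem_cons, List.not_mem_nil, or_false] at ht
      rcases ht with rfl | rfl | rfl | rfl
      · exact a1
      · exact b1
      · exact (Finset.mem_sdiff.1 d1).1
      · exact (Finset.mem_sdiff.1 c1).1
    · intro t; simp only [Finset.mem_sdiff, Finset.mem_insert, Finset.mem_singleton, List.mem_toFinset,
        List.mem_cons, List.not_mem_nil, or_false]; tauto
    · intro t; simp only [Finset.mem_sdiff, Finset.mem_insert, Finset.mem_singleton, List.mem_toFinset,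
        List.mem_cons, List.not_mem_nil, or_false]; tauto
    · nth_rewrite 1 [se1]
      nth_rewrite 1 [se2]
      rw [← mul_assoc]
    · nth_rewrite 1 [te1]
      nth_rewrite 1 [te2]
      rw [← mul_assoc]
  by_cases hX2 : ∃ u, x u ≠ u ∧ y u = u
  · -- a pair of isolated transpositions
    obtain ⟨u, hxu, hyu⟩ := hX2
    set v := x u with hv
    have hyv : y v = v := hP u hxu hyu
    obtain ⟨w, hyw, hxw⟩ : ∃ w, y w ≠ w ∧ x w = w := by
      by_contra hcon
      push Not at hcon
      have he : y.support = x.support := Finset.eq_of_subset_of_card_le (fun t ht =>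
        Perm.mem_support.2 (hcon t (Perm.mem_support.1 ht))) (by rw [hx.card, hy.card])
      exact (Perm.mem_support.1 (he.symm ▸ Perm.mem_support.2 hxu : u ∈ y.support)) hyu
    set w' := y w with hw'
    have hxw' : x w' = w' := hP' w hyw hxw
    have huv : u ≠ v := Ne.symm hxu
    have hww : w ≠ w' := Ne.symm hyw
    have hvm : x v ≠ v := hx.moved hxu
    have hwm : y w' ≠ w' := hy.moved hyw
    have huw : u ≠ w := fun e => hxu ((congrArg x e).trans (hxw.trans e.symm))
    have huw' : u ≠ w' := fun e => hxu ((congrArg x e).trans (hxw'.trans e.symm))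
    have hvw : v ≠ w := fun e => hvm ((congrArg x e).trans (hxw.trans e.symm))
    have hvw' : v ≠ w' := fun e => hvm ((congrArg x e).trans (hxw'.trans e.symm))
    obtain ⟨huS, hvS, l, hl, hx1, hxe⟩ := hx.peel (rfl : x u = v) huv
    obtain ⟨hwS, hw'S, l', hl', hy1, hye⟩ := hy.peel (rfl : y w = w') hww
    have hll : l' = l := by omega
    rw [hll] at hy1
    set Q : Finset α := [u, v, w, w'].toFinset with hQdef
    have hQ : ∀ t, t ∈ Q ↔ t = u ∨ t = v ∨ t = w ∨ t = w' := by simp [hQdef]
    have hQS : Q ⊆ S := by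
      intro t ht
      rcases (hQ t).1 ht with rfl | rfl | rfl | rfl <;> assumption
    have hxR : Inv (S \ Q) l (swap u v * x) := ⟨hx1.sq, fun t ht => by
      by_cases htQ : t ∈ Q
      · rcases (hQ t).1 htQ with e | e | e | e <;> rw [e]
        · exact hx1.mem u (by simp [hv])
        · exact hx1.mem v (by simp [hv])
        · rw [Perm.mul_apply, hxw, swap_apply_of_ne_of_ne huw.symm hvw.symm]
        · rw [Perm.mul_apply, hxw', swap_apply_of_ne_of_ne huw'.symm hvw'.symm]
      · exact hx1.mem t (fun h => ht (Finset.mem_sdiff.2 ⟨(Finset.mem_sdiff.1 h).1, htQ⟩)), hx1.card⟩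
    have hyR : Inv (S \ Q) l (swap w w' * y) := ⟨hy1.sq, fun t ht => by
      by_cases htQ : t ∈ Q
      · rcases (hQ t).1 htQ with e | e | e | e <;> rw [e]
        · rw [Perm.mul_apply, hyu, swap_apply_of_ne_of_ne huw huw']
        · rw [Perm.mul_apply, hyv, swap_apply_of_ne_of_ne hvw hvw']
        · exact hy1.mem w (by simp [hw'])
        · exact hy1.mem w' (by simp [hw'])
      · exact hy1.mem t (fun h => ht (Finset.mem_sdiff.2 ⟨(Finset.mem_sdiff.1 h).1, htQ⟩)), hy1.card⟩
    have hnd : [u, v, w, w'].Nodup := by simp [huv, huw, huw', hvw, hvw', hww]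
    have hdQ : ∀ t ∈ Q, t ∉ S \ Q := fun t ht h => (Finset.mem_sdiff.1 h).2 ht
    rcases ih (S \ Q) l _ _ (Finset.card_lt_card ⟨Finset.sdiff_subset, fun h =>
      hdQ u ((hQ u).2 (Or.inl rfl)) (h huS)⟩) hxR hyR with ⟨hT, rfl, hne⟩ | hg
    · obtain ⟨a, ha⟩ : (S \ Q).Nonempty := Finset.card_pos.1 (by omega)
      obtain ⟨b, c, d, hndR, hTe, ex, ey⟩ := exc_shape hT hxR hyR hne ha
      have hnd8 : [a, b, c, d, u, v, w, w'].Nodup := by
        rw [show [a, b, c, d, u, v, w, w'] = [a, b, c, d] ++ [u, v, w, w'] from rfl, List.nodup_append]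
        refine ⟨hndR, hnd, fun t ht t' ht' e => hdQ t' (List.mem_toFinset.2 ht') ?_⟩
        rw [← e, ← hTe]; exact List.mem_toFinset.2 ht
      rw [hxe, hye, ex, ey, show k = 6 by omega]
      refine (gadget_four_pair hnd8).mono ?_
      rw [show [a, b, c, d, u, v, w, w'] = [a, b, c, d] ++ [u, v, w, w'] from rfl, List.toFinset_append,
        hTe]
      exact Finset.union_subset Finset.sdiff_subset hQS
    · rw [hxe, hye, hl]
      exact (Good.combine hdQ (swap_mem_supp ((hQ u).2 (by simp)) ((hQ v).2 (by simp)))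
        (swap_mem_supp ((hQ w).2 (by simp)) ((hQ w').2 (by simp))) hxR.mem hyR.mem (gadget_pair hnd) hg).mono
        (Finset.union_subset hQS Finset.sdiff_subset)
  push Not at hX2
  -- all points lie on four-cycles
  have hsame : x.support = y.support := Finset.eq_of_subset_of_card_le
    (fun t ht => Perm.mem_support.2 (hX2 t (Perm.mem_support.1 ht))) (by rw [hx.card, hy.card])
  have hmov : ∀ t ∈ S, x t ≠ t ∧ y t ≠ t := by
    intro t ht
    by_cases h : x t = t
    · have : y t = t := Perm.notMem_support.1 (hsame ▸ Perm.notMem_support.2 h)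
      exact absurd this (hB t ht h)
    · exact ⟨h, hX2 t h⟩
  by_cases hS0 : S = ∅
  · have hx1 : x = 1 := Equiv.ext fun t => hx.mem t (by simp [hS0])
    have hy1 : y = 1 := Equiv.ext fun t => hy.mem t (by simp [hS0])
    refine ⟨1, ?_, by simp [hx1], by simp [hy1]⟩
    rw [show k = 0 by rw [← hx.card, hx1]; simp]
    exact Inv.one S
  obtain ⟨a, ha⟩ := Finset.nonempty_iff_ne_empty.2 hS0
  obtain ⟨c, hnd1, hsub1, l, m, hl, hm, hx1, hy1, ex1, ey1⟩ := four a ha (hmov a ha).1 (hmov a ha).2
    hx hy rfl rfl rfl (hy.apply_apply a)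
  set Q1 : Finset α := [a, x a, c, y a].toFinset with hQ1
  have hll : m = l := by omega
  rw [hll] at hy1
  by_cases hR0 : S \ Q1 = ∅
  · exfalso
    refine hexc ⟨?_, ?_, fun e => hD a (hmov a ha).1 (by rw [e])⟩
    · have : S = Q1 := Finset.Subset.antisymm (Finset.sdiff_eq_empty_iff_subset.1 hR0) hsub1
      rw [this, List.toFinset_card_of_nodup hnd1]
      rfl
    · have h0 := hx1.support_subset
      rw [hR0, Finset.subset_empty] at h0
      have := hx1.card
      rw [h0, Finset.card_empty] at this
      omega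
  obtain ⟨a', ha'⟩ := Finset.nonempty_iff_ne_empty.2 hR0
  have ha'S := (Finset.mem_sdiff.1 ha').1
  have hdQ1 : ∀ t ∈ Q1, t ∉ S \ Q1 := fun t ht h => (Finset.mem_sdiff.1 h).2 ht
  have hagree : ∀ {σ σ' : Perm α} {g : Perm α}, g ∈ supp Q1 → σ' ∈ supp (S \ Q1) → σ = g * σ' →
      ∀ t, t ∉ Q1 → σ' t = σ t := by
    intro σ σ' g hg hσ' he t ht
    rw [he, supp_commute hdQ1 hg hσ', Perm.mul_apply, hg t ht]
  have hg1 : swap a (x a) * swap c (y a) ∈ supp Q1 :=
    mul_mem (swap_mem_supp (by simp [hQ1]) (by simp [hQ1])) (swap_mem_supp (by simp [hQ1]) (by simp [hQ1]))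
  have hh1 : swap (x a) c * swap (y a) a ∈ supp Q1 :=
    mul_mem (swap_mem_supp (by simp [hQ1]) (by simp [hQ1])) (swap_mem_supp (by simp [hQ1]) (by simp [hQ1]))
  have hx1a : ∀ t ∉ Q1, (swap c (y a) * (swap a (x a) * x)) t = x t := hagree hg1 hx1.mem ex1
  have hy1a : ∀ t ∉ Q1, (swap (y a) a * (swap (x a) c * y)) t = y t := hagree hh1 hy1.mem ey1
  have hn : a' ∉ Q1 := (Finset.mem_sdiff.1 ha').2
  have hxn : x a' ∉ Q1 := fun h => hdQ1 _ h (by
    rw [← hx1a a' hn]; exact apply_mem_of_mem_supp hx1.mem ha')
  have hyn : y a' ∉ Q1 := fun h => hdQ1 _ h (by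
    rw [← hy1a a' hn]; exact apply_mem_of_mem_supp hy1.mem ha')
  obtain ⟨c', hnd2, hsub2, l2, m2, hl2, hm2, hx2, hy2, ex2, ey2⟩ := four a' ha'S (hmov a' ha'S).1
    (hmov a' ha'S).2 hx1 hy1 (hx1a a' hn) (hx1a _ hyn) (hy1a _ hxn)
    ((hy1a _ hyn).trans (hy.apply_apply a'))
  set Q2 : Finset α := [a', x a', c', y a'].toFinset with hQ2
  have hll2 : m2 = l2 := by omega
  rw [hll2] at hy2
  have h12 : ∀ t ∈ Q1, t ∉ Q2 := fun t ht h => hdQ1 t ht (hsub2 h)
  have hnd8 : ([a, x a, c, y a] ++ [a', x a', c', y a']).Nodup := List.nodup_append.2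
    ⟨hnd1, hnd2, fun t ht t' ht' e => h12 t (List.mem_toFinset.2 ht) (List.mem_toFinset.2 (e ▸ ht'))⟩
  rcases ih ((S \ Q1) \ Q2) l2 _ _ (Finset.card_lt_card ⟨Finset.sdiff_subset.trans Finset.sdiff_subset,
    fun h => (Finset.mem_sdiff.1 (Finset.mem_sdiff.1 (h ha)).1).2 (by simp [hQ1])⟩) hx2 hy2 with
    ⟨hT, rfl, hne⟩ | hg
  · obtain ⟨i, hi⟩ : ((S \ Q1) \ Q2).Nonempty := Finset.card_pos.1 (by omega)
    obtain ⟨j, p, q, hnd3, hTe, ex3, ey3⟩ := exc_shape hT hx2 hy2 hne hi
    have hnd12 : (([a, x a, c, y a] ++ [a', x a', c', y a']) ++ [i, j, p, q]).Nodup := List.nodup_append.2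
      ⟨hnd8, hnd3, fun t ht t' ht' e => by
        have h := List.mem_toFinset.2 ht'
        rw [hTe, Finset.mem_sdiff, Finset.mem_sdiff] at h
        rcases List.mem_append.1 ht with h1 | h1
        · exact h.1.2 (e ▸ List.mem_toFinset.2 h1)
        · exact h.2 (e ▸ List.mem_toFinset.2 h1)⟩
    refine (congrArg₂ (Good S k) (ex1.trans (congrArg (_ * ·) (ex2.trans (congrArg (_ * ·) ex3))))
      (ey1.trans (congrArg (_ * ·) (ey2.trans (congrArg (_ * ·) ey3))))).mpr ?_
    rw [show k = 12 by omega]
    simp only [← mul_assoc]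
    have hg := gadget_three_fours hnd12
    simp only [← mul_assoc] at hg
    refine hg.mono ?_
    intro t ht
    rw [List.mem_toFinset] at ht
    rcases List.mem_append.1 (show t ∈ ([a, x a, c, y a] ++ [a', x a', c', y a']) ++ [i, j, p, q] from ht)
      with h | h
    · rcases List.mem_append.1 h with h | h
      · exact hsub1 (List.mem_toFinset.2 h)
      · exact (Finset.mem_sdiff.1 (hsub2 (List.mem_toFinset.2 h))).1
    · have h' := List.mem_toFinset.2 h
      rw [hTe] at h'
      exact (Finset.mem_sdiff.1 (Finset.mem_sdiff.1 h').1).1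
  · have h8 := gadget_two_fours hnd8
    have hdd : ∀ t ∈ ([a, x a, c, y a] ++ [a', x a', c', y a']).toFinset, t ∉ (S \ Q1) \ Q2 := by
      intro t ht h
      rw [List.toFinset_append, Finset.mem_union] at ht
      rw [Finset.mem_sdiff, Finset.mem_sdiff] at h
      rcases ht with h1 | h1
      · exact h.1.2 h1
      · exact h.2 h1
    refine (congrArg₂ (Good S k) (ex1.trans (congrArg (_ * ·) ex2))
      (ey1.trans (congrArg (_ * ·) ey2))).mpr ?_
    rw [show k = 8 + l2 by omega, ← mul_assoc, ← mul_assoc]
    refine (Good.combine hdd ?_ ?_ hx2.mem hy2.mem h8 hg).mono ?_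
    · simp only [mul_assoc]
      repeat' apply mul_mem
      all_goals exact swap_mem_supp (by simp) (by simp)
    · simp only [mul_assoc]
      repeat' apply mul_mem
      all_goals exact swap_mem_supp (by simp) (by simp)
    · refine Finset.union_subset ?_ (Finset.sdiff_subset.trans Finset.sdiff_subset)
      intro t ht
      rw [List.toFinset_append, Finset.mem_union] at ht
      rcases ht with h1 | h1
      · exact hsub1 h1
      · exact (Finset.mem_sdiff.1 (hsub2 h1)).1

end Cfsg.Agent.InvolGraph
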