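import Cfsg.Agent.Lib.Recog.Bochert
import Mathlib.GroupTheory.GroupAction.Blocks
import Mathlib.Data.Nat.Choose.Sum
import Mathlib.Combinatorics.Enumerative.DoubleCounting
import Mathlib.Tactic.LinearCombination

/-!
# Jordan sets and the theorem of Marggraff

A primitive group with a Jordan set of size `m`, `1 < m`, `2 m ≤ n`, is 3-transitive, and if
`2 m < n` it contains the alternating group.
-/

set_option autoImplicit false

namespace Cfsg.Agent.JordanSets

open MulAction Finset
open scoped Pointwise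

variable {G Ω : Type*} [Group G] [MulAction G Ω]

/-- A Jordan set: the pointwise stabiliser of the complement is transitive on it. -/
def IsJSet (G : Type*) {Ω : Type*} [Group G] [MulAction G Ω] (T : Finset Ω) : Prop :=
  ∀ x ∈ T, ∀ y ∈ T, ∃ g : G, (∀ z ∉ T, g • z = z) ∧ g • x = y

section Count

variable [DecidableEq Ω]

/-- The number of members containing `A`. -/
def cnt (𝒯 : Finset (Finset Ω)) (A : Finset Ω) : ℕ := (𝒯.filter fun T => A ⊆ T).card

theorem cnt_anti (𝒯 : Finset (Finset Ω)) {A B : Finset Ω} (h : A ⊆ B) : cnt 𝒯 B ≤ cnt 𝒯 A :=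
  card_le_card (monotone_filter_right _ fun _ _ hT => h.trans hT)

theorem cnt_eq (𝒯 : Finset (Finset Ω)) (hinv : ∀ g : G, ∀ T ∈ 𝒯, T.image (g • ·) ∈ 𝒯) {j : ℕ}
    (htr : IsMultiplyPretransitive G Ω j) (A B : Finset Ω) (hA : A.card = j) (hB : B.card = j) :
    cnt 𝒯 A = cnt 𝒯 B := by
  have key : ∀ A B : Finset Ω, A.card = j → B.card = j → cnt 𝒯 A ≤ cnt 𝒯 B := by
    intro A B hA hB
    let xa : Fin j ↪ Ω := (A.equivFinOfCardEq hA).symm.toEmbedding.trans (Function.Embedding.subtype _)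
    let xb : Fin j ↪ Ω := (B.equivFinOfCardEq hB).symm.toEmbedding.trans (Function.Embedding.subtype _)
    obtain ⟨g, hg⟩ := (isMultiplyPretransitive_iff.1 htr) xb xa
    have hsub : B.image (g • ·) ⊆ A := by
      intro z hz
      obtain ⟨b, hb, rfl⟩ := mem_image.1 hz
      have h := congrArg (fun e : Fin j ↪ Ω => e (B.equivFinOfCardEq hB ⟨b, hb⟩)) hg
      simp only [Function.Embedding.smul_apply] at h
      have hxb : xb (B.equivFinOfCardEq hB ⟨b, hb⟩) = b := by simp [xb]
      rw [hxb] at h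
      show g • b ∈ A
      rw [h]
      exact Subtype.coe_prop _
    refine card_le_card_of_injOn (fun T => T.image (g⁻¹ • ·)) (fun T hT => ?_) ?_
    · rw [mem_coe, mem_filter] at hT ⊢
      refine ⟨hinv _ _ hT.1, fun b hb => mem_image.2 ⟨g • b, hT.2 (hsub (mem_image_of_mem _ hb)), ?_⟩⟩
      exact inv_smul_smul g b
    · intro T _ T' _ h
      exact image_injective (MulAction.injective g⁻¹) h
  exact le_antisymm (key A B hA hB) (key B A hB hA)

variable [Fintype Ω]

theorem cnt_mul (𝒯 : Finset (Finset Ω)) (m : ℕ) (hcard : ∀ T ∈ 𝒯, T.card = m)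
    (hinv : ∀ g : G, ∀ T ∈ 𝒯, T.image (g • ·) ∈ 𝒯) {j : ℕ}
    (htr : IsMultiplyPretransitive G Ω j) (A : Finset Ω) (hA : A.card = j) :
    cnt 𝒯 A * (Fintype.card Ω).choose j = 𝒯.card * m.choose j := by
  have h := sum_card_bipartiteAbove_eq_sum_card_bipartiteBelow (fun (B T : Finset Ω) => B ⊆ T)
    (s := powersetCard j (univ : Finset Ω)) (t := 𝒯)
  have h1 : ∀ B ∈ powersetCard j (univ : Finset Ω),
      (bipartiteAbove (fun (B T : Finset Ω) => B ⊆ T) 𝒯 B).card = cnt 𝒯 A := fun B hB =>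
    cnt_eq 𝒯 hinv htr B A (mem_powersetCard.1 hB).2 hA
  have h2 : ∀ T ∈ 𝒯, (bipartiteBelow (fun (B T : Finset Ω) => B ⊆ T)
      (powersetCard j (univ : Finset Ω)) T).card = m.choose j := fun T hT => by
    rw [bipartiteBelow, ← hcard T hT, ← card_powersetCard]
    congr 1
    ext B
    simp [mem_powersetCard, and_comm]
  rw [sum_const_nat h1, sum_const_nat h2, card_powersetCard, card_univ, mul_comm] at h
  exact h

/-- All `m`-subsets. -/
abbrev allSets (Ω : Type*) [Fintype Ω] (m : ℕ) : Finset (Finset Ω) := powersetCard m univ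

theorem allSets_inv (m : ℕ) (g : Equiv.Perm Ω) (T : Finset Ω) (hT : T ∈ allSets Ω m) :
    T.image (g • ·) ∈ allSets Ω m := by
  rw [mem_powersetCard] at hT ⊢
  exact ⟨subset_univ _, by rw [card_image_of_injective _ (MulAction.injective g), hT.2]⟩

theorem allSets_pattern (m : ℕ) (K L : Finset Ω) (hKL : K ⊆ L) (hK : K.card ≤ m) :
    ((allSets Ω m).filter fun T => K ⊆ T ∧ Disjoint (L \ K) T).card =
      (Fintype.card Ω - L.card).choose (m - K.card) := by
  rw [← card_compl, ← card_powersetCard]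
  refine card_bij' (fun T _ => T \ K) (fun V _ => V ∪ K) ?_ ?_ ?_ ?_
  · intro T hT
    rw [mem_filter, mem_powersetCard] at hT
    rw [mem_powersetCard]
    refine ⟨fun z hz => ?_, by rw [card_sdiff_of_subset hT.2.1, hT.1.2]⟩
    rw [mem_compl]
    rw [mem_sdiff] at hz
    exact fun hzL => disjoint_left.1 hT.2.2 (mem_sdiff.2 ⟨hzL, hz.2⟩) hz.1
  · intro V hV
    rw [mem_powersetCard] at hV
    have hd : Disjoint V K := disjoint_left.2 fun z hz hzK => (mem_compl.1 (hV.1 hz)) (hKL hzK)
    rw [mem_filter, mem_powersetCard]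
    refine ⟨⟨subset_univ _, ?_⟩, subset_union_right, ?_⟩
    · rw [card_union_of_disjoint hd, hV.2]
      omega
    · rw [disjoint_left]
      intro z hz hzV
      rw [mem_sdiff] at hz
      rcases mem_union.1 hzV with h | h
      · exact (mem_compl.1 (hV.1 h)) hz.1
      · exact hz.2 h
  · intro T hT
    rw [mem_filter] at hT
    exact sdiff_union_of_subset hT.2.1
  · intro V hV
    rw [mem_powersetCard] at hV
    have hd : Disjoint V K := disjoint_left.2 fun z hz hzK => (mem_compl.1 (hV.1 hz)) (hKL hzK)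
    exact union_sdiff_cancel_right hd

theorem cnt_prop (𝒯 : Finset (Finset Ω)) (m : ℕ) (hcard : ∀ T ∈ 𝒯, T.card = m)
    (hinv : ∀ g : G, ∀ T ∈ 𝒯, T.image (g • ·) ∈ 𝒯) {t : ℕ}
    (htr : IsMultiplyPretransitive G Ω t) (ht : t ≤ Fintype.card Ω) (A : Finset Ω) (hA : A.card ≤ t) :
    cnt 𝒯 A * (allSets Ω m).card = cnt (allSets Ω m) A * 𝒯.card := by
  have htr' : IsMultiplyPretransitive G Ω A.card := by
    have := htr
    exact isMultiplyPretransitive_of_le hA (by rwa [Nat.card_eq_fintype_card])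
  have h1 := cnt_mul 𝒯 m hcard hinv htr' A rfl
  have h2 := cnt_mul (allSets Ω m) m (fun T hT => (mem_powersetCard.1 hT).2) (allSets_inv m)
    (Equiv.Perm.isMultiplyPretransitive Ω A.card) A rfl
  apply Nat.eq_of_mul_eq_mul_right (Nat.choose_pos (hA.trans ht))
  calc cnt 𝒯 A * (allSets Ω m).card * (Fintype.card Ω).choose A.card
      = (cnt 𝒯 A * (Fintype.card Ω).choose A.card) * (allSets Ω m).card := by ring
    _ = (cnt (allSets Ω m) A * (Fintype.card Ω).choose A.card) * 𝒯.card := by rw [h1, h2]; ring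
    _ = _ := by ring

omit [Fintype Ω] in
theorem pattern_eq_sum (𝒯 : Finset (Finset Ω)) (S : Finset Ω) (x : Ω) :
    ((𝒯.filter fun T => {x} ⊆ T ∧ Disjoint S T).card : ℤ) =
      ∑ A ∈ S.powerset, (-1 : ℤ) ^ A.card * (cnt 𝒯 (insert x A) : ℤ) := by
  simp only [cnt, card_filter, Nat.cast_sum, mul_sum]
  rw [sum_comm]
  refine sum_congr rfl fun T _ => ?_
  by_cases hx : x ∈ T
  · have h1 : ∀ A ∈ S.powerset, (-1 : ℤ) ^ A.card * ((if insert x A ⊆ T then 1 else 0 : ℕ) : ℤ) =
        if A ⊆ T then (-1 : ℤ) ^ A.card else 0 := fun A _ => by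
      by_cases hA : A ⊆ T <;> simp [insert_subset_iff, hx, hA]
    rw [sum_congr rfl h1, ← sum_filter]
    have h2 : S.powerset.filter (fun A => A ⊆ T) = (S ∩ T).powerset := by
      ext A
      simp [subset_inter_iff]
    rw [h2, sum_powerset_neg_one_pow_card]
    simp [hx, disjoint_iff_inter_eq_empty]
  · rw [sum_eq_zero fun A _ => by simp [insert_subset_iff, hx]]
    simp [hx]

theorem choose_lt_succ {N a : ℕ} (h : 2 * a + 1 < N) : N.choose a < N.choose (a + 1) := by
  have h1 := Nat.choose_succ_right_eq N a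
  have h0 : 0 < N.choose a := Nat.choose_pos (by omega)
  have h2 : N.choose a * (a + 1) < N.choose a * (N - a) :=
    Nat.mul_lt_mul_of_pos_left (by omega) h0
  rw [← h1] at h2
  exact Nat.lt_of_mul_lt_mul_right h2

/-- If `n = 2m + 1` and the group is `t`-transitive, `2 ≤ t ≤ m`, then for every point `x` and
every `t`-set `S` avoiding it some member contains `x` and avoids `S`. -/
theorem exists_avoid (𝒯 : Finset (Finset Ω)) (m : ℕ) (hn : Fintype.card Ω = 2 * m + 1)
    (hne : 𝒯.Nonempty) (hcard : ∀ T ∈ 𝒯, T.card = m)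
    (hinv : ∀ g : G, ∀ T ∈ 𝒯, T.image (g • ·) ∈ 𝒯) {t : ℕ} (ht2 : 2 ≤ t) (htm : t ≤ m)
    (htr : IsMultiplyPretransitive G Ω t) (S : Finset Ω) (hS : S.card = t) (x : Ω) (hx : x ∉ S) :
    ∃ T ∈ 𝒯, x ∈ T ∧ Disjoint S T := by
  suffices h : 0 < (𝒯.filter fun T => {x} ⊆ T ∧ Disjoint S T).card by
    obtain ⟨T, hT⟩ := card_pos.1 h
    rw [mem_filter, singleton_subset_iff] at hT
    exact ⟨T, hT⟩
  set U := allSets Ω m with hU
  obtain ⟨s, hs⟩ := card_pos.1 (show 0 < S.card by omega)
  set P := (𝒯.filter fun T => {x} ⊆ T ∧ Disjoint S T).card with hP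
  set PU := (U.filter fun T => {x} ⊆ T ∧ Disjoint S T).card with hPU
  set F := insert x S with hF
  set F' := insert x (S.erase s) with hF'
  have hFc : F.card = t + 1 := by rw [hF, card_insert_of_notMem hx, hS]
  have hF'c : F'.card = t := by
    rw [hF', card_insert_of_notMem fun h => hx (mem_of_mem_erase h), card_erase_of_mem hs, hS]
    omega
  have htn : t ≤ Fintype.card Ω := by omega
  have hprop : ∀ A : Finset Ω, A.card ≤ t → cnt 𝒯 A * U.card = cnt U A * 𝒯.card := fun A hA =>
    cnt_prop 𝒯 m hcard hinv htr htn A hA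
  have hid : (P : ℤ) * U.card - (PU : ℤ) * 𝒯.card =
      (-1 : ℤ) ^ t * ((cnt 𝒯 F : ℤ) * U.card - (cnt U F : ℤ) * 𝒯.card) := by
    rw [hP, hPU, pattern_eq_sum, pattern_eq_sum, sum_mul, sum_mul, ← sum_sub_distrib,
      sum_eq_single S]
    · rw [hS, hF]; ring
    · intro A hA hAS
      have hlt : A.card < t := hS ▸ card_lt_card
        (Finset.ssubset_iff_subset_ne.2 ⟨mem_powerset.1 hA, hAS⟩)
      have h := hprop (insert x A) ((card_insert_le _ _).trans hlt)
      have h' : (cnt 𝒯 (insert x A) : ℤ) * U.card = (cnt U (insert x A) : ℤ) * 𝒯.card := by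
        exact_mod_cast h
      linear_combination ((-1 : ℤ) ^ A.card) * h'
    · intro h; exact absurd (mem_powerset.2 Subset.rfl) h
  -- the values for the family of all sets
  have hPUv : PU = (2 * m - t).choose (m - 1) := by
    have h := allSets_pattern m {x} F (by simp [hF]) (by rw [card_singleton]; omega)
    rw [hFc, card_singleton, hn] at h
    rw [hPU, show 2 * m - t = 2 * m + 1 - (t + 1) by omega, ← h]
    congr 1
    refine filter_congr fun T _ => ?_
    rw [hF, insert_sdiff_of_mem _ (mem_singleton_self x), sdiff_singleton_eq_erase,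
      erase_eq_of_notMem hx]
  have hcU : ∀ A : Finset Ω, A.card ≤ m → cnt U A = (2 * m + 1 - A.card).choose (m - A.card) :=
    fun A hA => by
      rw [← hn, ← allSets_pattern m A A Subset.rfl hA, cnt]
      congr 1
      refine filter_congr fun T _ => ?_
      simp
  have hF'v : cnt U F' = (2 * m + 1 - t).choose (m - t) := by
    rw [hcU F' (by omega), hF'c]
  have hsym : (2 * m - t).choose (m - 1) = (2 * m - t).choose (m - t + 1) := by
    rw [← Nat.choose_symm (show m - 1 ≤ 2 * m - t by omega)]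
    congr 1
    omega
  have hlt1 : (2 * m - t).choose (m - t) < (2 * m - t).choose (m - t + 1) :=
    choose_lt_succ (by omega)
  have hU0 : (0 : ℤ) < U.card := by
    rw [hU, card_powersetCard, card_univ]
    exact_mod_cast Nat.choose_pos (by omega)
  have hT0 : (0 : ℤ) < 𝒯.card := by exact_mod_cast card_pos.2 hne
  have hFv : cnt U F + (2 * m - t).choose (m - t) = cnt U F' ∧
      cnt U F ≤ (2 * m - t).choose (m - t) := by
    rcases Nat.lt_or_ge t m with h | h
    · obtain ⟨a, ha⟩ : ∃ a, m = t + 1 + a := ⟨m - (t + 1), by omega⟩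
      rw [hcU F (by omega), hF'v, hFc, show 2 * m + 1 - (t + 1) = 2 * m - t by omega,
        show 2 * m + 1 - t = (2 * m - t) + 1 by omega, show m - (t + 1) = a by omega,
        show m - t = a + 1 by omega, Nat.choose_succ_succ']
      exact ⟨rfl, (choose_lt_succ (by omega)).le⟩
    · have h0 : cnt U F = 0 := by
        rw [cnt, card_eq_zero, filter_eq_empty_iff]
        intro T hT hFT
        have := card_le_card hFT
        rw [hFc, (mem_powersetCard.1 hT).2] at this
        omega
      rw [h0, hF'v, show m - t = 0 by omega]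
      simp
  have hPU1 : (2 * m - t).choose (m - t) < PU := by rw [hPUv, hsym]; exact hlt1
  have hanti : (cnt 𝒯 F : ℤ) * U.card ≤ (cnt U F' : ℤ) * 𝒯.card := by
    have h := hprop F' hF'c.le
    have h2 := cnt_anti 𝒯 (show F' ⊆ F from insert_subset_insert _ (erase_subset _ _))
    have h' : (cnt 𝒯 F' : ℤ) * U.card = (cnt U F' : ℤ) * 𝒯.card := by exact_mod_cast h
    rw [← h']
    exact mul_le_mul_of_nonneg_right (by exact_mod_cast h2) hU0.le
  have hpos : (0 : ℤ) < (P : ℤ) * U.card := by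
    have e1 : (cnt U F : ℤ) + ((2 * m - t).choose (m - t) : ℤ) = (cnt U F' : ℤ) := by
      exact_mod_cast hFv.1
    have e2 : (cnt U F : ℤ) ≤ ((2 * m - t).choose (m - t) : ℤ) := by exact_mod_cast hFv.2
    have e3 : ((2 * m - t).choose (m - t) : ℤ) < (PU : ℤ) := by exact_mod_cast hPU1
    have e4 : (0 : ℤ) ≤ (cnt 𝒯 F : ℤ) * U.card := by positivity
    rcases Nat.even_or_odd t with h | h
    · rw [h.neg_one_pow] at hid
      nlinarith [mul_lt_mul_of_pos_right (e2.trans_lt e3) hT0]
    · rw [h.neg_one_pow] at hid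
      nlinarith [mul_lt_mul_of_pos_right e3 hT0]
  have := pos_of_mul_pos_left hpos hU0.le
  exact_mod_cast this

end Count

section Jordan

variable [Fintype Ω] [DecidableEq Ω]

omit [Fintype Ω] in
theorem IsJSet.image {T : Finset Ω} (hT : IsJSet G T) (g : G) : IsJSet G (T.image (g • ·)) := by
  intro x hx y hy
  obtain ⟨x, hxT, rfl⟩ := mem_image.1 hx
  obtain ⟨y, hyT, rfl⟩ := mem_image.1 hy
  obtain ⟨h, hfix, rfl⟩ := hT x hxT y hyT
  refine ⟨g * h * g⁻¹, fun z hz => ?_, by simp [mul_smul]⟩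
  rw [mul_smul, mul_smul, hfix _ (fun hmem => hz (mem_image.2 ⟨_, hmem, smul_inv_smul g z⟩)),
    smul_inv_smul]

/-- All Jordan sets of size `m`. -/
noncomputable def jsets (G : Type*) (Ω : Type*) [Group G] [MulAction G Ω] [Fintype Ω] (m : ℕ) :
    Finset (Finset Ω) :=
  open Classical in (univ : Finset (Finset Ω)).filter fun T => T.card = m ∧ IsJSet G T

omit [DecidableEq Ω] in
theorem mem_jsets {m : ℕ} {T : Finset Ω} : T ∈ jsets G Ω m ↔ T.card = m ∧ IsJSet G T := by
  simp [jsets]

theorem jsets_inv (m : ℕ) (g : G) (T : Finset Ω) (hT : T ∈ jsets G Ω m) :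
    T.image (g • ·) ∈ jsets G Ω m := by
  rw [mem_jsets] at hT ⊢
  exact ⟨by rw [card_image_of_injective _ (MulAction.injective g), hT.1], hT.2.image g⟩

omit [DecidableEq Ω] in
theorem two_transitive (hprim : IsPreprimitive G Ω) {T : Finset Ω} (hT : IsJSet G T)
    (h2 : 2 ≤ T.card) (hn : T.card < Fintype.card Ω) : IsMultiplyPretransitive G Ω 2 := by
  classical
  have hnc : ((T : Set Ω)ᶜ).ncard = Fintype.card Ω - T.card := by
    rw [← coe_compl, Set.ncard_coe_finset, card_compl]
  refine hprim.is_two_pretransitive (s := (T : Set Ω)ᶜ) (n := Fintype.card Ω - T.card - 1)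
    (by omega) (by rw [Nat.card_eq_fintype_card]; omega) ⟨?_⟩
  rintro ⟨x, hx⟩ ⟨y, hy⟩
  rw [SubMulAction.mem_ofFixingSubgroup_iff, Set.mem_compl_iff, not_not] at hx hy
  obtain ⟨g, hg, hgx⟩ := hT x hx y hy
  exact ⟨⟨g, (mem_fixingSubgroup_iff G).2 fun z hz => hg z hz⟩, Subtype.ext hgx⟩

omit [DecidableEq Ω] [Fintype Ω] in
theorem restrict {T : Finset Ω} (hT : IsJSet G T) {α : Ω} (hα : α ∉ T)
    [DecidablePred (· ∈ SubMulAction.ofStabilizer G α)] :
    IsJSet (stabilizer G α) (T.subtype (· ∈ SubMulAction.ofStabilizer G α)) := by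
  rintro ⟨x, hx'⟩ hx ⟨y, hy'⟩ hy
  rw [mem_subtype] at hx hy
  obtain ⟨g, hg, hgx⟩ := hT x hx y hy
  refine ⟨⟨g, hg α hα⟩, fun z hz => Subtype.ext (hg z (by rwa [mem_subtype] at hz)), Subtype.ext hgx⟩

omit [DecidableEq Ω] [Fintype Ω] in
theorem restrict_card {T : Finset Ω} {α : Ω} (hα : α ∉ T)
    [DecidablePred (· ∈ SubMulAction.ofStabilizer G α)] :
    (T.subtype (· ∈ SubMulAction.ofStabilizer G α)).card = T.card := by
  rw [card_subtype, filter_true_of_mem]
  intro x hx
  rw [SubMulAction.mem_ofStabilizer_iff]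
  rintro rfl
  exact hα hx

theorem stabilizer_faithful [FaithfulSMul G Ω] (α : Ω) :
    FaithfulSMul (stabilizer G α) (SubMulAction.ofStabilizer G α) := by
  constructor
  rintro ⟨g, hg⟩ ⟨h, hh⟩ he
  refine Subtype.ext (eq_of_smul_eq_smul (α := Ω) fun z => ?_)
  rcases eq_or_ne z α with rfl | hz
  · exact hg.trans hh.symm
  · exact congrArg Subtype.val (he ⟨z, hz⟩)

/-- In a 2-transitive group a Jordan set of at most half the points makes the point stabiliser
primitive. -/
theorem stabilizer_primitive (h2t : IsMultiplyPretransitive G Ω 2) {T₀ : Finset Ω}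
    (hT₀ : IsJSet G T₀) (h2 : 2 ≤ T₀.card) (hhalf : 2 * T₀.card ≤ Fintype.card Ω) (α : Ω) :
    IsPreprimitive (stabilizer G α) (SubMulAction.ofStabilizer G α) := by
  classical
  have hGt : IsPretransitive G Ω := isPretransitive_of_is_two_pretransitive
  have hSt : IsPretransitive (stabilizer G α) (SubMulAction.ofStabilizer G α) :=
    is_one_pretransitive_iff.1 ((SubMulAction.ofStabilizer.isMultiplyPretransitive).1 h2t)
  set m := T₀.card with hm
  set 𝒯 := jsets G Ω m with h𝒯
  have h𝒯ne : 0 < 𝒯.card := card_pos.2 ⟨T₀, mem_jsets.2 ⟨rfl, hT₀⟩⟩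
  have hinv := jsets_inv (G := G) (Ω := Ω) m
  have hcard : ∀ T ∈ 𝒯, T.card = m := fun T hT => (mem_jsets.1 hT).1
  obtain ⟨a, ha⟩ : ∃ a, a ≠ α := by
    obtain ⟨a, ha⟩ := Finset.exists_mem_notMem_of_card_lt_card
      (show ({α} : Finset Ω).card < (univ : Finset Ω).card by
        rw [card_singleton, card_univ]; omega)
    exact ⟨a, fun h => ha.2 (mem_singleton.2 h)⟩
  refine IsPreprimitive.of_isTrivialBlock_base (⟨a, ha⟩ : SubMulAction.ofStabilizer G α)
    fun {B} haB hB => ?_
  by_contra hnt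
  rw [IsTrivialBlock, not_or] at hnt
  obtain ⟨⟨a', ha'⟩, ha'B, hne⟩ : ∃ a' ∈ B, a' ≠ (⟨a, ha⟩ : SubMulAction.ofStabilizer G α) := by
    by_contra hcon
    push Not at hcon
    exact hnt.1 fun x hx y hy => (hcon x hx).trans (hcon y hy).symm
  have hne' : a' ≠ a := fun h => hne (Subtype.ext h)
  obtain ⟨⟨c, hcα⟩, hcB⟩ : ∃ c, c ∉ B := by
    by_contra hcon
    push Not at hcon
    exact hnt.2 (Set.eq_univ_of_forall hcon)
  set Bs : Finset Ω := univ.filter fun z => ∃ hz : z ∈ SubMulAction.ofStabilizer G α, ⟨z, hz⟩ ∈ B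
    with hBs
  have haBs : a ∈ Bs := mem_filter.2 ⟨mem_univ _, ha, haB⟩
  have ha'Bs : a' ∈ Bs := mem_filter.2 ⟨mem_univ _, ha', ha'B⟩
  have hcBs : c ∉ Bs := fun h => hcB (mem_filter.1 h).2.2
  have hαBs : α ∉ Bs := fun h => (mem_filter.1 h).2.1 rfl
  -- the dichotomy
  have hdich : ∀ T ∈ 𝒯, α ∉ T → a ∈ T → T ⊆ Bs ∨ Bs ⊆ T := by
    intro T hT hαT haT
    by_contra hcon
    rw [not_or, not_subset, not_subset] at hcon
    obtain ⟨⟨y, hyT, hyB⟩, z, hzB, hzT⟩ := hcon
    obtain ⟨g, hg, hgy⟩ := (mem_jsets.1 hT).2 a haT y hyT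
    obtain ⟨hz', hzB'⟩ := (mem_filter.1 hzB).2
    let gs : stabilizer G α := ⟨g, hg α hαT⟩
    have hgB : gs • B = B := hB.smul_eq_of_mem hzB' (by
      have : gs • (⟨z, hz'⟩ : SubMulAction.ofStabilizer G α) = ⟨z, hz'⟩ := Subtype.ext (hg z hzT)
      rw [this]; exact hzB')
    have hy' : y ∈ SubMulAction.ofStabilizer G α := fun h => hαT (by
      rw [Set.mem_singleton_iff] at h; exact h ▸ hyT)
    have : (⟨y, hy'⟩ : SubMulAction.ofStabilizer G α) ∈ B := by
      rw [← hgB]
      exact ⟨⟨a, ha⟩, haB, Subtype.ext hgy⟩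
    exact hyB (mem_filter.2 ⟨mem_univ _, hy', this⟩)
  have hpairs : ∀ u v : Ω, u ≠ v → cnt 𝒯 {u, v} = cnt 𝒯 {α, a} := fun u v huv =>
    cnt_eq 𝒯 hinv h2t _ _ (card_pair huv) (card_pair (Ne.symm ha))
  have h2mul : cnt 𝒯 {α, a} * (Fintype.card Ω).choose 2 = 𝒯.card * m.choose 2 :=
    cnt_mul 𝒯 m hcard hinv h2t _ (card_pair (Ne.symm ha))
  rcases le_or_gt m Bs.card with hmb | hmb
  · -- sets meeting two blocks contain `α`
    have hca : c ≠ a := fun h => hcBs (h ▸ haBs)
    have hsub : ∀ T ∈ 𝒯, α ∈ T → a ∈ T → ∀ z, z ∉ Bs → z ∈ T := by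
      intro T hT hαT haT z hz
      have hza : z ≠ a := fun h => hz (h ▸ haBs)
      have hincl : 𝒯.filter (fun T => ({a, z} : Finset Ω) ⊆ T) ⊆
          𝒯.filter (fun T => ({α, a} : Finset Ω) ⊆ T) := by
        intro T' hT'
        rw [mem_filter, insert_subset_iff, singleton_subset_iff] at hT'
        rw [mem_filter, insert_subset_iff, singleton_subset_iff]
        refine ⟨hT'.1, ?_, hT'.2.1⟩
        by_contra hα'
        rcases hdich T' hT'.1 hα' hT'.2.1 with h | h
        · exact hz (h hT'.2.2)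
        · have heq : Bs = T' := eq_of_subset_of_card_le h (by rw [hcard T' hT'.1]; exact hmb)
          exact hz (heq ▸ hT'.2.2)
      have heq := eq_of_subset_of_card_le hincl (hpairs a z (Ne.symm hza)).ge
      have hmem : T ∈ 𝒯.filter (fun T => ({α, a} : Finset Ω) ⊆ T) :=
        mem_filter.2 ⟨hT, by rw [insert_subset_iff, singleton_subset_iff]; exact ⟨hαT, haT⟩⟩
      rw [← heq, mem_filter] at hmem
      exact hmem.2 (mem_insert_of_mem (mem_singleton_self z))
    obtain ⟨T, hT⟩ : (𝒯.filter fun T => ({α, a} : Finset Ω) ⊆ T).Nonempty := by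
      rw [← card_pos]
      by_contra h0
      rw [Nat.not_lt, Nat.le_zero] at h0
      rw [cnt, h0, zero_mul] at h2mul
      have : 0 < 𝒯.card * m.choose 2 := Nat.mul_pos h𝒯ne (Nat.choose_pos h2)
      omega
    rw [mem_filter, insert_subset_iff, singleton_subset_iff] at hT
    have hle : (insert a Bsᶜ).card ≤ m := by
      rw [← hcard T hT.1]
      exact card_le_card fun z hz => by
        rcases mem_insert.1 hz with rfl | hz
        · exact hT.2.2
        · exact hsub T hT.1 hT.2.1 hT.2.2 z (mem_compl.1 hz)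
    rw [card_insert_of_notMem (fun h => (mem_compl.1 h) haBs), card_compl] at hle
    have hBn : B.ncard = Bs.card := by
      rw [← Set.ncard_image_of_injective B Subtype.val_injective, ← Set.ncard_coe_finset]
      congr 1
      ext z
      simp only [Set.mem_image, hBs, coe_filter, mem_univ, true_and, Set.mem_ofPred_eq]
      constructor
      · rintro ⟨⟨w, hw⟩, hwB, rfl⟩; exact ⟨hw, hwB⟩
      · rintro ⟨hz, hzB⟩; exact ⟨⟨z, hz⟩, hzB, rfl⟩
    have hdvd := hB.ncard_dvd_card ⟨⟨a, ha⟩, haB⟩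
    rw [hBn, SubMulAction.nat_card_ofStabilizer_eq G α, Nat.card_eq_fintype_card] at hdvd
    obtain ⟨k, hk⟩ := hdvd
    have hlt : Bs.card < Fintype.card Ω - 1 := by
      have hsub' : Bs ⊆ ((univ : Finset Ω).erase α).erase c := fun z hz => by
        refine mem_erase.2 ⟨fun h => hcBs (h ▸ hz), mem_erase.2 ⟨fun h => hαBs (h ▸ hz), mem_univ z⟩⟩
      have := card_le_card hsub'
      rw [card_erase_of_mem (mem_erase.2 ⟨hcα, mem_univ c⟩), card_erase_of_mem (mem_univ α),
        card_univ] at this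
      omega
    rcases k with _ | _ | k
    · omega
    · omega
    · have : 2 * Bs.card ≤ Fintype.card Ω - 1 := by
        rw [hk, mul_comm 2]
        exact Nat.mul_le_mul_left _ (by omega)
      omega
  · -- large sets
    have hcover : 𝒯.filter (fun T => ({a} : Finset Ω) ⊆ T) ⊆
        𝒯.filter (fun T => ({a, a'} : Finset Ω) ⊆ T) ∪ 𝒯.filter (fun T => ({α, a} : Finset Ω) ⊆ T) := by
      intro T hT
      rw [mem_filter, singleton_subset_iff] at hT
      rw [mem_union, mem_filter, mem_filter, insert_subset_iff, insert_subset_iff,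
        singleton_subset_iff, singleton_subset_iff]
      by_cases hαT : α ∈ T
      · exact Or.inr ⟨hT.1, hαT, hT.2⟩
      refine Or.inl ⟨hT.1, hT.2, ?_⟩
      rcases hdich T hT.1 hαT hT.2 with h | h
      · have := card_le_card h
        rw [hcard T hT.1] at this
        omega
      · exact h ha'Bs
    have h1le : cnt 𝒯 {a} ≤ 2 * cnt 𝒯 {α, a} := by
      calc cnt 𝒯 {a} ≤ _ := card_le_card hcover
        _ ≤ _ := card_union_le _ _
        _ = 2 * cnt 𝒯 {α, a} := by
          rw [show (𝒯.filter fun T => ({a, a'} : Finset Ω) ⊆ T).card = cnt 𝒯 {α, a} from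
            hpairs a a' (Ne.symm hne')]
          rw [cnt]; ring
    have h1mul : cnt 𝒯 {a} * Fintype.card Ω = 𝒯.card * m := by
      have h := cnt_mul 𝒯 m hcard hinv (is_one_pretransitive_iff.2 hGt) {a} (card_singleton a)
      rwa [Nat.choose_one_right, Nat.choose_one_right] at h
    obtain ⟨n', hn'⟩ : ∃ n', Fintype.card Ω = n' + 1 := ⟨Fintype.card Ω - 1, by omega⟩
    obtain ⟨m', hm'⟩ : ∃ m', m = m' + 1 := ⟨m - 1, by omega⟩
    have e1 : (Fintype.card Ω).choose 2 * 2 = (n' + 1) * n' := by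
      have h := Nat.choose_succ_right_eq (Fintype.card Ω) 1
      rw [Nat.choose_one_right, hn', Nat.add_sub_cancel] at h
      rw [hn']; exact h
    have e2 : m.choose 2 * 2 = (m' + 1) * m' := by
      have h := Nat.choose_succ_right_eq m 1
      rw [Nat.choose_one_right, hm', Nat.add_sub_cancel] at h
      rw [hm']; exact h
    have key : 𝒯.card * m * n' ≤ 𝒯.card * m * (2 * m') := by
      calc 𝒯.card * m * n' = cnt 𝒯 {a} * ((n' + 1) * n') := by rw [← h1mul, hn']; ring
        _ ≤ 2 * cnt 𝒯 {α, a} * ((n' + 1) * n') := Nat.mul_le_mul_right _ h1le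
        _ = 2 * (cnt 𝒯 {α, a} * (Fintype.card Ω).choose 2) * 2 := by rw [← e1]; ring
        _ = 2 * 𝒯.card * (m.choose 2 * 2) := by rw [h2mul]; ring
        _ = 𝒯.card * m * (2 * m') := by rw [e2, hm']; ring
    have := Nat.le_of_mul_le_mul_left key (Nat.mul_pos h𝒯ne (by omega))
    omega

theorem three_transitive (hprim : IsPreprimitive G Ω) {T : Finset Ω} (hT : IsJSet G T)
    (h2 : 2 ≤ T.card) (hhalf : 2 * T.card ≤ Fintype.card Ω) : IsMultiplyPretransitive G Ω 3 := by
  classical
  have h2t := two_transitive hprim hT h2 (by omega)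
  have hGt : IsPretransitive G Ω := isPretransitive_of_is_two_pretransitive
  obtain ⟨α, -, hα⟩ := exists_mem_notMem_of_card_lt_card
    (show T.card < (univ : Finset Ω).card by rw [card_univ]; omega)
  have := Fintype.ofFinite (SubMulAction.ofStabilizer G α)
  rw [SubMulAction.ofStabilizer.isMultiplyPretransitive (a := α)]
  refine two_transitive (stabilizer_primitive h2t hT h2 hhalf α) (restrict hT hα)
    (by rw [restrict_card hα]; exact h2) ?_
  rw [restrict_card hα, ← Nat.card_eq_fintype_card, SubMulAction.nat_card_ofStabilizer_eq,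
    Nat.card_eq_fintype_card]
  omega

/-- From `t`-transitivity and transitivity of all `t`-point stabilisers on the rest. -/
theorem succ_transitive {t : ℕ} (htr : IsMultiplyPretransitive G Ω t)
    (h : ∀ S : Finset Ω, S.card = t → ∀ x ∉ S, ∀ y ∉ S, ∃ g : G, (∀ s ∈ S, g • s = s) ∧ g • x = y) :
    IsMultiplyPretransitive G Ω (t + 1) := by
  rw [isMultiplyPretransitive_iff]
  intro u v
  let u' : Fin t ↪ Ω := Fin.castSuccEmb.trans u
  let v' : Fin t ↪ Ω := Fin.castSuccEmb.trans v
  obtain ⟨g, hg⟩ := (isMultiplyPretransitive_iff.1 htr) u' v'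
  have hg' : ∀ i : Fin t, g • u i.castSucc = v i.castSucc := fun i =>
    congrArg (fun e : Fin t ↪ Ω => e i) hg
  set S : Finset Ω := univ.map v' with hS
  have hnot : ∀ y, (∀ i : Fin t, v i.castSucc ≠ y) → y ∉ S := fun y hy hmem => by
    obtain ⟨i, -, hi⟩ := mem_map.1 hmem
    exact hy i hi
  obtain ⟨k, hk, hkx⟩ := h S (by rw [hS, card_map, card_univ, Fintype.card_fin])
    (g • u (Fin.last t)) (hnot _ fun i he => by
      rw [← hg' i] at he
      exact (Fin.castSucc_lt_last i).ne (u.injective (smul_left_cancel g he)))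
    (v (Fin.last t)) (hnot _ fun i he => (Fin.castSucc_lt_last i).ne (v.injective he))
  refine ⟨k * g, Function.Embedding.ext fun i => ?_⟩
  rw [Function.Embedding.smul_apply, mul_smul]
  rcases Fin.eq_castSucc_or_eq_last i with ⟨i, rfl⟩ | rfl
  · rw [hg' i]
    exact hk _ (mem_map.2 ⟨i, mem_univ _, rfl⟩)
  · exact hkx

theorem half_case [FaithfulSMul G Ω] (hprim : IsPreprimitive G Ω) {T₀ : Finset Ω}
    (hT₀ : IsJSet G T₀) (h2 : 2 ≤ T₀.card) (hn : Fintype.card Ω = 2 * T₀.card + 1) :
    alternatingGroup Ω ≤ (toPermHom G Ω).range := by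
  set m := T₀.card with hm
  set 𝒯 := jsets G Ω m with h𝒯
  have hne : 𝒯.Nonempty := ⟨T₀, mem_jsets.2 ⟨rfl, hT₀⟩⟩
  have hall : ∀ k, 2 + k ≤ m + 1 → IsMultiplyPretransitive G Ω (2 + k) := by
    intro k
    induction k with
    | zero => exact fun _ => two_transitive hprim hT₀ h2 (by omega)
    | succ k ih =>
      intro hk
      have htr := ih (by omega)
      refine succ_transitive htr fun S hS x hx y hy => ?_
      obtain ⟨Tx, hTx, hxT, hdx⟩ := exists_avoid 𝒯 m hn hne (fun T hT => (mem_jsets.1 hT).1)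
        (jsets_inv m) (by omega) (by omega) htr S hS x hx
      obtain ⟨Ty, hTy, hyT, hdy⟩ := exists_avoid 𝒯 m hn hne (fun T hT => (mem_jsets.1 hT).1)
        (jsets_inv m) (by omega) (by omega) htr S hS y hy
      obtain ⟨w, hwx, hwy⟩ : ∃ w, w ∈ Tx ∧ w ∈ Ty := by
        by_contra hcon
        push Not at hcon
        have hd : Disjoint Tx Ty := disjoint_left.2 hcon
        have hle := (S ∪ (Tx ∪ Ty)).card_le_univ
        rw [card_union_of_disjoint (disjoint_union_right.2 ⟨hdx, hdy⟩), card_union_of_disjoint hd,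
          (mem_jsets.1 hTx).1, (mem_jsets.1 hTy).1, hS, hn] at hle
        simp only [Nat.add_eq] at hle
        omega
      obtain ⟨g₁, hg₁, hg₁x⟩ := (mem_jsets.1 hTx).2 x hxT w hwx
      obtain ⟨g₂, hg₂, hg₂y⟩ := (mem_jsets.1 hTy).2 w hwy y hyT
      refine ⟨g₂ * g₁, fun s hs => ?_, by rw [mul_smul, hg₁x, hg₂y]⟩
      rw [mul_smul, hg₁ s (disjoint_left.1 hdx hs), hg₂ s (disjoint_left.1 hdy hs)]
  have htop : IsMultiplyPretransitive G Ω (m + 1) := by
    have h := hall (m - 1) (by omega)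
    rwa [show 2 + (m - 1) = m + 1 by omega] at h
  obtain ⟨g, hg⟩ := Bochert.exists_threeCycle (G := G) (Ω := Ω) fun D hD => by
    by_contra hle
    have hDm : D.card ≤ m := by omega
    obtain ⟨S, hDS, -, hSc⟩ := exists_subsuperset_card_eq (subset_univ D) hDm
      (by rw [card_univ]; omega)
    obtain ⟨x, hxmem⟩ := card_pos.1 (show 0 < Sᶜ.card by rw [card_compl]; omega)
    obtain ⟨y, hymem, hyx⟩ := exists_mem_ne (show 1 < Sᶜ.card by rw [card_compl]; omega) x
    rw [mem_compl] at hxmem hymem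
    -- move `x` to `y` fixing `S`
    let e : Fin m ↪ Ω := (S.equivFinOfCardEq hSc).symm.toEmbedding.trans (Function.Embedding.subtype _)
    let u : Fin (m + 1) ↪ Ω := ⟨Fin.snoc e x, by
      rw [Fin.snoc_injective_iff]
      exact ⟨e.injective, by rintro ⟨i, hi⟩; exact hxmem (hi ▸ Subtype.coe_prop _)⟩⟩
    let v : Fin (m + 1) ↪ Ω := ⟨Fin.snoc e y, by
      rw [Fin.snoc_injective_iff]
      exact ⟨e.injective, by rintro ⟨i, hi⟩; exact hymem (hi ▸ Subtype.coe_prop _)⟩⟩
    obtain ⟨g, hg⟩ := (isMultiplyPretransitive_iff.1 htop) u v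
    have hgi : ∀ i, g • u i = v i := fun i => congrArg (fun e : Fin (m + 1) ↪ Ω => e i) hg
    have hfix : ∀ z ∈ D, g • z = z := fun z hz => by
      have h := hgi (Fin.castSucc (S.equivFinOfCardEq hSc ⟨z, hDS hz⟩))
      simpa [u, v, e] using h
    have h := hgi (Fin.last m)
    rw [hD g hfix, one_smul] at h
    exact hyx (by simpa [u, v] using h.symm)
  exact Bochert.alternating_le hprim hg

end Jordan

universe u v

theorem marggraff : ∀ (n : ℕ) (G : Type u) (Ω : Type v) [Group G] [MulAction G Ω] [FaithfulSMul G Ω]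
    [Fintype Ω] [DecidableEq Ω], Fintype.card Ω = n → IsPreprimitive G Ω →
    ∀ T : Finset Ω, IsJSet G T → 2 ≤ T.card → 2 * T.card < Fintype.card Ω →
      alternatingGroup Ω ≤ (toPermHom G Ω).range := by
  intro n
  induction n with
  | zero => intro G Ω _ _ _ _ _ hn _ T _ _ h; omega
  | succ n ih =>
    intro G Ω _ _ _ _ _ hn hprim T hT h2 hlt
    by_cases heq : Fintype.card Ω = 2 * T.card + 1
    · exact half_case hprim hT h2 heq
    classical
    obtain ⟨α, -, hα⟩ := exists_mem_notMem_of_card_lt_card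
      (show T.card < (univ : Finset Ω).card by rw [card_univ]; omega)
    have := Fintype.ofFinite (SubMulAction.ofStabilizer G α)
    have := stabilizer_faithful (G := G) α
    have hc : Fintype.card (SubMulAction.ofStabilizer G α) = n := by
      rw [← Nat.card_eq_fintype_card, SubMulAction.nat_card_ofStabilizer_eq,
        Nat.card_eq_fintype_card]
      omega
    have hA := ih (stabilizer G α) (SubMulAction.ofStabilizer G α) hc
      (stabilizer_primitive (two_transitive hprim hT h2 (by omega)) hT h2 hlt.le α) _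
      (restrict hT hα) (by rw [restrict_card hα]; exact h2)
      (by rw [restrict_card hα, hc]; omega)
    obtain ⟨σ, hσ⟩ : ∃ σ : Equiv.Perm (SubMulAction.ofStabilizer G α), σ.IsThreeCycle := by
      obtain ⟨s, -, hs⟩ := exists_subset_card_eq (s := (univ : Finset (SubMulAction.ofStabilizer G α)))
        (n := 3) (by rw [card_univ, hc]; omega)
      obtain ⟨x, y, z, hxy, hxz, hyz, -⟩ := card_eq_three.1 hs
      exact ⟨_, Equiv.Perm.isThreeCycle_swap_mul_swap_same hxy hxz hyz⟩
    obtain ⟨g, hg⟩ := hA (Equiv.Perm.IsThreeCycle.sign hσ)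
    refine Bochert.alternating_le hprim (g := (g : G)) ?_
    have heq' : (toPerm (g : G) : Equiv.Perm Ω) = Equiv.Perm.ofSubtype σ := by
      ext z
      by_cases hz : z ∈ SubMulAction.ofStabilizer G α
      · rw [Equiv.Perm.ofSubtype_apply_of_mem σ hz, ← hg]
        rfl
      · rw [Equiv.Perm.ofSubtype_apply_of_not_mem σ hz]
        rw [SubMulAction.mem_ofStabilizer_iff, not_not] at hz
        subst hz
        exact g.2
    rw [heq', Equiv.Perm.IsThreeCycle, ← hσ.cycleType]
    exact Equiv.Perm.cycleType_ofSubtype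

end Cfsg.Agent.JordanSets
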