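import Cfsg.Agent.Lib.Recog.JordanSets
import Mathlib.GroupTheory.SpecificGroups.Alternating.Simple

/-!
# Quasiprimitive groups with small Jordan sets
-/

set_option autoImplicit false

namespace Cfsg.Agent.JordanSets

open MulAction
open scoped Pointwise

/-- If `G` is faithful on `β` and induces all even permutations, then a subgroup `K` which is
normalised by the stabiliser of `c`, fixes `c` and is non-trivial contains every element whose
permutation is even and fixes `c`. -/
theorem even_mem {G β : Type*} [Group G] [MulAction G β] [FaithfulSMul G β] [Fintype β]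
    [DecidableEq β] (hA : alternatingGroup β ≤ (toPermHom G β).range) (hk : 6 ≤ Fintype.card β)
    (c : β) (K : Subgroup G) (hKc : ∀ g ∈ K, g • c = c)
    (hKn : ∀ t : G, t • c = c → ∀ g ∈ K, t * g * t⁻¹ ∈ K) (hKne : ∃ g ∈ K, g ≠ 1)
    (g : G) (hg : Equiv.Perm.sign (toPerm g : Equiv.Perm β) = 1) (hgc : g • c = c) : g ∈ K := by
  classical
  let ι : alternatingGroup {x : β // x ≠ c} →* Equiv.Perm β :=
    (Equiv.Perm.ofSubtype (p := fun x => x ≠ c)).comp (alternatingGroup {x : β // x ≠ c}).subtype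
  let N : Subgroup (alternatingGroup {x : β // x ≠ c}) := (K.map (toPermHom G β)).comap ι
  have hlift : ∀ τ : alternatingGroup {x : β // x ≠ c},
      ∃ t : G, (toPerm t : Equiv.Perm β) = ι τ ∧ t • c = c := by
    intro τ
    have hev : ι τ ∈ alternatingGroup β := by
      show Equiv.Perm.sign (Equiv.Perm.ofSubtype (τ : Equiv.Perm {x : β // x ≠ c})) = 1
      rw [Equiv.Perm.sign_ofSubtype]
      exact τ.2
    obtain ⟨t, ht⟩ := hA hev
    refine ⟨t, ht, ?_⟩
    have h := congrArg (fun e : Equiv.Perm β => e c) ht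
    exact h.trans (Equiv.Perm.ofSubtype_apply_of_not_mem _ (by simp))
  have hN : N.Normal := by
    constructor
    intro s hs τ
    obtain ⟨k, hk', hks⟩ := Subgroup.mem_map.1 hs
    obtain ⟨t, ht, htc⟩ := hlift τ
    refine Subgroup.mem_map.2 ⟨t * k * t⁻¹, hKn t htc k hk', ?_⟩
    rw [map_mul, map_mul, map_inv, hks, map_mul, map_mul, map_inv, ← ht]
    rfl
  have hW : 5 ≤ Fintype.card {x : β // x ≠ c} := by
    rw [Fintype.card_subtype_compl, Fintype.card_subtype_eq]
    omega
  have hNne : N ≠ ⊥ := by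
    obtain ⟨k, hk', hk1⟩ := hKne
    obtain ⟨a, ha⟩ : ∃ a, k • a ≠ a := by
      by_contra hcon
      push Not at hcon
      exact hk1 (eq_of_smul_eq_smul (α := β) fun a => by rw [hcon a, one_smul])
    have hac : a ≠ c := fun h => ha (h ▸ hKc k hk')
    have hbc : k • a ≠ c := fun h => hac (smul_left_cancel k (h.trans (hKc k hk').symm))
    obtain ⟨d, hd, d', hd', hdd⟩ := Finset.one_lt_card.1
      (show 1 < ({a, k • a, c} : Finset β)ᶜ.card by
        rw [Finset.card_compl]
        have := Finset.card_le_three (a := a) (b := k • a) (c := c)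
        omega)
    simp only [Finset.mem_compl, Finset.mem_insert, Finset.mem_singleton, not_or] at hd hd'
    let w : {x : β // x ≠ c} := ⟨k • a, hbc⟩
    let wd : {x : β // x ≠ c} := ⟨d, hd.2.2⟩
    let wd' : {x : β // x ≠ c} := ⟨d', hd'.2.2⟩
    have h1 : w ≠ wd := fun h => hd.2.1 (congrArg Subtype.val h).symm
    have h2 : w ≠ wd' := fun h => hd'.2.1 (congrArg Subtype.val h).symm
    have h3 : wd ≠ wd' := fun h => hdd (congrArg Subtype.val h)
    let τ : alternatingGroup {x : β // x ≠ c} := ⟨_,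
      (Equiv.Perm.isThreeCycle_swap_mul_swap_same h1 h2 h3).sign⟩
    obtain ⟨t, ht, htc⟩ := hlift τ
    have hval : ∀ x (hx : x ≠ c), t • x =
        ((Equiv.swap w wd * Equiv.swap w wd' : Equiv.Perm _) ⟨x, hx⟩ : {x : β // x ≠ c}) := by
      intro x hx
      have h := congrArg (fun e : Equiv.Perm β => e x) ht
      exact h.trans (Equiv.Perm.ofSubtype_apply_of_mem (p := fun y => y ≠ c) (τ : Equiv.Perm {x : β // x ≠ c}) (a := x) hx)
    have hta : t • a = a := by
      have haw : (⟨a, hac⟩ : {x : β // x ≠ c}) ≠ w := fun h => ha (congrArg Subtype.val h).symm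
      have had : (⟨a, hac⟩ : {x : β // x ≠ c}) ≠ wd := fun h => hd.1 (congrArg Subtype.val h).symm
      have had' : (⟨a, hac⟩ : {x : β // x ≠ c}) ≠ wd' := fun h => hd'.1 (congrArg Subtype.val h).symm
      rw [hval a hac, Equiv.Perm.mul_apply, Equiv.swap_apply_of_ne_of_ne haw had',
        Equiv.swap_apply_of_ne_of_ne haw had]
    have htb : t • (k • a) ≠ k • a := by
      rw [hval _ hbc]
      intro h
      rw [Equiv.Perm.mul_apply, Equiv.swap_apply_left,
        Equiv.swap_apply_of_ne_of_ne h2.symm h3.symm] at h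
      exact hd'.2.1 h
    -- the commutator
    let kc : Equiv.Perm {x : β // x ≠ c} :=
      (toPerm (t * k * t⁻¹ * k⁻¹) : Equiv.Perm β).subtypePerm fun x => by
        have hfix : (t * k * t⁻¹ * k⁻¹) • c = c := hKc _ (K.mul_mem (hKn t htc k hk') (K.inv_mem hk'))
        show (t * k * t⁻¹ * k⁻¹) • x ≠ c ↔ x ≠ c
        rw [not_iff_not]
        exact ⟨fun h => smul_left_cancel _ (h.trans hfix.symm), fun h => h ▸ hfix⟩
    have hkc : Equiv.Perm.ofSubtype kc = (toPerm (t * k * t⁻¹ * k⁻¹) : Equiv.Perm β) :=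
      Equiv.Perm.ofSubtype_subtypePerm _ fun x hx hxc => hx (by
        subst hxc; exact hKc _ (K.mul_mem (hKn t htc k hk') (K.inv_mem hk')))
    have hev : kc ∈ alternatingGroup {x : β // x ≠ c} := by
      show Equiv.Perm.sign kc = 1
      rw [← Equiv.Perm.sign_ofSubtype, hkc,
        show (toPerm (t * k * t⁻¹ * k⁻¹) : Equiv.Perm β) =
          toPermHom G β (t * k * t⁻¹ * k⁻¹) from rfl]
      simp only [map_mul, map_inv, Int.units_inv_eq_self]
      rw [mul_right_comm (Equiv.Perm.sign (toPermHom G β t)), Int.units_mul_self, one_mul, Int.units_mul_self]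
    intro hbot
    have hmem : (⟨kc, hev⟩ : alternatingGroup {x : β // x ≠ c}) ∈ N :=
      Subgroup.mem_map.2 ⟨_, K.mul_mem (hKn t htc k hk') (K.inv_mem hk'), hkc.symm⟩
    rw [hbot, Subgroup.mem_bot] at hmem
    have h1' : (toPerm (t * k * t⁻¹ * k⁻¹) : Equiv.Perm β) = 1 := by
      rw [← hkc, show kc = 1 from congrArg Subtype.val hmem, map_one]
    have h4 := congrArg (fun e : Equiv.Perm β => e (k • a)) h1'
    simp only [toPerm_apply, Equiv.Perm.one_apply, mul_smul, inv_smul_smul] at h4
    have hta' : t⁻¹ • a = a := inv_smul_eq_iff.2 hta.symm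
    rw [hta'] at h4
    exact htb h4
  have hsimple : IsSimpleGroup (alternatingGroup {x : β // x ≠ c}) := by
    apply alternatingGroup.isSimpleGroup
    rwa [Nat.card_eq_fintype_card]
  have htop : N = ⊤ := (hN.eq_bot_or_eq_top).resolve_left hNne
  let gs : Equiv.Perm {x : β // x ≠ c} := (toPerm g : Equiv.Perm β).subtypePerm fun x => by
    show g • x ≠ c ↔ x ≠ c
    rw [not_iff_not]
    exact ⟨fun h => smul_left_cancel g (h.trans hgc.symm), fun h => h ▸ hgc⟩
  have hgs : Equiv.Perm.ofSubtype gs = (toPerm g : Equiv.Perm β) :=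
    Equiv.Perm.ofSubtype_subtypePerm _ fun x hx hxc => hx (by subst hxc; exact hgc)
  have hgev : gs ∈ alternatingGroup {x : β // x ≠ c} := by
    show Equiv.Perm.sign gs = 1
    rw [← Equiv.Perm.sign_ofSubtype, hgs, hg]
  have hmem : (⟨gs, hgev⟩ : alternatingGroup {x : β // x ≠ c}) ∈ N := htop ▸ Subgroup.mem_top _
  obtain ⟨k, hk', hkg⟩ := Subgroup.mem_map.1 hmem
  have : k = g := toPerm_injective (α := G) (β := β) (hkg.trans hgs)
  exact this ▸ hk'

universe u v

theorem quasiprimitive : ∀ (n : ℕ) (G : Type u) (Ω : Type v) [Group G] [MulAction G Ω]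
    [FaithfulSMul G Ω] [Fintype Ω] [DecidableEq Ω], Fintype.card Ω = n →
    (∀ N : Subgroup G, N.Normal → N ≠ ⊥ → IsPretransitive N Ω) →
    ∀ T : Finset Ω, IsJSet G T → 2 ≤ T.card → 2 * T.card < Fintype.card Ω →
      alternatingGroup Ω ≤ (toPermHom G Ω).range := by
  intro n
  induction n using Nat.strong_induction_on with
  | _ n ih =>
    intro G Ω _ _ _ _ _ hn hqp T hT h2 hlt
    classical
    obtain ⟨x, hxT, y, hyT, hxy⟩ := Finset.one_lt_card.1 h2
    obtain ⟨h₀, hh₀, hh₀x⟩ := hT x hxT y hyT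
    have hh₀1 : h₀ ≠ 1 := fun h => hxy (by rw [← hh₀x, h, one_smul])
    have htop : (⊤ : Subgroup G) ≠ ⊥ := fun h => hh₀1 (by
      simpa [h] using Subgroup.mem_top h₀)
    have hGt : IsPretransitive G Ω := by
      have := hqp ⊤ inferInstance htop
      exact ⟨fun a b => by
        obtain ⟨g, hg⟩ := exists_smul_eq (⊤ : Subgroup G) a b
        exact ⟨(g : G), hg⟩⟩
    by_cases hprim : IsPreprimitive G Ω
    · exact marggraff n G Ω hn hprim T hT h2 hlt
    obtain ⟨B, hB, hBnt⟩ : ∃ B : Set Ω, IsBlock G B ∧ ¬ IsTrivialBlock B := by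
      by_contra hcon
      push Not at hcon
      exact hprim (IsPreprimitive.mk fun {B} hB => hcon B hB)
    rw [IsTrivialBlock, not_or] at hBnt
    obtain ⟨p, hp, q, hq, hpq⟩ := (Set.not_subsingleton_iff.1 hBnt.1)
    let β := orbit G B
    have : Fintype β := Fintype.ofFinite _
    have hcover : ∀ z : Ω, ∃ C : β, z ∈ (C : Set Ω) := fun z => by
      obtain ⟨g, rfl⟩ := exists_smul_eq G p z
      exact ⟨⟨g • B, mem_orbit _ _⟩, Set.smul_mem_smul_set hp⟩
    have huniq : ∀ (C D : β) (z : Ω), z ∈ (C : Set Ω) → z ∈ (D : Set Ω) → C = D := by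
      rintro ⟨-, g, rfl⟩ ⟨-, g', rfl⟩ z hzC hzD
      refine Subtype.ext ?_
      by_contra hne
      exact Set.disjoint_left.1 ((hB.smul_eq_smul_or_disjoint g g').resolve_left hne) hzC hzD
    have hsmulmem : ∀ (g : G) (C : β) (z : Ω), g • z ∈ ((g • C : β) : Set Ω) ↔ z ∈ (C : Set Ω) :=
      fun g C z => Set.smul_mem_smul_set_iff
    have hCpts : ∀ C : β, ∃ u v : Ω, u ∈ (C : Set Ω) ∧ v ∈ (C : Set Ω) ∧ u ≠ v := by
      rintro ⟨-, g, rfl⟩
      exact ⟨g • p, g • q, Set.smul_mem_smul_set hp, Set.smul_mem_smul_set hq,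
        fun h => hpq (smul_left_cancel g h)⟩
    have hproper : ∀ C : β, (C : Set Ω) ≠ Set.univ := by
      rintro ⟨-, g, rfl⟩ h
      exact hBnt.2 ((smul_left_cancel_iff g).1 (h.trans Set.smul_set_univ.symm))
    have hmove : ∀ (g : G) (C D : β) (z : Ω), z ∈ (C : Set Ω) → g • z ∈ (D : Set Ω) → g • C = D :=
      fun g C D z hz hgz => huniq _ _ _ ((hsmulmem g C z).2 hz) hgz
    have hfaith : FaithfulSMul G β := by
      constructor
      intro g g' hgg
      let Kr := (toPermHom G β).ker
      have hmem : g'⁻¹ * g ∈ Kr := MonoidHom.mem_ker.2 (Equiv.ext fun C => by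
        show (g'⁻¹ * g) • C = C
        rw [mul_smul, hgg C, inv_smul_smul])
      by_contra hne
      have hKr : Kr ≠ ⊥ := fun h => hne (by
        rw [h, Subgroup.mem_bot, inv_mul_eq_one] at hmem
        exact hmem.symm)
      have htr := hqp Kr inferInstance hKr
      obtain ⟨z, hz⟩ := (Set.ne_univ_iff_exists_notMem B).1 hBnt.2
      obtain ⟨k, hk⟩ := exists_smul_eq Kr p z
      have hkB : (k : G) • (⟨B, mem_orbit_self B⟩ : β) = ⟨B, mem_orbit_self B⟩ :=
        congrArg (fun e : Equiv.Perm β => e ⟨B, mem_orbit_self B⟩) (MonoidHom.mem_ker.1 k.2)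
      have h' := (hsmulmem (k : G) ⟨B, mem_orbit_self B⟩ p).2 hp
      rw [hkB] at h'
      exact hz (hk ▸ h')
    have hdich : ∀ (C : β) (z w : Ω), z ∈ (C : Set Ω) → z ∉ T → w ∈ (C : Set Ω) → w ∈ T →
        ∀ u ∈ T, u ∈ (C : Set Ω) := by
      intro C z w hz hzT hw hwT u hu
      obtain ⟨g, hg, rfl⟩ := hT w hwT u hu
      have h := hmove g C C z hz (by rw [hg z hzT]; exact hz)
      have h' := (hsmulmem g C w).2 hw
      rwa [h] at h'
    have hnotin : ∀ C : β, ∃ u ∈ T, u ∉ (C : Set Ω) := by
      intro C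
      by_contra hcon
      push Not at hcon
      apply hh₀1
      refine hfaith.eq_of_smul_eq_smul fun D => ?_
      rw [one_smul]
      rcases eq_or_ne D C with rfl | hDC
      · exact hmove h₀ D D x (hcon x hxT) (by rw [hh₀x]; exact hcon y hyT)
      · obtain ⟨u, -, hu, -, -⟩ := hCpts D
        refine hmove h₀ D D u hu ?_
        rw [hh₀ u fun huT => hDC (huniq _ _ u hu (hcon u huT))]
        exact hu
    have hside : ∀ (C : β) (z w : Ω), z ∈ (C : Set Ω) → w ∈ (C : Set Ω) → z ∈ T → w ∈ T := by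
      intro C z w hz hw hzT
      by_contra hwT
      obtain ⟨u, hu, huC⟩ := hnotin C
      exact huC (hdich C w z hw hwT hz hzT u hu)
    let TB : Finset β := Finset.univ.filter fun C => ∃ z, z ∈ (C : Set Ω) ∧ z ∈ T
    have hTB : IsJSet G TB := by
      intro C hC D hD
      obtain ⟨z, hz, hzT⟩ := (Finset.mem_filter.1 hC).2
      obtain ⟨w, hw, hwT⟩ := (Finset.mem_filter.1 hD).2
      obtain ⟨g, hg, hgz⟩ := hT z hzT w hwT
      refine ⟨g, fun E hE => ?_, hmove g C D z hz (hgz ▸ hw)⟩
      obtain ⟨u, -, hu, -, -⟩ := hCpts E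
      refine hmove g E E u hu ?_
      rw [hg u fun huT => hE (Finset.mem_filter.2 ⟨Finset.mem_univ _, u, hu, huT⟩)]
      exact hu
    -- cardinalities
    have hsum : ∀ (S : Finset β) (P : Finset Ω), (∀ z, z ∈ P ↔ ∃ C ∈ S, z ∈ (C : Set Ω)) →
        P.card = S.card * B.ncard := by
      intro S P hP
      have hPe : P = S.biUnion fun C => Finset.univ.filter fun z => z ∈ (C : Set Ω) := by
        ext z
        simp [hP z]
      rw [hPe, Finset.card_biUnion, Finset.sum_const_nat]
      · rintro ⟨-, g, rfl⟩ -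
        rw [← Set.ncard_coe_finset]
        simp
      · intro C _ D _ hne
        exact Finset.disjoint_left.2 fun z hzC hzD => hne (huniq C D z (Finset.mem_filter.1 hzC).2
          (Finset.mem_filter.1 hzD).2)
    have hmT : T.card = TB.card * B.ncard := hsum TB T fun z => by
      constructor
      · intro hz
        obtain ⟨C, hC⟩ := hcover z
        exact ⟨C, Finset.mem_filter.2 ⟨Finset.mem_univ _, z, hC, hz⟩, hC⟩
      · rintro ⟨C, hC, hz⟩
        obtain ⟨w, hw, hwT⟩ := (Finset.mem_filter.1 hC).2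
        exact hside C w z hw hz hwT
    have hmΩ : Fintype.card Ω = Fintype.card β * B.ncard := hsum Finset.univ Finset.univ fun z => by
      simp only [Finset.mem_univ, true_and, true_iff]
      exact hcover z
    have hb : 2 ≤ B.ncard := by
      have hsub : ({p, q} : Set Ω) ⊆ B := Set.insert_subset hp (Set.singleton_subset_iff.2 hq)
      have := Set.ncard_le_ncard hsub
      rwa [Set.ncard_pair hpq] at this
    have hj2 : 2 ≤ TB.card := by
      by_contra hcon
      obtain ⟨C, hC⟩ := hcover x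
      obtain ⟨u, hu, huC⟩ := hnotin C
      obtain ⟨D, hD⟩ := hcover u
      have : 1 < TB.card := Finset.one_lt_card.2 ⟨C, Finset.mem_filter.2 ⟨Finset.mem_univ _, x, hC, hxT⟩,
        D, Finset.mem_filter.2 ⟨Finset.mem_univ _, u, hD, hu⟩, fun h => huC (h ▸ hD)⟩
      omega
    have hlt' : 2 * TB.card < Fintype.card β := by
      rw [hmT, hmΩ, ← mul_assoc] at hlt
      exact Nat.lt_of_mul_lt_mul_right hlt
    have hklt : Fintype.card β < n := by
      rw [← hn, hmΩ]
      exact lt_mul_of_one_lt_right (by omega) hb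
    have hA := ih _ hklt G β rfl (fun N hN hNne => ⟨fun C D => by
      have := hqp N hN hNne
      obtain ⟨u, -, hu, -, -⟩ := hCpts C
      obtain ⟨v, -, hv, -, -⟩ := hCpts D
      obtain ⟨g, hg⟩ := exists_smul_eq N u v
      exact ⟨g, hmove (g : G) C D u hu (hg ▸ hv)⟩⟩) TB hTB hj2 hlt'
    exfalso
    -- an element of the Jordan group moving a point inside a block
    obtain ⟨C, hC⟩ := hcover x
    obtain ⟨u, v, hu, hv, huv⟩ := hCpts C
    obtain ⟨g, hg, hgu⟩ := hT u (hside C x u hC hu hxT) v (hside C x v hC hv hxT)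
    have hgC : g • C = C := hmove g C C u hu (hgu ▸ hv)
    have hgout : ∀ D : β, D ∉ TB → g • D = D := fun D hD => by
      obtain ⟨w, -, hw, -, -⟩ := hCpts D
      refine hmove g D D w hw ?_
      rw [hg w fun hwT => hD (Finset.mem_filter.2 ⟨Finset.mem_univ _, w, hw, hwT⟩)]
      exact hw
    have hCTB : C ∈ TB := Finset.mem_filter.2 ⟨Finset.mem_univ _, x, hC, hxT⟩
    rcases eq_or_lt_of_le hj2 with hj | hj
    · -- two blocks: `g` fixes all blocks
      refine huv ?_
      have hg1 : g = 1 := eq_of_smul_eq_smul (α := β) fun D => by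
        rw [one_smul]
        by_cases hD : D ∈ TB
        · rcases eq_or_ne D C with rfl | hDC
          · exact hgC
          · have hgD : g • D ∈ TB := by
              by_contra hcon
              have h := smul_left_cancel g (hgout _ hcon)
              rw [h] at hcon
              exact hcon hD
            have hne : g • D ≠ C := fun h => hDC (smul_left_cancel g (h.trans hgC.symm))
            by_contra hcon
            have : ({C, D, g • D} : Finset β).card ≤ TB.card := Finset.card_le_card (by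
              simp [Finset.insert_subset_iff, hCTB, hD, hgD])
            rw [Finset.card_eq_three.2 ⟨C, D, g • D, Ne.symm hDC, Ne.symm hne, Ne.symm hcon, rfl⟩] at this
            omega
        · exact hgout D hD
      rw [← hgu, hg1, one_smul]
    obtain ⟨E, -, hE⟩ := Finset.exists_mem_notMem_of_card_lt_card
      (show TB.card < (Finset.univ : Finset β).card by rw [Finset.card_univ]; omega)
    have hout : ∀ w : Ω, w ∈ (E : Set Ω) → w ∉ T := fun w hw hwT =>
      hE (Finset.mem_filter.2 ⟨Finset.mem_univ _, w, hw, hwT⟩)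
    have hk6 : 6 ≤ Fintype.card β := by omega
    have hfix : ∀ D : β, ∀ k ∈ fixingSubgroup G (D : Set Ω), k • D = D := fun D k hk => by
      obtain ⟨w, -, hw, -, -⟩ := hCpts D
      exact hmove k D D w hw (by rw [(mem_fixingSubgroup_iff G).1 hk w hw]; exact hw)
    have hnorm : ∀ D : β, ∀ t : G, t • D = D → ∀ k ∈ fixingSubgroup G (D : Set Ω),
        t * k * t⁻¹ ∈ fixingSubgroup G (D : Set Ω) := fun D t ht k hk => by
      rw [mem_fixingSubgroup_iff] at hk ⊢
      intro w hw
      have hw' : t⁻¹ • w ∈ (D : Set Ω) := by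
        have h := (hsmulmem t⁻¹ D w).2 hw
        rwa [show t⁻¹ • D = D from inv_smul_eq_iff.2 ht.symm] at h
      rw [mul_smul, mul_smul, hk _ hw', smul_inv_smul]
    have hneK : ∀ D : β, ∃ k ∈ fixingSubgroup G (D : Set Ω), k ≠ 1 := fun D => by
      obtain ⟨s, hs⟩ := (show IsPretransitive G β from inferInstance).exists_smul_eq E D
      refine ⟨s * h₀ * s⁻¹, (mem_fixingSubgroup_iff G).2 fun w hw => ?_, fun h => hh₀1 ?_⟩
      · have hw' : s⁻¹ • w ∈ (E : Set Ω) := by
          have h := (hsmulmem s⁻¹ D w).2 hw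
          rwa [show s⁻¹ • D = E from inv_smul_eq_iff.2 hs.symm] at h
        rw [mul_smul, mul_smul, hh₀ _ (hout _ hw'), smul_inv_smul]
      · have h' := congrArg (fun e => s⁻¹ * e * s) h
        simpa [mul_assoc] using h'
    have key := fun D => even_mem hA hk6 D _ (hfix D) (hnorm D) (hneK D)
    have hodd : Equiv.Perm.sign (toPerm g : Equiv.Perm β) = -1 := by
      rcases Int.units_eq_one_or (Equiv.Perm.sign (toPerm g : Equiv.Perm β)) with h | h
      · exact absurd (((mem_fixingSubgroup_iff G).1 (key C g h hgC) u hu).symm.trans hgu) huv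
      · exact h
    have hgE : g ∈ fixingSubgroup G (E : Set Ω) :=
      (mem_fixingSubgroup_iff G).2 fun w hw => hg w (hout w hw)
    obtain ⟨a, b, ha, hb', hab⟩ := hCpts E
    obtain ⟨s, hs⟩ := exists_smul_eq G a b
    have hsE : s • E = E := hmove s E E a ha (hs ▸ hb')
    have hsK : s ∈ fixingSubgroup G (E : Set Ω) := by
      rcases Int.units_eq_one_or (Equiv.Perm.sign (toPerm s : Equiv.Perm β)) with h | h
      · exact key E s h hsE
      · have hsg : s * g ∈ fixingSubgroup G (E : Set Ω) := key E (s * g) (by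
          rw [show (toPerm (s * g) : Equiv.Perm β) = toPermHom G β (s * g) from rfl, map_mul, map_mul,
            show toPermHom G β s = toPerm s from rfl, show toPermHom G β g = toPerm g from rfl, h, hodd]
          simp) (by rw [mul_smul, hfix E g hgE, hsE])
        simpa using mul_mem hsg (inv_mem hgE)
    exact hab (((mem_fixingSubgroup_iff G).1 hsK a ha).symm.trans hs)

end Cfsg.Agent.JordanSets
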