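import Mathlib.GroupTheory.Perm.Fin
import Mathlib.Data.Fintype.Perm

/-!
Commutators in the symmetric groups of degree three and four.
-/

namespace Cfsg.Agent.MillerTrans

open Equiv

theorem comm_small : (∀ τ : Perm (Fin 3), τ ≠ 1 → ∃ g : Perm (Fin 3),
      g * τ * g⁻¹ * τ⁻¹ ≠ 1 ∧ (g * τ * g⁻¹ * τ⁻¹) ^ 3 = 1) ∧
    (∀ τ : Perm (Fin 4), τ ≠ 1 → ∃ g : Perm (Fin 4),
      g * τ * g⁻¹ * τ⁻¹ ≠ 1 ∧ (g * τ * g⁻¹ * τ⁻¹) ^ 2 = 1) := by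
  decide +kernel

end Cfsg.Agent.MillerTrans
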