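import Cfsg.Agent.S0713
import Cfsg.Agent.Lib.Recog.MillerTransDecide
import Mathlib.GroupTheory.GroupAction.Jordan
import Mathlib.GroupTheory.SpecificGroups.Alternating.Centralizer
import Mathlib.GroupTheory.SpecificGroups.Alternating.Simple

/-!
Miller: a highly transitive group of degree `k * p + r`.
-/

set_option autoImplicit false
set_option linter.unusedSectionVars false

namespace Cfsg.Agent.MillerTrans

open MulAction Equiv Subgroup
open scoped commutatorElement

variable {α : Type*} [Fintype α] [DecidableEq α] {G : Subgroup (Perm α)}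

theorem exists_map {m : ℕ} (hG : IsMultiplyPretransitive G α m) (x y : Fin m ↪ α) :
    ∃ g ∈ G, ∀ i, g (x i) = y i := by
  have := hG
  obtain ⟨⟨g, hg⟩, h⟩ := exists_smul_eq G x y
  exact ⟨g, hg, fun i => DFunLike.congr_fun h i⟩

theorem three_of_double (h4 : IsMultiplyPretransitive G α 4) (hn : 8 ≤ Fintype.card α)
    {a b c d : α} (hab : a ≠ b) (hac : a ≠ c) (had : a ≠ d) (hbc : b ≠ c) (hbd : b ≠ d) (hcd : c ≠ d)
    (hy : swap a b * swap c d ∈ G) : alternatingGroup α ≤ G := by
  have := h4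
  have h2 : IsMultiplyPretransitive G α 2 :=
    isMultiplyPretransitive_of_le (n := 4) (by norm_num) (by simp; omega)
  obtain ⟨e, he⟩ : ∃ e, e ∉ ({a, b, c, d} : Finset α) := by
    by_contra h
    push Not at h
    have := Finset.card_le_card (fun x _ => h x : (Finset.univ : Finset α) ⊆ {a, b, c, d})
    have h4' : ({a, b, c, d} : Finset α).card ≤ 4 := Finset.card_le_four
    simp only [Finset.card_univ] at this
    omega
  simp only [Finset.mem_insert, Finset.mem_singleton, not_or] at he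
  obtain ⟨hea, heb, hec, hed⟩ := he
  have hinj1 : Function.Injective ![a, b, c, d] := by
    rw [← List.nodup_ofFn]
    simp [List.ofFn_succ, hab, hac, had, hbc, hbd, hcd, Ne.symm hea, Ne.symm heb, Ne.symm hec]
  have hinj2 : Function.Injective ![a, b, c, e] := by
    rw [← List.nodup_ofFn]
    simp [List.ofFn_succ, hab, hac, had, hbc, hbd, hcd, Ne.symm hea, Ne.symm heb, Ne.symm hec]
  obtain ⟨g, hg, hgm⟩ := exists_map h4 ⟨_, hinj1⟩ ⟨_, hinj2⟩
  have g0 : g a = a := hgm 0
  have g1 : g b = b := hgm 1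
  have g2 : g c = c := hgm 2
  have g3 : g d = e := hgm 3
  have hconj : g * (swap a b * swap c d) * g⁻¹ = swap a b * swap c e := by
    have e1 := swap_apply_apply g a b
    have e2 := swap_apply_apply g c d
    rw [g0, g1] at e1
    rw [g2, g3] at e2
    calc g * (swap a b * swap c d) * g⁻¹
        = (g * swap a b * g⁻¹) * (g * swap c d * g⁻¹) := by group
      _ = _ := by rw [← e1, ← e2]
  have hmem := G.mul_mem hy (G.mul_mem (G.mul_mem hg hy) (G.inv_mem hg))
  rw [hconj] at hmem
  have hcomm : swap c d * swap a b = swap a b * swap c d := by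
    refine (Equiv.Perm.Disjoint.commute ?_).eq
    intro x
    by_cases h1 : x = c ∨ x = d
    · right; rcases h1 with rfl | rfl <;> simp [swap_apply_of_ne_of_ne, Ne.symm hac, Ne.symm hbc, Ne.symm had, Ne.symm hbd]
    · left; push Not at h1; exact swap_apply_of_ne_of_ne h1.1 h1.2
  have : swap a b * swap c d * (swap a b * swap c e) = swap c d * swap c e := by
    rw [← hcomm, mul_assoc, ← mul_assoc (swap a b), swap_mul_self, one_mul]
  rw [this] at hmem
  exact Perm.alternatingGroup_le_of_isPreprimitive_of_isThreeCycle_mem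
    (isPreprimitive_of_is_two_pretransitive h2)
    (Perm.isThreeCycle_swap_mul_swap_same hcd (Ne.symm hec) (Ne.symm hed)) hmem

theorem small_support (h4 : IsMultiplyPretransitive G α 4) (hn : 8 ≤ Fintype.card α)
    (s : Finset α) (hs : s.card ≤ 5) {x : Perm α} (hx : x ∈ G) (hx1 : x ≠ 1)
    (hfix : ∀ i, i ∉ s → x i = i) : alternatingGroup α ≤ G := by
  have := h4
  have hprim : IsPreprimitive G α := isPreprimitive_of_is_two_pretransitive
    (isMultiplyPretransitive_of_le (n := 4) (by norm_num) (by simp; omega))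
  obtain ⟨q, hq, hqd⟩ := Nat.exists_prime_and_dvd (n := orderOf x)
    (fun h => hx1 (orderOf_eq_one_iff.1 h))
  have := Fact.mk hq
  set y := x ^ (orderOf x / q) with hydef
  have hy : orderOf y = q := orderOf_pow_orderOf_div (orderOf_pos x).ne' hqd
  have hyG : y ∈ G := G.pow_mem hx _
  have hsupp : y.support ⊆ s := by
    intro i hi
    by_contra his
    exact (Perm.mem_support.1 hi) (Function.IsFixedPt.perm_pow (hfix i his) _)
  have hcard : y.support.card ≤ 5 := (Finset.card_le_card hsupp).trans hs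
  obtain ⟨m, hm⟩ := Perm.cycleType_prime_order (σ := y) (by rw [hy]; exact hq)
  rw [hy] at hm
  have hsum : y.support.card = (m + 1) * q := by
    rw [← Perm.sum_cycleType, hm, Multiset.sum_replicate, smul_eq_mul]
  rcases Nat.eq_zero_or_pos m with rfl | hmpos
  · have hc : y.IsCycle := Perm.card_cycleType_eq_one.1 (by rw [hm]; simp)
    exact S0713.result G hprim hq (by omega) (by omega) hc (by omega) hyG
  · obtain ⟨rfl, rfl⟩ : m = 1 ∧ q = 2 := by
      have := hq.two_le
      constructor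
      · by_contra h
        nlinarith [show 2 ≤ m from by omega]
      · by_contra h
        nlinarith [show 3 ≤ q from by omega]
    obtain ⟨a, ha⟩ : y.support.Nonempty := Finset.card_pos.1 (by omega)
    have hinv : ∀ i, y (y i) = i := fun i => by
      rw [← Perm.mul_apply, ← pow_two, ← hy, pow_orderOf_eq_one]; rfl
    have hab : a ≠ y a := fun h => Perm.mem_support.1 ha h.symm
    obtain ⟨c, hc⟩ : (y.support \ {a, y a}).Nonempty := by
      refine Finset.card_pos.1 ?_
      have := Finset.le_card_sdiff ({a, y a} : Finset α) y.support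
      rw [Finset.card_pair hab] at this
      omega
    simp only [Finset.mem_sdiff, Finset.mem_insert, Finset.mem_singleton, not_or] at hc
    obtain ⟨hcs, hca, hcb⟩ := hc
    have hcd : c ≠ y c := fun h => Perm.mem_support.1 hcs h.symm
    have had : a ≠ y c := fun h => hcb (by rw [h, hinv])
    have hbd : y a ≠ y c := fun h => hca (y.injective h).symm
    have hset : ({a, y a, c, y c} : Finset α) = y.support := by
      refine Finset.eq_of_subset_of_card_le ?_ ?_
      · intro i hi
        simp only [Finset.mem_insert, Finset.mem_singleton] at hi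
        rcases hi with rfl | rfl | rfl | rfl
        · exact ha
        · exact Perm.apply_mem_support.2 ha
        · exact hcs
        · exact Perm.apply_mem_support.2 hcs
      · rw [Finset.card_insert_of_notMem (by simp [hab, Ne.symm hca, had]),
          Finset.card_insert_of_notMem (by simp [Ne.symm hcb, hbd]), Finset.card_pair hcd]
        omega
    have hdec : y = swap a (y a) * swap c (y c) := by
      ext i
      rw [Perm.mul_apply]
      by_cases hi : i ∈ ({a, y a, c, y c} : Finset α)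
      · simp only [Finset.mem_insert, Finset.mem_singleton] at hi
        rcases hi with rfl | rfl | rfl | rfl
        · simp [swap_apply_of_ne_of_ne (Ne.symm hca) had]
        · simp [swap_apply_of_ne_of_ne (Ne.symm hcb) hbd, hinv]
        · simp [swap_apply_of_ne_of_ne had.symm hbd.symm]
        · simp [swap_apply_of_ne_of_ne hca hcb, hinv]
      · have hy0 : y i = i := Perm.notMem_support.1 (hset ▸ hi)
        simp only [Finset.mem_insert, Finset.mem_singleton, not_or] at hi
        rw [swap_apply_of_ne_of_ne hi.2.2.1 hi.2.2.2, swap_apply_of_ne_of_ne hi.1 hi.2.1, hy0]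
    exact three_of_double h4 hn hab (Ne.symm hca) had (Ne.symm hcb) hbd hcd (hdec ▸ hyG)

theorem comm_of_card {β : Type*} [Fintype β] [DecidableEq β] (hβ : Fintype.card β = 3 ∨ Fintype.card β = 4)
    (τ : Perm β) (hτ : τ ≠ 1) : ∃ g : Perm β, g * τ * g⁻¹ * τ⁻¹ ≠ 1 ∧
      (g * τ * g⁻¹ * τ⁻¹) ^ (if Fintype.card β = 3 then 3 else 2) = 1 := by
  have key : ∀ (m e : ℕ), Fintype.card β = m → (∀ τ : Perm (Fin m), τ ≠ 1 → ∃ g : Perm (Fin m),
      g * τ * g⁻¹ * τ⁻¹ ≠ 1 ∧ (g * τ * g⁻¹ * τ⁻¹) ^ e = 1) →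
      ∃ g : Perm β, g * τ * g⁻¹ * τ⁻¹ ≠ 1 ∧ (g * τ * g⁻¹ * τ⁻¹) ^ e = 1 := by
    intro m e hm h
    let φ : Perm β ≃* Perm (Fin m) := (Fintype.equivFinOfCardEq hm).permCongrHom
    obtain ⟨g, h1, h2⟩ := h (φ τ) fun h => hτ (φ.injective (h.trans (map_one φ).symm))
    refine ⟨φ.symm g, fun h => h1 ?_, φ.injective ?_⟩
    · simpa using congrArg φ h
    · simpa using h2
  rcases hβ with h | h
  · rw [if_pos h]; exact key 3 3 h comm_small.1
  · rw [if_neg (by omega)]; exact key 4 2 h comm_small.2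

variable (G) in
/-- The data: the `r` fixed points and a Sylow subgroup of their pointwise stabilizer. -/
structure Data (k p r : ℕ) where
  F : Finset α
  card_F : F.card = r
  P : Subgroup (Perm α)
  pgroup : IsPGroup p P
  le : P ≤ G
  fix : ∀ q ∈ P, ∀ x ∈ F, q x = x
  move : ∀ x, x ∉ F → ∃ q ∈ P, q x ≠ x
  card_compl : Fintype.card α = k * p + r
  lift : ∀ σ : Perm F, ∃ u ∈ G, u ∈ Subgroup.normalizer (P : Set (Perm α)) ∧ ∀ i : F, u i = σ i

theorem exists_data {k p r : ℕ} [hp : Fact p.Prime] (hk : 1 ≤ k) (hn : Fintype.card α = k * p + r)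
    (hG : IsMultiplyPretransitive G α (r + 1)) : Nonempty (Data G k p r) := by
  classical
  obtain ⟨F, -, hF⟩ := Finset.exists_subset_card_eq (show r ≤ (Finset.univ : Finset α).card by simp; omega)
  set GF : Subgroup (Perm α) := G ⊓ fixingSubgroup (Perm α) (F : Set α) with hGF
  have hmem : ∀ g, g ∈ GF ↔ g ∈ G ∧ ∀ x ∈ F, g x = x := fun g => by
    simp [hGF, mem_fixingSubgroup_iff]
  let P₀ : Sylow p GF := default
  let f : Fin r → F := (F.equivFinOfCardEq hF).symm
  have htr : ∀ x y, x ∉ F → y ∉ F → ∃ g ∈ GF, g x = y := by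
    intro x y hx hy
    have hi : ∀ z, z ∉ F → Function.Injective (Fin.snoc (fun i => (f i : α)) z : Fin (r + 1) → α) := by
      intro z hz i j h
      induction i using Fin.lastCases with
      | last => induction j using Fin.lastCases with
        | last => rfl
        | cast j => simp at h; exact absurd (h ▸ (f j).2) hz
      | cast i => induction j using Fin.lastCases with
        | last => simp at h; exact absurd (h.symm ▸ (f i).2) hz
        | cast j => simp at h; simpa [f] using h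
    obtain ⟨g, hg, hgm⟩ := exists_map hG ⟨_, hi x hx⟩ ⟨_, hi y hy⟩
    refine ⟨g, (hmem g).2 ⟨hg, fun z hz => ?_⟩, by simpa using hgm (Fin.last r)⟩
    simpa [f] using hgm (Fin.castSucc (F.equivFinOfCardEq hF ⟨z, hz⟩))
  refine ⟨⟨F, hF, (P₀ : Subgroup GF).map GF.subtype, P₀.2.map _,
    (map_subtype_le _).trans inf_le_left, fun q hq x hx => ((hmem q).1 (map_subtype_le _ hq)).2 x hx,
    ?_, hn, ?_⟩⟩
  · intro x hx
    by_contra hcon
    push Not at hcon
    have hle : (P₀ : Subgroup GF) ≤ stabilizer GF x := fun q hq =>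
      hcon q (mem_map_of_mem GF.subtype hq)
    have hidx : (stabilizer GF x).index = k * p := by
      rw [index_stabilizer]
      have : orbit GF x = ((Finset.univ \ F : Finset α) : Set α) := by
        ext y
        simp only [Finset.coe_sdiff, Finset.coe_univ, Set.mem_diff, Set.mem_univ, true_and,
          Finset.mem_coe]
        constructor
        · rintro ⟨⟨g, hg⟩, rfl⟩ hy
          have : g (g x) = g x := ((hmem g).1 hg).2 _ hy
          exact hx (g.injective this ▸ hy)
        · intro hy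
          obtain ⟨g, hg, rfl⟩ := htr x y hx hy
          exact ⟨⟨g, hg⟩, rfl⟩
      rw [this, Set.ncard_coe_finset, Finset.card_sdiff_of_subset (Finset.subset_univ _), hF,
        Finset.card_univ, hn]
      omega
    exact P₀.not_dvd_index ((dvd_mul_left p k).trans (hidx ▸ index_dvd_of_le hle))
  · intro σ
    have hi : ∀ i : F → F, Function.Injective i → Function.Injective fun j => ((i (f j) : F) : α) :=
      fun i hi a b h => by simpa [f] using hi (Subtype.ext h)
    have : IsMultiplyPretransitive G α r := by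
      have := hG
      exact isMultiplyPretransitive_of_le (n := r + 1) (by omega) (by
        simp
        have := Nat.mul_pos hk hp.out.pos
        omega)
    obtain ⟨g, hg, hgm⟩ := exists_map this ⟨_, hi id Function.injective_id⟩ ⟨_, hi σ σ.injective⟩
    have hgF : ∀ i : F, g i = σ i := fun i => by
      simpa [f] using hgm (F.equivFinOfCardEq hF i)
    have hgn : ∀ h, h ∈ GF ↔ g * h * g⁻¹ ∈ GF := by
      intro h
      rw [hmem, hmem]
      constructor
      · rintro ⟨h1, h2⟩
        refine ⟨G.mul_mem (G.mul_mem hg h1) (G.inv_mem hg), fun x hx => ?_⟩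
        have : g⁻¹ x = ((σ.symm ⟨x, hx⟩ : F) : α) := by
          rw [Perm.inv_eq_iff_eq, hgF]; simp
        rw [Perm.mul_apply, Perm.mul_apply, this, h2 _ (σ.symm ⟨x, hx⟩).2, ← this,
          Perm.coe_inv, apply_symm_apply]
      · rintro ⟨h1, h2⟩
        refine ⟨by simpa [mul_assoc] using G.mul_mem (G.mul_mem (G.inv_mem hg) h1) hg, fun x hx => ?_⟩
        have := h2 _ (σ ⟨x, hx⟩).2
        rw [← hgF] at this
        simpa using this
    let φ : GF →* GF :=
      { toFun := fun h => ⟨g * h * g⁻¹, (hgn h).1 h.2⟩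
        map_one' := by ext1; simp
        map_mul' := fun a b => by ext1; simp [mul_assoc] }
    have hinj : Function.Injective φ := fun a b h => Subtype.ext (by
      simpa [φ] using congrArg Subtype.val h)
    let ψ : MulAut GF := MulEquiv.ofBijective φ ⟨hinj, Finite.injective_iff_surjective.1 hinj⟩
    obtain ⟨h₀, hh⟩ := MulAction.exists_smul_eq GF (ψ • P₀) P₀
    refine ⟨h₀ * g, G.mul_mem ((hmem _).1 h₀.2).1 hg, mem_normalizer_fintype ?_, fun i => ?_⟩
    · intro q hq
      rw [SetLike.mem_coe, mem_map] at hq ⊢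
      obtain ⟨q₀, hq₀, rfl⟩ := hq
      have h1 : ψ q₀ ∈ ((ψ • P₀ : Sylow p GF) : Subgroup GF) :=
        Subgroup.smul_mem_pointwise_smul _ ψ _ hq₀
      have h2 : MulAut.conj h₀ (ψ q₀) ∈ ((h₀ • ψ • P₀ : Sylow p GF) : Subgroup GF) :=
        Subgroup.smul_mem_pointwise_smul _ (MulAut.conj h₀) _ h1
      rw [hh] at h2
      refine ⟨_, h2, ?_⟩
      show ((h₀ : GF) : Perm α) * (g * q₀ * g⁻¹) * ((h₀ : GF) : Perm α)⁻¹ = h₀ * g * q₀ * (h₀ * g)⁻¹
      group
    · rw [Perm.mul_apply, hgF]
      exact ((hmem _).1 h₀.2).2 _ (σ i).2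

namespace Data

variable {k p r : ℕ} (D : Data G k p r)

/-- The relation of lying in one `P`-orbit. -/
def Same (x y : α) : Prop := ∃ q ∈ D.P, q x = y

theorem same_refl (x : α) : D.Same x x := ⟨1, one_mem _, rfl⟩

theorem same_symm {x y : α} (h : D.Same x y) : D.Same y x := by
  obtain ⟨q, hq, rfl⟩ := h
  exact ⟨q⁻¹, inv_mem hq, by simp⟩

theorem same_trans {x y z : α} (h : D.Same x y) (h' : D.Same y z) : D.Same x z := by
  obtain ⟨q, hq, rfl⟩ := h
  obtain ⟨q', hq', rfl⟩ := h'
  exact ⟨q' * q, mul_mem hq' hq, rfl⟩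

theorem same_smul {q : Perm α} (hq : q ∈ D.P) (x : α) : D.Same x (q x) := ⟨q, hq, rfl⟩

theorem same_out {x y : α} (h : D.Same x y) (hx : x ∉ D.F) : y ∉ D.F := fun hy => by
  obtain ⟨q, hq, rfl⟩ := D.same_symm h
  exact hx (by rw [D.fix q hq y hy]; exact hy)

/-- The normalizer. -/
def N : Subgroup (Perm α) := G ⊓ Subgroup.normalizer (D.P : Set (Perm α))

theorem N_conj {u : Perm α} (hu : u ∈ D.N) {q : Perm α} (hq : q ∈ D.P) : u * q * u⁻¹ ∈ D.P :=
  (mem_normalizer_iff.1 hu.2 q).1 hq

theorem N_conj' {u : Perm α} (hu : u ∈ D.N) {q : Perm α} (hq : q ∈ D.P) : u⁻¹ * q * u ∈ D.P := by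
  simpa using D.N_conj (inv_mem hu) hq

theorem N_same {u : Perm α} (hu : u ∈ D.N) {x y : α} (h : D.Same x y) : D.Same (u x) (u y) := by
  obtain ⟨q, hq, rfl⟩ := h
  exact ⟨u * q * u⁻¹, D.N_conj hu hq, by simp⟩

theorem N_F {u : Perm α} (hu : u ∈ D.N) {x : α} : x ∈ D.F ↔ u x ∈ D.F := by
  have key : ∀ {u : Perm α}, u ∈ D.N → ∀ x ∈ D.F, u x ∈ D.F := by
    intro u hu x hx
    by_contra h
    obtain ⟨q, hq, hne⟩ := D.move _ h
    apply hne
    have := D.fix _ (D.N_conj' hu hq) x hx
    rw [Perm.mul_apply, Perm.mul_apply, Perm.inv_eq_iff_eq] at this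
    exact this
  exact ⟨key hu x, fun h => by simpa using key (inv_mem hu) _ h⟩

/-- The action of the normalizer on the fixed points. -/
def ψ : D.N →* Perm D.F where
  toFun u := (u : Perm α).subtypePerm fun x => (D.N_F u.2).symm
  map_one' := by ext x; rfl
  map_mul' u v := by ext x; rfl

theorem ψ_apply (u : D.N) (i : D.F) : ((D.ψ u i : D.F) : α) = (u : Perm α) i := rfl

theorem ψ_surjective : Function.Surjective D.ψ := fun σ => by
  obtain ⟨u, h1, h2, h3⟩ := D.lift σ
  exact ⟨⟨u, h1, h2⟩, Equiv.ext fun i => Subtype.ext (h3 i)⟩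

theorem eq_ofSubtype {u : D.N} (h : ∀ x, x ∉ D.F → (u : Perm α) x = x) :
    (u : Perm α) = Perm.ofSubtype (D.ψ u) := by
  ext x
  by_cases hx : x ∈ D.F
  · rw [Perm.ofSubtype_apply_of_mem _ hx]; rfl
  · rw [Perm.ofSubtype_apply_of_not_mem _ hx, h x hx]

/-- Elements fixing every orbit. -/
def K : Subgroup D.N where
  carrier := {u | ∀ x, x ∉ D.F → D.Same x ((u : Perm α) x)}
  one_mem' x _ := D.same_refl x
  mul_mem' {u v} hu hv x hx :=
    D.same_trans (hv x hx) (hu _ fun h => hx ((D.N_F v.2).2 h))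
  inv_mem' {u} hu x hx := by
    have := hu (((u⁻¹ : D.N) : Perm α) x) fun h => hx ((D.N_F (u⁻¹).2).2 h)
    simpa using D.same_symm this

instance : D.K.Normal := ⟨fun u hu g x hx => by
  have := D.N_same g.2 (hu (((g⁻¹ : D.N) : Perm α) x) fun h => hx ((D.N_F (g⁻¹).2).2 h))
  simpa using this⟩

theorem P_le_N : D.P ≤ D.N := le_inf D.le Subgroup.le_normalizer

/-- An element of `P` in the normalizer. -/
def emb (q : Perm α) (hq : q ∈ D.P) : D.K := ⟨⟨q, D.P_le_N hq⟩, fun x _ => D.same_smul hq x⟩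

/-- The orbit of a point. -/
def orb (x : α) : Set α := {y | D.Same x y}

/-- Restriction to one orbit. -/
def ρ {x : α} (hx : x ∉ D.F) : D.K →* Perm {y // D.Same x y} where
  toFun u := ((u : D.N) : Perm α).subtypePerm fun y =>
    ⟨fun h => D.same_trans h (D.same_symm (u.2 y fun hy => D.same_out h hx ((D.N_F u.1.2).1 hy))),
      fun h => D.same_trans h (u.2 y (D.same_out h hx))⟩
  map_one' := by ext y; rfl
  map_mul' u v := by ext y; rfl

theorem ρ_apply {x : α} (hx : x ∉ D.F) (u : D.K) (y : {y // D.Same x y}) :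
    ((D.ρ hx u y : {y // D.Same x y}) : α) = ((u : D.N) : Perm α) y := rfl

variable [hp : Fact p.Prime] (hkp : k < p)

include hkp

theorem orbit_card {x : α} (hx : x ∉ D.F) : Nat.card {y // D.Same x y} = p := by
  classical
  have he : Nat.card {y // D.Same x y} = Nat.card (orbit D.P x) := Nat.card_congr
    (Equiv.subtypeEquivRight fun y => ⟨fun ⟨q, hq, h⟩ => ⟨⟨q, hq⟩, h⟩, fun ⟨q, h⟩ => ⟨q, q.2, h⟩⟩)
  obtain ⟨e, he'⟩ := D.pgroup.card_orbit x
  have hle : Nat.card {y // D.Same x y} ≤ k * p := by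
    rw [Nat.card_eq_fintype_card, Fintype.card_subtype]
    refine (Finset.card_le_card (t := Finset.univ \ D.F) fun y hy => ?_).trans ?_
    · simp at hy ⊢; exact D.same_out hy hx
    · rw [Finset.card_sdiff_of_subset (Finset.subset_univ _), D.card_F, Finset.card_univ, D.card_compl]
      omega
  have hlt : p ^ e < p ^ 2 := by
    rw [← he', ← he, pow_two]
    exact hle.trans_lt (Nat.mul_lt_mul_of_pos_right hkp hp.out.pos)
  have : e < 2 := (Nat.pow_lt_pow_iff_right hp.out.one_lt).1 hlt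
  have : e ≠ 0 := fun h0 => by
    obtain ⟨q, hq, hne⟩ := D.move x hx
    rw [h0, pow_zero, ← he] at he'
    have := (Finite.card_le_one_iff_subsingleton.1 he'.le).elim
      (⟨q x, D.same_smul hq x⟩ : {y // D.Same x y}) ⟨x, D.same_refl x⟩
    exact hne (congrArg Subtype.val this)
  rw [he, he', show e = 1 by omega, pow_one]

/-- On an orbit a group element with a fixed point from `P` is trivial, others generate. -/
theorem orbit_zpowers {x : α} (hx : x ∉ D.F) {q : Perm α} (hq : q ∈ D.P) :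
    (∀ y, D.Same x y → q y = y) ∨ ∀ y z, D.Same x y → D.Same x z → ∃ i : ℤ, (q ^ i) y = z := by
  classical
  rw [or_iff_not_imp_left]
  intro hne
  push Not at hne
  obtain ⟨y₀, hy₀, hmv⟩ := hne
  have hq' : IsPGroup p (Subgroup.zpowers q) :=
    D.pgroup.to_le (Subgroup.zpowers_le.2 hq)
  have hsub : orbit (Subgroup.zpowers q) y₀ ⊆ {y | D.Same x y} := by
    rintro _ ⟨⟨_, i, rfl⟩, rfl⟩
    exact D.same_trans hy₀ (D.same_smul (zpow_mem hq i) y₀)
  obtain ⟨e, he⟩ := hq'.card_orbit y₀
  have h1 : 1 < Nat.card (orbit (Subgroup.zpowers q) y₀) := by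
    rw [Finite.one_lt_card_iff_nontrivial]
    exact ⟨⟨⟨y₀, mem_orbit_self _⟩, ⟨q y₀, ⟨⟨q, Subgroup.mem_zpowers q⟩, rfl⟩⟩,
      fun h => hmv (congrArg Subtype.val h).symm⟩⟩
  have hge : p ≤ Nat.card (orbit (Subgroup.zpowers q) y₀) := by
    rw [he] at h1 ⊢
    exact Nat.le_self_pow (fun h => by simp [h] at h1) p
  have heq : orbit (Subgroup.zpowers q) y₀ = {y | D.Same x y} := by
    refine Set.eq_of_subset_of_ncard_le hsub ?_ (Set.toFinite _)
    rw [← Nat.card_coe_set_eq, ← Nat.card_coe_set_eq]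
    exact (D.orbit_card hkp hx).le.trans hge
  intro y z hy hz
  have hy' : y ∈ orbit (Subgroup.zpowers q) y₀ := heq ▸ hy
  have hz' : z ∈ orbit (Subgroup.zpowers q) y₀ := heq ▸ hz
  rw [← orbit_eq_iff.2 hy'] at hz'
  obtain ⟨⟨_, i, rfl⟩, h⟩ := hz'
  exact ⟨i, h⟩

theorem fix_orbit {x : α} (hx : x ∉ D.F) {q : Perm α} (hq : q ∈ D.P) (h : q x = x) {y : α}
    (hy : D.Same x y) : q y = y := by
  rcases D.orbit_zpowers hkp hx hq with h' | h'
  · exact h' y hy
  · obtain ⟨i, hi⟩ := h' x y (D.same_refl x) hy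
    rw [← hi, Function.IsFixedPt.perm_zpow h i]
    exact h

/-- A moving element generates the restriction of `P`. -/
theorem rho_gen {x : α} (hx : x ∉ D.F) {z : Perm α} (hz : z ∈ D.P) (hzx : z x ≠ x)
    {q : Perm α} (hq : q ∈ D.P) : ∃ i : ℤ, D.ρ hx (D.emb q hq) = D.ρ hx (D.emb z hz) ^ i := by
  rcases D.orbit_zpowers hkp hx hz with h | h
  · exact absurd (h x (D.same_refl x)) hzx
  obtain ⟨i, hi⟩ := h x (q x) (D.same_refl x) (D.same_smul hq x)
  refine ⟨i, Equiv.ext fun y => Subtype.ext ?_⟩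
  rw [← map_zpow]
  show q y = (((D.emb z hz ^ i : D.K) : D.N) : Perm α) y
  have h1 : (((D.emb z hz ^ i : D.K) : D.N) : Perm α) = z ^ i := by simp [emb]
  rw [h1]
  have := D.fix_orbit hkp hx (q := (z ^ i)⁻¹ * q) (mul_mem (inv_mem (zpow_mem hz i)) hq)
    (by rw [Perm.mul_apply, ← hi]; simp) y.2
  rwa [Perm.mul_apply, Perm.inv_eq_iff_eq] at this

theorem comm_P {q q' : Perm α} (hq : q ∈ D.P) (hq' : q' ∈ D.P) : q * q' = q' * q := by
  ext x
  by_cases hx : x ∈ D.F
  · simp [D.fix q hq x hx, D.fix q' hq' x hx]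
  · obtain ⟨z, hz, hzx⟩ := D.move x hx
    obtain ⟨i, hi⟩ := D.rho_gen hkp hx hz hzx hq
    obtain ⟨j, hj⟩ := D.rho_gen hkp hx hz hzx hq'
    have : D.ρ hx (D.emb q hq * D.emb q' hq') = D.ρ hx (D.emb q' hq' * D.emb q hq) := by
      rw [map_mul, map_mul, hi, hj, ← zpow_add, ← zpow_add, add_comm]
    exact congrArg Subtype.val (DFunLike.congr_fun this ⟨x, D.same_refl x⟩)

theorem pow_p {q : Perm α} (hq : q ∈ D.P) : q ^ p = 1 := by
  classical
  ext x
  show (q ^ p) x = x
  by_cases hx : x ∈ D.F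
  · exact D.fix _ (pow_mem hq p) x hx
  · rcases D.orbit_zpowers hkp hx hq with h | h
    · exact Function.IsFixedPt.perm_pow (h x (D.same_refl x)) p
    · have hsub : orbit (Subgroup.zpowers q) x = {y | D.Same x y} := by
        ext y
        constructor
        · rintro ⟨⟨_, i, rfl⟩, rfl⟩
          exact D.same_smul (zpow_mem hq i) x
        · intro hy
          obtain ⟨i, hi⟩ := h x y (D.same_refl x) hy
          exact ⟨⟨q ^ i, i, rfl⟩, hi⟩
      have hc : Function.minimalPeriod (q • ·) x = p := by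
        rw [MulAction.minimalPeriod_eq_card, ← Nat.card_eq_fintype_card, hsub]
        exact D.orbit_card hkp hx
      exact pow_smul_eq_iff_minimalPeriod_dvd.2 (dvd_of_eq hc)

/-- An element of `K` commuting with `P`. -/
def Central (u : D.K) : Prop := ∀ q ∈ D.P, ((u : D.N) : Perm α) * q = q * ((u : D.N) : Perm α)

theorem rho_central {x : α} (hx : x ∉ D.F) {u : D.K} (hu : D.Central u) :
    ∃ q, ∃ hq : q ∈ D.P, D.ρ hx u = D.ρ hx (D.emb q hq) := by
  obtain ⟨q, hq, hqx⟩ := u.2 x hx
  refine ⟨q, hq, Equiv.ext fun y => Subtype.ext ?_⟩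
  obtain ⟨q', hq', hy⟩ := y.2
  show ((u : D.N) : Perm α) y = q y
  rw [← hy, ← Perm.mul_apply, hu q' hq', Perm.mul_apply, ← hqx, ← Perm.mul_apply,
    D.comm_P hkp hq' hq, Perm.mul_apply]

theorem central_pow (u : D.K) (hu : D.Central u) {x : α} (hx : x ∉ D.F) :
    (((u ^ p : D.K) : D.N) : Perm α) x = x := by
  obtain ⟨q, hq, h⟩ := D.rho_central hkp hx hu
  have h1 : D.ρ hx (u ^ p) = 1 := by
    rw [map_pow, h, ← map_pow, show D.emb q hq ^ p = 1 from
      Subtype.ext (Subtype.ext (by simpa [emb] using D.pow_p hkp hq)), map_one]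
  exact congrArg Subtype.val (DFunLike.congr_fun h1 ⟨x, D.same_refl x⟩)

theorem central_comm (u v : D.K) (hu : D.Central u) (hv : D.Central v) {x : α} (hx : x ∉ D.F) :
    (((⁅u, v⁆ : D.K) : D.N) : Perm α) x = x := by
  obtain ⟨q, hq, h⟩ := D.rho_central hkp hx hu
  obtain ⟨q', hq', h'⟩ := D.rho_central hkp hx hv
  have hc : Commute (D.emb q hq) (D.emb q' hq') :=
    Subtype.ext (Subtype.ext (D.comm_P hkp hq hq'))
  have h1 : D.ρ hx ⁅u, v⁆ = 1 := by
    rw [map_commutatorElement, h, h', ← map_commutatorElement,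
      commutatorElement_eq_one_iff_commute.2 hc, map_one]
  exact congrArg Subtype.val (DFunLike.congr_fun h1 ⟨x, D.same_refl x⟩)

/-- The exponent of `u` on one orbit. -/
theorem exists_exp (u : D.K) {x : α} (hx : x ∉ D.F) : ∃ a : ℤ, ∀ q, ∀ hq : q ∈ D.P,
    D.ρ hx u * D.ρ hx (D.emb q hq) * (D.ρ hx u)⁻¹ = D.ρ hx (D.emb q hq) ^ a := by
  obtain ⟨z, hz, hzx⟩ := D.move x hx
  obtain ⟨a, ha⟩ := D.rho_gen hkp hx hz hzx (D.N_conj (u : D.N).2 hz)
  refine ⟨a, fun q hq => ?_⟩
  obtain ⟨i, hi⟩ := D.rho_gen hkp hx hz hzx hq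
  have e : D.ρ hx u * D.ρ hx (D.emb z hz) * (D.ρ hx u)⁻¹ = D.ρ hx (D.emb z hz) ^ a := by
    rw [← ha, ← map_inv, ← map_mul, ← map_mul]
    rfl
  rw [hi, ← conj_zpow, e, ← zpow_mul, ← zpow_mul, mul_comm]

theorem comm_central (u v : D.K) : D.Central ⁅u, v⁆ := by
  intro q hq
  rw [← mul_inv_eq_iff_eq_mul]
  ext x
  by_cases hx : x ∈ D.F
  · have h2 : (((⁅u, v⁆ : D.K) : D.N) : Perm α)⁻¹ x ∈ D.F :=
      (D.N_F (inv_mem ((⁅u, v⁆ : D.K) : D.N).2)).1 hx
    rw [Perm.mul_apply, Perm.mul_apply, D.fix q hq _ h2, Perm.coe_inv, apply_symm_apply,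
      D.fix q hq x hx]
  · obtain ⟨a, ha⟩ := D.exists_exp hkp u hx
    obtain ⟨b, hb⟩ := D.exists_exp hkp v hx
    have h1 : ∀ q', ∀ hq' : q' ∈ D.P,
        D.ρ hx (u * v * D.emb q' hq' * (u * v)⁻¹) = D.ρ hx (v * u * D.emb q' hq' * (v * u)⁻¹) := by
      intro q' hq'
      simp only [map_mul, map_inv]
      calc _ = D.ρ hx u * (D.ρ hx v * D.ρ hx (D.emb q' hq') * (D.ρ hx v)⁻¹) * (D.ρ hx u)⁻¹ := by group
        _ = (D.ρ hx u * D.ρ hx (D.emb q' hq') * (D.ρ hx u)⁻¹) ^ b := by rw [hb q' hq', conj_zpow]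
        _ = D.ρ hx (D.emb q' hq') ^ (a * b) := by rw [ha q' hq', ← zpow_mul]
        _ = (D.ρ hx v * D.ρ hx (D.emb q' hq') * (D.ρ hx v)⁻¹) ^ a := by
          rw [hb q' hq', ← zpow_mul, mul_comm]
        _ = D.ρ hx v * (D.ρ hx u * D.ρ hx (D.emb q' hq') * (D.ρ hx u)⁻¹) * (D.ρ hx v)⁻¹ := by
          rw [ha q' hq', conj_zpow]
        _ = _ := by group
    let e : D.K := (v * u)⁻¹ * D.emb q hq * (v * u)
    have he : ∃ (q' : Perm α) (hq' : q' ∈ D.P), D.emb q' hq' = e :=
      ⟨((e : D.N) : Perm α), D.N_conj' ((v * u : D.K) : D.N).2 hq, rfl⟩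
    obtain ⟨q', hq', he'⟩ := he
    have h2 : D.ρ hx (⁅u, v⁆ * D.emb q hq * ⁅u, v⁆⁻¹) = D.ρ hx (D.emb q hq) := by
      rw [show ⁅u, v⁆ * D.emb q hq * ⁅u, v⁆⁻¹ = u * v * D.emb q' hq' * (u * v)⁻¹ by
        simp only [he', e, commutatorElement_def]; group, h1, he']
      refine congrArg (D.ρ hx) ?_
      simp only [e]
      group
    have h3 := congrArg Subtype.val (DFunLike.congr_fun h2 ⟨x, D.same_refl x⟩)
    rw [D.ρ_apply, D.ρ_apply] at h3
    simpa only [Subgroup.coe_mul, Subgroup.coe_inv, emb] using h3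

/-- Some element fixing all orbits moves a fixed point. -/
theorem exists_K_moving (hk : 1 ≤ k) (hkr : k < r) : ∃ u : D.K, D.ψ u ≠ 1 := by
  classical
  let Q : Finset (Finset α) :=
    (Finset.univ \ D.F).image fun x => Finset.univ.filter fun y => D.Same x y
  have hQ : Q.card = k := by
    have hfib : ∀ x ∈ Finset.univ \ D.F, (Finset.univ.filter fun y => D.Same x y).card = p := by
      intro x hx
      have h0 := D.orbit_card hkp (x := x) (by simpa using hx)
      rw [Nat.card_eq_fintype_card, Fintype.card_subtype] at h0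
      exact h0
    have h := Finset.card_eq_sum_card_image (fun x => Finset.univ.filter fun y => D.Same x y)
      (Finset.univ \ D.F)
    rw [Finset.sum_congr rfl (g := fun _ => p) (fun s hs => by
      obtain ⟨x, hx, rfl⟩ := Finset.mem_image.1 hs
      refine (congrArg Finset.card ?_).trans (hfib x hx)
      ext y
      simp only [Finset.mem_filter, Finset.mem_univ, true_and, Finset.mem_sdiff]
      constructor
      · rintro ⟨-, h⟩
        have : y ∈ Finset.univ.filter fun z => D.Same y z := by simp [D.same_refl]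
        rw [h] at this
        simpa using this
      · intro h
        refine ⟨D.same_out h (by simpa using hx), Finset.ext fun z => ?_⟩
        simp only [Finset.mem_filter, Finset.mem_univ, true_and]
        exact ⟨D.same_trans h, D.same_trans (D.same_symm h)⟩), Finset.sum_const, smul_eq_mul,
      Finset.card_sdiff_of_subset (Finset.subset_univ _), D.card_F, Finset.card_univ,
      D.card_compl, Nat.add_sub_cancel] at h
    exact (Nat.eq_of_mul_eq_mul_right hp.out.pos h).symm
  choose L hL using D.ψ_surjective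
  have himg : ∀ (u : D.N), ∀ s ∈ Q, s.image (u : Perm α) ∈ Q := by
    intro u s hs
    obtain ⟨x, hx, rfl⟩ := Finset.mem_image.1 hs
    refine Finset.mem_image.2 ⟨(u : Perm α) x, by simpa [← D.N_F u.2] using hx, ?_⟩
    ext y
    simp only [Finset.mem_filter, Finset.mem_univ, true_and, Finset.mem_image]
    constructor
    · intro h
      refine ⟨(u : Perm α)⁻¹ y, ?_, by simp⟩
      simpa using D.N_same (inv_mem u.2) h
    · rintro ⟨z, hz, rfl⟩
      exact D.N_same u.2 hz
  let Φ : Perm D.F → Perm Q := fun σ => Equiv.ofBijective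
    (fun s => ⟨s.1.image ((L σ : D.N) : Perm α), himg _ s.1 s.2⟩)
    ((Fintype.bijective_iff_injective_and_card _).2 ⟨fun s t h => Subtype.ext
      (Finset.image_injective (Equiv.injective _) (congrArg Subtype.val h)), rfl⟩)
  obtain ⟨σ, τ, hne, he⟩ := Fintype.exists_ne_map_eq_of_card_lt Φ (by
    rw [Fintype.card_perm, Fintype.card_perm, Fintype.card_coe, Fintype.card_coe, hQ, D.card_F]
    exact (Nat.factorial_lt hk).2 hkr)
  have hK : (L σ)⁻¹ * L τ ∈ D.K := by
    intro x hx
    let s : Q := ⟨Finset.univ.filter fun y => D.Same x y,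
      Finset.mem_image.2 ⟨x, by simpa using hx, rfl⟩⟩
    have h : s.1.image ((L σ : D.N) : Perm α) = s.1.image ((L τ : D.N) : Perm α) :=
      congrArg Subtype.val (DFunLike.congr_fun he s)
    have hx' : ((L τ : D.N) : Perm α) x ∈ s.1.image ((L τ : D.N) : Perm α) :=
      Finset.mem_image_of_mem _ (by simp [s, D.same_refl])
    rw [← h] at hx'
    obtain ⟨y, hy, hy'⟩ := Finset.mem_image.1 hx'
    have : (((L σ)⁻¹ * L τ : D.N) : Perm α) x = y := by simp [← hy']
    rw [this]; simpa [s] using hy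
  refine ⟨⟨_, hK⟩, fun h => hne ?_⟩
  rw [← hL σ, ← hL τ]
  rw [map_mul, map_inv, inv_mul_eq_one] at h
  exact h

include hkp in
/-- There are at most `k` orbits. -/
theorem orbit_cover (hk3 : k ≤ 3) {a b c d : α} (ha : a ∉ D.F) (hb : b ∉ D.F) (hc : c ∉ D.F)
    (hd : d ∉ D.F) (hab : ¬ D.Same a b) (hac : ¬ D.Same a c) (hbc : ¬ D.Same b c) :
    D.Same a d ∨ D.Same b d ∨ D.Same c d := by
  classical
  by_contra hcon
  push Not at hcon
  let O : α → Finset α := fun x => Finset.univ.filter fun y => D.Same x y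
  have hO : ∀ {x : α}, x ∉ D.F → (O x).card = p := by
    intro x hx
    have h0 := D.orbit_card hkp hx
    rw [Nat.card_eq_fintype_card, Fintype.card_subtype] at h0
    exact h0
  have hdis : ∀ {x y : α}, ¬ D.Same x y → Disjoint (O x) (O y) := by
    intro x y h
    rw [Finset.disjoint_left]
    intro z hz hz'
    simp [O] at hz hz'
    exact h (D.same_trans hz (D.same_symm hz'))
  have hsub : O a ∪ O b ∪ O c ∪ O d ⊆ Finset.univ \ D.F := by
    intro z hz
    simp [O] at hz
    simp
    rcases hz with h | h | h | h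
    · exact D.same_out h ha
    · exact D.same_out h hb
    · exact D.same_out h hc
    · exact D.same_out h hd
  have h := Finset.card_le_card hsub
  rw [Finset.card_union_of_disjoint, Finset.card_union_of_disjoint,
    Finset.card_union_of_disjoint (hdis hab), hO ha, hO hb, hO hc, hO hd,
    Finset.card_sdiff_of_subset (Finset.subset_univ _), D.card_F, Finset.card_univ,
    D.card_compl, Nat.add_sub_cancel] at h
  · have := Nat.mul_le_mul_right p hk3
    have := hp.out.pos
    omega
  · exact Finset.disjoint_union_left.2 ⟨hdis hac, hdis hbc⟩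
  · refine Finset.disjoint_union_left.2 ⟨Finset.disjoint_union_left.2 ⟨?_, ?_⟩, ?_⟩
    · exact hdis hcon.1
    · exact hdis hcon.2.1
    · exact hdis hcon.2.2

include hkp in
/-- Powers of an element moving a point are told apart there. -/
theorem zpow_eq {q : Perm α} (hq : q ∈ D.P) {x : α} (hqx : q x ≠ x) {s t : ℤ}
    (h : (q ^ s) x = (q ^ t) x) : q ^ s = q ^ t := by
  classical
  have hper : Function.minimalPeriod (q • ·) x ∣ p :=
    pow_smul_eq_iff_minimalPeriod_dvd.1 (by rw [D.pow_p hkp hq]; rfl)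
  have hper' : Function.minimalPeriod (q • ·) x = p :=
    ((Nat.dvd_prime hp.out).1 hper).resolve_left fun h1 =>
      hqx (Function.minimalPeriod_eq_one_iff_isFixedPt.1 h1)
  have hst : q ^ (s - t) • x = x := by
    rw [show s - t = -t + s by ring, zpow_add, mul_smul]
    show (q ^ (-t)) ((q ^ s) x) = x
    rw [h, ← Perm.mul_apply, ← zpow_add, neg_add_cancel, zpow_zero]
    rfl
  have hdvd := zpow_smul_eq_iff_minimalPeriod_dvd.1 hst
  rw [hper'] at hdvd
  obtain ⟨e, he⟩ := hdvd
  rw [show s = t + p * e by omega, zpow_add, zpow_mul, zpow_natCast, D.pow_p hkp hq, one_zpow,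
    mul_one]

include hkp in
/-- Without cycles in `P`, orbit-preserving normalizing elements act on `P` as powers. -/
theorem scalar (hk3 : k ≤ 3)
    (hnc : ∀ q ∈ D.P, ∀ x, x ∉ D.F → (∀ y, y ∉ D.F → ¬ D.Same x y → q y = y) → q = 1)
    (u : D.K) : ∃ a : ℤ, ∀ q ∈ D.P,
      ((u : D.N) : Perm α) * q * ((u : D.N) : Perm α)⁻¹ = q ^ a := by
  classical
  set U := ((u : D.N) : Perm α) with hUdef
  by_cases hempty : ∀ x, x ∈ D.F
  · refine ⟨0, fun q hq => ?_⟩
    have : q = 1 := Equiv.ext fun x => D.fix q hq x (hempty x)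
    rw [this]; simp
  push Not at hempty
  obtain ⟨i, hi⟩ := hempty
  -- exponents on an orbit
  have hexp : ∀ {x}, x ∉ D.F → ∃ a : ℤ, ∀ q ∈ D.P, ∀ y, D.Same x y →
      (U * q * U⁻¹) y = (q ^ a) y := by
    intro x hx
    obtain ⟨a, ha⟩ := D.exists_exp hkp u hx
    refine ⟨a, fun q hq y hy => ?_⟩
    have h := ha q hq
    rw [← map_inv, ← map_mul, ← map_mul, ← map_zpow] at h
    have h' := congrArg Subtype.val (DFunLike.congr_fun h ⟨y, hy⟩)
    have e : ((((D.emb q hq) ^ a : D.K) : D.N) : Perm α) = q ^ a := by simp [emb]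
    simpa [ρ, e, emb, hUdef] using h'
  have hUP : ∀ q ∈ D.P, U * q * U⁻¹ ∈ D.P := fun q hq => D.N_conj (u : D.N).2 hq
  have hw : ∀ q ∈ D.P, ∀ a : ℤ, U * q * U⁻¹ * (q ^ a)⁻¹ ∈ D.P := fun q hq a =>
    mul_mem (hUP q hq) (inv_mem (zpow_mem hq a))
  have hwfix : ∀ q ∈ D.P, ∀ a : ℤ, ∀ y, y ∉ D.F → (U * q * U⁻¹) y = (q ^ a) y →
      (U * q * U⁻¹ * (q ^ a)⁻¹) y = y := by
    intro q hq a y hy h
    rw [D.comm_P hkp (hUP q hq) (inv_mem (zpow_mem hq a)), Perm.mul_apply, h]
    simp
  have hwfix0 : ∀ q ∈ D.P, ∀ a : ℤ, ∀ y, y ∉ D.F → q y = y →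
      (U * q * U⁻¹ * (q ^ a)⁻¹) y = y := by
    intro q hq a y hy h
    refine hwfix q hq a y hy ?_
    rw [Function.IsFixedPt.perm_zpow h a, Perm.mul_apply, Perm.mul_apply]
    have hs : D.Same y (U⁻¹ y) := ((u⁻¹ : D.K)).2 y hy
    rw [D.fix_orbit hkp hy hq h hs]
    simp
  obtain ⟨a, ha⟩ := hexp hi
  refine ⟨a, fun q₀ hq₀ => ?_⟩
  rw [← mul_inv_eq_one]
  -- the defect
  have key : ∀ j, j ∉ D.F → ∀ q ∈ D.P, ∀ y, D.Same j y → (U * q * U⁻¹) y = (q ^ a) y := by
    intro j hj
    by_cases hij : D.Same i j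
    · exact fun q hq y hy => ha q hq y (D.same_trans hij hy)
    -- an element moving both orbits
    obtain ⟨z, hz, hzi, hzj⟩ : ∃ z ∈ D.P, z i ≠ i ∧ z j ≠ j := by
      obtain ⟨z, hz, hzi⟩ := D.move i hi
      obtain ⟨z', hz', hzj⟩ := D.move j hj
      by_cases h1 : z j = j
      · by_cases h2 : z' i = i
        · refine ⟨z * z', mul_mem hz hz', ?_, ?_⟩
          · rw [Perm.mul_apply, h2]; exact hzi
          · rw [D.comm_P hkp hz hz', Perm.mul_apply, h1]; exact hzj
        · exact ⟨z', hz', h2, hzj⟩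
      · exact ⟨z, hz, hzi, h1⟩
    obtain ⟨b, hb⟩ := hexp hj
    set w := U * z * U⁻¹ * (z ^ a)⁻¹ with hwdef
    have hwP : w ∈ D.P := hw z hz a
    have hwi : ∀ y, D.Same i y → w y = y := fun y hy =>
      hwfix z hz a y (D.same_out hy hi) (ha z hz y hy)
    suffices hwj : w j = j by
      intro q hq y hy
      obtain ⟨m, hm⟩ := D.rho_gen hkp hj hz hzj hq
      have hmy : ∀ y, D.Same j y → q y = (z ^ m) y := fun y hy => by
        have e : (((D.emb z hz ^ m : D.K) : D.N) : Perm α) = z ^ m := by simp [emb]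
        rw [← map_zpow] at hm
        have h := congrArg Subtype.val (DFunLike.congr_fun hm ⟨y, hy⟩)
        simpa [ρ, e, emb] using h
      have hz' : ∀ y, D.Same j y → (U * z * U⁻¹) y = (z ^ a) y := fun y hy => by
        have h := D.fix_orbit hkp hj hwP hwj hy
        rw [hwdef, D.comm_P hkp (hUP z hz) (inv_mem (zpow_mem hz a)), Perm.mul_apply,
          Perm.inv_eq_iff_eq] at h
        exact h
      have hUy : D.Same j (U⁻¹ y) := D.same_trans hy ((u⁻¹ : D.K).2 y (D.same_out hy hj))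
      -- transfer along the generator
      have e1 : (U * q * U⁻¹) y = (U * z ^ m * U⁻¹) y := by
        simp only [Perm.mul_apply]; rw [hmy _ hUy]
      have e2 : (U * z ^ m * U⁻¹) y = ((z ^ a) ^ m) y := by
        rw [← conj_zpow]
        have := D.fix_orbit hkp hj (q := ((z ^ a) ^ m)⁻¹ * (U * z * U⁻¹) ^ m)
          (mul_mem (inv_mem (zpow_mem (zpow_mem hz a) m)) (zpow_mem (hUP z hz) m)) ?_ hy
        · rwa [Perm.mul_apply, Perm.inv_eq_iff_eq] at this
        · rw [← inv_zpow, ← Commute.mul_zpow (D.comm_P hkp (inv_mem (zpow_mem hz a)) (hUP z hz))]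
          exact Function.IsFixedPt.perm_zpow (show ((z ^ a)⁻¹ * (U * z * U⁻¹)) j = j by
            rw [Perm.mul_apply, hz' j (D.same_refl j)]; simp) m
      have e3 : (q ^ a) y = ((z ^ m) ^ a) y := by
        have := D.fix_orbit hkp hj (q := ((z ^ m) ^ a)⁻¹ * q ^ a)
          (mul_mem (inv_mem (zpow_mem (zpow_mem hz m) a)) (zpow_mem hq a)) ?_ hy
        · rwa [Perm.mul_apply, Perm.inv_eq_iff_eq] at this
        · rw [← inv_zpow, ← Commute.mul_zpow (D.comm_P hkp (inv_mem (zpow_mem hz m)) hq)]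
          exact Function.IsFixedPt.perm_zpow (show ((z ^ m)⁻¹ * q) j = j by
            rw [Perm.mul_apply, hmy j (D.same_refl j)]; simp) a
      rw [e1, e2, e3, ← zpow_mul, ← zpow_mul, mul_comm]
    by_contra hwj
    -- `w` moves a third orbit
    obtain ⟨l, hl, hjl, hwl⟩ : ∃ l, l ∉ D.F ∧ ¬ D.Same j l ∧ w l ≠ l := by
      by_contra h
      push Not at h
      exact hwj (by rw [hnc w hwP j hj h]; rfl)
    have hil : ¬ D.Same i l := fun h => hwl (hwi l h)
    have hcov : ∀ y, y ∉ D.F → D.Same i y ∨ D.Same j y ∨ D.Same l y := fun y hy =>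
      D.orbit_cover hkp hk3 hi hj hl hy hij hil hjl
    -- the exponent of `w`
    set w' := U * w * U⁻¹ * (w ^ b)⁻¹ with hw'def
    have hw'1 : w' = 1 := by
      refine hnc w' (hw w hwP b) l hl fun y hy hly => ?_
      rcases hcov y hy with h | h | h
      · exact hwfix0 w hwP b y hy (hwi y h)
      · exact hwfix w hwP b y hy (hb w hwP y h)
      · exact absurd h hly
    have hUw : U * w * U⁻¹ = w ^ b := mul_inv_eq_one.1 hw'1
    -- kill the orbit of `j` in `z`
    obtain ⟨m, hm⟩ := D.rho_gen hkp hj hwP hwj hz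
    have hzm : z j = (w ^ m) j := by
      have e : (((D.emb w hwP ^ m : D.K) : D.N) : Perm α) = w ^ m := by simp [emb]
      rw [← map_zpow] at hm
      have h := congrArg Subtype.val (DFunLike.congr_fun hm ⟨j, D.same_refl j⟩)
      simpa [ρ, e, emb] using h
    set v := (w ^ m)⁻¹ * z with hvdef
    have hvP : v ∈ D.P := mul_mem (inv_mem (zpow_mem hwP m)) hz
    have hvj : v j = j := by rw [hvdef, Perm.mul_apply, hzm]; simp
    have hv1 : U * v * U⁻¹ * (v ^ a)⁻¹ = 1 := by
      refine hnc _ (hw v hvP a) l hl fun y hy hly => ?_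
      rcases hcov y hy with h | h | h
      · exact hwfix v hvP a y hy (ha v hvP y h)
      · exact hwfix0 v hvP a y hy (D.fix_orbit hkp hj hvP hvj h)
      · exact absurd h hly
    have hUv : U * v * U⁻¹ = v ^ a := mul_inv_eq_one.1 hv1
    -- `v` moves the orbit of `l`
    have hvl : v l ≠ l := by
      intro h
      have hvi : v i ≠ i := by
        intro h'
        rw [hvdef, Perm.mul_apply, Perm.inv_eq_iff_eq, Function.IsFixedPt.perm_zpow (hwi i (D.same_refl i)) m] at h'
        exact hzi h'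
      refine hvi ?_
      rw [hnc v hvP i hi fun y hy hiy => ?_]
      · rfl
      rcases hcov y hy with h' | h' | h'
      · exact absurd h' hiy
      · exact D.fix_orbit hkp hj hvP hvj h'
      · exact D.fix_orbit hkp hl hvP h h'
    obtain ⟨c, hc⟩ := hexp hl
    obtain ⟨d, hd⟩ := D.rho_gen hkp hl hvP hvl hwP
    have hvac : v ^ a = v ^ c := D.zpow_eq hkp hvP hvl (by rw [← hc v hvP l (D.same_refl l), hUv])
    have hwbc : w ^ b = w ^ c := D.zpow_eq hkp hwP hwl (by rw [← hc w hwP l (D.same_refl l), hUw])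
    have hzc : U * z * U⁻¹ = z ^ c := by
      have hz' : z = w ^ m * v := by rw [hvdef]; group
      calc U * z * U⁻¹ = (U * w * U⁻¹) ^ m * (U * v * U⁻¹) := by rw [hz', conj_zpow]; group
        _ = (w ^ m) ^ c * v ^ c := by rw [hUw, hUv, hwbc, hvac, ← zpow_mul, ← zpow_mul, mul_comm c]
        _ = z ^ c := by
          rw [← Commute.mul_zpow (D.comm_P hkp (zpow_mem hwP m) hvP), ← hz']
    have hca : z ^ c = z ^ a := by
      have h := ha z hz i (D.same_refl i)
      rw [hzc] at h
      exact D.zpow_eq hkp hz hzi h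
    apply hwj
    rw [hwdef, hzc, hca, mul_inv_cancel]
    rfl
  ext x
  by_cases hx : x ∈ D.F
  · exact D.fix _ (hw q₀ hq₀ a) x hx
  · exact hwfix q₀ hq₀ a x hx (key x hx q₀ hq₀ x (D.same_refl x))

/-- Elements of `K` centralizing `P`. -/
def Cent : Subgroup D.K where
  carrier := {u | D.Central u}
  one_mem' q _ := by simp
  mul_mem' {u v} hu hv q hq := by
    show ((u : D.N) : Perm α) * ((v : D.N) : Perm α) * q = _
    rw [mul_assoc, hv q hq, ← mul_assoc, hu q hq, mul_assoc]
    rfl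
  inv_mem' {u} hu q hq := by
    show ((u : D.N) : Perm α)⁻¹ * q = q * ((u : D.N) : Perm α)⁻¹
    rw [inv_mul_eq_iff_eq_mul, ← mul_assoc, hu q hq, mul_assoc, mul_inv_cancel, mul_one]

include hkp in
/-- Degree nine. -/
theorem nine (hp3 : p = 3) (hk2 : k = 2) (hr3 : r = 3) (hG : IsMultiplyPretransitive G α 4)
    (hnc : ∀ q ∈ D.P, ∀ x, x ∉ D.F → (∀ y, y ∉ D.F → ¬ D.Same x y → q y = y) → q = 1)
    (c : D.K) (hc : D.Central c) (hψ : D.ψ c ≠ 1) : alternatingGroup α ≤ G := by
  classical
  subst hp3 hk2 hr3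
  have := hG
  by_contra halt
  have hn : Fintype.card α = 9 := by rw [D.card_compl]
  have hcompl : (Finset.univ \ D.F).card = 6 := by
    rw [Finset.card_sdiff_of_subset (Finset.subset_univ _), D.card_F, Finset.card_univ, hn]
  have hsemi : ∀ g ∈ G, (∀ i ∈ D.F, g i = i) → ∀ d, d ∉ D.F → g d = d → g = 1 := by
    intro g hg hgF d hd hgd
    by_contra h1
    refine halt (small_support hG (by omega) (Finset.univ \ insert d D.F) ?_ hg h1 fun i hi => ?_)
    · rw [Finset.card_sdiff_of_subset (Finset.subset_univ _), Finset.card_insert_of_notMem hd,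
        D.card_F, Finset.card_univ, hn]
    · simp at hi
      by_cases hid : i = d
      · subst hid; exact hgd
      · exact hgF i (hi hid)
  obtain ⟨a, b, cc, hab, hac, hbc, hF⟩ := Finset.card_eq_three.1 D.card_F
  have h3 : ∀ y, y ≠ a → y ≠ b → ∀ w, w ≠ a → w ≠ b → ∃ g ∈ G, g a = a ∧ g b = b ∧ g y = w := by
    intro y hya hyb w hwa hwb
    have : IsMultiplyPretransitive G α 3 :=
      isMultiplyPretransitive_of_le (n := 4) (by norm_num) (by simp [hn])
    have h1 : Function.Injective ![a, b, y] := by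
      rw [← List.nodup_ofFn]; simp [List.ofFn_succ, hab, Ne.symm hya, Ne.symm hyb]
    have h2 : Function.Injective ![a, b, w] := by
      rw [← List.nodup_ofFn]; simp [List.ofFn_succ, hab, Ne.symm hwa, Ne.symm hwb]
    obtain ⟨g, hg, hgm⟩ := exists_map this ⟨_, h1⟩ ⟨_, h2⟩
    exact ⟨g, hg, hgm 0, hgm 1, hgm 2⟩
  have h4 : ∀ y, y ∉ D.F → ∀ w, w ∉ D.F → ∃ g ∈ G, (∀ i ∈ D.F, g i = i) ∧ g y = w := by
    intro y hy w hw
    rw [hF] at hy hw
    simp at hy hw
    have h1 : Function.Injective ![a, b, cc, y] := by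
      rw [← List.nodup_ofFn]
      simp [List.ofFn_succ, hab, hac, hbc, Ne.symm hy.1, Ne.symm hy.2.1, Ne.symm hy.2.2]
    have h2 : Function.Injective ![a, b, cc, w] := by
      rw [← List.nodup_ofFn]
      simp [List.ofFn_succ, hab, hac, hbc, Ne.symm hw.1, Ne.symm hw.2.1, Ne.symm hw.2.2]
    obtain ⟨g, hg, hgm⟩ := exists_map hG ⟨_, h1⟩ ⟨_, h2⟩
    refine ⟨g, hg, fun i hi => ?_, hgm 3⟩
    rw [hF] at hi
    simp at hi
    rcases hi with rfl | rfl | rfl
    exacts [hgm 0, hgm 1, hgm 2]
  -- the stabilizer of two points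
  set H : Subgroup (Perm α) := G ⊓ fixingSubgroup (Perm α) ({a, b} : Set α) with hH
  have hmemH : ∀ g, g ∈ H ↔ g ∈ G ∧ g a = a ∧ g b = b := fun g => by
    simp [hH, mem_fixingSubgroup_iff]
  set GF : Subgroup H := stabilizer H cc with hGF
  have hmemGF : ∀ g : H, g ∈ GF ↔ ∀ i ∈ D.F, (g : Perm α) i = i := by
    intro g
    have hg := (hmemH g).1 g.2
    rw [hGF, mem_stabilizer_iff, hF]
    simp [hg.2.1, hg.2.2]
    rfl
  have hcardH : Nat.card H = 42 := by
    have ho : orbit H cc = (({a, b} : Finset α)ᶜ : Finset α) := by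
      ext w
      simp only [Finset.coe_compl, Set.mem_compl_iff, Finset.mem_coe, Finset.mem_insert,
        Finset.mem_singleton, not_or]
      constructor
      · rintro ⟨⟨g, hg⟩, rfl⟩
        obtain ⟨-, ga, gb⟩ := (hmemH g).1 hg
        exact ⟨fun h => hac (g.injective (ga.trans h.symm)), fun h => hbc (g.injective (gb.trans h.symm))⟩
      · rintro ⟨hwa, hwb⟩
        obtain ⟨g, hg, ga, gb, gc⟩ := h3 cc hac.symm hbc.symm w hwa hwb
        exact ⟨⟨g, (hmemH g).2 ⟨hg, ga, gb⟩⟩, gc⟩
    have hi : GF.index = 7 := by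
      rw [hGF, index_stabilizer, ho, Set.ncard_coe_finset, Finset.card_compl, Finset.card_pair hab, hn]
    obtain ⟨o, ho'⟩ : (Finset.univ \ D.F).Nonempty := Finset.card_pos.1 (by omega)
    simp at ho'
    have hc6 : Nat.card GF = 6 := by
      rw [← hcompl, ← Nat.card_eq_finsetCard]
      refine Nat.card_eq_of_bijective (fun g => ⟨((g : H) : Perm α) o, ?_⟩) ⟨?_, ?_⟩
      · simp
        intro h
        have := (hmemGF g).1 g.2 _ h
        exact ho' ((Equiv.injective _ this) ▸ h)
      · intro g g' h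
        refine Subtype.ext (Subtype.ext (inv_mul_eq_one.1 ?_))
        refine hsemi _ (G.mul_mem (G.inv_mem ((hmemH _).1 (g : H).2).1) ((hmemH _).1 (g' : H).2).1)
          (fun i hi => ?_) o ho' ?_
        · rw [Perm.mul_apply, (hmemGF g').1 g'.2 i hi, Perm.inv_eq_iff_eq, (hmemGF g).1 g.2 i hi]
        · rw [Perm.mul_apply, Perm.inv_eq_iff_eq]
          exact (congrArg Subtype.val h).symm
      · rintro ⟨w, hw⟩
        simp at hw
        obtain ⟨g, hg, hgF, rfl⟩ := h4 o ho' w hw
        refine ⟨⟨⟨g, (hmemH g).2 ⟨hg, hgF a (by simp [hF]), hgF b (by simp [hF])⟩⟩,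
          (hmemGF _).2 hgF⟩, rfl⟩
    rw [← GF.card_mul_index, hi, hc6]
  have h7 : Nat.Prime 7 := by decide
  have : Fact (Nat.Prime 7) := ⟨h7⟩
  let R : Sylow 7 H := default
  have hRc : Nat.card (R : Subgroup H) = 7 := by
    rw [R.card_eq_multiplicity, hcardH,
      show (42 : ℕ) = 7 * 6 from rfl, Nat.factorization_mul (by norm_num) (by norm_num)]
    simp [Nat.Prime.factorization h7,
      Nat.factorization_eq_zero_of_not_dvd (show ¬ 7 ∣ 6 by norm_num)]
  have hRn : (R : Subgroup H).Normal := by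
    have h1 : Nat.card (Sylow 7 H) ≡ 1 [MOD 7] := card_sylow_modEq_one 7 H
    have h2 : Nat.card (Sylow 7 H) ∣ 6 := by
      have hidx : (R : Subgroup H).index = 6 := by
        have := (R : Subgroup H).card_mul_index
        rw [hRc, hcardH] at this
        omega
      exact hidx ▸ R.card_dvd_index
    have h3' : Nat.card (Sylow 7 H) = 1 := by
      have := Nat.le_of_dvd (by norm_num) h2
      unfold Nat.ModEq at h1
      omega
    have : Subsingleton (Sylow 7 H) := (Nat.card_eq_one_iff_unique.1 h3').1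
    exact Sylow.normal_of_subsingleton R
  obtain ⟨⟨ρ, hρR⟩, hρg⟩ := (isCyclic_of_prime_card hRc).exists_generator
  have hgen : ∀ x ∈ (R : Subgroup H), ∃ i : ℤ, ρ ^ i = x := fun x hx => by
    obtain ⟨i, hi⟩ := hρg ⟨x, hx⟩
    exact ⟨i, congrArg Subtype.val hi⟩
  have hρ1 : ρ ≠ 1 := fun h => by
    have : Subsingleton (R : Subgroup H) := ⟨fun x y => by
      obtain ⟨i, hi⟩ := hgen x x.2
      obtain ⟨j, hj⟩ := hgen y y.2
      exact Subtype.ext (by rw [← hi, ← hj, h, one_zpow, one_zpow])⟩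
    have h0 := Finite.card_le_one_iff_subsingleton.2 this
    omega
  have hextH : ∀ g : H, (∀ w, w ≠ a → w ≠ b → (g : Perm α) w = w) → g = 1 := by
    intro g hg
    refine Subtype.ext (Equiv.ext fun w => ?_)
    obtain ⟨-, ga, gb⟩ := (hmemH g).1 g.2
    by_cases h1 : w = a
    · subst h1; exact ga
    by_cases h2 : w = b
    · subst h2; exact gb
    exact hg w h1 h2
  have hρcc : (ρ : Perm α) cc ≠ cc := by
    intro h
    refine hρ1 (hextH ρ fun w hwa hwb => ?_)
    obtain ⟨g, hg, ga, gb, rfl⟩ := h3 cc hac.symm hbc.symm w hwa hwb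
    let g' : H := ⟨g, (hmemH g).2 ⟨hg, ga, gb⟩⟩
    obtain ⟨i, hi⟩ := hgen _ (by simpa using hRn.conj_mem ρ hρR g'⁻¹ : g'⁻¹ * ρ * g' ∈ (R : Subgroup H))
    have e := congrArg (fun t : H => (t : Perm α) cc) hi
    simp [g', Function.IsFixedPt.perm_zpow h i] at e
    have e2 := congrArg g e
    simp at e2
    rw [Function.IsFixedPt.perm_zpow h i] at e2
    exact e2.symm
  have hRorb : ∀ w, w ≠ a → w ≠ b → ∃ i : ℤ, ((ρ : Perm α) ^ i) cc = w := by
    have hsub : orbit (Subgroup.zpowers (ρ : Perm α)) cc ⊆ (({a, b} : Finset α)ᶜ : Finset α) := by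
      rintro _ ⟨⟨_, i, rfl⟩, rfl⟩
      obtain ⟨-, ga, gb⟩ := (hmemH _).1 ρ.2
      simp only [Finset.coe_compl, Set.mem_compl_iff, Finset.mem_coe, Finset.mem_insert,
        Finset.mem_singleton, not_or]
      exact ⟨fun h => hac (((ρ : Perm α) ^ i).injective
          ((Function.IsFixedPt.perm_zpow ga i).trans h.symm)),
        fun h => hbc (((ρ : Perm α) ^ i).injective
          ((Function.IsFixedPt.perm_zpow gb i).trans h.symm))⟩
    have hρord : orderOf (ρ : Perm α) = 7 := by
      rw [Subgroup.orderOf_coe]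
      exact (orderOf_eq_prime_iff.2 ⟨by
        have := congrArg Subtype.val (pow_card_eq_one' (x := (⟨ρ, hρR⟩ : (R : Subgroup H))))
        rw [hRc] at this
        exact this, hρ1⟩)
    have hc7 : Nat.card (orbit (Subgroup.zpowers (ρ : Perm α)) cc) = 7 := by
      have hdvd : Nat.card (orbit (Subgroup.zpowers (ρ : Perm α)) cc) ∣ 7 := by
        rw [Nat.card_coe_set_eq, ← index_stabilizer, ← hρord, ← Nat.card_zpowers]
        exact index_dvd_card _
      refine ((Nat.dvd_prime h7).1 hdvd).resolve_left fun h => hρcc ?_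
      exact congrArg Subtype.val ((Finite.card_le_one_iff_subsingleton.1 h.le).elim
        (⟨_, ⟨⟨(ρ : Perm α), Subgroup.mem_zpowers _⟩, rfl⟩⟩ : orbit (Subgroup.zpowers (ρ : Perm α)) cc)
        ⟨cc, mem_orbit_self _⟩)
    have heq := Set.eq_of_subset_of_ncard_le hsub (by
      rw [← Nat.card_coe_set_eq (orbit _ _), hc7, Set.ncard_coe_finset, Finset.card_compl,
        Finset.card_pair hab, hn]) (Set.toFinite _)
    intro w hwa hwb
    have hw : w ∈ orbit (Subgroup.zpowers (ρ : Perm α)) cc := by rw [heq]; simp [hwa, hwb]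
    obtain ⟨⟨_, i, rfl⟩, h⟩ := hw
    exact ⟨i, h⟩
  have habel : ∀ g h : H, g ∈ GF → h ∈ GF → g * h = h * g := by
    intro g h hg hh
    obtain ⟨i, hi⟩ := hgen _ (hRn.conj_mem ρ hρR g)
    obtain ⟨j, hj⟩ := hgen _ (hRn.conj_mem ρ hρR h)
    have e : (g * h) * ρ * (g * h)⁻¹ = (h * g) * ρ * (h * g)⁻¹ := by
      calc (g * h) * ρ * (g * h)⁻¹ = g * (h * ρ * h⁻¹) * g⁻¹ := by group
        _ = (g * ρ * g⁻¹) ^ j := by rw [← hj, conj_zpow]
        _ = (h * ρ * h⁻¹) ^ i := by rw [← hi, ← hj, ← zpow_mul, ← zpow_mul, mul_comm]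
        _ = h * (g * ρ * g⁻¹) * h⁻¹ := by rw [← hi, conj_zpow]
        _ = _ := by group
    set d := (h * g)⁻¹ * (g * h) with hd
    have hcomm : Commute d ρ := by
      show d * ρ = ρ * d
      calc d * ρ = (h * g)⁻¹ * ((g * h) * ρ * (g * h)⁻¹) * (g * h) := by rw [hd]; group
        _ = (h * g)⁻¹ * ((h * g) * ρ * (h * g)⁻¹) * (g * h) := by rw [e]
        _ = ρ * d := by rw [hd]; group
    have hdcc : (d : Perm α) cc = cc := by
      have : d ∈ GF := mul_mem (inv_mem (mul_mem hh hg)) (mul_mem hg hh)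
      exact (hmemGF d).1 this cc (by simp [hF])
    have hd1 : d = 1 := hextH d fun w hwa hwb => by
      obtain ⟨i, rfl⟩ := hRorb w hwa hwb
      have := congrArg (fun t : H => (t : Perm α) cc) (hcomm.zpow_right i).eq
      simpa [hdcc] using this
    rw [hd, inv_mul_eq_one] at hd1
    exact hd1.symm
  -- the two orbits
  obtain ⟨o, ho⟩ : (Finset.univ \ D.F).Nonempty := Finset.card_pos.1 (by omega)
  simp at ho
  obtain ⟨y, hy, hoy⟩ : ∃ y, y ∉ D.F ∧ ¬ D.Same o y := by
    by_contra h
    push Not at h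
    have hle := Finset.card_le_card (s := Finset.univ \ D.F)
      (t := Finset.univ.filter fun y => D.Same o y) (fun y hy => by simp at hy ⊢; exact h y hy)
    have h0 := D.orbit_card hkp ho
    rw [Nat.card_eq_fintype_card, Fintype.card_subtype] at h0
    omega
  obtain ⟨X, hXG, hXF, hXo⟩ := h4 o ho y hy
  have toH : ∀ g ∈ G, (∀ i ∈ D.F, g i = i) → ∃ g' : H, g' ∈ GF ∧ (g' : Perm α) = g := fun g hg hgF =>
    ⟨⟨g, (hmemH g).2 ⟨hg, hgF a (by simp [hF]), hgF b (by simp [hF])⟩⟩, (hmemGF _).2 hgF, rfl⟩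
  have hXP : ∀ q ∈ D.P, X * q = q * X := by
    intro q hq
    obtain ⟨X', hX', eX⟩ := toH X hXG hXF
    obtain ⟨q', hq', eq'⟩ := toH q (D.le hq) (D.fix q hq)
    rw [← eX, ← eq', ← Subgroup.coe_mul, ← Subgroup.coe_mul, habel X' q' hX' hq']
  have hXN : X ∈ D.N := ⟨hXG, mem_normalizer_fintype fun q hq => by
    rw [hXP q hq, mul_inv_cancel_right]; exact hq⟩
  have hcover : ∀ w, w ∉ D.F → D.Same o w ∨ D.Same y w := by
    intro w hw
    by_contra h
    push Not at h
    rcases D.orbit_cover hkp (by norm_num) ho hy hw (d := w) hw hoy h.1 h.2 with h' | h' | h'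
    · exact h.1 h'
    · exact h.2 h'
    · -- three orbits are too many
      let O : α → Finset α := fun x => Finset.univ.filter fun z => D.Same x z
      have hO : ∀ {x : α}, x ∉ D.F → (O x).card = 3 := by
        intro x hx
        have h0 := D.orbit_card hkp hx
        rw [Nat.card_eq_fintype_card, Fintype.card_subtype] at h0
        exact h0
      have hdis : ∀ {x z : α}, ¬ D.Same x z → Disjoint (O x) (O z) := by
        intro x z hxz
        rw [Finset.disjoint_left]
        intro t ht ht'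
        simp [O] at ht ht'
        exact hxz (D.same_trans ht (D.same_symm ht'))
      have hle := Finset.card_le_card (s := O o ∪ O y ∪ O w) (t := Finset.univ \ D.F) (fun z hz => by
        simp [O] at hz
        simp
        rcases hz with hz | hz | hz
        exacts [D.same_out hz ho, D.same_out hz hy, D.same_out hz hw])
      rw [Finset.card_union_of_disjoint (Finset.disjoint_union_left.2 ⟨hdis h.1, hdis h.2⟩),
        Finset.card_union_of_disjoint (hdis hoy), hO ho, hO hy, hO hw] at hle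
      omega
  -- shift `c` to fix `o`
  obtain ⟨q₀, hq₀, hq₀o⟩ := c.2 o ho
  let c' : D.K := (D.emb q₀ hq₀)⁻¹ * c
  have hc' : D.Central c' := D.Cent.mul_mem (D.Cent.inv_mem (fun q hq => D.comm_P hkp hq₀ hq)) hc
  set C := ((c' : D.N) : Perm α) with hC
  have hCo : ∀ w, D.Same o w → C w = w := by
    rintro w ⟨q, hq, rfl⟩
    rw [← Perm.mul_apply, hc' q hq, Perm.mul_apply]
    congr 1
    show q₀⁻¹ (((c : D.N) : Perm α) o) = o
    rw [← hq₀o]; simp
  have hCF : ∀ i, i ∈ D.F → C i = ((c : D.N) : Perm α) i := fun i hi => by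
    show q₀⁻¹ (((c : D.N) : Perm α) i) = _
    exact D.fix _ (inv_mem hq₀) _ ((D.N_F (c : D.N).2).1 hi)
  have hXs : ∀ {w z}, D.Same w z → D.Same (X w) (X z) := fun h => D.N_same hXN h
  have hXy : D.Same o (X⁻¹ o) → False := fun h => hoy (by
    have := hXs h
    rw [hXo, Perm.coe_inv, apply_symm_apply] at this
    exact D.same_symm this)
  have hXio : X⁻¹ o ∉ D.F := fun h => ho (by simpa using (D.N_F hXN).1 h)
  have hyi : D.Same y (X⁻¹ o) := (hcover _ hXio).resolve_left hXy
  set d := X * C * X⁻¹ * C⁻¹ with hd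
  have hdG : d ∈ G := G.mul_mem (G.mul_mem (G.mul_mem hXG (c' : D.N).2.1) (G.inv_mem hXG))
    (G.inv_mem (c' : D.N).2.1)
  have hCiF : ∀ i ∈ D.F, C⁻¹ i ∈ D.F := fun i hi => (D.N_F (inv_mem (c' : D.N).2)).1 hi
  have hdF : ∀ i ∈ D.F, d i = i := by
    intro i hi
    rw [hd, Perm.mul_apply, Perm.mul_apply, Perm.mul_apply]
    rw [show X⁻¹ (C⁻¹ i) = C⁻¹ i by rw [Perm.inv_eq_iff_eq]; exact (hXF _ (hCiF i hi)).symm]
    simp [hXF i hi]
  have hdo : D.Same o (d o) := by
    rw [hd, Perm.mul_apply, Perm.mul_apply, Perm.mul_apply,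
      show C⁻¹ o = o by rw [Perm.inv_eq_iff_eq]; exact (hCo o (D.same_refl o)).symm]
    have h2 := hXs (c'.2 (X⁻¹ o) hXio)
    simpa [hC] using h2
  obtain ⟨q, hq, hqo⟩ := hdo
  have hdq : d = q := by
    refine (inv_mul_eq_one.1 ?_).symm
    refine hsemi _ (G.mul_mem (G.inv_mem (D.le hq)) hdG) (fun i hi => ?_) o ho ?_
    · rw [Perm.mul_apply, hdF i hi]; exact D.fix _ (inv_mem hq) i hi
    · rw [Perm.mul_apply, ← hqo]; simp
  have hXC : X * C * X⁻¹ = q * C := by rw [← hdq, hd, inv_mul_cancel_right]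
  have hqi : C (X⁻¹ o) = q⁻¹ (X⁻¹ o) := by
    obtain ⟨qy, hqy, hqy'⟩ := hyi
    have hCy : C y = q⁻¹ y := by
      have h : (X * C * X⁻¹) y = y := by
        rw [← hXo]; simp [hCo o (D.same_refl o)]
      rw [hXC, Perm.mul_apply] at h
      rw [eq_comm, Perm.inv_eq_iff_eq]; exact h.symm
    rw [← hqy', ← Perm.mul_apply, hc' qy hqy, Perm.mul_apply, hCy, ← Perm.mul_apply,
      D.comm_P hkp hqy (inv_mem hq), Perm.mul_apply]
  have hq1 : q = 1 := by
    have h : (X * C * X⁻¹) o = (q * C) o := by rw [hXC]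
    rw [Perm.mul_apply, Perm.mul_apply, Perm.mul_apply, hqi, hCo o (D.same_refl o),
      ← Perm.mul_apply, hXP _ (inv_mem hq), Perm.mul_apply] at h
    simp at h
    have h2 : (q ^ 2) o = o := by
      rw [pow_two, Perm.mul_apply, ← h]; simp
    have h3 : (q ^ 3) o = o := by rw [D.pow_p hkp hq]; rfl
    have h1 : q o = o := by
      rw [pow_succ', Perm.mul_apply, h2] at h3
      exact h3
    exact hsemi q (D.le hq) (D.fix q hq) o ho h1
  have hout : ∀ w, w ∉ D.F → C w = w := by
    intro w hw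
    rcases hcover w hw with h | h
    · exact hCo w h
    · obtain ⟨q', hq', rfl⟩ := D.same_trans (D.same_symm hyi) h
      rw [← Perm.mul_apply, hc' q' hq', Perm.mul_apply, hqi, hq1]; simp
  have hC1 : C ≠ 1 := by
    intro h
    apply hψ
    refine Equiv.ext fun i => Subtype.ext ?_
    show ((c : D.N) : Perm α) i = i
    rw [← hCF i i.2, h]; rfl
  exact halt (small_support hG (by omega) D.F (by rw [D.card_F]; norm_num) (c' : D.N).2.1 hC1 hout)

end Data

/-- Miller's theorem. -/
theorem alt_le {k p r : ℕ} [hp : Fact p.Prime] (hn : Fintype.card α = k * p + r) (hk : 1 ≤ k)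
    (hpk : k < p) (hkr : k < r) (hex : ¬ (k = 1 ∧ r = 2))
    (hG : IsMultiplyPretransitive G α (r + 1)) : alternatingGroup α ≤ G := by
  classical
  obtain ⟨D⟩ := exists_data (p := p) hk hn hG
  have hkp := hpk
  have := hG
  have hr3 : 3 ≤ r := by omega
  have hp2 := hp.out.two_le
  have hkp1 : p ≤ k * p := Nat.le_mul_of_pos_left p hk
  have hprim : IsPreprimitive G α := isPreprimitive_of_is_two_pretransitive
    (isMultiplyPretransitive_of_le (n := r + 1) (by omega) (by simp; omega))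
  by_cases hnc : ∀ q ∈ D.P, ∀ x, x ∉ D.F → (∀ y, y ∉ D.F → ¬ D.Same x y → q y = y) → q = 1
  swap
  · -- a cycle of prime length
    push Not at hnc
    obtain ⟨q, hq, x, hx, hfix, hq1⟩ := hnc
    have hord : orderOf q = p := orderOf_eq_prime (D.pow_p hkp hq) hq1
    have hsupp : q.support.card ≤ p := by
      have h0 := D.orbit_card hkp hx
      rw [Nat.card_eq_fintype_card, Fintype.card_subtype] at h0
      rw [← h0]
      refine Finset.card_le_card fun y hy => ?_
      simp only [Finset.mem_filter, Finset.mem_univ, true_and]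
      by_contra hxy
      refine Perm.mem_support.1 hy ?_
      by_cases hyF : y ∈ D.F
      · exact D.fix q hq y hyF
      · exact hfix y hyF hxy
    obtain ⟨m, hm⟩ := Perm.cycleType_prime_order (σ := q) (by rw [hord]; exact hp.out)
    rw [hord] at hm
    have hsum : q.support.card = (m + 1) * p := by
      rw [← Perm.sum_cycleType, hm, Multiset.sum_replicate, smul_eq_mul]
    have hm0 : m = 0 := by
      by_contra h
      have := Nat.mul_le_mul_right p (show 2 ≤ m + 1 by omega)
      omega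
    subst hm0
    exact S0713.result G hprim hp.out (by omega) (by omega)
      (Perm.card_cycleType_eq_one.1 (by rw [hm]; simp)) (by omega) (D.le hq)
  -- now at least two orbits
  have hk2 : 2 ≤ k := by
    by_contra h
    have hk1 : k = 1 := by omega
    obtain ⟨x, hx⟩ : (Finset.univ \ D.F).Nonempty := Finset.card_pos.1 (by
      rw [Finset.card_sdiff_of_subset (Finset.subset_univ _), D.card_F, Finset.card_univ, hn]; omega)
    simp at hx
    obtain ⟨q, hq, hne⟩ := D.move x hx
    suffices hall : ∀ y, y ∉ D.F → D.Same x y by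
      refine hne ?_
      rw [hnc q hq x hx fun y hy hxy => absurd (hall y hy) hxy]
      rfl
    intro y hy
    have h0 := D.orbit_card hkp hx
    rw [Nat.card_eq_fintype_card, Fintype.card_subtype] at h0
    have hsub : Finset.univ.filter (fun y => D.Same x y) = Finset.univ \ D.F := by
      refine Finset.eq_of_subset_of_card_le (fun z hz => ?_) ?_
      · simp at hz ⊢; exact D.same_out hz hx
      · rw [h0, Finset.card_sdiff_of_subset (Finset.subset_univ _), D.card_F, Finset.card_univ, hn, hk1]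
        omega
    have : y ∈ Finset.univ \ D.F := by simpa using hy
    rw [← hsub] at this
    simpa using this
  have hp3 : 3 ≤ p := by omega
  have hn8 : 8 ≤ Fintype.card α := by
    rw [hn]
    have := Nat.mul_le_mul hk2 hp3
    omega
  have hG4 : IsMultiplyPretransitive G α 4 :=
    isMultiplyPretransitive_of_le (n := r + 1) (by omega) (by simp; omega)
  rcases le_or_gt 5 r with hr | hr
  · -- the alternating group on the fixed points
    let A : Subgroup (Perm D.F) := D.K.map D.ψ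
    let B : Subgroup (Perm D.F) := (D.Cent.map D.K.subtype).map D.ψ
    let E : Subgroup (Perm D.F) := G.comap Perm.ofSubtype
    have hAn : A.Normal := Subgroup.Normal.map inferInstance _ D.ψ_surjective
    have hA : alternatingGroup D.F ≤ A := by
      refine Perm.alternatingGroup_le_of_normal (by simp [D.card_F]; omega) ?_
      rw [Subgroup.nontrivial_iff_exists_ne_one]
      obtain ⟨u, hu⟩ := D.exists_K_moving hkp hk hkr
      exact ⟨_, mem_map_of_mem _ u.2, hu⟩
    have hAB : ⁅A, A⁆ ≤ B := by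
      rw [commutator_le]
      rintro _ ⟨u, hu, rfl⟩ _ ⟨v, hv, rfl⟩
      refine ⟨_, ⟨⁅(⟨u, hu⟩ : D.K), ⟨v, hv⟩⁆, D.comm_central hkp _ _, rfl⟩, ?_⟩
      show D.ψ (D.K.subtype ⁅(⟨u, hu⟩ : D.K), ⟨v, hv⟩⁆) = _
      rw [map_commutatorElement, map_commutatorElement]
      rfl
    have hBE : ⁅B, B⁆ ≤ E := by
      rw [commutator_le]
      rintro _ ⟨_, ⟨u, hu, rfl⟩, rfl⟩ _ ⟨_, ⟨v, hv, rfl⟩, rfl⟩
      show Perm.ofSubtype ⁅D.ψ (D.K.subtype u), D.ψ (D.K.subtype v)⁆ ∈ G
      rw [← map_commutatorElement D.ψ, ← map_commutatorElement D.K.subtype, Subgroup.subtype_apply,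
        ← D.eq_ofSubtype fun x hx => D.central_comm hkp u v hu hv hx]
      exact ((⁅u, v⁆ : D.K) : D.N).2.1
    have hAlt := commutator_alternatingGroup_eq_self (α := D.F) (by simp [D.card_F]; omega)
    have hE : alternatingGroup D.F ≤ E := by
      refine le_trans ?_ hBE
      calc alternatingGroup D.F = ⁅alternatingGroup D.F, alternatingGroup D.F⁆ := hAlt.symm
        _ = ⁅⁅alternatingGroup D.F, alternatingGroup D.F⁆, ⁅alternatingGroup D.F, alternatingGroup D.F⁆⁆ := by
          rw [hAlt, hAlt]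
        _ ≤ ⁅B, B⁆ := commutator_mono ((commutator_mono hA hA).trans hAB)
          ((commutator_mono hA hA).trans hAB)
    obtain ⟨s, hs, hs3⟩ := Finset.exists_subset_card_eq (show 3 ≤ D.F.card by rw [D.card_F]; omega)
    obtain ⟨a, b, c, hab, hac, hbc, rfl⟩ := Finset.card_eq_three.1 hs3
    let a' : D.F := ⟨a, hs (by simp)⟩
    let b' : D.F := ⟨b, hs (by simp)⟩
    let c' : D.F := ⟨c, hs (by simp)⟩
    have h3 : (swap a' b' * swap a' c').IsThreeCycle :=
      Perm.isThreeCycle_swap_mul_swap_same (Subtype.coe_ne_coe.1 hab) (Subtype.coe_ne_coe.1 hac)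
        (Subtype.coe_ne_coe.1 hbc)
    have hmem := hE h3.mem_alternatingGroup
    refine small_support hG4 hn8 {a, b, c} (by omega) (show _ ∈ G from hmem) ?_ ?_
    · intro h
      have h' : Perm.ofSubtype (swap a' b' * swap a' c') = Perm.ofSubtype (1 : Perm D.F) := by
        rw [map_one]; exact h
      have := Perm.ofSubtype_injective h'
      rw [this] at h3
      simpa using h3.orderOf
    · intro i hi
      simp at hi
      rw [map_mul, Perm.ofSubtype_swap_eq, Perm.ofSubtype_swap_eq, Perm.mul_apply,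
        swap_apply_of_ne_of_ne hi.1 hi.2.2, swap_apply_of_ne_of_ne hi.1 hi.2.1]
  · -- three or four fixed points
    have hk3 : k ≤ 3 := by omega
    obtain ⟨u, hu⟩ := D.exists_K_moving hkp hk hkr
    have hcard : Fintype.card D.F = r := by rw [Fintype.card_coe, D.card_F]
    obtain ⟨σ, hσ1, hσe⟩ := comm_of_card (by omega) (D.ψ u) hu
    obtain ⟨g, hg⟩ := D.ψ_surjective σ
    let gu : D.K := ⟨g * (u : D.N) * g⁻¹, (inferInstance : D.K.Normal).conj_mem _ u.2 g⟩
    let c : D.K := gu * u⁻¹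
    have hψc : D.ψ c = σ * D.ψ u * σ⁻¹ * (D.ψ u)⁻¹ := by
      show D.ψ (g * (u : D.N) * g⁻¹ * (u : D.N)⁻¹) = _
      rw [map_mul, map_mul, map_mul, map_inv, map_inv, hg]
    have hcc : D.Central c := by
      intro q hq
      obtain ⟨a, ha⟩ := D.scalar hkp hk3 hnc u
      rw [← mul_inv_eq_iff_eq_mul]
      set U := ((u : D.N) : Perm α)
      show (g : Perm α) * U * (g : Perm α)⁻¹ * U⁻¹ * q * ((g : Perm α) * U * (g : Perm α)⁻¹ * U⁻¹)⁻¹ = q
      set q' := U⁻¹ * q * U with hq'
      have hq'P : q' ∈ D.P := D.N_conj' (u : D.N).2 hq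
      have e : q = q' ^ a := by rw [← ha q' hq'P, hq']; group
      calc (g : Perm α) * U * (g : Perm α)⁻¹ * U⁻¹ * q * ((g : Perm α) * U * (g : Perm α)⁻¹ * U⁻¹)⁻¹
          = (g : Perm α) * (U * ((g : Perm α)⁻¹ * q' * g) * U⁻¹) * (g : Perm α)⁻¹ := by rw [hq']; group
        _ = (g : Perm α) * ((g : Perm α)⁻¹ * q' * g) ^ a * (g : Perm α)⁻¹ := by
            rw [ha _ (D.N_conj' g.2 hq'P)]
        _ = q' ^ a := by rw [← conj_zpow]; congr 1; group
        _ = q := e.symm
    have hψc1 : D.ψ c ≠ 1 := by rw [hψc]; exact hσ1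
    by_cases h33 : r = 3 ∧ p = 3
    · exact D.nine hkp h33.2 (by omega) h33.1 hG4 hnc c hcc hψc1
    refine small_support hG4 hn8 D.F (by rw [D.card_F]; omega) ((c ^ p : D.K) : D.N).2.1 ?_
      fun i hi => D.central_pow hkp c hcc hi
    intro h
    apply hψc1
    have hcp : (D.ψ c) ^ p = 1 := by
      rw [← map_pow, ← SubmonoidClass.coe_pow]
      rw [show (((c ^ p : D.K) : D.N)) = 1 from Subtype.ext h, map_one]
    set e := if Fintype.card D.F = 3 then 3 else 2 with he
    have hce : (D.ψ c) ^ e = 1 := by rw [hψc]; exact hσe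
    have hco : Nat.Coprime p e := by
      rcases (show r = 3 ∨ r = 4 by omega) with h | h
      · rw [he, if_pos (by omega)]
        exact (Nat.coprime_primes hp.out Nat.prime_three).2 (by omega)
      · rw [he, if_neg (by omega)]
        exact (Nat.coprime_primes hp.out Nat.prime_two).2 (by omega)
    have := Nat.eq_one_of_dvd_coprimes hco (orderOf_dvd_of_pow_eq_one hcp) (orderOf_dvd_of_pow_eq_one hce)
    exact orderOf_eq_one_iff.1 this

end Cfsg.Agent.MillerTrans
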