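import Cfsg.Agent.Lib.Recog.Bochert
import Mathlib.GroupTheory.GroupAction.Primitive
import Mathlib.Algebra.BigOperators.Ring.Finset
import Mathlib.Tactic.Linarith
import Mathlib.Tactic.Positivity
import Mathlib.Tactic.Ring

/-!
# Minimal degree of primitive groups, without classification

For uniprimitive groups every pair of points is distinguished by at least `√n / 2` points (Babai); for
doubly transitive groups without three-cycles an averaging argument gives `n - 1 ≤ (m - 1)²`.
-/

set_option autoImplicit false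

namespace Cfsg.Agent.MinimalDegree

open Finset
open scoped Pointwise

variable {G Ω : Type*} [Group G] [MulAction G Ω]

/-! ### Commutator of two permutations with one common moved point -/

theorem commutator_isThreeCycle [Fintype Ω] [DecidableEq Ω] (g k : G) (a : Ω)
    (hga : g • a ≠ a) (hka : k • a ≠ a)
    (h : ∀ x, g • x ≠ x → k • x ≠ x → x = a) :
    (MulAction.toPerm (g * k * g⁻¹ * k⁻¹) : Equiv.Perm Ω).IsThreeCycle := by
  have hmove : ∀ (f : G) (x : Ω), f • x ≠ x → f • (f • x) ≠ f • x :=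
    fun f x hx e => hx (smul_left_cancel f e)
  have hmove' : ∀ (f : G) (x : Ω), f • x ≠ x → f • (f⁻¹ • x) ≠ f⁻¹ • x := by
    intro f x hx e
    rw [smul_inv_smul] at e
    apply hx
    conv_lhs => rw [e, smul_inv_smul]
  have hkfix : ∀ x, g • x ≠ x → x ≠ a → k • x = x := fun x hx hxa => by
    by_contra hc
    exact hxa (h x hx hc)
  have hgfix : ∀ x, k • x ≠ x → x ≠ a → g • x = x := fun x hx hxa => by
    by_contra hc
    exact hxa (h x hc hx)
  have hkfix' : ∀ x, g • x ≠ x → x ≠ a → k⁻¹ • x = x := fun x hx hxa =>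
    inv_smul_eq_iff.2 (hkfix x hx hxa).symm
  have hgfix' : ∀ x, k • x ≠ x → x ≠ a → g⁻¹ • x = x := fun x hx hxa =>
    inv_smul_eq_iff.2 (hgfix x hx hxa).symm
  have hbc : g • a ≠ k • a := fun e => hga (h (g • a) (hmove g a hga) (by rw [e]; exact hmove k a hka))
  have heq : (MulAction.toPerm (g * k * g⁻¹ * k⁻¹) : Equiv.Perm Ω) =
      Equiv.swap a (k • a) * Equiv.swap a (g • a) := by
    ext w
    show (g * k * g⁻¹ * k⁻¹) • w = Equiv.swap a (k • a) (Equiv.swap a (g • a) w)
    simp only [mul_smul]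
    rcases eq_or_ne w a with rfl | hwa
    · rw [Equiv.swap_apply_left, Equiv.swap_apply_of_ne_of_ne hga hbc]
      rw [hgfix' _ (hmove' k w hka) (fun e => hka (inv_smul_eq_iff.1 e).symm), smul_inv_smul]
    rcases eq_or_ne w (g • a) with rfl | hwb
    · rw [Equiv.swap_apply_right, Equiv.swap_apply_left, hkfix' _ (hmove g a hga) hga, inv_smul_smul,
        hgfix _ (hmove k a hka) hka]
    rw [Equiv.swap_apply_of_ne_of_ne hwa hwb]
    rcases eq_or_ne w (k • a) with rfl | hwc
    · rw [Equiv.swap_apply_right, inv_smul_smul,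
        hkfix _ (hmove' g a hga) (fun e => hga (inv_smul_eq_iff.1 e).symm), smul_inv_smul]
    rw [Equiv.swap_apply_of_ne_of_ne hwa hwc]
    by_cases hk : k • w = w
    · rw [inv_smul_eq_iff.2 hk.symm]
      by_cases hg : g • w = w
      · rw [inv_smul_eq_iff.2 hg.symm, hk, hg]
      · have h1 := hmove' g w hg
        have h2 : g⁻¹ • w ≠ a := fun e => hwb (inv_smul_eq_iff.1 e)
        rw [hkfix _ h1 h2, smul_inv_smul]
    · have h2 : k⁻¹ • w ≠ a := fun e => hwc (inv_smul_eq_iff.1 e)
      rw [hgfix' _ (hmove' k w hk) h2, smul_inv_smul, hgfix w hk hwa]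
  rw [heq]
  exact Equiv.Perm.isThreeCycle_swap_mul_swap_same hka.symm hga.symm hbc.symm

/-! ### Averaging -/

theorem sum_hits [Fintype G] {α : Type*} [DecidableEq α] [MulAction G α] (T S : Finset α)
    (hS : S ⊆ T) (hT : ∀ g : G, ∀ a ∈ T, g • a ∈ T)
    (htr : ∀ a ∈ T, ∀ b ∈ T, ∃ g : G, g • a = b) :
    (∑ g : G, (S.filter fun b => g • b ∈ S).card) * T.card = Fintype.card G * (S.card * S.card) := by
  classical
  have hfib : ∀ b ∈ T, ∀ a ∈ T, (univ.filter fun g : G => g • b = a).card * T.card = Fintype.card G := by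
    intro b hb a ha
    have hc := Finset.card_eq_sum_card_fiberwise (f := fun g : G => g • b) (s := univ) (t := T)
      (fun g _ => hT g b hb)
    rw [Finset.card_univ] at hc
    rw [hc, mul_comm, ← smul_eq_mul, ← Finset.sum_const]
    refine Finset.sum_congr rfl fun a' ha' => ?_
    obtain ⟨k, hk⟩ := htr a ha a' ha'
    refine Finset.card_bij (fun g _ => k * g) ?_ ?_ ?_
    · intro g hg
      simp only [mem_filter, mem_univ, true_and] at hg ⊢
      rw [mul_smul, hg, hk]
    · intro g _ g' _ e
      exact mul_left_cancel e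
    · intro g hg
      simp only [mem_filter, mem_univ, true_and] at hg
      refine ⟨k⁻¹ * g, ?_, mul_inv_cancel_left _ _⟩
      simp only [mem_filter, mem_univ, true_and]
      rw [mul_smul, hg, ← hk, inv_smul_smul]
  have hswap : ∑ g : G, (S.filter fun b => g • b ∈ S).card =
      ∑ b ∈ S, ∑ a ∈ S, (univ.filter fun g : G => g • b = a).card := by
    simp only [Finset.card_filter]
    rw [Finset.sum_comm]
    refine Finset.sum_congr rfl fun b _ => ?_
    rw [Finset.sum_comm]
    refine Finset.sum_congr rfl fun g _ => ?_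
    rw [Finset.sum_ite_eq S (g • b)]
  rw [hswap, Finset.sum_mul]
  rw [Finset.sum_congr rfl (fun b hb => by
    rw [Finset.sum_mul, Finset.sum_congr rfl (fun a ha => hfib b (hS hb) a (hS ha)), Finset.sum_const,
      smul_eq_mul] : ∀ b ∈ S, _ = S.card * Fintype.card G)]
  rw [Finset.sum_const, smul_eq_mul]
  ring

/-- The points moved by `g`. -/
def moved [Fintype Ω] [DecidableEq Ω] (g : G) : Finset Ω := univ.filter fun x => g • x ≠ x

theorem mem_moved [Fintype Ω] [DecidableEq Ω] {g : G} {x : Ω} : x ∈ moved g ↔ g • x ≠ x := by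
  simp [moved]

theorem two_transitive_bound [Fintype Ω] [DecidableEq Ω] [Finite G]
    (htwo : ∀ a b c d : Ω, a ≠ b → c ≠ d → ∃ g : G, g • a = c ∧ g • b = d)
    (hno : ¬ ∃ g : G, (MulAction.toPerm g : Equiv.Perm Ω).IsThreeCycle)
    {g : G} {a : Ω} (hga : g • a ≠ a) :
    Fintype.card Ω - 1 ≤ ((moved (Ω := Ω) g).card - 1) ^ 2 := by
  classical
  haveI := Fintype.ofFinite G
  set S : Finset Ω := moved g with hS
  set n := Fintype.card Ω
  set m := S.card
  have haS : a ∈ S := mem_moved.2 hga
  have hn2 : 2 ≤ n := Fintype.one_lt_card_iff.2 ⟨g • a, a, hga⟩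
  have hm : 0 < m := Finset.card_pos.2 ⟨a, haS⟩
  have hX : ∀ h : G, (S.filter fun b => h • b ∈ S).card ≠ 1 := by
    intro h e
    obtain ⟨b, hb⟩ := Finset.card_eq_one.1 e
    have hbm : b ∈ S.filter fun b => h • b ∈ S := hb ▸ Finset.mem_singleton_self b
    rw [mem_filter, hS, mem_moved, mem_moved] at hbm
    refine hno ⟨_, commutator_isThreeCycle g (h⁻¹ * g * h) b hbm.1 ?_ ?_⟩
    · rw [mul_smul, mul_smul, ne_eq, inv_smul_eq_iff]
      exact hbm.2
    · intro x hx hx'
      rw [mul_smul, mul_smul, ne_eq, inv_smul_eq_iff] at hx'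
      exact Finset.mem_singleton.1 (hb ▸ mem_filter.2 ⟨mem_moved.2 hx, mem_moved.2 hx'⟩)
  have h1 := sum_hits (G := G) (univ : Finset Ω) S (subset_univ _) (fun _ _ _ => mem_univ _) (by
    intro x _ y _
    obtain ⟨x', hx'⟩ := Fintype.exists_ne_of_one_lt_card (by omega) x
    obtain ⟨y', hy'⟩ := Fintype.exists_ne_of_one_lt_card (by omega) y
    obtain ⟨k, hk, -⟩ := htwo x x' y y' hx'.symm hy'.symm
    exact ⟨k, hk⟩)
  have h2 := sum_hits (G := G) (univ : Finset Ω).offDiag S.offDiag
    (Finset.offDiag_mono (subset_univ _))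
    (fun k p hp => by
      simp only [mem_offDiag, mem_univ, true_and] at hp ⊢
      exact fun e => hp (smul_left_cancel k e))
    (fun p hp q hq => by
      simp only [mem_offDiag, mem_univ, true_and] at hp hq
      obtain ⟨k, hk, hk'⟩ := htwo p.1 p.2 q.1 q.2 hp hq
      exact ⟨k, Prod.ext hk hk'⟩)
  have hpair : ∀ h : G, (S.offDiag.filter fun p => h • p ∈ S.offDiag).card =
      (S.filter fun b => h • b ∈ S).card * (S.filter fun b => h • b ∈ S).card -
        (S.filter fun b => h • b ∈ S).card := by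
    intro h
    rw [← Finset.offDiag_card]
    congr 1
    ext p
    simp only [mem_filter, mem_offDiag, Prod.smul_fst, Prod.smul_snd, ne_eq, smul_left_cancel_iff]
    tauto
  have hle : ∑ h : G, (S.filter fun b => h • b ∈ S).card ≤
      ∑ h : G, (S.offDiag.filter fun p => h • p ∈ S.offDiag).card := by
    refine Finset.sum_le_sum fun h _ => ?_
    rw [hpair]
    have := hX h
    generalize (S.filter fun b => h • b ∈ S).card = c at this ⊢
    rcases Nat.lt_or_ge c 1 with hc | hc
    · omega
    · have : 2 * c ≤ c * c := Nat.mul_le_mul_right c (by omega)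
      omega
  simp only [Finset.card_univ, Finset.offDiag_card] at h1 h2
  have hG : 0 < Fintype.card G := Fintype.card_pos
  have hn' : n * n - n = n * (n - 1) := by rw [Nat.mul_sub_one]
  have hm' : m * m - m = m * (m - 1) := by rw [Nat.mul_sub_one]
  have key : Fintype.card G * (m * m) * (n - 1) ≤
      Fintype.card G * (m * m) * ((m - 1) ^ 2) := by
    calc Fintype.card G * (m * m) * (n - 1)
        = (∑ h : G, (S.filter fun b => h • b ∈ S).card) * (n * (n - 1)) := by
          rw [← h1]; ring
      _ ≤ (∑ h : G, (S.offDiag.filter fun p => h • p ∈ S.offDiag).card) * (n * (n - 1)) :=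
          Nat.mul_le_mul_right _ hle
      _ = Fintype.card G * (m * m) * ((m - 1) ^ 2) := by
          rw [← hn', h2, hm']; ring
  exact Nat.le_of_mul_le_mul_left key (by positivity)

/-! ### Distinguishing points -/

variable (G) in
/-- The stabiliser of `z` does not carry `a` to `b`. -/
def Dist (a b z : Ω) : Prop := ¬ ∃ g : G, g • z = z ∧ g • a = b

theorem Dist.moved {g : G} {a z : Ω} (h : Dist G a (g • a) z) : g • z ≠ z :=
  fun e => h ⟨g, e, rfl⟩

theorem dist_comm {a b z : Ω} : Dist G a b z ↔ Dist G b a z := by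
  constructor <;> rintro h ⟨g, h1, h2⟩ <;>
    exact h ⟨g⁻¹, inv_smul_eq_iff.2 h1.symm, inv_smul_eq_iff.2 h2.symm⟩

theorem dist_smul {a b z : Ω} (k : G) : Dist G (k • a) (k • b) (k • z) ↔ Dist G a b z := by
  constructor
  · rintro h ⟨g, h1, h2⟩
    exact h ⟨k * g * k⁻¹, by simp [mul_smul, h1], by simp [mul_smul, h2]⟩
  · rintro h ⟨g, h1, h2⟩
    exact h ⟨k⁻¹ * g * k, by simp [mul_smul, h1], by simp [mul_smul, h2]⟩

theorem dist_trans {a b c z : Ω} (h : Dist G a c z) : Dist G a b z ∨ Dist G b c z := by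
  by_contra hc
  push Not at hc
  obtain ⟨⟨g, g1, g2⟩, ⟨k, k1, k2⟩⟩ := And.intro (not_not.1 hc.1) (not_not.1 hc.2)
  exact h ⟨k * g, by rw [mul_smul, g1, k1], by rw [mul_smul, g2, k2]⟩

/-! ### The undirected orbital graph -/

variable (G) in
/-- Adjacency in the undirected orbital graph of `(u, v)`. -/
def Adj (u v x y : Ω) : Prop := ∃ g : G, (g • u = x ∧ g • v = y) ∨ (g • u = y ∧ g • v = x)

theorem adj_base {u v : Ω} : Adj G u v u v := ⟨1, .inl ⟨one_smul _ _, one_smul _ _⟩⟩

theorem Adj.symm {u v x y : Ω} (h : Adj G u v x y) : Adj G u v y x :=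
  h.elim fun g hg => ⟨g, hg.symm⟩

theorem Adj.smul {u v x y : Ω} (h : Adj G u v x y) (k : G) : Adj G u v (k • x) (k • y) := by
  obtain ⟨g, hg⟩ := h
  refine ⟨k * g, ?_⟩
  rcases hg with ⟨h1, h2⟩ | ⟨h1, h2⟩
  · exact .inl ⟨by rw [mul_smul, h1], by rw [mul_smul, h2]⟩
  · exact .inr ⟨by rw [mul_smul, h1], by rw [mul_smul, h2]⟩

variable (G) in
/-- Walks of length `k`. -/
def Walk (u v : Ω) : ℕ → Ω → Ω → Prop
  | 0, x, y => x = y
  | k + 1, x, y => ∃ z, Walk u v k x z ∧ Adj G u v z y

theorem Walk.smul {u v : Ω} (g : G) : ∀ {k : ℕ} {x y : Ω}, Walk G u v k x y →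
    Walk G u v k (g • x) (g • y)
  | 0, _, _, h => congrArg (g • ·) h
  | _ + 1, _, _, ⟨z, h, h'⟩ => ⟨g • z, h.smul g, h'.smul g⟩

theorem Walk.trans {u v : Ω} : ∀ {k l : ℕ} {x y z : Ω}, Walk G u v k x y → Walk G u v l y z →
    Walk G u v (k + l) x z
  | _, 0, _, _, _, h, (e : _ = _) => e ▸ h
  | _, _ + 1, _, _, _, h, ⟨w, h', h''⟩ => ⟨w, h.trans h', h''⟩

theorem Walk.symm {u v : Ω} : ∀ {k : ℕ} {x y : Ω}, Walk G u v k x y → Walk G u v k y x
  | 0, _, _, (e : _ = _) => e.symm
  | k + 1, x, y, ⟨z, h, h'⟩ => by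
    have h1 : Walk G u v 1 y z := ⟨y, rfl, h'.symm⟩
    have := h1.trans h.symm
    rwa [Nat.add_comm] at this

theorem connected (hprim : MulAction.IsPreprimitive G Ω) {u v : Ω} (huv : u ≠ v) (x y : Ω) :
    ∃ k, Walk G u v k x y := by
  set B : Set Ω := {w | ∃ k, Walk G u v k u w}
  have huB : u ∈ B := ⟨0, rfl⟩
  have hvB : v ∈ B := ⟨1, u, rfl, adj_base⟩
  have hblock : MulAction.IsBlock G B := by
    intro g h hne
    rw [Set.disjoint_iff_inter_eq_empty]
    by_contra hint
    obtain ⟨w, hw1, hw2⟩ := Set.nonempty_iff_ne_empty.2 hint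
    refine hne ?_
    obtain ⟨a, ⟨k, hk⟩, rfl⟩ := hw1
    obtain ⟨b, ⟨l, hl⟩, hb⟩ := hw2
    have key : ∀ (g h : G) (a b : Ω) (k l : ℕ), Walk G u v k u a → Walk G u v l u b → h • b = g • a →
        g • B ⊆ h • B := by
      rintro g h a b k l hk hl hb _ ⟨c, ⟨i, hi⟩, rfl⟩
      refine ⟨h⁻¹ • g • c, ⟨l + (k + i), hl.trans ?_⟩, smul_inv_smul _ _⟩
      have h1 := (hk.symm.trans hi).smul g
      rw [← hb] at h1
      have h2 := h1.smul h⁻¹
      rwa [inv_smul_smul] at h2
    exact Set.Subset.antisymm (key g h a b k l hk hl hb) (key h g b a l k hl hk hb.symm)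
  rcases hprim.isTrivialBlock_of_isBlock hblock with h | h
  · exact absurd (h huB hvB) huv
  · obtain ⟨k, hk⟩ : x ∈ B := by rw [h]; trivial
    obtain ⟨l, hl⟩ : y ∈ B := by rw [h]; trivial
    exact ⟨k + l, hk.symm.trans hl⟩

section Shells

variable (hprim : MulAction.IsPreprimitive G Ω) {u v : Ω} (huv : u ≠ v)
include hprim huv

open scoped Classical in
/-- The graph distance. -/
noncomputable def gdist (x y : Ω) : ℕ := Nat.find (connected hprim huv x y)

theorem walk_gdist (x y : Ω) : Walk G u v (gdist hprim huv x y) x y := by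
  classical
  exact Nat.find_spec (connected hprim huv x y)

theorem gdist_le {x y : Ω} {k : ℕ} (h : Walk G u v k x y) : gdist hprim huv x y ≤ k := by
  classical
  exact Nat.find_min' _ h

theorem gdist_smul (g : G) (x y : Ω) : gdist hprim huv (g • x) (g • y) = gdist hprim huv x y := by
  refine le_antisymm (gdist_le _ _ ((walk_gdist hprim huv x y).smul g)) (gdist_le _ _ ?_)
  simpa using (walk_gdist hprim huv (g • x) (g • y)).smul g⁻¹

theorem gdist_adj_le {x y z : Ω} (h : Adj G u v y z) :
    gdist hprim huv x z ≤ gdist hprim huv x y + 1 :=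
  gdist_le _ _ ⟨y, walk_gdist hprim huv x y, h⟩

theorem exists_gdist_eq {x : Ω} : ∀ {k : ℕ} {y : Ω}, Walk G u v k x y →
    ∀ j ≤ gdist hprim huv x y, ∃ w, gdist hprim huv x w = j
  | 0, y, h, j, hj => by
    have := gdist_le hprim huv h
    exact ⟨y, by omega⟩
  | k + 1, y, ⟨z, hz, hzy⟩, j, hj => by
    by_cases hle : j ≤ gdist hprim huv x z
    · exact exists_gdist_eq hz j hle
    · have := gdist_adj_le hprim huv (x := x) hzy
      exact ⟨y, by omega⟩

/-- Along a geodesic from `x` through a neighbour, all levels are distinguished. -/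
theorem exists_dist_level {x x' : Ω} (hadj : Adj G u v x x') : ∀ {k : ℕ} {y : Ω}, Walk G u v k x' y →
    gdist hprim huv x y = k + 1 → ∀ j, 1 ≤ j → j ≤ k + 1 →
      ∃ w, gdist hprim huv x w = j ∧ gdist hprim huv x' w < j := by
  intro k
  induction k with
  | zero =>
    intro y h e j h1 h2
    have := gdist_le hprim huv h
    exact ⟨y, by omega, by omega⟩
  | succ k ih =>
    intro y h e j h1 h2
    rcases eq_or_lt_of_le h2 with rfl | hlt
    · have := gdist_le hprim huv h
      exact ⟨y, e, by omega⟩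
    · obtain ⟨z, hz, hzy⟩ := h
      have h3 := gdist_adj_le hprim huv (x := x) hzy
      by_cases hz' : gdist hprim huv x z = k + 1
      · exact ih hz hz' j h1 (by omega)
      · -- a shorter walk to `z` from `x` would shorten the one to `y`
        exfalso
        have h4 : gdist hprim huv x z ≤ gdist hprim huv x x' + k :=
          gdist_le _ _ ((walk_gdist hprim huv x x').trans hz)
        have h5 : gdist hprim huv x x' ≤ 1 := gdist_le _ _ ⟨x, rfl, hadj⟩
        omega

end Shells

variable [Fintype Ω] [DecidableEq Ω]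

open scoped Classical in
variable (G) in
/-- The points distinguishing `a` and `b`. -/
noncomputable def diffSet (a b : Ω) : Finset Ω := univ.filter fun z => Dist G a b z

theorem mem_diffSet {a b z : Ω} : z ∈ diffSet G a b ↔ Dist G a b z := by
  classical
  simp [diffSet]

theorem card_diffSet_smul (k : G) (a b : Ω) :
    (diffSet G (k • a) (k • b)).card = (diffSet G a b).card := by
  symm
  refine Finset.card_bij (fun z _ => k • z) (fun z hz => mem_diffSet.2 ((dist_smul k).2 (mem_diffSet.1 hz)))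
    (fun _ _ _ _ e => smul_left_cancel k e) (fun z hz => ⟨k⁻¹ • z, ?_, smul_inv_smul _ _⟩)
  rw [mem_diffSet, ← dist_smul k, smul_inv_smul]
  exact mem_diffSet.1 hz

theorem card_diffSet_adj {u v x y : Ω} (h : Adj G u v x y) :
    (diffSet G x y).card = (diffSet G u v).card := by
  obtain ⟨g, ⟨rfl, rfl⟩ | ⟨rfl, rfl⟩⟩ := h
  · exact card_diffSet_smul g u v
  · rw [show diffSet G (g • v) (g • u) = diffSet G (g • u) (g • v) from
      Finset.ext fun z => by rw [mem_diffSet, mem_diffSet, dist_comm]]
    exact card_diffSet_smul g u v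

theorem card_diffSet_walk {u v : Ω} : ∀ {k : ℕ} {x y : Ω}, Walk G u v k x y →
    (diffSet G x y).card ≤ k * (diffSet G u v).card
  | 0, x, _, (e : _ = _) => by
    subst e
    rw [Finset.card_eq_zero.2 (Finset.eq_empty_of_forall_notMem fun z hz =>
      mem_diffSet.1 hz ⟨1, one_smul _ _, one_smul _ _⟩)]
    simp
  | k + 1, x, y, ⟨z, hz, hzy⟩ => by
    refine (Finset.card_le_card (t := diffSet G x z ∪ diffSet G z y) fun w hw => ?_).trans
      ((Finset.card_union_le _ _).trans ?_)
    · rw [Finset.mem_union, mem_diffSet, mem_diffSet]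
      exact dist_trans (mem_diffSet.1 hw)
    · rw [card_diffSet_adj hzy, Nat.add_mul, Nat.one_mul]
      exact Nat.add_le_add_right (card_diffSet_walk hz) _

/-- The diameter is less than the distinguishing number. -/
theorem gdist_lt_diff (hprim : MulAction.IsPreprimitive G Ω) {u v : Ω} (huv : u ≠ v) {x y : Ω}
    (hxy : x ≠ y) : gdist hprim huv x y < (diffSet G u v).card := by
  classical
  set d := gdist hprim huv x y with hd
  obtain ⟨k, hk⟩ : ∃ k, d = k + 1 := by
    refine ⟨d - 1, ?_⟩
    have h : d ≠ 0 := fun e => by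
      have := walk_gdist hprim huv x y
      rw [← hd, e] at this
      exact hxy this
    omega
  have hw : Walk G u v (k + 1) y x := hk ▸ (walk_gdist hprim huv x y).symm
  obtain ⟨x', hx', hadj⟩ := hw
  have hlev := exists_dist_level hprim huv hadj.symm hx'.symm (hd ▸ hk)
  choose w hw1 hw2 using hlev
  let f : Fin (d + 1) → Ω := fun j => if h : 1 ≤ (j : ℕ) then w j h (by omega) else x
  have hf : ∀ j, gdist hprim huv x (f j) = j := by
    intro j
    simp only [f]
    split
    · exact hw1 _ _ _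
    · have : gdist hprim huv x x ≤ 0 := gdist_le _ _ (rfl : Walk G u v 0 x x)
      omega
  have hne : ∀ j, gdist hprim huv x' (f j) ≠ gdist hprim huv x (f j) := by
    intro j
    rw [hf]
    simp only [f]
    split
    next h => exact (hw2 _ h _).ne
    next h =>
      intro e
      have h0 : gdist hprim huv x' x = 0 := by omega
      have := walk_gdist hprim huv x' x
      rw [h0] at this
      have e' : x' = x := this
      subst e'
      have := gdist_le hprim huv hx'.symm
      omega
  have hcard : (univ.image f).card = d + 1 := by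
    rw [Finset.card_image_of_injective _ (fun i j e => Fin.ext (by rw [← hf i, ← hf j, e])),
      Finset.card_univ, Fintype.card_fin]
  rw [← card_diffSet_adj hadj]
  refine Nat.lt_of_lt_of_le (Nat.lt_succ_self d) (hcard.ge.trans (Finset.card_le_card ?_))
  intro z hz
  obtain ⟨j, -, rfl⟩ := Finset.mem_image.1 hz
  rw [mem_diffSet]
  rintro ⟨g, hg1, hg2⟩
  apply hne j
  have := gdist_smul hprim huv g x' (f j)
  rw [hg1, hg2] at this
  exact this.symm

/-- Babai: in a uniprimitive group two points are distinguished by at least `√n / 2` points. -/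
theorem distinguishing_bound [Finite G] (hprim : MulAction.IsPreprimitive G Ω)
    (huni : ¬ ∀ a b c d : Ω, a ≠ b → c ≠ d → ∃ g : G, g • a = c ∧ g • b = d)
    {u v : Ω} (huv : u ≠ v) :
    Fintype.card Ω ≤ 4 * (diffSet G u v).card ^ 2 := by
  classical
  haveI := hprim.toIsPretransitive
  set n := Fintype.card Ω with hn
  set D := (diffSet G u v).card
  let O : Ω → Ω → Finset Ω := fun z x => univ.filter fun y => ∃ g : G, g • z = z ∧ g • x = y
  by_cases hA : ∀ z, 4 * (O z u).card ≤ 3 * n
  · have hsum : ∑ y, (diffSet G u y).card = ∑ z, (n - (O z u).card) := by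
      simp only [diffSet, Finset.card_filter]
      rw [Finset.sum_comm]
      refine Finset.sum_congr rfl fun z _ => ?_
      rw [← Finset.card_filter]
      show _ = Fintype.card Ω - _
      rw [← Finset.card_compl]
      congr 1
      ext y
      simp [O, Dist]
    obtain ⟨y, hy⟩ : ∃ y, n ≤ 4 * (diffSet G u y).card := by
      by_contra hc
      push Not at hc
      have h1 : ∑ y, 4 * (diffSet G u y).card < ∑ _y : Ω, n :=
        Finset.sum_lt_sum_of_nonempty ⟨u, mem_univ _⟩ fun y _ => hc y
      have h2 : ∑ _z : Ω, n ≤ ∑ z, 4 * (n - (O z u).card) :=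
        Finset.sum_le_sum fun z _ => by have := hA z; omega
      rw [← Finset.mul_sum, hsum, Finset.mul_sum] at h1
      omega
    rcases eq_or_ne u y with rfl | huy
    · have : (diffSet G u u).card ≤ 0 :=
        (card_diffSet_walk (G := G) (u := u) (v := v) (k := 0) (x := u) (y := u) rfl).trans
          (by simp)
      omega
    · have h1 := card_diffSet_walk (walk_gdist hprim huv u y)
      have h2 := gdist_lt_diff hprim huv huy
      calc n ≤ 4 * (gdist hprim huv u y * D) := hy.trans (Nat.mul_le_mul_left 4 h1)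
        _ ≤ 4 * (D * D) := Nat.mul_le_mul_left 4 (Nat.mul_le_mul_right D h2.le)
        _ = 4 * D ^ 2 := by ring
  push Not at hA
  obtain ⟨a, ha⟩ := hA
  let J : Ω → Ω → Prop := fun x y => ∃ g : G, g • a = x ∧ g • u = y
  let Jset : Ω → Finset Ω := fun x => univ.filter fun y => J x y
  let S : Ω → Finset Ω := fun x => univ.filter fun y => ¬ J x y
  have hJs : ∀ (k : G) x y, J (k • x) (k • y) ↔ J x y := by
    intro k x y
    constructor
    · rintro ⟨g, h1, h2⟩
      exact ⟨k⁻¹ * g, by rw [mul_smul, h1, inv_smul_smul], by rw [mul_smul, h2, inv_smul_smul]⟩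
    · rintro ⟨g, rfl, rfl⟩
      exact ⟨k * g, mul_smul _ _ _, mul_smul _ _ _⟩
  have htrans : ∀ {x y y' : Ω}, J x y → J x y' → ∃ g : G, g • x = x ∧ g • y = y' := by
    rintro x y y' ⟨g, rfl, rfl⟩ ⟨k, hk, rfl⟩
    exact ⟨k * g⁻¹, by rw [mul_smul, inv_smul_smul, hk], by rw [mul_smul, inv_smul_smul]⟩
  have hScard : ∀ x, (S x).card = (S a).card := by
    intro x
    obtain ⟨k, rfl⟩ := MulAction.exists_smul_eq G a x
    symm
    refine Finset.card_bij (fun z _ => k • z) ?_ (fun _ _ _ _ e => smul_left_cancel k e)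
      (fun z hz => ⟨k⁻¹ • z, ?_, smul_inv_smul _ _⟩)
    · intro z hz
      simp only [S, mem_filter, mem_univ, true_and] at hz ⊢
      rwa [hJs]
    · simp only [S, mem_filter, mem_univ, true_and] at hz ⊢
      rwa [← hJs k, smul_inv_smul]
  set s := (S a).card
  have hJcard : ∀ x, (Jset x).card + s = n := by
    intro x
    rw [← hScard x]
    exact Finset.card_filter_add_card_filter_not (s := (univ : Finset Ω)) (fun y => J x y)
  have hbig : 4 * s < n := by
    have : O a u = Jset a := by
      ext y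
      simp [O, Jset, J]
    rw [this] at ha
    have := hJcard a
    omega
  have hau : a ≠ u := by
    rintro rfl
    have : (O a a).card ≤ 1 := Finset.card_le_one.2 fun x hx y hy => by
      simp only [O, mem_filter, mem_univ, true_and] at hx hy
      obtain ⟨g, g1, g2⟩ := hx
      obtain ⟨k, k1, k2⟩ := hy
      rw [← g2, ← k2, g1, k1]
    have : 2 ≤ n := Fintype.one_lt_card_iff.2 ⟨a, v, huv⟩
    omega
  have hJsymm : ∀ {x y}, J x y → J y x := by
    obtain ⟨x, y, h1, h2⟩ : ∃ x y, J x y ∧ J y x := by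
      by_contra hc
      push Not at hc
      have h1 : ∑ x, (Jset x).card = ∑ y, (univ.filter fun x => J x y).card := by
        simp only [Jset, Finset.card_filter]
        exact Finset.sum_comm
      have h2 : ∀ x, (Jset x).card + (univ.filter fun z => J z x).card ≤ n := by
        intro x
        rw [← Finset.card_union_of_disjoint]
        · exact Finset.card_le_univ _
        · rw [Finset.disjoint_left]
          intro z hz hz'
          simp only [Jset, mem_filter, mem_univ, true_and] at hz hz'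
          exact hc x z hz hz'
      have h3 : ∑ x, ((Jset x).card + (univ.filter fun z => J z x).card) < ∑ x, 2 * (Jset x).card :=
        Finset.sum_lt_sum_of_nonempty ⟨u, mem_univ _⟩ fun x _ => by
          have := h2 x
          have := hJcard x
          omega
      rw [Finset.sum_add_distrib, ← h1, ← Finset.mul_sum] at h3
      omega
    intro x' y' h
    obtain ⟨g, rfl, rfl⟩ := h1
    obtain ⟨k, rfl, rfl⟩ := h
    have := (hJs (k * g⁻¹) _ _).2 h2
    simpa [mul_smul] using this
  have hirr : ∀ x, ¬ J x x := by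
    rintro x ⟨g, h1, h2⟩
    exact hau (smul_left_cancel g (h1.trans h2.symm))
  have hmemS : ∀ {x y}, y ∈ S x ↔ ¬ J x y := by
    intro x y
    simp [S]
  have hSsymm : ∀ {x y}, y ∈ S x → x ∈ S y := fun h => hmemS.2 fun h' => hmemS.1 h (hJsymm h')
  -- some point of `J x` shares an `S`-neighbour with `x`
  have hmeet : ∃ y, J a y ∧ (S a ∩ S y).Nonempty := by
    by_contra hc
    push Not at hc
    have hcl : ∀ x, ∀ w ∈ S x, S w = S x := by
      intro x w hw
      refine Finset.eq_of_subset_of_card_le (fun y hy => hmemS.2 fun hJ => ?_) (by rw [hScard x, hScard w])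
      obtain ⟨k, rfl⟩ := MulAction.exists_smul_eq G a x
      have h1 : J a (k⁻¹ • y) := by rwa [← hJs k, smul_inv_smul]
      have h2 := hc _ h1
      refine Finset.eq_empty_iff_forall_notMem.1 h2 (k⁻¹ • w) ?_
      rw [Finset.mem_inter]
      refine ⟨hmemS.2 ?_, hmemS.2 ?_⟩
      · rw [← hJs k, smul_inv_smul]; exact hmemS.1 hw
      · rw [← hJs k, smul_inv_smul, smul_inv_smul]; exact hmemS.1 (hSsymm hy)
    obtain ⟨c, hca, hc'⟩ : ∃ c, c ≠ a ∧ c ∈ S a := by
      by_contra hc'
      push Not at hc'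
      apply huni
      have hall : ∀ x y, x ≠ y → J x y := by
        intro x y hxy
        obtain ⟨k, rfl⟩ := MulAction.exists_smul_eq G a x
        by_contra hn
        refine hc' (k⁻¹ • y) (fun e => hxy (by rw [← e, smul_inv_smul])) (hmemS.2 fun hJ => hn ?_)
        rwa [← hJs k, smul_inv_smul] at hJ
      intro p q r t hpq hrt
      obtain ⟨g, g1, g2⟩ := hall p q hpq
      obtain ⟨k, k1, k2⟩ := hall r t hrt
      exact ⟨k * g⁻¹, by rw [mul_smul, ← g1, inv_smul_smul, k1],
        by rw [mul_smul, ← g2, inv_smul_smul, k2]⟩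
    have hadj : ∀ {x y}, Adj G a c x y → S x = S y := by
      rintro x y ⟨g, ⟨rfl, rfl⟩ | ⟨rfl, rfl⟩⟩
      · exact (hcl _ _ (hmemS.2 fun h => hmemS.1 hc' ((hJs g _ _).1 h))).symm
      · exact hcl _ _ (hmemS.2 fun h => hmemS.1 hc' ((hJs g _ _).1 h))
    have hwalk : ∀ {k : ℕ} {x y}, Walk G a c k x y → S x = S y := by
      intro k
      induction k with
      | zero => rintro x y rfl; rfl
      | succ k ih => rintro x y ⟨z, hz, hzy⟩; exact (ih hz).trans (hadj hzy)
    obtain ⟨k, hk⟩ := connected hprim hca.symm a u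
    have : u ∈ S a := by rw [hwalk hk]; exact hmemS.2 (hirr u)
    exact hmemS.1 this ⟨1, one_smul _ _, one_smul _ _⟩
  obtain ⟨y₀, hy₀, hy₀ne⟩ := hmeet
  set μ := (S a ∩ S y₀).card
  have hμ : ∀ y, J a y → (S a ∩ S y).card = μ := by
    intro y hy
    obtain ⟨g, g1, g2⟩ := htrans hy₀ hy
    symm
    refine Finset.card_bij (fun z _ => g • z) ?_ (fun _ _ _ _ e => smul_left_cancel g e)
      (fun z hz => ⟨g⁻¹ • z, ?_, smul_inv_smul _ _⟩)
    · intro z hz
      rw [Finset.mem_inter] at hz ⊢
      refine ⟨hmemS.2 ?_, hmemS.2 ?_⟩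
      · rw [← g1, hJs]; exact hmemS.1 hz.1
      · rw [← g2, hJs]; exact hmemS.1 hz.2
    · rw [Finset.mem_inter] at hz ⊢
      refine ⟨hmemS.2 ?_, hmemS.2 ?_⟩
      · rw [← hJs g, smul_inv_smul, g1]; exact hmemS.1 hz.1
      · rw [← hJs g, smul_inv_smul, g2]; exact hmemS.1 hz.2
  have hμle : (Jset a).card * μ ≤ s * s := by
    calc (Jset a).card * μ = ∑ y ∈ Jset a, (S a ∩ S y).card := by
          rw [Finset.sum_congr rfl (fun y hy => hμ y (by simpa [Jset] using hy)), Finset.sum_const,
            smul_eq_mul]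
      _ = ∑ y ∈ Jset a, ((S a).filter fun w => w ∈ S y).card := by
          refine Finset.sum_congr rfl fun y _ => ?_
          rw [Finset.filter_mem_eq_inter]
      _ ≤ ∑ y, ((S a).filter fun w => w ∈ S y).card :=
          Finset.sum_le_sum_of_subset (subset_univ _)
      _ = ∑ w ∈ S a, (univ.filter fun y => w ∈ S y).card := by
          simp only [Finset.card_filter]
          exact Finset.sum_comm
      _ ≤ ∑ _w ∈ S a, s := Finset.sum_le_sum fun w _ => le_of_le_of_eq
          (Finset.card_le_card fun y hy => hSsymm (by simpa using hy)) (hScard w)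
      _ = s * s := by rw [Finset.sum_const, smul_eq_mul]
  have hμpos : 0 < μ := Finset.card_pos.2 hy₀ne
  have hJa := hJcard a
  have hns : n ≤ 2 * (s * s) := by
    have h1 : (Jset a).card ≤ s * s := (Nat.le_mul_of_pos_right _ hμpos).trans hμle
    rcases Nat.eq_zero_or_pos s with h0 | h0
    · rw [h0] at h1; omega
    · have h2 : s ≤ s * s := Nat.le_mul_of_pos_left _ h0
      omega
  have h3μ : 3 * μ < s := by
    rcases Nat.lt_or_ge (3 * μ) s with h | h
    · exact h
    · exfalso
      have hspos : 0 < s := Finset.card_pos.2 ⟨a, hmemS.2 (hirr a)⟩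
      have h1 : s * s < (Jset a).card * μ := by
        have h2 : 3 * s < (Jset a).card := by omega
        calc s * s ≤ s * (3 * μ) := Nat.mul_le_mul_left _ h
          _ = (3 * s) * μ := by ring
          _ < (Jset a).card * μ := Nat.mul_lt_mul_of_pos_right h2 hμpos
      omega
  -- the step size along the graph
  set δ := (S u \ S v).card
  have hδadj : ∀ {x y}, Adj G u v x y → (S x \ S y).card = δ := by
    have hinv : ∀ (g : G) x y, (S (g • x) \ S (g • y)).card = (S x \ S y).card := by
      intro g x y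
      symm
      refine Finset.card_bij (fun z _ => g • z) ?_ (fun _ _ _ _ e => smul_left_cancel g e)
        (fun z hz => ⟨g⁻¹ • z, ?_, smul_inv_smul _ _⟩)
      · intro z hz
        simpa [S, hJs] using hz
      · simp only [S, Finset.mem_sdiff, mem_filter, mem_univ, true_and] at hz ⊢
        rw [← hJs g x, ← hJs g y, smul_inv_smul]
        exact hz
    rintro x y ⟨g, ⟨rfl, rfl⟩ | ⟨rfl, rfl⟩⟩
    · exact hinv g u v
    · rw [hinv]
      exact Finset.card_sdiff_comm (by rw [hScard u, hScard v])
  have hDδ : 2 * δ ≤ D := by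
    have hvu : (S v \ S u).card = δ := hδadj adj_base.symm
    have h1 : (S u \ S v ∪ S v \ S u).card = 2 * δ := by
      rw [Finset.card_union_of_disjoint disjoint_sdiff_sdiff, hvu, two_mul]
    rw [← h1]
    refine Finset.card_le_card fun z hz => mem_diffSet.2 ?_
    rintro ⟨g, g1, g2⟩
    have : z ∈ S u ↔ z ∈ S v := by
      rw [hmemS, hmemS, ← hJs g u z, g1, g2]
    simp only [Finset.mem_union, Finset.mem_sdiff] at hz
    tauto
  have hSwalk : ∀ {k : ℕ} {x y}, Walk G u v k x y → (S x \ S y).card ≤ k * δ := by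
    intro k
    induction k with
    | zero => rintro x y rfl; simp
    | succ k ih =>
      rintro x y ⟨z, hz, hzy⟩
      refine (Finset.card_le_card (t := S x \ S z ∪ S z \ S y) fun w hw => ?_).trans
        ((Finset.card_union_le _ _).trans ?_)
      · simp only [Finset.mem_union, Finset.mem_sdiff] at hw ⊢
        tauto
      · rw [hδadj hzy, Nat.add_mul, Nat.one_mul]
        exact Nat.add_le_add_right (ih hz) _
  -- the neighbourhood
  let R : Ω → Finset Ω := fun x => univ.filter fun y => Adj G u v x y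
  set ρ := (R a).card
  have hRcard : ∀ x, (R x).card = ρ := by
    intro x
    obtain ⟨k, rfl⟩ := MulAction.exists_smul_eq G a x
    symm
    refine Finset.card_bij (fun z _ => k • z) ?_ (fun _ _ _ _ e => smul_left_cancel k e)
      (fun z hz => ⟨k⁻¹ • z, ?_, smul_inv_smul _ _⟩)
    · intro z hz
      simp only [R, mem_filter, mem_univ, true_and] at hz ⊢
      exact hz.smul k
    · simp only [R, mem_filter, mem_univ, true_and] at hz ⊢
      simpa using hz.smul k⁻¹
  have hδpos : 0 < δ := by
    by_contra h0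
    obtain ⟨k, hk⟩ := connected hprim huv a u
    have h1 := hSwalk hk
    rw [Nat.le_zero.1 (not_lt.1 h0), Nat.mul_zero, Nat.le_zero, Finset.card_eq_zero,
      Finset.sdiff_eq_empty_iff_subset] at h1
    have h2 : S a = S u := Finset.eq_of_subset_of_card_le h1 (by rw [hScard u])
    have : u ∈ S a := by rw [h2]; exact hmemS.2 (hirr u)
    exact hmemS.1 this ⟨1, one_smul _ _, one_smul _ _⟩
  have hcover : n ≤ s + ρ * δ := by
    obtain ⟨v', hv', w₁, hw₁⟩ : ∃ v' ∈ R a, ∃ w, w ∈ S v' \ S a := by
      obtain ⟨k, hk⟩ := MulAction.exists_smul_eq G u a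
      have hadj : Adj G u v a (k • v) := ⟨k, .inl ⟨hk, rfl⟩⟩
      refine ⟨k • v, by simpa [R] using hadj, Finset.card_pos.1 ?_⟩
      rw [hδadj hadj.symm]
      exact hδpos
    have hsub : Jset a ⊆ (R a).biUnion fun x => S x \ S a := by
      intro y hy
      simp only [Jset, mem_filter, mem_univ, true_and] at hy
      rw [Finset.mem_sdiff, hmemS, hmemS, not_not] at hw₁
      obtain ⟨g, g1, g2⟩ := htrans hw₁.2 hy
      rw [Finset.mem_biUnion]
      refine ⟨g • v', ?_, ?_⟩
      · simp only [R, mem_filter, mem_univ, true_and] at hv' ⊢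
        rw [← g1]; exact hv'.smul g
      · rw [Finset.mem_sdiff, hmemS, hmemS, not_not, ← g2, hJs]
        refine ⟨hw₁.1, ?_⟩
        rw [← g1, hJs]
        exact hw₁.2
    have h1 := (Finset.card_le_card hsub).trans Finset.card_biUnion_le
    rw [Finset.sum_congr rfl (fun x hx => hδadj (Adj.symm (by simpa [R] using hx))), Finset.sum_const,
      smul_eq_mul] at h1
    change (Jset a).card ≤ ρ * δ at h1
    omega
  -- the first exit from `S a`
  obtain ⟨y₁, hy₁, hmin⟩ := Finset.exists_min_image (Jset a) (fun y => gdist hprim huv a y)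
    ⟨y₀, by simpa [Jset] using hy₀⟩
  have hy₁J : J a y₁ := by simpa [Jset] using hy₁
  obtain ⟨T, hT⟩ : ∃ T, gdist hprim huv a y₁ = T + 1 := by
    refine ⟨gdist hprim huv a y₁ - 1, ?_⟩
    have h : gdist hprim huv a y₁ ≠ 0 := fun e => by
      have := walk_gdist hprim huv a y₁
      rw [e] at this
      exact hirr a (by rw [← show a = y₁ from this] at hy₁J; exact hy₁J)
    omega
  have hexit : s ≤ (T + 1) * δ + μ := by
    rw [← hμ y₁ hy₁J, ← hT]
    have h := Finset.card_sdiff_add_card_inter (S a) (S y₁)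
    have := hSwalk (walk_gdist hprim huv a y₁)
    omega
  rcases Nat.eq_zero_or_pos T with h0 | hTpos
  · subst h0
    have h1 : 2 * s ≤ 3 * δ := by omega
    calc n ≤ 2 * (s * s) := hns
      _ ≤ 4 * D ^ 2 := by nlinarith
  -- packing of neighbourhoods
  have hpack : ρ * T ≤ 3 * s := by
    set K := (T - 1) / 3 + 1
    have hw : ∀ j : Fin K, ∃ w, gdist hprim huv a w = 3 * (j : ℕ) := fun j =>
      exists_gdist_eq hprim huv (walk_gdist hprim huv a y₁) _ (by omega)
    choose w hw using hw
    have hsub : univ.biUnion (fun j => R (w j)) ⊆ S a := by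
      intro z hz
      simp only [Finset.mem_biUnion, R, mem_filter, mem_univ, true_and] at hz
      obtain ⟨j, hj⟩ := hz
      refine hmemS.2 fun hJ => ?_
      have h1 := hmin z (by simpa [Jset] using hJ)
      have h2 := gdist_adj_le hprim huv (x := a) hj
      rw [hw] at h2
      omega
    have hdis : ((univ : Finset (Fin K)) : Set (Fin K)).PairwiseDisjoint fun j => R (w j) := by
      intro i _ j _ hij
      rw [Function.onFun, Finset.disjoint_left]
      intro z hzi hzj
      simp only [R, mem_filter, mem_univ, true_and] at hzi hzj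
      have h1 := gdist_adj_le hprim huv (x := a) hzi
      have h2 := gdist_adj_le hprim huv (x := a) hzi.symm
      have h3 := gdist_adj_le hprim huv (x := a) hzj
      have h4 := gdist_adj_le hprim huv (x := a) hzj.symm
      rw [hw] at h1 h2 h3 h4
      exact hij (Fin.ext (by omega))
    have h1 := Finset.card_le_card hsub
    rw [Finset.card_biUnion hdis, Finset.sum_congr rfl (fun j _ => hRcard (w j)), Finset.sum_const,
      Finset.card_univ, Fintype.card_fin, smul_eq_mul] at h1
    calc ρ * T ≤ ρ * (3 * K) := Nat.mul_le_mul_left _ (by omega)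
      _ = 3 * (K * ρ) := by ring
      _ ≤ 3 * s := Nat.mul_le_mul_left _ h1
  have h2s : 2 * s ≤ 6 * T * δ := by
    have h1 : (T + 1) * δ ≤ 2 * T * δ := Nat.mul_le_mul_right _ (by omega)
    have : 6 * T * δ = 3 * (2 * T * δ) := by ring
    omega
  have hρδ : ρ ≤ 9 * δ := by
    refine Nat.le_of_mul_le_mul_left ?_ (show 0 < 2 * T by omega)
    calc 2 * T * ρ = 2 * (ρ * T) := by ring
      _ ≤ 2 * (3 * s) := Nat.mul_le_mul_left _ hpack
      _ = 3 * (2 * s) := by ring
      _ ≤ 3 * (6 * T * δ) := Nat.mul_le_mul_left _ h2s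
      _ = 2 * T * (9 * δ) := by ring
  have h9 : ρ * δ ≤ 9 * δ * δ := Nat.mul_le_mul_right _ hρδ
  calc n ≤ 12 * (δ * δ) := by nlinarith
    _ ≤ 4 * (2 * δ) ^ 2 := by nlinarith
    _ ≤ 4 * D ^ 2 := Nat.mul_le_mul_left 4 (Nat.pow_le_pow_left hDδ 2)

/-- The bound on the number of moved points. -/
theorem card_le_sq [Finite G] [FaithfulSMul G Ω] (hprim : MulAction.IsPreprimitive G Ω)
    (hA : ¬ alternatingGroup Ω ≤ (MulAction.toPermHom G Ω).range) {g : G} (hg : g ≠ 1) :
    Fintype.card Ω ≤ (2 * (moved (Ω := Ω) g).card + 1) ^ 2 := by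
  obtain ⟨a, ha⟩ : ∃ a : Ω, g • a ≠ a := by
    by_contra hc
    push Not at hc
    exact hg (eq_of_smul_eq_smul (α := Ω) fun a => by rw [hc a, one_smul])
  set m := (moved (Ω := Ω) g).card
  by_cases htwo : ∀ a b c d : Ω, a ≠ b → c ≠ d → ∃ k : G, k • a = c ∧ k • b = d
  · have h := two_transitive_bound htwo (fun ⟨k, hk⟩ => hA (Bochert.alternating_le hprim hk)) ha
    have h' : ((moved (Ω := Ω) g).card - 1) ^ 2 ≤ m ^ 2 := Nat.pow_le_pow_left (Nat.sub_le _ _) 2
    have e : (2 * m + 1) ^ 2 = 4 * m ^ 2 + 4 * m + 1 := by ring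
    omega
  · have h := distinguishing_bound hprim htwo ha.symm
    have hsub : (diffSet G a (g • a)).card ≤ m :=
      Finset.card_le_card fun z hz => mem_moved.2 (mem_diffSet.1 hz).moved
    have h' : 4 * (diffSet G a (g • a)).card ^ 2 ≤ 4 * m ^ 2 :=
      Nat.mul_le_mul_left 4 (Nat.pow_le_pow_left hsub 2)
    have e : (2 * m + 1) ^ 2 = 4 * m ^ 2 + 4 * m + 1 := by ring
    omega

end Cfsg.Agent.MinimalDegree
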