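import Cfsg.Agent.Lib.Small.SylowToolkit
import Mathlib.GroupTheory.PGroup
import Mathlib.Tactic.Group

/-!
Local facts for a self-centralizing elementary abelian subgroup of order 9
-/

set_option autoImplicit false
set_option linter.unusedSectionVars false

namespace Cfsg.Agent.NineA6

variable {G : Type*} [Group G] [Finite G]

/-- The hypotheses on the subgroup of order 9. -/
structure Cfg (S : Subgroup G) : Prop where
  card : Nat.card S = 9
  exp : ∀ a ∈ S, a ^ 3 = 1
  cent : ∀ s ∈ S, s ≠ 1 → Subgroup.centralizer ({s} : Set G) = S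
  into : ∀ a : G, orderOf a = 3 → ∃ g, g * a * g⁻¹ ∈ S

variable {S : Subgroup G}

theorem Cfg.comm (h : Cfg S) {a b : G} (ha : a ∈ S) (hb : b ∈ S) : Commute a b := by
  by_cases h1 : a = 1
  · subst h1; exact Commute.one_left b
  · have := (h.cent a ha h1).ge hb
    exact ((Subgroup.mem_centralizer_iff.1 this) a rfl)

theorem Cfg.mem_of_commute (h : Cfg S) {s u : G} (hs : s ∈ S) (hs1 : s ≠ 1) (hu : Commute u s) :
    u ∈ S := by
  rw [← h.cent s hs hs1, Subgroup.mem_centralizer_iff]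
  rintro z rfl
  exact hu.eq.symm

theorem Cfg.order_three (h : Cfg S) {s : G} (hs : s ∈ S) (hs1 : s ≠ 1) : orderOf s = 3 := by
  haveI : Fact (Nat.Prime 3) := ⟨Nat.prime_three⟩
  exact orderOf_eq_prime (h.exp s hs) hs1

/-- The centralizer of an element of order 3 is a conjugate of `S`. -/
theorem Cfg.cent_three (h : Cfg S) {s u v : G} (hs : orderOf s = 3) (hu : Commute u s)
    (hv : Commute v s) : Commute u v ∧ u ^ 3 = 1 := by
  obtain ⟨g, hg⟩ := h.into s hs
  set φ := MulAut.conj g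
  have hg' : φ s ∈ S := hg
  have h1 : φ s ≠ 1 := fun e => by
    rw [map_eq_one_iff _ φ.injective] at e
    rw [e, orderOf_one] at hs; omega
  have hu' := h.mem_of_commute hg' h1 (hu.map φ)
  have hv' := h.mem_of_commute hg' h1 (hv.map φ)
  refine ⟨φ.injective ?_, φ.injective ?_⟩
  · rw [map_mul, map_mul]; exact (h.comm hu' hv').eq
  · rw [map_pow, map_one]; exact h.exp _ hu'

theorem exists_twist {A : Subgroup G} {a : G} (hn : ∀ r ∈ A, a⁻¹ * r * a ∈ A)
    (hf : ∀ r ∈ A, Commute r a → r = 1) {q : G} (hq : q ∈ A) :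
    ∃ r : G, r * a * r⁻¹ = a * q := by
  let f : A → A := fun r => ⟨a⁻¹ * r * a * (r : G)⁻¹, mul_mem (hn r r.2) (inv_mem r.2)⟩
  have hinj : Function.Injective f := by
    intro r r' e
    have e' : a⁻¹ * (r : G) * a * (r : G)⁻¹ = a⁻¹ * (r' : G) * a * (r' : G)⁻¹ := congrArg Subtype.val e
    have hc : Commute ((r' : G)⁻¹ * r) a := by
      show (r' : G)⁻¹ * r * a = a * ((r' : G)⁻¹ * r)
      calc (r' : G)⁻¹ * r * a = (r' : G)⁻¹ * a * (a⁻¹ * r * a * (r : G)⁻¹) * r := by group
        _ = a * ((r' : G)⁻¹ * r) := by rw [e']; group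
    exact Subtype.ext ((eq_inv_of_mul_eq_one_right (hf _ (mul_mem (inv_mem r'.2) r.2) hc)).trans (inv_inv _))
  obtain ⟨r, hr⟩ := (Finite.injective_iff_surjective.1 hinj) ⟨q, hq⟩
  have hr' : a⁻¹ * (r : G) * a * (r : G)⁻¹ = q := congrArg Subtype.val hr
  exact ⟨r, by rw [← hr']; group⟩

/-- Three elements of order 3 with `a * b = z`: either `a`, `b`, `z⁻¹` are conjugate or all commute. -/
theorem Cfg.triangle (h : Cfg S) {a b : G} (ha : orderOf a = 3) (hb : b ^ 3 = 1) (hz : (a * b) ^ 3 = 1) :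
    Commute a b ∨ (IsConj a b ∧ IsConj a⁻¹ (a * b)) := by
  have ha3 : a ^ 3 = 1 := ha ▸ pow_orderOf_eq_one a
  set q := a⁻¹ * b with hqd
  set p := b * a⁻¹ with hpd
  have hai : a⁻¹ = a * a := inv_eq_of_mul_eq_one_right (by rw [← ha3, pow_three])
  have hbi : b⁻¹ = b * b := inv_eq_of_mul_eq_one_right (by rw [← hb, pow_three])
  have haa : a⁻¹ * a⁻¹ = a := by
    rw [← mul_inv_rev, ← hai, inv_inv]
  have hbab : b * a * b = a⁻¹ * b⁻¹ * a⁻¹ := by
    have : a * (b * a * b) * (a * b) = 1 := by rw [← hz, pow_three]; group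
    calc b * a * b = a⁻¹ * (a * (b * a * b) * (a * b)) * (a * b)⁻¹ := by group
      _ = a⁻¹ * b⁻¹ * a⁻¹ := by rw [this]; group
  have hpq1 : p * q = b * a * b := by
    calc p * q = b * (a⁻¹ * a⁻¹) * b := by rw [hpd, hqd]; group
      _ = b * a * b := by rw [haa]
  have hqp1 : q * p = a⁻¹ * b⁻¹ * a⁻¹ := by rw [hpd, hqd, hbi]; group
  have hpq : Commute p q := (hpq1.trans hbab).trans hqp1.symm
  have haq : a * q * a⁻¹ = p := by rw [hqd, hpd]; group
  have hap : a * p * a⁻¹ = (q * p)⁻¹ := by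
    calc a * p * a⁻¹ = a * b * (a⁻¹ * a⁻¹) := by rw [hpd]; group
      _ = a * b * a := by rw [haa]
      _ = (q * p)⁻¹ := by rw [hqp1]; group
  set A := Subgroup.closure ({p, q} : Set G) with hA
  have hpA : p ∈ A := Subgroup.subset_closure (by simp)
  have hqA : q ∈ A := Subgroup.subset_closure (by simp)
  have hcl : ∀ r ∈ A, a * r * a⁻¹ ∈ A := by
    have : A ≤ A.comap (MulAut.conj a).toMonoidHom := by
      rw [hA, Subgroup.closure_le]
      intro r hr
      rcases hr with rfl | rfl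
      · show a * p * a⁻¹ ∈ A
        rw [hap]; exact inv_mem (mul_mem hqA hpA)
      · show a * q * a⁻¹ ∈ A
        rw [haq]; exact hpA
    exact fun r hr => this hr
  have hcl' : ∀ r ∈ A, a⁻¹ * r * a ∈ A := fun r hr => by
    have h2 := hcl _ (hcl r hr)
    rw [show a⁻¹ * r * a = a * (a * r * a⁻¹) * a⁻¹ by
      calc a⁻¹ * r * a = a * a * r * (a⁻¹ * a⁻¹) := by rw [haa, ← hai]
        _ = _ := by group]
    exact h2
  have hAc : ∀ r ∈ A, Commute r p ∧ Commute r q := by
    intro r hr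
    have : A ≤ Subgroup.centralizer ({p, q} : Set G) := by
      rw [hA, Subgroup.closure_le]
      intro u hu
      rw [SetLike.mem_coe, Subgroup.mem_centralizer_iff]
      rintro v (rfl | rfl) <;> rcases hu with rfl | rfl
      · rfl
      · exact hpq.eq
      · exact hpq.eq.symm
      · rfl
    have := Subgroup.mem_centralizer_iff.1 (this hr)
    exact ⟨(this p (by simp)).symm, (this q (by simp)).symm⟩
  by_cases h3 : 3 ∣ Nat.card A
  · haveI : Fact (Nat.Prime 3) := ⟨Nat.prime_three⟩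
    obtain ⟨⟨s, hsA⟩, hs⟩ := exists_prime_orderOf_dvd_card' 3 h3
    rw [Subgroup.orderOf_mk] at hs
    have hp3 : p ^ 3 = 1 := (h.cent_three hs (hAc s hsA).1.symm (hAc s hsA).1.symm).2
    left
    suffices Commute a q by
      have := (Commute.refl a).mul_right this
      rwa [hqd, mul_inv_cancel_left] at this
    set r := q * p⁻¹ with hr
    by_cases hr1 : r = 1
    · have hqp : q = p := mul_inv_eq_one.1 hr1
      show a * q = q * a
      calc a * q = a * q * a⁻¹ * a := by group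
        _ = q * a := by rw [haq, hqp]
    · have hrA : r ∈ A := mul_mem hqA (inv_mem hpA)
      have hr3 : orderOf r = 3 := orderOf_eq_prime
        (h.cent_three hs (((hAc s hsA).2.symm).mul_left (hAc s hsA).1.symm.inv_left)
          (hAc s hsA).1.symm).2 hr1
      have har : Commute a r := by
        show a * r = r * a
        calc a * r = (a * q * a⁻¹) * (a * p * a⁻¹)⁻¹ * a := by rw [hr]; group
          _ = p * p * p * p⁻¹ * q * a := by rw [haq, hap, inv_inv, hpq.eq.symm]; group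
          _ = p⁻¹ * q * a := by rw [show p * p * p = 1 by rw [← hp3, pow_three, mul_assoc], one_mul]
          _ = r * a := by rw [hr, (hpq.inv_left).eq]
      exact (h.cent_three hr3 har ((hAc r hrA).2.symm)).1
  · right
    have hf : ∀ r ∈ A, Commute r a → r = 1 := fun r hr hc => by
      have hd : orderOf r ∣ 3 := orderOf_dvd_of_pow_eq_one (h.cent_three ha hc hc).2
      rcases (Nat.dvd_prime Nat.prime_three).1 hd with e | e
      · exact orderOf_eq_one_iff.1 e
      · exact absurd (e ▸ Subgroup.orderOf_dvd_natCard _ hr) h3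
    refine ⟨?_, ?_⟩
    · obtain ⟨r, hr⟩ := exists_twist hcl' hf hqA
      exact isConj_iff.2 ⟨r, by rw [hr, hqd, mul_inv_cancel_left]⟩
    · obtain ⟨r, hr⟩ := exists_twist (a := a⁻¹) (fun r hr => by rw [inv_inv]; exact hcl r hr)
        (fun r hr hc => hf r hr (by simpa using hc.inv_right)) hqA
      exact isConj_iff.2 ⟨r, by rw [hr, hqd, ← mul_assoc, haa]⟩

/-- A product of two elements of order 3 giving an element of `S`. -/
theorem Cfg.mem_of_pair (h : Cfg S) {x y z a : G} (hx : x ∈ S) (hx1 : x ≠ 1) (hy : y ∈ S)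
    (hz : z ∈ S) (hz1 : z ≠ 1) (ha : IsConj x a) (hb : IsConj y (a⁻¹ * z))
    (hne : IsConj x y → ¬ IsConj x⁻¹ z) : a ∈ S ∧ a⁻¹ * z ∈ S := by
  have hao : orderOf a = 3 := by
    obtain ⟨g, rfl⟩ := isConj_iff.1 ha
    rw [show g * x * g⁻¹ = MulAut.conj g x from rfl, MulEquiv.orderOf_eq, h.order_three hx hx1]
  have hb3 : (a⁻¹ * z) ^ 3 = 1 := by
    obtain ⟨g, hg⟩ := isConj_iff.1 hb
    rw [← hg, conj_pow, h.exp y hy, mul_one, mul_inv_cancel]
  have haS : a ∈ S := by
    rcases h.triangle hao hb3 (by rw [mul_inv_cancel_left]; exact h.exp z hz) with hc | ⟨h1, h2⟩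
    · refine h.mem_of_commute hz hz1 ?_
      have := (Commute.refl a).mul_right hc
      rwa [mul_inv_cancel_left] at this
    · rw [mul_inv_cancel_left] at h2
      refine absurd ?_ (hne ((ha.trans h1).trans hb.symm))
      obtain ⟨g, hg⟩ := isConj_iff.1 ha
      exact (isConj_iff.2 ⟨g, by rw [← conj_inv, hg]⟩).trans h2
  exact ⟨haS, mul_mem (inv_mem haS) hz⟩

/-- Fusion of elements of `S`. -/
theorem Cfg.card_class (h : Cfg S) {x : G} (hx : x ∈ S) (hx1 : x ≠ 1) :
    Nat.card (Subgroup.normalizer (S : Set G)) = 9 * Nat.card {y : G // y ∈ S ∧ IsConj x y} := by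
  set N := Subgroup.normalizer (S : Set G) with hN
  have hfus : ∀ y : {y : G // y ∈ S ∧ IsConj x y}, ∃ n : N, (n : G) * x * (n : G)⁻¹ = y := by
    rintro ⟨y, hy, hxy⟩
    obtain ⟨g, hg⟩ := isConj_iff.1 hxy
    refine ⟨⟨g, Subgroup.mem_normalizer_iff.2 fun u => ?_⟩, hg⟩
    have hy1 : y ≠ 1 := fun e => hx1 (by
      have e2 : g * x * g⁻¹ = 1 := hg.trans e
      exact conj_eq_one_iff.1 e2)
    rw [← hg] at hy hy1
    constructor
    · intro hu
      refine h.mem_of_commute hy hy1 ?_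
      exact (h.comm hu hx).map (MulAut.conj g)
    · intro hu
      refine h.mem_of_commute hx hx1 ?_
      have := (h.comm hu hy).map (MulAut.conj g⁻¹)
      simpa [mul_assoc] using this
  choose c hc using hfus
  have hmem : ∀ n : N, (n : G) * x * (n : G)⁻¹ ∈ S ∧ IsConj x ((n : G) * x * (n : G)⁻¹) := fun n =>
    ⟨(Subgroup.mem_normalizer_iff.1 n.2 x).1 hx, isConj_iff.2 ⟨n, rfl⟩⟩
  have haux : ∀ u v : G, u * x * u⁻¹ = v * x * v⁻¹ → Commute (u⁻¹ * v) x := fun u v e => by
    show u⁻¹ * v * x = x * (u⁻¹ * v)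
    calc u⁻¹ * v * x = u⁻¹ * (v * x * v⁻¹) * v := by group
      _ = x * (u⁻¹ * v) := by rw [← e]; group
  let f : N → {y : G // y ∈ S ∧ IsConj x y} × S := fun n =>
    (⟨_, hmem n⟩, ⟨(c ⟨_, hmem n⟩ : G)⁻¹ * n, h.mem_of_commute hx hx1 (haux _ _ (hc ⟨_, hmem n⟩))⟩)
  have hf : Function.Bijective f := by
    constructor
    · intro n n' e
      have e1 := congrArg Prod.fst e
      have e2 := congrArg (fun q => (q.2 : G)) e
      simp only [f] at e1 e2
      rw [e1] at e2
      exact Subtype.ext (mul_left_cancel e2)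
    · rintro ⟨y, ⟨s, hs⟩⟩
      have hsN : s ∈ N := Subgroup.le_normalizer hs
      refine ⟨⟨(c y : G) * s, mul_mem (c y).2 hsN⟩, ?_⟩
      have hy : (c y : G) * s * x * ((c y : G) * s)⁻¹ = y := by
        rw [← hc y, mul_assoc (c y : G), (h.comm hs hx).eq]; group
      have hy' : (⟨_, hmem ⟨(c y : G) * s, mul_mem (c y).2 hsN⟩⟩ : {y : G // y ∈ S ∧ IsConj x y}) = y :=
        Subtype.ext hy
      refine Prod.ext hy' (Subtype.ext ?_)
      show (c _ : G)⁻¹ * ((c y : G) * s) = s
      rw [hy', inv_mul_cancel_left]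
  rw [Nat.card_congr (Equiv.ofBijective f hf), Nat.card_prod, h.card, mul_comm]

end Cfsg.Agent.NineA6
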