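import Cfsg.Agent.Lib.FGStruct.Counting
import Cfsg.Agent.Lib.Char.Burnside
import Mathlib.GroupTheory.PGroup
import Mathlib.Tactic

/-!
# Finite groups in which only two non-trivial numbers occur as counts of elements of equal order
-/

set_option autoImplicit false

universe u

namespace Cfsg.Agent.SameOrder

open Finset

variable {G : Type u} [Group G]

/-- The number of elements of order `d`. -/
noncomputable def cnt (G : Type u) [Group G] (d : ℕ) : ℕ := Nat.card {g : G // orderOf g = d}

variable [Finite G]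

theorem cnt_eq_filter [Fintype G] [DecidableEq G] (d : ℕ) :
    cnt G d = #{x : G | orderOf x = d} := by
  rw [cnt, Nat.card_eq_fintype_card, Fintype.card_subtype]

theorem cnt_pos {g : G} : 0 < cnt G (orderOf g) := by
  haveI : Nonempty {x : G // orderOf x = orderOf g} := ⟨⟨g, rfl⟩⟩
  exact Nat.card_pos

theorem exists_of_cnt_ne_zero {d : ℕ} (h : cnt G d ≠ 0) : ∃ g : G, orderOf g = d := by
  obtain ⟨⟨⟨g, hg⟩⟩, -⟩ := Nat.card_pos_iff.1 (Nat.pos_of_ne_zero h)
  exact ⟨g, hg⟩

theorem dvd_card_of_cnt_ne_zero {d : ℕ} (h : cnt G d ≠ 0) : d ∣ Nat.card G := by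
  obtain ⟨g, rfl⟩ := exists_of_cnt_ne_zero h
  exact orderOf_dvd_natCard g

theorem cnt_one : cnt G 1 = 1 := by
  rw [cnt, Nat.card_eq_one_iff_unique]
  exact ⟨⟨fun a b => Subtype.ext ((orderOf_eq_one_iff.1 a.2).trans (orderOf_eq_one_iff.1 b.2).symm)⟩,
    ⟨⟨1, orderOf_one⟩⟩⟩

/-- Frobenius' theorem in terms of the counts. -/
theorem dvd_sum_cnt {d : ℕ} (hd : d ∣ Nat.card G) : d ∣ ∑ e ∈ d.divisors, cnt G e := by
  classical
  haveI := Fintype.ofFinite G
  have h := Counting.dvd_card_pow_eq_one d hd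
  rw [Nat.card_eq_fintype_card, Fintype.card_subtype] at h
  simp_rw [cnt_eq_filter]
  rwa [sum_card_orderOf_eq_card_pow_eq_one (fun h0 => Nat.card_pos.ne'
    (Nat.eq_zero_of_zero_dvd (h0 ▸ hd)) : d ≠ 0)]

theorem sum_cnt_le {S : Finset ℕ} : ∑ e ∈ S, cnt G e ≤ Nat.card G := by
  classical
  haveI := Fintype.ofFinite G
  simp_rw [cnt_eq_filter]
  rw [Nat.card_eq_fintype_card, ← Finset.card_biUnion]
  · exact Finset.card_le_univ _
  · simp +contextual [Set.PairwiseDisjoint, Set.Pairwise, disjoint_iff, Finset.ext_iff]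

theorem sum_divisors_mul_prime {r q : ℕ} (hq : q.Prime) (hr : ¬ q ∣ r) (f : ℕ → ℕ) :
    ∑ e ∈ (r * q).divisors, f e = ∑ e ∈ r.divisors, f e + ∑ e ∈ r.divisors, f (e * q) := by
  have hr0 : r ≠ 0 := fun h => hr (h ▸ dvd_zero q)
  have hdiv : (r * q).divisors = r.divisors ∪ r.divisors.image (· * q) := by
    ext e
    simp only [Nat.mem_divisors, Finset.mem_union, Finset.mem_image, ne_eq, mul_eq_zero, hr0,
      hq.ne_zero, or_self, not_false_eq_true, and_true]
    constructor
    · intro he
      by_cases hqe : q ∣ e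
      · obtain ⟨e', rfl⟩ := hqe
        refine Or.inr ⟨e', ?_, mul_comm _ _⟩
        rw [mul_comm r q] at he
        exact Nat.dvd_of_mul_dvd_mul_left hq.pos he
      · exact Or.inl ((Nat.Coprime.symm (hq.coprime_iff_not_dvd.2 hqe)).dvd_of_dvd_mul_right he)
    · rintro (he | ⟨e', he', rfl⟩)
      · exact Dvd.dvd.mul_right he q
      · exact Nat.mul_dvd_mul_right he' q
  rw [hdiv, Finset.sum_union, Finset.sum_image]
  · exact fun a _ b _ h => Nat.eq_of_mul_eq_mul_right hq.pos h
  · rw [Finset.disjoint_left]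
    intro e he he'
    obtain ⟨e', -, rfl⟩ := Finset.mem_image.1 he'
    exact hr ((Dvd.intro_left e' rfl).trans (Nat.mem_divisors.1 he).1)

theorem cast_sum_eq_zero {d p : ℕ} (hd : d ∣ Nat.card G) (hp : p ∣ d) :
    ((∑ e ∈ d.divisors, cnt G e : ℕ) : ZMod p) = 0 :=
  (ZMod.natCast_eq_zero_iff _ _).2 (hp.trans (dvd_sum_cnt hd))

theorem cnt_prime {p : ℕ} (hp : p.Prime) (hd : p ∣ Nat.card G) : (cnt G p : ZMod p) = -1 := by
  have h := cast_sum_eq_zero hd dvd_rfl
  rw [hp.divisors, Finset.sum_pair hp.one_lt.ne, cnt_one, Nat.cast_add, Nat.cast_one] at h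
  linear_combination h

theorem sum_two_primes {p q : ℕ} (hp : p.Prime) (hq : q.Prime) (hpq : p ≠ q) :
    ∑ e ∈ (p * q).divisors, cnt G e = 1 + cnt G p + (cnt G q + cnt G (p * q)) := by
  rw [sum_divisors_mul_prime hq (fun h => hpq ((Nat.prime_dvd_prime_iff_eq hq hp).1 h).symm),
    hp.divisors, Finset.sum_pair hp.one_lt.ne, Finset.sum_pair hp.one_lt.ne, cnt_one, one_mul]

/-- Higher powers: divisible by the prime. -/
theorem cnt_prime_pow {p : ℕ} (hp : p.Prime) : ∀ i, 2 ≤ i → (cnt G (p ^ i) : ZMod p) = 0 := by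
  intro i
  induction i using Nat.strong_induction_on with
  | _ i ih =>
    intro hi
    by_cases h0 : cnt G (p ^ i) = 0
    · rw [h0, Nat.cast_zero]
    have hd := dvd_card_of_cnt_ne_zero h0
    have hpd : p ∣ Nat.card G := (dvd_pow_self p (by omega)).trans hd
    have h := cast_sum_eq_zero hd (dvd_pow_self p (by omega : i ≠ 0))
    rw [Nat.sum_divisors_prime_pow hp, Finset.sum_range_succ, Nat.cast_add] at h
    have hrest : ((∑ k ∈ Finset.range i, cnt G (p ^ k) : ℕ) : ZMod p) = 0 := by
      obtain ⟨j, rfl⟩ : ∃ j, i = j + 2 := ⟨i - 2, by omega⟩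
      clear h h0 hd
      rw [Finset.sum_range_succ', Finset.sum_range_succ', Nat.cast_add, Nat.cast_add, Nat.cast_sum,
        Finset.sum_eq_zero fun k hk => ?_]
      · rw [pow_zero, cnt_one, zero_add, pow_one, cnt_prime hp hpd, Nat.cast_one, neg_add_cancel]
      · exact ih (k + 1 + 1) (by have := Finset.mem_range.1 hk; omega) (by omega)
    rw [hrest, zero_add] at h
    exact h

theorem even_cnt {d : ℕ} (hd : 2 < d) : Even (cnt G d) := by
  classical
  haveI := Fintype.ofFinite G
  haveI : Fact (Nat.Prime 2) := ⟨Nat.prime_two⟩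
  let σ : Equiv.Perm {g : G // orderOf g = d} :=
    { toFun := fun g => ⟨g.1⁻¹, by rw [orderOf_inv]; exact g.2⟩
      invFun := fun g => ⟨g.1⁻¹, by rw [orderOf_inv]; exact g.2⟩
      left_inv := fun g => Subtype.ext (inv_inv _)
      right_inv := fun g => Subtype.ext (inv_inv _) }
  have hσ : σ ^ 2 ^ 1 = 1 := by
    ext g
    simp [σ, pow_succ, Equiv.Perm.mul_apply]
  have h := Equiv.Perm.card_compl_support_modEq hσ
  have h0 : σ.supportᶜ = ∅ := by
    rw [Finset.eq_empty_iff_forall_notMem]
    intro g hg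
    rw [Finset.mem_compl, Equiv.Perm.notMem_support] at hg
    have hinv : g.1⁻¹ = g.1 := congrArg Subtype.val hg
    have h1 : g.1 ^ 2 = 1 := by
      rw [pow_two]
      nth_rewrite 1 [← hinv]
      exact inv_mul_cancel _
    have := Nat.le_of_dvd (by omega) (orderOf_dvd_of_pow_eq_one h1)
    have := g.2
    omega
  rw [h0, Finset.card_empty] at h
  rw [cnt, Nat.card_eq_fintype_card, even_iff_two_dvd]
  exact Nat.modEq_zero_iff_dvd.1 h.symm

theorem odd_cnt_two (h : 2 ∣ Nat.card G) : Odd (cnt G 2) := by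
  have h1 := dvd_sum_cnt h
  rw [Nat.prime_two.divisors, Finset.sum_pair (by norm_num), cnt_one] at h1
  rw [Nat.odd_iff]
  omega

theorem ne_zero_two {p : ℕ} [Fact p.Prime] (h3 : 3 ≤ p) : (2 : ZMod p) ≠ 0 := by
  intro h
  have h' : ((2 : ℕ) : ZMod p) = 0 := by exact_mod_cast h
  have := Nat.le_of_dvd (by omega) ((ZMod.natCast_eq_zero_iff _ _).1 h')
  omega

/-- The action of a subgroup by conjugation on the elements of a given order. -/
@[reducible] noncomputable def conjAction (P : Subgroup G) (d : ℕ) :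
    MulAction ↥P {g : G // orderOf g = d} where
  smul x g := ⟨MulAut.conj (x : G) g.1, by rw [MulEquiv.orderOf_eq]; exact g.2⟩
  one_smul g := Subtype.ext (by
    show MulAut.conj ((1 : ↥P) : G) g.1 = g.1
    simp)
  mul_smul x y g := Subtype.ext (by
    show MulAut.conj ((x * y : ↥P) : G) g.1 = MulAut.conj (x : G) (MulAut.conj (y : G) g.1)
    simp [mul_assoc])

/-- If `p` does not divide the number of elements of order `d`, some of them centralises a given
`p`-subgroup. -/
theorem exists_commuting {p : ℕ} [Fact p.Prime] (P : Subgroup G) (hP : IsPGroup p P) {d : ℕ}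
    (h : (cnt G d : ZMod p) ≠ 0) : ∃ g : G, orderOf g = d ∧ ∀ x ∈ P, x * g = g * x := by
  letI := conjAction P d
  have h1 := hP.card_modEq_card_fixedPoints {g : G // orderOf g = d}
  have h2 : Nat.card (MulAction.fixedPoints ↥P {g : G // orderOf g = d}) ≠ 0 := by
    intro h0
    rw [h0] at h1
    exact h ((ZMod.natCast_eq_zero_iff _ _).2 (Nat.modEq_zero_iff_dvd.1 h1))
  obtain ⟨⟨⟨g, hg⟩⟩, -⟩ := Nat.card_pos_iff.1 (Nat.pos_of_ne_zero h2)
  refine ⟨g.1, g.2, fun x hx => ?_⟩
  have : MulAut.conj x g.1 = g.1 := congrArg Subtype.val (hg ⟨x, hx⟩)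
  exact mul_inv_eq_iff_eq_mul.1 (by simpa using this)

/-- If `p` does not divide the number of elements of order `p * r` then this number is at least twice
the number of elements of order `p`. -/
theorem two_mul_le {p r : ℕ} [hp : Fact p.Prime] (hr : 3 ≤ r) (hc : p.Coprime r)
    (h : (cnt G (p * r) : ZMod p) ≠ 0) : 2 * cnt G p ≤ cnt G (p * r) := by
  obtain ⟨P⟩ : Nonempty (Sylow p G) := inferInstance
  obtain ⟨g, hg, hgc⟩ := exists_commuting (P : Subgroup G) P.2 h
  have hb : orderOf (g ^ p) = r := by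
    rw [orderOf_pow_of_dvd hp.1.ne_zero (hg.symm ▸ Dvd.intro r rfl), hg,
      Nat.mul_div_cancel_left _ hp.1.pos]
  have hex : ∀ a : {a : G // orderOf a = p}, ∃ b : G, orderOf b = r ∧ Commute a.1 b := by
    intro a
    have hA : IsPGroup p (Subgroup.zpowers a.1) := IsPGroup.of_card (n := 1)
      (by rw [Nat.card_zpowers, a.2, pow_one])
    obtain ⟨Q, hQ⟩ := hA.exists_le_sylow
    obtain ⟨c, hc'⟩ := MulAction.exists_smul_eq G P Q
    have ha : a.1 ∈ (Q : Subgroup G) := hQ (Subgroup.mem_zpowers _)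
    rw [← hc'] at ha
    obtain ⟨x, hx, hxa⟩ := ha
    refine ⟨c * g ^ p * c⁻¹, (MulEquiv.orderOf_eq (MulAut.conj c) _).trans hb, ?_⟩
    rw [← hxa]
    have hcx : Commute x (g ^ p) := Commute.pow_right (hgc x hx) p
    exact hcx.map (MulAut.conj c)
  choose b hb1 hb2 using hex
  let k := Nat.chineseRemainder hc 1 0
  let f : {a : G // orderOf a = p} × Bool → {g : G // orderOf g = p * r} := fun x =>
    ⟨x.1.1 * if x.2 then b x.1 else (b x.1)⁻¹, by
      have hcom : Commute x.1.1 (if x.2 then b x.1 else (b x.1)⁻¹) := by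
        split_ifs
        · exact hb2 _
        · exact (hb2 _).inv_right
      have ho : orderOf (if x.2 then b x.1 else (b x.1)⁻¹) = r := by
        split_ifs
        · exact hb1 _
        · rw [orderOf_inv]; exact hb1 _
      rw [hcom.orderOf_mul_eq_mul_orderOf_of_coprime (by rw [x.1.2, ho]; exact hc), x.1.2, ho]⟩
  have hk : ∀ x, (f x).1 ^ (k : ℕ) = x.1.1 := by
    intro x
    have hcom : Commute x.1.1 (if x.2 then b x.1 else (b x.1)⁻¹) := by
      split_ifs
      · exact hb2 _
      · exact (hb2 _).inv_right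
    show (x.1.1 * _) ^ (k : ℕ) = _
    have h1 : x.1.1 ^ (k : ℕ) = x.1.1 := by
      conv_rhs => rw [← pow_one x.1.1]
      rw [pow_eq_pow_iff_modEq, x.1.2]
      exact k.2.1
    have h2 : (if x.2 then b x.1 else (b x.1)⁻¹) ^ (k : ℕ) = 1 := by
      apply orderOf_dvd_iff_pow_eq_one.1
      split_ifs
      · rw [hb1]; exact Nat.modEq_zero_iff_dvd.1 k.2.2
      · rw [orderOf_inv, hb1]; exact Nat.modEq_zero_iff_dvd.1 k.2.2
    rw [hcom.mul_pow, h1, h2, mul_one]
  have hinj : Function.Injective f := by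
    intro x y hxy
    have h1 : x.1 = y.1 := Subtype.ext (by rw [← hk x, ← hk y, hxy])
    obtain ⟨x1, x2⟩ := x
    obtain ⟨y1, y2⟩ := y
    subst h1
    have hval : x1.1 * (if x2 then b x1 else (b x1)⁻¹) = x1.1 * (if y2 then b x1 else (b x1)⁻¹) :=
      congrArg Subtype.val hxy
    replace hval := mul_left_cancel hval
    have hne : b x1 ≠ (b x1)⁻¹ := by
      intro e
      have : b x1 ^ 2 = 1 := by
        rw [pow_two]; nth_rewrite 1 [e]; exact inv_mul_cancel _
      have := Nat.le_of_dvd (by omega) (orderOf_dvd_of_pow_eq_one this)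
      rw [hb1] at this; omega
    cases x2 <;> cases y2 <;> simp_all
  have := Nat.card_le_card_of_injective f hinj
  rw [Nat.card_prod, Nat.card_eq_fintype_card (α := Bool), Fintype.card_bool] at this
  rw [cnt, cnt]
  omega

/-- A unique involution doubles the order of an element of odd order. -/
theorem cnt_two_mul (h2 : cnt G 2 = 1) {d : ℕ} (hd : Odd d) : cnt G (2 * d) = cnt G d := by
  obtain ⟨z, hz⟩ := exists_of_cnt_ne_zero (G := G) (d := 2) (by omega)
  have huniq : ∀ x : G, orderOf x = 2 → x = z := fun x hx => by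
    haveI := (Nat.card_eq_one_iff_unique.1 h2).1
    exact congrArg Subtype.val (Subsingleton.elim (⟨x, hx⟩ : {g : G // orderOf g = 2}) ⟨z, hz⟩)
  have hcen : ∀ x : G, Commute x z := fun x => by
    have h := huniq (MulAut.conj x z) ((MulEquiv.orderOf_eq _ _).trans hz)
    simp only [MulAut.conj_apply] at h
    exact mul_inv_eq_iff_eq_mul.1 h
  have hc : Nat.Coprime 2 d := Nat.prime_two.coprime_iff_not_dvd.2 (fun h => by
    rw [Nat.odd_iff] at hd; omega)
  refine (Nat.card_congr (Equiv.ofBijective (fun g : {g : G // orderOf g = d} =>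
    (⟨z * g.1, by
      rw [(hcen g.1).symm.orderOf_mul_eq_mul_orderOf_of_coprime (by rw [hz, g.2]; exact hc), hz, g.2]⟩ :
      {g : G // orderOf g = 2 * d})) ⟨fun a b h => Subtype.ext (mul_left_cancel (congrArg Subtype.val h)),
      fun g => ?_⟩)).symm
  have hgd : orderOf (g.1 ^ d) = 2 := by
    have hd0 : d ≠ 0 := fun h => by rw [h] at hd; simp at hd
    rw [orderOf_pow_of_dvd hd0 (g.2.symm ▸ Dvd.intro_left 2 rfl), g.2,
      Nat.mul_div_cancel _ (Nat.pos_of_ne_zero hd0)]
  have hzg : g.1 ^ d = z := huniq _ hgd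
  refine ⟨⟨z * g.1, ?_⟩, Subtype.ext ?_⟩
  · have hcomm : z * g.1 = g.1 ^ (d + 1) := by rw [pow_succ, hzg]
    rw [hcomm, orderOf_pow', g.2]
    obtain ⟨j, hj⟩ := hd
    subst hj
    · rw [show 2 * j + 1 + 1 = 2 * (j + 1) by ring, Nat.gcd_mul_left,
        show Nat.gcd (2 * j + 1) (j + 1) = 1 from by
          rw [show 2 * j + 1 = j + (j + 1) by ring, Nat.gcd_add_self_left]
          simp]
      omega
    · omega
  · show z * (z * g.1) = g.1
    rw [← mul_assoc, show z * z = 1 from by rw [← pow_two, ← hz, pow_orderOf_eq_one], one_mul]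

variable {u v : ℕ} (hV : ∀ d, cnt G d = 0 ∨ cnt G d = 1 ∨ cnt G d = u ∨ cnt G d = v)
include hV

theorem value {d : ℕ} (hd : 2 < d) : cnt G d = 0 ∨ cnt G d = u ∨ cnt G d = v := by
  rcases hV d with h | h | h
  · exact Or.inl h
  · have := even_cnt (G := G) hd
    rw [h] at this
    simp at this
  · exact Or.inr h

/-- With more than one involution there is at most one odd prime divisor. -/
theorem eq_of_many_involutions (h2 : 2 ∣ Nat.card G) (h1 : cnt G 2 ≠ 1) {p q : ℕ} (hp : p.Prime)
    (hq : q.Prime) (hp3 : 3 ≤ p) (hq3 : 3 ≤ q) (hpd : p ∣ Nat.card G) (hqd : q ∣ Nat.card G) :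
    p = q := by
  by_contra hpq
  haveI := Fact.mk hp
  haveI := Fact.mk hq
  have hodd := odd_cnt_two h2
  have key : ∀ d, 2 < d → cnt G d ≠ 0 → cnt G d = cnt G p := by
    intro d hd hd0
    have hu0 : cnt G p ≠ 0 := fun h => by
      have := cnt_prime hp hpd
      rw [h, Nat.cast_zero] at this
      exact one_ne_zero (neg_eq_zero.1 this.symm)
    have hed := even_cnt (G := G) hd
    have hep := even_cnt (G := G) (d := p) (by omega)
    rw [Nat.odd_iff] at hodd
    rw [Nat.even_iff] at hed hep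
    rcases hV 2 with h | h | h | h
    · omega
    · exact absurd h h1
    all_goals
      rcases value hV hd with e | e | e <;> rcases value hV (show 2 < p by omega) with e' | e' | e' <;> omega
  have h := cast_sum_eq_zero (p := p) (d := p * q)
    (Nat.Coprime.mul_dvd_of_dvd_of_dvd ((Nat.coprime_primes hp hq).2 hpq) hpd hqd) (Dvd.intro q rfl)
  rw [sum_two_primes hp hq hpq, key q (by omega) (fun h0 => by
    have := cnt_prime hq hqd
    rw [h0, Nat.cast_zero] at this
    exact one_ne_zero (neg_eq_zero.1 this.symm))] at h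
  push_cast at h
  rw [cnt_prime hp hpd] at h
  by_cases h0 : cnt G (p * q) = 0
  · rw [h0, Nat.cast_zero] at h
    exact one_ne_zero (by linear_combination -h : (1 : ZMod p) = 0)
  · rw [key _ (by nlinarith) h0, cnt_prime hp hpd] at h
    exact ne_zero_two hp3 (by linear_combination -h)

/-- Two odd primes cannot have the same count if there is at most one involution. -/
theorem count_ne (h1 : cnt G 2 ≤ 1) {p q : ℕ} (hp : p.Prime) (hq : q.Prime) (hp3 : 3 ≤ p)
    (hq3 : 3 ≤ q) (hpd : p ∣ Nat.card G) (hqd : q ∣ Nat.card G) (hpq : p ≠ q) :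
    cnt G p ≠ cnt G q := by
  intro heq
  -- symmetrical assumptions
  obtain ⟨w, hW⟩ : ∃ w, ∀ d, 2 < d → cnt G d = 0 ∨ cnt G d = cnt G p ∨ cnt G d = w := by
    rcases value hV (show 2 < p by omega) with h | h | h
    · haveI := Fact.mk hp
      have := cnt_prime hp hpd
      rw [h, Nat.cast_zero] at this
      exact absurd (neg_eq_zero.1 this.symm) one_ne_zero
    · exact ⟨v, fun d hd => by rw [h]; exact value hV hd⟩
    · exact ⟨u, fun d hd => by rw [h]; rcases value hV hd with e | e | e <;> tauto⟩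
  set c := cnt G p with hc
  have hcpos : ∀ r, r.Prime → r ∣ Nat.card G → cnt G r ≠ 0 := fun r hr hrd h => by
    haveI := Fact.mk hr
    have := cnt_prime hr hrd
    rw [h, Nat.cast_zero] at this
    exact one_ne_zero (neg_eq_zero.1 this.symm)
  have hc0 : 0 < c := Nat.pos_of_ne_zero (hcpos p hp hpd)
  -- a pair with equal counts
  have pair : ∀ r s, r.Prime → s.Prime → 3 ≤ r → 3 ≤ s → r ∣ Nat.card G → s ∣ Nat.card G → r ≠ s →
      cnt G r = c → cnt G s = c → cnt G (r * s) = w ∧ (w : ZMod r) = 1 ∧ (c : ZMod r) = -1 := by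
    intro r s hr hs hr3 hs3 hrd hsd hrs er es
    haveI := Fact.mk hr
    have h := cast_sum_eq_zero (p := r) (d := r * s)
      (Nat.Coprime.mul_dvd_of_dvd_of_dvd ((Nat.coprime_primes hr hs).2 hrs) hrd hsd) (Dvd.intro s rfl)
    rw [sum_two_primes hr hs hrs, er, es] at h
    push_cast at h
    have hcr : (c : ZMod r) = -1 := er ▸ cnt_prime hr hrd
    rw [hcr] at h
    rcases hW (r * s) (by nlinarith) with e | e | e
    · rw [e, Nat.cast_zero] at h
      exact absurd (by linear_combination -h : (1 : ZMod r) = 0) one_ne_zero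
    · rw [e, hcr] at h
      exact absurd (by linear_combination -h : (2 : ZMod r) = 0) (ne_zero_two hr3)
    · rw [e] at h
      exact ⟨e, by linear_combination h, hcr⟩
  haveI := Fact.mk hp
  obtain ⟨hpqw, hwp, hcp⟩ := pair p q hp hq hp3 hq3 hpd hqd hpq rfl heq.symm
  -- all odd primes have the same count
  have hall : ∀ r, r.Prime → 3 ≤ r → r ∣ Nat.card G → cnt G r = c := by
    intro r hr hr3 hrd
    rcases hW r (by omega) with e | e | e
    · exact absurd e (hcpos r hr hrd)
    · exact e
    · by_contra hne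
      have hpr : p ≠ r := fun h => hne (by rw [← h])
      have h := cast_sum_eq_zero (p := p) (d := p * r)
        (Nat.Coprime.mul_dvd_of_dvd_of_dvd ((Nat.coprime_primes hp hr).2 hpr) hpd hrd) (Dvd.intro r rfl)
      rw [sum_two_primes hp hr hpr, e, ← hc] at h
      push_cast at h
      rw [hcp, hwp] at h
      rcases hW (p * r) (by nlinarith) with e' | e' | e'
      · rw [e', Nat.cast_zero] at h
        exact one_ne_zero (by linear_combination h : (1 : ZMod p) = 0)
      · have := two_mul_le (G := G) (p := p) (r := r) hr3 ((Nat.coprime_primes hp hr).2 hpr)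
          (by rw [e', hcp]; exact neg_ne_zero.2 one_ne_zero)
        rw [e', ← hc] at this
        omega
      · rw [e', hwp] at h
        exact ne_zero_two hp3 (by linear_combination h)
  -- so every Sylow subgroup of odd order has prime exponent
  have hmod : ∀ r, r.Prime → 3 ≤ r → r ∣ Nat.card G →
      r ^ (Nat.card G).factorization r ∣ 1 + c := by
    intro r hr hr3 hrd
    haveI := Fact.mk hr
    obtain ⟨s, hs, hs3, hsd, hrs⟩ : ∃ s, s.Prime ∧ 3 ≤ s ∧ s ∣ Nat.card G ∧ r ≠ s := by
      by_cases h : r = p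
      · exact ⟨q, hq, hq3, hqd, h ▸ hpq⟩
      · exact ⟨p, hp, hp3, hpd, h⟩
    obtain ⟨-, hwr, hcr⟩ := pair r s hr hs hr3 hs3 hrd hsd hrs (hall r hr hr3 hrd) (hall s hs hs3 hsd)
    have hz : ∀ i, 2 ≤ i → cnt G (r ^ i) = 0 := by
      intro i hi
      have h0 := cnt_prime_pow (G := G) hr i hi
      rcases hW (r ^ i) (by calc 2 < r := by omega
          _ ≤ r ^ i := Nat.le_self_pow (by omega) r) with e | e | e
      · exact e
      · rw [e, hcr] at h0
        exact absurd (neg_eq_zero.1 h0) one_ne_zero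
      · rw [e, hwr] at h0
        exact absurd h0 one_ne_zero
    set e := (Nat.card G).factorization r with he
    have he1 : 1 ≤ e := hr.factorization_pos_of_dvd Nat.card_pos.ne' hrd
    have h := dvd_sum_cnt (G := G) (d := r ^ e) (Nat.ordProj_dvd _ _)
    rw [Nat.sum_divisors_prime_pow hr] at h
    obtain ⟨j, hj⟩ : ∃ j, e + 1 = j + 2 := ⟨e - 1, by omega⟩
    rw [hj, Finset.sum_range_succ', Finset.sum_range_succ',
      Finset.sum_eq_zero fun k _ => hz (k + 1 + 1) (by omega), pow_zero, cnt_one, zero_add, pow_one,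
      hall r hr hr3 hrd, add_comm] at h
    exact h
  -- the odd part of the order divides `1 + c`
  set a := (Nat.card G).factorization 2 with ha
  have hG0 : Nat.card G ≠ 0 := Nat.card_pos.ne'
  have hm : Nat.card G / 2 ^ a ∣ 1 + c := by
    rw [← Nat.factorization_le_iff_dvd (Nat.ordCompl_pos 2 hG0).ne' (by omega)]
    intro r
    rw [Nat.factorization_ordCompl, Finsupp.erase_apply]
    split_ifs with hr2
    · exact Nat.zero_le _
    by_cases hrd : r ∈ (Nat.card G).primeFactors
    · obtain ⟨hr, hrd, -⟩ := Nat.mem_primeFactors.1 hrd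
      have := hr.two_le
      exact (hr.pow_dvd_iff_le_factorization (by omega)).1 (hmod r hr (by omega) hrd)
    · rw [← Nat.support_factorization, Finsupp.notMem_support_iff] at hrd
      omega
  have hmle := Nat.le_of_dvd (by omega) hm
  have hsplit : 2 ^ a * (Nat.card G / 2 ^ a) = Nat.card G := Nat.ordProj_mul_ordCompl_eq_self _ _
  have hec : Even c := hc ▸ even_cnt (by omega)
  rw [Nat.even_iff] at hec
  by_cases h2 : 2 ∣ Nat.card G
  swap
  · have ha0 : a = 0 := Nat.factorization_eq_zero_of_not_dvd h2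
    have hle : ∑ e ∈ ({1, p, q} : Finset ℕ), cnt G e ≤ Nat.card G := sum_cnt_le
    rw [Finset.sum_insert (by simp only [Finset.mem_insert, Finset.mem_singleton]; omega),
      Finset.sum_pair hpq, cnt_one, ← heq] at hle
    rw [ha0, pow_zero, one_mul] at hsplit
    rw [ha0, pow_zero, Nat.div_one] at hmle
    omega
  have hone : cnt G 2 = 1 := by
    have := odd_cnt_two h2
    rw [Nat.odd_iff] at this
    omega
  have hpo : Odd p := hp.odd_of_ne_two (by omega)
  have hqo : Odd q := hq.odd_of_ne_two (by omega)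
  have h2p : cnt G (2 * p) = c := cnt_two_mul hone hpo
  have h2q : cnt G (2 * q) = c := (cnt_two_mul hone hqo).trans heq.symm
  by_cases h4 : 4 ∣ Nat.card G
  swap
  · have ha1 : a ≤ 1 := by
      by_contra h
      exact h4 (show 2 ^ 2 ∣ Nat.card G from (pow_dvd_pow 2 (by omega)).trans (Nat.ordProj_dvd _ _))
    have hle : ∑ e ∈ ({1, 2, p, q, 2 * p, 2 * q} : Finset ℕ), cnt G e ≤ Nat.card G := sum_cnt_le
    rw [Finset.sum_insert (by simp only [Finset.mem_insert, Finset.mem_singleton]; omega),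
      Finset.sum_insert (by simp only [Finset.mem_insert, Finset.mem_singleton]; omega),
      Finset.sum_insert (by
        simp only [Finset.mem_insert, Finset.mem_singleton]
        rcases hpo with ⟨i, rfl⟩; omega),
      Finset.sum_insert (by
        simp only [Finset.mem_insert, Finset.mem_singleton]
        rcases hqo with ⟨i, rfl⟩; omega),
      Finset.sum_pair (by omega), cnt_one, hone, h2p, h2q, ← heq, ← hc] at hle
    rcases (show a = 0 ∨ a = 1 by omega) with e | e <;> rw [e] at hsplit hmle <;> omega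
  -- an element of order four
  have hd4 : (4 : ℕ).divisors = {1, 2, 4} := by decide
  have s4 : ∑ e ∈ (4 : ℕ).divisors, cnt G e = 2 + cnt G 4 := by
    rw [hd4, Finset.sum_insert (by simp), Finset.sum_pair (by norm_num), cnt_one, hone]
    ring
  have four_pair : ∀ r, r.Prime → 3 ≤ r → r ∣ Nat.card G → cnt G 4 = c ∧ cnt G (4 * r) = w := by
    intro r hr hr3 hrd
    haveI := Fact.mk hr
    have hr4 : ¬ r ∣ 4 := fun h => by
      have h' : r ∣ 2 ^ 2 := h
      have := Nat.le_of_dvd (by omega) (hr.dvd_of_dvd_pow h')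
      omega
    have hd : 4 * r ∣ Nat.card G :=
      Nat.Coprime.mul_dvd_of_dvd_of_dvd (hr.coprime_iff_not_dvd.2 hr4).symm h4 hrd
    have h := cast_sum_eq_zero (p := r) hd (Dvd.intro_left 4 rfl)
    rw [sum_divisors_mul_prime hr hr4, s4, hd4, Finset.sum_insert (by simp),
      Finset.sum_pair (by norm_num), one_mul, hall r hr hr3 hrd,
      cnt_two_mul hone (hr.odd_of_ne_two (by omega)), hall r hr hr3 hrd] at h
    push_cast at h
    have hcr : (c : ZMod r) = -1 := hall r hr hr3 hrd ▸ cnt_prime hr hrd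
    have hwr : (w : ZMod r) = 1 := by
      by_cases hrp : r = p
      · exact (pair r q hr hq hr3 hq3 hrd hqd (hrp ▸ hpq) (hall r hr hr3 hrd) heq.symm).2.1
      · exact (pair r p hr hp hr3 hp3 hrd hpd hrp (hall r hr hr3 hrd) rfl).2.1
    rw [hcr] at h
    have hn4 : cnt G 4 ≠ 0 := fun h0 => by
      have := dvd_sum_cnt (G := G) h4
      rw [s4, h0] at this
      omega
    rcases hW 4 (by omega) with e | e | e
    · exact absurd e hn4
    · refine ⟨e, ?_⟩
      rw [e, hcr] at h
      rcases hW (4 * r) (by omega) with e' | e' | e'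
      · rw [e', Nat.cast_zero] at h
        exact absurd (by linear_combination -h : (1 : ZMod r) = 0) one_ne_zero
      · rw [e', hcr] at h
        exact absurd (by linear_combination -h : (2 : ZMod r) = 0) (ne_zero_two hr3)
      · exact e'
    · exfalso
      rw [e, hwr] at h
      rcases hW (4 * r) (by omega) with e' | e' | e'
      · rw [e', Nat.cast_zero] at h
        exact one_ne_zero (by linear_combination h : (1 : ZMod r) = 0)
      · have := two_mul_le (G := G) (p := r) (r := 4) (by norm_num)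
          (hr.coprime_iff_not_dvd.2 hr4)
          (by rw [mul_comm, e', hcr]; exact neg_ne_zero.2 one_ne_zero)
        rw [mul_comm r 4, e', hall r hr hr3 hrd] at this
        omega
      · rw [e', hwr] at h
        exact ne_zero_two hr3 (by linear_combination h)
  obtain ⟨e4, e4p⟩ := four_pair p hp hp3 hpd
  obtain ⟨-, e4q⟩ := four_pair q hq hq3 hqd
  have hp4 : ¬ p ∣ 4 := fun h => by
    have h' : p ∣ 2 ^ 2 := h
    have := Nat.le_of_dvd (by omega) (hp.dvd_of_dvd_pow h')
    omega
  have hq4 : ¬ q ∣ 4 := fun h => by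
    have h' : q ∣ 2 ^ 2 := h
    have := Nat.le_of_dvd (by omega) (hq.dvd_of_dvd_pow h')
    omega
  have hq4p : ¬ q ∣ 4 * p := fun h => by
    rcases hq.dvd_mul.1 h with h | h
    · exact hq4 h
    · exact hpq ((Nat.prime_dvd_prime_iff_eq hq hp).1 h).symm
  have hd : 4 * p * q ∣ Nat.card G := Nat.Coprime.mul_dvd_of_dvd_of_dvd
    (hq.coprime_iff_not_dvd.2 hq4p).symm
    (Nat.Coprime.mul_dvd_of_dvd_of_dvd (hp.coprime_iff_not_dvd.2 hp4).symm h4 hpd) hqd
  have h := cast_sum_eq_zero (p := p) hd (Dvd.dvd.mul_right (Dvd.intro_left 4 rfl) q)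
  rw [sum_divisors_mul_prime hq hq4p, sum_divisors_mul_prime hp hp4, sum_divisors_mul_prime hp hp4,
    hd4] at h
  simp only [Finset.sum_insert (show (1 : ℕ) ∉ ({2, 4} : Finset ℕ) by decide),
    Finset.sum_pair (show (2 : ℕ) ≠ 4 by decide), one_mul] at h
  rw [cnt_one, hone, e4, h2p, e4p, h2q, e4q, ← heq, hpqw, mul_assoc 2 p q,
    cnt_two_mul hone (hpo.mul hqo), hpqw] at h
  push_cast at h
  rw [hcp, hwp] at h
  have hne : (cnt G (p * (4 * q)) : ZMod p) ≠ 0 := by
    rw [← mul_assoc, mul_comm p 4]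
    intro h0
    rw [h0] at h
    exact one_ne_zero (by linear_combination h)
  have hge := two_mul_le (G := G) (p := p) (r := 4 * q) (by omega)
    (Nat.Coprime.mul_right (hp.coprime_iff_not_dvd.2 hp4) ((Nat.coprime_primes hp hq).2 hpq)) hne
  rw [← mul_assoc, mul_comm p 4, ← hc] at hge
  rcases hW (4 * p * q) (by nlinarith) with e | e | e
  · omega
  · omega
  · rw [e, hwp] at h
    exact ne_zero_two hp3 (by linear_combination h)

/-- Two odd primes: no element of order `p * q`, and the counts are divisible by the other prime. -/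
theorem two_primes (h1 : cnt G 2 ≤ 1) {p q : ℕ} [Fact p.Prime] [Fact q.Prime] (hp3 : 3 ≤ p)
    (hq3 : 3 ≤ q) (hpd : p ∣ Nat.card G) (hqd : q ∣ Nat.card G) (hpq : p ≠ q) :
    cnt G (p * q) = 0 ∧ (cnt G q : ZMod p) = 0 ∧
      ∀ d, 2 < d → cnt G d = 0 ∨ cnt G d = cnt G p ∨ cnt G d = cnt G q := by
  have hp := (Fact.out : p.Prime)
  have hq := (Fact.out : q.Prime)
  have hne := count_ne hV h1 hp hq hp3 hq3 hpd hqd hpq
  have hp0 : cnt G p ≠ 0 := fun h => by
    have := cnt_prime hp hpd
    rw [h, Nat.cast_zero] at this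
    exact one_ne_zero (neg_eq_zero.1 this.symm)
  have hq0 : cnt G q ≠ 0 := fun h => by
    have := cnt_prime hq hqd
    rw [h, Nat.cast_zero] at this
    exact one_ne_zero (neg_eq_zero.1 this.symm)
  have hall : ∀ d, 2 < d → cnt G d = 0 ∨ cnt G d = cnt G p ∨ cnt G d = cnt G q := by
    intro d hd
    rcases value hV hd with e | e | e <;> rcases value hV (show 2 < p by omega) with e' | e' | e' <;>
      rcases value hV (show 2 < q by omega) with e'' | e'' | e'' <;> omega
  have hc : p.Coprime q := (Nat.coprime_primes hp hq).2 hpq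
  have key : ∀ r s : ℕ, ∀ [Fact r.Prime], ∀ [Fact s.Prime], 3 ≤ r → 3 ≤ s → r ∣ Nat.card G → r ≠ s →
      cnt G (r * s) = cnt G r → cnt G r = 0 := by
    intro r s _ _ hr3 hs3 hrd hrs he
    have hr := (Fact.out : r.Prime)
    have := two_mul_le (G := G) (p := r) (r := s) hs3 ((Nat.coprime_primes hr Fact.out).2 hrs)
      (by rw [he, cnt_prime hr hrd]; exact neg_ne_zero.2 one_ne_zero)
    omega
  have hx : cnt G (p * q) = 0 := by
    rcases hall (p * q) (by nlinarith) with e | e | e
    · exact e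
    · exact absurd (key p q hp3 hq3 hpd hpq e) hp0
    · rw [mul_comm] at e
      exact absurd (key q p hq3 hp3 hqd hpq.symm e) hq0
  have h := cast_sum_eq_zero (p := p) (d := p * q)
    (Nat.Coprime.mul_dvd_of_dvd_of_dvd hc hpd hqd) (Dvd.intro q rfl)
  rw [sum_two_primes hp hq hpq, hx] at h
  push_cast at h
  rw [cnt_prime hp hpd] at h
  exact ⟨hx, by linear_combination h, hall⟩

end Cfsg.Agent.SameOrder
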