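import Cfsg.Agent.Lib.Small.SharpOdd

/-!
A sharply triply transitive group of degree `q ^ f + 1` in which every element exchanging two given points is
an involution is `PGL(2, q ^ f)`.
-/

set_option autoImplicit false
set_option linter.style.haveILetI false
set_option linter.unusedSectionVars false

namespace Cfsg.Agent.SharpInv

open MulAction Matrix Projectivization SharpEven SharpOdd
open scoped LinearAlgebra.Projectivization

variable {G : Type*} [Group G] [Finite G] {α : Type*} [MulAction G α] [Finite α]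

set_option maxHeartbeats 1600000 in
theorem equiv_pgl {q f : ℕ} [hq : Fact q.Prime] (hf : 1 ≤ f) (hcard : Nat.card α = q ^ f + 1)
    (h : Sharp3 G α)
    (hinv : ∀ (g : G) (a b : α), a ≠ b → g • a = b → g • b = a → g * g = 1) : Nonempty (G ≃* Matrix.ProjGenLinGroup (Fin 2) (GaloisField q f)) := by
  classical
  haveI : Fintype α := Fintype.ofFinite α
  have h3 : 2 < Fintype.card α := by
    rw [← Nat.card_eq_fintype_card, hcard]
    have := Nat.le_self_pow (show f ≠ 0 by omega) q
    have := hq.out.two_le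
    omega
  obtain ⟨i, o, e0, hio, hie, hoe⟩ := Fintype.two_lt_card_iff.1 h3
  -- the stabilizer of `i` acts sharply doubly transitively on the rest
  let H : Subgroup G := MulAction.stabilizer G i
  have hHi : ∀ g : H, (g : G) • i = i := fun g => g.2
  letI act : MulAction H {x : α // x ≠ i} :=
    { smul := fun g x => ⟨(g : G) • x.1, fun he => x.2 (MulAction.injective (g : G) (he.trans (hHi g).symm))⟩
      one_smul := fun x => Subtype.ext (one_smul G x.1)
      mul_smul := fun a b x => Subtype.ext (mul_smul (a : G) b x.1) }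
  have hΩ : Nat.card {x : α // x ≠ i} = q ^ f := by
    rw [Nat.card_eq_fintype_card, Fintype.card_subtype_compl, Fintype.card_subtype_eq]
    rw [Nat.card_eq_fintype_card] at hcard
    omega
  have h2 : MulAction.IsMultiplyPretransitive H {x : α // x ≠ i} 2 := by
    refine ⟨fun x y => ?_⟩
    have hx : (x 0).1 ≠ (x 1).1 := fun he => by
      have := x.injective (Subtype.ext he); simp at this
    have hy : (y 0).1 ≠ (y 1).1 := fun he => by
      have := y.injective (Subtype.ext he); simp at this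
    obtain ⟨g, gi, g0, g1⟩ := h.trans i (x 0).1 (x 1).1 i (y 0).1 (y 1).1 (Ne.symm (x 0).2)
      (Ne.symm (x 1).2) hx (Ne.symm (y 0).2) (Ne.symm (y 1).2) hy
    refine ⟨⟨g, gi⟩, DFunLike.ext _ _ fun k => ?_⟩
    fin_cases k
    · exact Subtype.ext g0
    · exact Subtype.ext g1
  obtain ⟨p, jj, N, hp, hjj, hpj, hNn, hNc, -, hNcomm, hNpow, -, hreg⟩ :=
    PermSharp.exists_regular_normal h2 (by
      rw [hΩ]; exact le_trans hq.out.two_le (Nat.le_self_pow (show f ≠ 0 by omega) q))
      (fun g a b hab ha hb => Subtype.ext (h.sharp (g : G) i a.1 b.1 (Ne.symm a.2) (Ne.symm b.2)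
        (fun he => hab (Subtype.ext he)) (hHi g) (congrArg Subtype.val ha) (congrArg Subtype.val hb)))
  haveI := hNn
  letI : CommGroup N :=
    { (inferInstance : Group N) with mul_comm := fun a b => Subtype.ext (hNcomm _ a.2 _ b.2) }
  -- the two point stabilizer
  let D : Subgroup G := MulAction.stabilizer G i ⊓ MulAction.stabilizer G o
  have hDi : ∀ d : D, (d : G) • i = i := fun d => d.2.1
  have hDo : ∀ d : D, (d : G) • o = o := fun d => d.2.2
  have hconj : ∀ (d : D) (n : N),
      (⟨(d : G), hDi d⟩ : H) * (n : H) * (⟨(d : G), hDi d⟩ : H)⁻¹ ∈ N := fun d n => hNn.conj_mem _ n.2 _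
  let cHom : D → (Additive N →+ Additive N) := fun d =>
    { toFun := fun n => Additive.ofMul ⟨_, hconj d (Additive.toMul n)⟩
      map_zero' := Additive.toMul.injective (Subtype.ext (by simp))
      map_add' := fun a b => Additive.toMul.injective (Subtype.ext (by simp [mul_assoc])) }
  let c : D →* AddMonoid.End (Additive N) :=
    { toFun := cHom
      map_one' := AddMonoidHom.ext fun n => Additive.toMul.injective (Subtype.ext (Subtype.ext (by
        show (1 : G) * ((Additive.toMul n : N) : H).1 * (1 : G)⁻¹ = ((Additive.toMul n : N) : H).1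
        simp)))
      map_mul' := fun a b => AddMonoidHom.ext fun n => Additive.toMul.injective (Subtype.ext (Subtype.ext (by
        show ((a : G) * b) * ((Additive.toMul n : N) : H).1 * ((a : G) * b)⁻¹ =
          (a : G) * ((b : G) * ((Additive.toMul n : N) : H).1 * (b : G)⁻¹) * (a : G)⁻¹
        group))) }
  -- the point map
  let pt : Additive N → α := fun n => ((Additive.toMul n : N) : H).1 • o
  have hptne : ∀ n, pt n ≠ i := fun n he => hio.symm (MulAction.injective (((Additive.toMul n : N) : H) : G)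
    (he.trans (hHi ((Additive.toMul n : N) : H)).symm))
  have hpt_inj : Function.Injective pt := by
    intro a b hab
    obtain ⟨n, -, hn⟩ := hreg ⟨o, hio.symm⟩ ⟨pt b, hptne b⟩
    have ha := hn ((Additive.toMul a : N) : H) ⟨(Additive.toMul a : N).2, Subtype.ext hab⟩
    have hb := hn ((Additive.toMul b : N) : H) ⟨(Additive.toMul b : N).2, Subtype.ext rfl⟩
    exact Additive.toMul.injective (Subtype.ext (ha.trans hb.symm))
  have hpt_surj : ∀ x, x ≠ i → ∃ n, pt n = x := fun x hx => by
    obtain ⟨n, hn, -⟩ := hreg ⟨o, hio.symm⟩ ⟨x, hx⟩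
    exact ⟨Additive.ofMul ⟨n, hn.1⟩, congrArg Subtype.val hn.2⟩
  have hpt_d : ∀ (d : D) n, pt (c d n) = (d : G) • pt n := fun d n => by
    show ((d : G) * ((Additive.toMul n : N) : H).1 * (d : G)⁻¹) • o = _
    rw [mul_smul, mul_smul, inv_smul_eq_iff.2 (hDo d).symm]
  have hpt0 : pt 0 = o := by simp [pt]
  obtain ⟨n1, hn1⟩ := hpt_surj e0 hie.symm
  have hn10 : n1 ≠ 0 := fun he => hoe (by rw [← hn1, he, hpt0])
  have hDtrans : ∀ n : Additive N, n ≠ 0 → ∃ d : D, c d n1 = n := fun n hn => by
    obtain ⟨g, gi, go, ge⟩ := h.trans i o e0 i o (pt n) hio hie hoe hio (hptne n).symm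
      (fun he => hn (hpt_inj (by rw [hpt0, ← he])))
    exact ⟨⟨g, gi, go⟩, hpt_inj (by rw [hpt_d, hn1]; exact ge)⟩
  -- the involution exchanging `i` and `o`
  obtain ⟨w, wi, wo, we⟩ := h.trans i o e0 o i e0 hio hie hoe hio.symm hoe hie
  have hw2 : w * w = 1 := h.sharp _ i o e0 hio hie hoe (by rw [mul_smul, wi, wo])
    (by rw [mul_smul, wo, wi]) (by rw [mul_smul, we, we])
  have hw1 : w ≠ 1 := fun he => hio (by rw [← wi, he, one_smul])
  have hwinv : w⁻¹ = w := inv_eq_of_mul_eq_one_right hw2
  have hσmem : ∀ d : D, w * (d : G) * w ∈ D := fun d =>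
    ⟨by show _ • i = i; rw [mul_smul, mul_smul, wi, hDo d, wo],
     by show _ • o = o; rw [mul_smul, mul_smul, wo, hDi d, wi]⟩
  let σ : D →* D :=
    { toFun := fun d => ⟨w * (d : G) * w, hσmem d⟩
      map_one' := Subtype.ext (by simp [hw2])
      map_mul' := fun a b => Subtype.ext (by
        show w * ((a : G) * b) * w = w * a * w * (w * b * w)
        calc w * ((a : G) * b) * w = w * a * (w * w) * b * w := by rw [hw2]; group
          _ = _ := by group) }
  have hinvol : Function.Involutive σ := fun d => Subtype.ext (by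
    show w * (w * (d : G) * w) * w = d
    calc w * (w * (d : G) * w) * w = (w * w) * d * (w * w) := by group
      _ = d := by rw [hw2]; group)
  -- the linear structure
  have hpq : p = q := by
    rw [hΩ] at hpj
    exact (Nat.prime_dvd_prime_iff_eq hp hq.out).1 (hp.dvd_of_dvd_pow (hpj ▸ dvd_pow_self p (by omega)))
  have hexp : ∀ n : Additive N, q • n = 0 := fun n =>
    Additive.toMul.injective (by
      rw [toMul_nsmul, toMul_zero]
      exact Subtype.ext (by rw [SubgroupClass.coe_pow, Subgroup.coe_one, ← hpq, hNpow _ (Additive.toMul n).2]))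
  letI : Module (ZMod q) (Additive N) := AddCommGroup.zmodModule hexp
  haveI : Nontrivial (Additive N) := ⟨⟨n1, 0, hn10⟩⟩
  haveI : Finite (Additive N) := Finite.of_injective pt hpt_inj
  let ρ := endLin (A := Additive N) (D := D) q c
  have hfree : ∀ v : Additive N, v ≠ 0 → ∀ d : D, c d v = v → d = 1 := fun v hv d hd => Subtype.ext
    (h.sharp (d : G) i o (pt v) hio (hptne v).symm (fun he => hv (hpt_inj (by rw [hpt0, ← he]))) (hDi d) (hDo d)
      (by rw [← hpt_d, hd]))
  have hReg : NearField.Reg ρ := by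
    refine ⟨fun a b hab => ?_, fun v u hv hu => ?_, hfree⟩
    · refine inv_mul_eq_one.1 (hfree n1 hn10 _ ?_)
      rw [map_mul]
      show c a⁻¹ (c b n1) = n1
      rw [← show c a n1 = c b n1 from LinearEquiv.congr_fun hab n1]
      show (c a⁻¹ * c a) n1 = n1
      rw [← map_mul, inv_mul_cancel, map_one]; rfl
    · obtain ⟨a, ha⟩ := hDtrans v hv
      obtain ⟨b, hb⟩ := hDtrans u hu
      refine ⟨b * a⁻¹, ?_⟩
      show c (b * a⁻¹) v = u
      rw [← ha, ← hb]
      show (c (b * a⁻¹) * c a) n1 = c b n1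
      rw [← map_mul, inv_mul_cancel_right]
  have hNq : Nat.card (Additive N) = q ^ f := by rw [Nat.card_congr Additive.toMul, hNc, hΩ]
  have hσinv : ∀ d : D, σ d = d⁻¹ := by
    intro d
    refine eq_inv_of_mul_eq_one_left (Subtype.ext ?_)
    show w * (d : G) * w * d = 1
    have := hinv (w * d) i o hio (by rw [mul_smul, hDi d, wi]) (by rw [mul_smul, hDo d, wo])
    rw [← this]; group
  have hDcomm : ∀ a b : D, a * b = b * a := fun a b => by
    have h1 := map_mul σ a b
    rw [hσinv, hσinv, hσinv] at h1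
    have h2 := congrArg (·⁻¹) h1
    simpa using h2
  -- the field
  let S : Subring (AddMonoid.End (Additive N)) := Subring.closure (Set.range c)
  letI instS : CommRing S := Subring.closureCommRingOfComm (by
    rintro _ ⟨a, rfl⟩ _ ⟨b, rfl⟩; rw [← map_mul, hDcomm, map_mul])
  let ev : S → Additive N := fun x => (x : AddMonoid.End (Additive N)) n1
  have hcS : ∀ d, c d ∈ S := fun d => Subring.subset_closure ⟨d, rfl⟩
  have hcomm' : ∀ x y : S, (x : AddMonoid.End (Additive N)) * y = y * x := fun x y =>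
    congrArg Subtype.val (mul_comm x y)
  have hev_inj : ∀ x : S, ev x = 0 → x = 0 := fun x hx => Subtype.ext (AddMonoidHom.ext fun n => by
    by_cases hn : n = 0
    · subst hn
      exact map_zero _
    · obtain ⟨d, rfl⟩ := hDtrans n hn
      show ((x : AddMonoid.End (Additive N)) * c d) n1 = 0
      rw [hcomm' x ⟨c d, hcS d⟩]
      show c d (ev x) = 0
      rw [hx, map_zero])
  have hev_add : ∀ x y : S, ev (x + y) = ev x + ev y := fun x y => rfl
  have hev_bij : Function.Bijective ev := by
    constructor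
    · intro x y hxy
      refine sub_eq_zero.1 (hev_inj _ ?_)
      show ((x : AddMonoid.End (Additive N)) - y) n1 = 0
      exact sub_eq_zero.2 hxy
    · intro n
      by_cases hn : n = 0
      · exact ⟨0, by simp [ev, hn]⟩
      · obtain ⟨d, hd⟩ := hDtrans n hn
        exact ⟨⟨c d, hcS d⟩, hd⟩
  haveI : Finite S := Finite.of_injective ev hev_bij.1
  haveI : Nontrivial S := ⟨⟨0, 1, fun he => hn10 (congrArg ev he.symm)⟩⟩
  haveI : NoZeroDivisors S := ⟨fun {x y} hxy => by
    by_contra hne
    push Not at hne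
    obtain ⟨d, hd⟩ := hDtrans (ev y) fun he => hne.2 (hev_inj y he)
    apply hne.1
    apply hev_inj
    have h1 : (x : AddMonoid.End (Additive N)) (ev y) = 0 := congrArg ev hxy
    rw [← hd] at h1
    have h2 : c d (ev x) = 0 := by
      rw [← h1]
      exact congrFun (congrArg DFunLike.coe (hcomm' ⟨c d, hcS d⟩ x)) n1
    have h3 := congrArg (c d⁻¹) h2
    rw [map_zero] at h3
    have h4 : (c d⁻¹ * c d) (ev x) = 0 := h3
    rwa [← map_mul, inv_mul_cancel, map_one] at h4⟩
  haveI : IsDomain S := NoZeroDivisors.to_isDomain S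
  letI : Fintype S := Fintype.ofFinite S
  letI : Field S := Fintype.fieldOfDomain S
  letI : Fintype (GaloisField q f) := Fintype.ofFinite _
  have hScard : Nat.card S = q ^ f := by
    rw [Nat.card_eq_of_bijective ev hev_bij, Nat.card_congr Additive.toMul, hNc, hΩ]
  have θ : GaloisField q f ≃+* S := FiniteField.ringEquivOfCardEq (by
    rw [← Nat.card_eq_fintype_card, ← Nat.card_eq_fintype_card, GaloisField.card q f (show f ≠ 0 by omega), hScard])
  set F := GaloisField q f
  let ψ : F → α := fun a => pt (ev (θ a))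
  have hψinj : Function.Injective ψ := hpt_inj.comp (hev_bij.1.comp θ.injective)
  have hψsurj : ∀ x, x ≠ i → ∃ a, ψ a = x := fun x hx => by
    obtain ⟨n, rfl⟩ := hpt_surj x hx
    obtain ⟨s, rfl⟩ := hev_bij.2 n
    exact ⟨θ.symm s, by simp [ψ]⟩
  have hψne : ∀ a, ψ a ≠ i := fun a => hptne _
  have hψ0 : ψ 0 = o := by simp [ψ, ev, hpt0]
  have hψ1 : ψ 1 = e0 := by
    show pt (ev (θ 1)) = e0
    rw [map_one]; exact hn1
  -- translations
  let η : F → G := fun a => (((Additive.toMul (ev (θ a)) : N) : H) : G)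
  have hηi : ∀ a, η a • i = i := fun a => hHi _
  have hη : ∀ a b, η a • ψ b = ψ (a + b) := fun a b => by
    show η a • (η b • o) = η (a + b) • o
    rw [← mul_smul]
    congr 1
    simp only [η, map_add, hev_add, toMul_add, Subgroup.coe_mul]
  let μ : D → F := fun d => θ.symm ⟨c d, hcS d⟩
  have hμ : ∀ (d : D) b, (d : G) • ψ b = ψ (μ d * b) := fun d b => by
    show (d : G) • pt (ev (θ b)) = pt (ev (θ (μ d * b)))
    rw [← hpt_d, map_mul, RingEquiv.apply_symm_apply]
    rfl
  have hμ1 : ∀ d : D, (d : G) • e0 = ψ (μ d) := fun d => by rw [← hψ1, hμ, mul_one]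
  have hμne : ∀ d, μ d ≠ 0 := fun d he => hoe (by
    have := hμ1 d
    rw [he, hψ0] at this
    exact (MulAction.injective (d : G) (this.trans (hDo d).symm)).symm)
  have hμinv : ∀ d : D, μ d⁻¹ = (μ d)⁻¹ := fun d => by
    refine eq_inv_of_mul_eq_one_left ?_
    apply hψinj
    rw [← hμ, hψ1, Subgroup.coe_inv, inv_smul_eq_iff, hμ1]
  have hμmul : ∀ a b : D, μ (a * b) = μ a * μ b := fun a b => hψinj (by
    rw [← hμ1, Subgroup.coe_mul, mul_smul, hμ1, hμ])
  have hμbij : ∀ a : F, a ≠ 0 → ∃ d : D, μ d = a := fun a ha => by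
    obtain ⟨g, gi, go, ge⟩ := h.trans i o e0 i o (ψ a) hio hie hoe hio (hψne a).symm
      (fun he => ha (hψinj (by rw [← he, hψ0])))
    exact ⟨⟨g, gi, go⟩, hψinj (by rw [← hμ1]; exact ge)⟩
  have hμinj : Function.Injective μ := fun a b hab => Subtype.ext (agree h hio hie hoe
    ((hDi a).trans (hDi b).symm) ((hDo a).trans (hDo b).symm) (by rw [hμ1, hμ1, hab]))
  have hμone : μ 1 = 1 := hψinj (by rw [← hμ1, Subgroup.coe_one, one_smul, hψ1])
  have hwμ : ∀ d : D, w • ψ (μ d) = ψ (μ (σ d)) := fun d => by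
    rw [← hμ1, ← hμ1]
    show w • (d : G) • e0 = (w * (d : G) * w) • e0
    rw [mul_smul, mul_smul, we]
  have hw_ψ : ∀ a, a ≠ 0 → w • ψ a = ψ a⁻¹ := fun a ha => by
    obtain ⟨d, rfl⟩ := hμbij a ha
    rw [hwμ, hσinv, hμinv]
  -- the projective line
  have hne1 : ∀ a : F, (![a, 1] : Fin 2 → F) ≠ 0 := fun a he => one_ne_zero (congrFun he 1)
  let jf : α → ℙ F (Fin 2 → F) := fun x =>
    if hx : x = i then ProjLine.p0 else Projectivization.mk F ![(hψsurj x hx).choose, 1] (hne1 _)
  have hjψ : ∀ a, jf (ψ a) = Projectivization.mk F ![a, 1] (hne1 a) := fun a => by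
    simp only [jf, dif_neg (hψne a)]
    congr 2
    exact hψinj (hψsurj (ψ a) (hψne a)).choose_spec
  have hji : jf i = ProjLine.p0 := dif_pos rfl
  have hcases : ∀ x, x = i ∨ ∃ a, ψ a = x := fun x => (em (x = i)).imp_right (hψsurj x)
  have hjinj : Function.Injective jf := by
    intro x y hxy
    rcases hcases x with rfl | ⟨a, rfl⟩ <;> rcases hcases y with rfl | ⟨b, rfl⟩
    · rfl
    · rw [hji, hjψ, ProjLine.p0, Projectivization.mk_eq_mk_iff'] at hxy
      obtain ⟨t, ht⟩ := hxy
      have e1 := congrFun ht 1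
      have e2 := congrFun ht 0
      simp at e1
      simp [e1] at e2
    · rw [hji, hjψ, ProjLine.p0, Projectivization.mk_eq_mk_iff'] at hxy
      obtain ⟨t, ht⟩ := hxy
      have e1 := congrFun ht 1
      simp at e1
    · rw [hjψ, hjψ, Projectivization.mk_eq_mk_iff'] at hxy
      obtain ⟨t, ht⟩ := hxy
      have e1 := congrFun ht 1
      have e2 := congrFun ht 0
      simp at e1
      simp [e1] at e2
      rw [e2]
  have hjcard : Nat.card α = Nat.card (ℙ F (Fin 2 → F)) := by
    rw [ProjLine.card_eq, hcard, GaloisField.card q f (show f ≠ 0 by omega)]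
  haveI : Finite (ℙ F (Fin 2 → F)) := Nat.finite_of_card_ne_zero (by rw [← hjcard, hcard]; omega)
  let j : α ≃ ℙ F (Fin 2 → F) :=
    Equiv.ofBijective jf (hjinj.bijective_of_nat_card_le hjcard.ge)
  let Good : G → Prop := fun g => ∃ hh : Matrix.ProjGenLinGroup (Fin 2) F, ∀ x, j (g • x) = hh • j x
  have hmulG : ∀ g g', Good g → Good g' → Good (g * g') := by
    rintro g g' ⟨a, ha⟩ ⟨b, hb⟩
    exact ⟨a * b, fun x => by rw [mul_smul, ha, hb, mul_smul]⟩
  have hmatGood : ∀ (g : G) (M : Matrix (Fin 2) (Fin 2) F) (hM : M.det ≠ 0),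
      (∀ x, ∃ (v u : Fin 2 → F) (hv : v ≠ 0) (hu : u ≠ 0), j x = Projectivization.mk F v hv ∧
        j (g • x) = Projectivization.mk F u hu ∧ ∃ t : F, t • u = M *ᵥ v) → Good g := by
    intro g M hM hall
    refine ⟨ProjGenLinGroup.mk (GeneralLinearGroup.mkOfDetNeZero M hM), fun x => ?_⟩
    obtain ⟨v, u, hv, hu, e1, e2, t, ht⟩ := hall x
    rw [e1, e2]
    show _ = (GeneralLinearGroup.mkOfDetNeZero M hM) • Projectivization.mk F v hv
    rw [Projectivization.smul_mk, eq_comm, Projectivization.mk_eq_mk_iff']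
    exact ⟨t, ht⟩
  have hp0 : ∀ x, x = i → j x = Projectivization.mk F ![1, 0] (fun h => one_ne_zero (congrFun h 0)) :=
    fun x hx => by subst hx; exact hji
  have hone : (![1, 0] : Fin 2 → F) ≠ 0 := fun h => one_ne_zero (congrFun h 0)
  have hGη : ∀ b, Good (η b) := fun b => by
    refine hmatGood _ !![1, b; 0, 1] (by simp [Matrix.det_fin_two]) fun x => ?_
    rcases hcases x with rfl | ⟨a, rfl⟩
    · exact ⟨_, _, hone, hone, hp0 _ rfl, hp0 _ (hηi b), 1, by
        ext k; fin_cases k <;> simp [Matrix.mulVec, dotProduct]⟩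
    · exact ⟨_, _, hne1 a, hne1 (b + a), hjψ a, by rw [hη]; exact hjψ _, 1, by
        ext k; fin_cases k <;> simp [Matrix.mulVec, dotProduct, add_comm]⟩
  have hGd : ∀ d : D, Good (d : G) := fun d => by
    refine hmatGood _ !![μ d, 0; 0, 1] (by simp [Matrix.det_fin_two, hμne d]) fun x => ?_
    rcases hcases x with rfl | ⟨a, rfl⟩
    · exact ⟨_, _, hone, hone, hp0 _ rfl, hp0 _ (hDi d), μ d, by
        ext k; fin_cases k <;> simp [Matrix.mulVec, dotProduct]⟩
    · exact ⟨_, _, hne1 a, hne1 (μ d * a), hjψ a, by rw [hμ]; exact hjψ _, 1, by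
        ext k; fin_cases k <;> simp [Matrix.mulVec, dotProduct]⟩
  have hGw : Good w := by
    refine hmatGood _ !![0, 1; 1, 0] (by simp [Matrix.det_fin_two]) fun x => ?_
    rcases hcases x with rfl | ⟨a, rfl⟩
    · exact ⟨_, _, hone, hne1 0, hp0 _ rfl, by rw [wi, ← hψ0]; exact hjψ 0, 1, by
        ext k; fin_cases k <;> simp [Matrix.mulVec, dotProduct]⟩
    · by_cases ha : a = 0
      · exact ⟨_, _, hne1 a, hone, hjψ a, hp0 _ (by rw [ha, hψ0, wo]), 1, by
          ext k; fin_cases k <;> simp [Matrix.mulVec, dotProduct, ha]⟩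
      · exact ⟨_, _, hne1 a, hne1 a⁻¹, hjψ a, by rw [hw_ψ a ha]; exact hjψ _, a, by
          ext k; fin_cases k <;> (try simp [Matrix.mulVec, dotProduct]) <;> exact mul_inv_cancel₀ (G₀ := GaloisField q f) (a := a) ha⟩
  have hstab : ∀ g : G, g • i = i → Good g := fun g hg => by
    obtain ⟨b, hb⟩ := hψsurj (g • o) fun he => hio.symm (MulAction.injective g (he.trans hg.symm))
    have hd : (η b)⁻¹ * g ∈ D :=
      ⟨by show _ • i = i; rw [mul_smul, hg, inv_smul_eq_iff, hηi],
       by show _ • o = o; rw [mul_smul, ← hb, inv_smul_eq_iff, ← hψ0, hη, add_zero]⟩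
    have := hmulG _ _ (hGη b) (hGd ⟨_, hd⟩)
    simpa using this
  have hall : ∀ g : G, Good g := fun g => by
    rcases hcases (g • i) with hg | ⟨b, hb⟩
    · exact hstab g hg
    · have hk : (w * (η b)⁻¹ * g) • i = i := by
        rw [mul_smul, mul_smul, ← hb, inv_smul_eq_iff.2 (show ψ b = η b • ψ 0 by rw [hη, add_zero]),
          hψ0, wo]
      have := hmulG _ _ (hmulG _ _ (hGη b) hGw) (hstab _ hk)
      convert this using 1
      calc g = η b * (w * w) * ((η b)⁻¹ * g) := by rw [hw2]; group
        _ = η b * w * (w * (η b)⁻¹ * g) := by group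
  exact equiv_of_matched h pgl_sharp j hall hio hie hoe

end Cfsg.Agent.SharpInv
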