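import Cfsg.Agent.Lib.Recog.PSL2Spec
import Cfsg.Agent.Lib.Recog.SharpInv
import Cfsg.Agent.Lib.Recog.SameOrderCounts
import Cfsg.Agent.Lib.Spectrum.PGL2
import Cfsg.Agent.Lib.Classical.DicksonProper

/-!
`PGL(2, q)`, `q` odd, is determined by its order and the set of numbers of elements of equal order.
-/

set_option autoImplicit false
set_option linter.style.haveILetI false
set_option linter.unusedSectionVars false

namespace Cfsg.Agent.PGL2Nse

open MulAction Finset
open Cfsg.Agent.SameOrder (cnt cnt_one cnt_pos exists_of_cnt_ne_zero)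

universe u

variable {G : Type u} [Group G] [Finite G] {p : ℕ} [hp : Fact p.Prime] {f : ℕ}

theorem totient_dvd_cnt (m : ℕ) : Nat.totient m ∣ cnt G m := by
  classical
  haveI := Fintype.ofFinite G
  rw [Cfsg.Agent.SameOrder.cnt, Nat.card_eq_fintype_card, Fintype.card_subtype,
    Finset.card_eq_sum_card_image (fun g : G => Subgroup.zpowers g)]
  refine Finset.dvd_sum fun C hC => ?_
  obtain ⟨g, hg, rfl⟩ := Finset.mem_image.1 hC
  have hgm : orderOf g = m := (Finset.mem_filter.1 hg).2
  refine dvd_of_eq ?_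
  rw [← IsCyclic.card_orderOf_eq_totient (α := Subgroup.zpowers g) (d := m)
    (by rw [← Nat.card_eq_fintype_card, Nat.card_zpowers, hgm])]
  refine Finset.card_bij (fun x _ => (x : G)) (fun x hx => ?_) (fun _ _ _ _ e => Subtype.ext e) ?_
  · simp only [Finset.mem_filter, Finset.mem_univ, true_and] at hx ⊢
    refine ⟨by rw [Subgroup.orderOf_coe, hx], ?_⟩
    refine Subgroup.eq_of_le_of_card_ge (Subgroup.zpowers_le.2 x.2) ?_
    rw [Nat.card_zpowers, Nat.card_zpowers, Subgroup.orderOf_coe, hx, hgm]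
  · intro y hy
    simp only [Finset.mem_filter, Finset.mem_univ, true_and] at hy
    refine ⟨⟨y, hy.2 ▸ Subgroup.mem_zpowers y⟩, ?_, rfl⟩
    simp only [Finset.mem_filter, Finset.mem_univ, true_and, Subgroup.orderOf_mk, hy.1]

/-- The sum of the counts over the orders that occur. -/
theorem card_filter_eq_sum [Fintype G] (P : G → Prop) [DecidablePred P]
    (hP : ∀ g h : G, orderOf g = orderOf h → (P g ↔ P h)) :
    (Finset.univ.filter P).card = ∑ k ∈ (Finset.univ.filter P).image orderOf, cnt G k := by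
  classical
  rw [Finset.card_eq_sum_card_image orderOf]
  refine Finset.sum_congr rfl fun k hk => ?_
  obtain ⟨g, hg, rfl⟩ := Finset.mem_image.1 hk
  rw [Cfsg.Agent.SameOrder.cnt, Nat.card_eq_fintype_card, Fintype.card_subtype, Finset.filter_filter]
  exact congrArg Finset.card (Finset.filter_congr fun h _ =>
    ⟨fun e => e.2, fun e => ⟨(hP h g e).2 (Finset.mem_filter.1 hg).2, e⟩⟩)

section hyp

variable (H : PSL2Spec.Hyp G p f 1)
include H

theorem sylow_card {P : Sylow p G}
    (hreg : ∀ Q R : Sylow p G, Q ≠ P → R ≠ P → ∃! u : (P : Subgroup G), (u : G) • Q = R)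
    (hn : Nat.card (Sylow p G) = p ^ f + 1) : ∀ A : Sylow p G, Nat.card (A : Subgroup G) = p ^ f := by
  classical
  haveI := Fintype.ofFinite (Sylow p G)
  intro A
  rw [Sylow.card_eq_multiplicity A, ← Sylow.card_eq_multiplicity P]
  obtain ⟨Q, hQ⟩ : ∃ Q : Sylow p G, Q ≠ P := by
    haveI : Nontrivial (Sylow p G) := Finite.one_lt_card_iff_nontrivial.1 (by rw [hn]; have := H.q3; omega)
    exact exists_ne P
  have hPP : ∀ u : (P : Subgroup G), (u : G) • P = P := fun u =>
    Sylow.smul_eq_iff_mem_normalizer.2 (Subgroup.le_normalizer u.2)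
  let φ : ↥(P : Subgroup G) → {S : Sylow p G // S ≠ P} := fun u =>
    ⟨(u : G) • Q, fun e => hQ ((smul_left_cancel_iff (u : G)).1 (e.trans (hPP u).symm))⟩
  have hφ : Function.Bijective φ := by
    refine ⟨fun u v e => ?_, fun R => ?_⟩
    · exact (hreg Q ((v : G) • Q) hQ (φ v).2).unique (congrArg Subtype.val e) rfl
    · obtain ⟨u, hu, -⟩ := hreg Q R.1 hQ R.2
      exact ⟨u, Subtype.ext hu⟩
  rw [Nat.card_congr (Equiv.ofBijective φ hφ), Nat.card_eq_fintype_card (α := {S : Sylow p G // S ≠ P}),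
    Fintype.card_subtype_compl, Fintype.card_subtype_eq, ← Nat.card_eq_fintype_card, hn]
  omega

theorem comm_two (h2 : p = 2) (A : Sylow p G) : ∀ x ∈ (A : Subgroup G), ∀ y ∈ (A : Subgroup G), x * y = y * x := by
  intro x hx y hy
  have hinv : ∀ z ∈ (A : Subgroup G), z⁻¹ = z := fun z hz => inv_eq_of_mul_eq_one_right (by
    have := SylowTISpec.pow_eq_one_of_mem H.iso A.2 hz
    rw [← pow_two]
    exact h2 ▸ this)
  rw [← hinv _ (A.1.mul_mem hx hy), mul_inv_rev, hinv _ hx, hinv _ hy]

theorem cnt_char : cnt G p = (p ^ f + 1) * (p ^ f - 1) := by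
  classical
  haveI := Fintype.ofFinite (Sylow p G)
  obtain ⟨k, P, -, -, hn, -, -, hreg, -⟩ := H.exists_zassenhaus
  have hcard := sylow_card H hreg hn
  let φ : (Σ A : Sylow p G, {u : (A : Subgroup G) // u ≠ 1}) → {g : G // orderOf g = p} := fun x =>
    ⟨(x.2.1 : G), SylowTISpec.orderOf_eq_of_mem H.iso x.1.2 x.2.1.2 fun e => x.2.2 (Subtype.ext e)⟩
  have hφ : Function.Bijective φ := by
    constructor
    · rintro ⟨A, u, hu⟩ ⟨B, v, hv⟩ e
      have e' : (u : G) = v := congrArg Subtype.val e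
      obtain rfl : A = B := by
        by_contra hAB
        have hmem : (u : G) ∈ (A : Subgroup G) ⊓ (B : Subgroup G) := ⟨u.2, e' ▸ v.2⟩
        rw [SylowTISpec.inf_eq_bot H.iso (comm_two H) hAB, Subgroup.mem_bot] at hmem
        exact hu (Subtype.ext hmem)
      obtain rfl : u = v := Subtype.ext e'
      rfl
    · rintro ⟨g, hg⟩
      obtain ⟨A, hA⟩ := (IsPGroup.of_card (n := 1) (by rw [Nat.card_zpowers, hg, pow_one]) :
        IsPGroup p (Subgroup.zpowers g)).exists_le_sylow
      refine ⟨⟨A, ⟨g, hA (Subgroup.mem_zpowers g)⟩, fun e => ?_⟩, rfl⟩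
      have : g = 1 := congrArg Subtype.val e
      rw [this, orderOf_one] at hg
      exact hp.out.one_lt.ne hg
  rw [Cfsg.Agent.SameOrder.cnt, ← Nat.card_congr (Equiv.ofBijective φ hφ), Nat.card_sigma,
    Finset.sum_const_nat (m := p ^ f - 1) fun A _ => ?_]
  · rw [Finset.card_univ, ← Nat.card_eq_fintype_card, hn]
  · haveI := Fintype.ofFinite (A : Subgroup G)
    rw [Nat.card_eq_fintype_card (α := {u : (A : Subgroup G) // u ≠ 1}), Fintype.card_subtype_compl,
      Fintype.card_subtype_eq, ← Nat.card_eq_fintype_card, hcard]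

theorem dvd_cnt {m : ℕ} (hm1 : m ≠ 1) (hmp : m ≠ p) : p ^ f ∣ cnt G m := by
  classical
  obtain ⟨k, P, -, -, hn, -, -, hreg, -⟩ := H.exists_zassenhaus
  letI : MulAction (P : Subgroup G) {g : G // orderOf g = m} :=
    { smul := fun u g => ⟨MulAut.conj (u : G) g.1, by rw [MulEquiv.orderOf_eq]; exact g.2⟩
      one_smul := fun g => Subtype.ext (by show MulAut.conj (1 : G) g.1 = g.1; simp)
      mul_smul := fun u v g => Subtype.ext (by
        show MulAut.conj ((u : G) * v) g.1 = MulAut.conj (u : G) (MulAut.conj (v : G) g.1)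
        rw [map_mul]; rfl) }
  have h := ZassAb.card_dvd_of_free (A := (P : Subgroup G)) (S := {g : G // orderOf g = m}) fun u g e => by
    by_contra hu
    have e' : (u : G) * g.1 * (u : G)⁻¹ = g.1 := congrArg Subtype.val e
    have hg := SylowTISpec.pow_eq_one_of_commute H.iso
      (SylowTISpec.orderOf_eq_of_mem H.iso P.2 u.2 fun e2 => hu (Subtype.ext e2)) (mul_inv_eq_iff_eq_mul.1 e')
    rcases (Nat.dvd_prime hp.out).1 (orderOf_dvd_of_pow_eq_one hg) with h1 | h1 <;> rw [g.2] at h1
    · exact hm1 h1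
    · exact hmp h1
  rwa [sylow_card H hreg hn] at h

/-- In the presence of `q²` involutions, `G` is `PGL(2, q)`. -/
theorem equiv (hp2 : p ≠ 2) (h2 : cnt G 2 = p ^ f * p ^ f) :
    Nonempty (G ≃* Matrix.ProjGenLinGroup (Fin 2) (GaloisField p f)) := by
  classical
  haveI := Fintype.ofFinite G
  haveI := Fintype.ofFinite (Sylow p G)
  haveI : Fact (Nat.Prime 2) := ⟨Nat.prime_two⟩
  obtain ⟨k, P, hk, hdk, hn, hG, hZ, hreg, hstab⟩ := H.exists_zassenhaus
  have hq3 := H.q3
  have hcard := sylow_card H hreg hn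
  set q := p ^ f with hq
  have hn' : Fintype.card (Sylow p G) = q + 1 := by rw [← Nat.card_eq_fintype_card, hn]
  have hkq : k = q - 1 := by omega
  have hqodd : q % 2 = 1 := by
    rw [hq, Nat.pow_mod, hp.out.eq_two_or_odd.resolve_left hp2, one_pow, Nat.one_mod]
  have hemb : Nat.card (Fin 3 ↪ Sylow p G) = (q + 1) * q * (q - 1) := by
    obtain ⟨m, hm⟩ : ∃ m, q = m + 1 := ⟨q - 1, by omega⟩
    rw [Nat.card_eq_fintype_card, Fintype.card_embedding_eq, hn', hm, Fintype.card_fin]
    simp [Nat.descFactorial]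
    ring
  -- sharp triple transitivity
  have hs : ∀ x : Fin 3 ↪ Sylow p G, stabilizer G x = ⊥ := by
    intro x
    refine (Subgroup.eq_bot_iff_forall _).2 fun g hg => ?_
    have hi : ∀ i, g • x i = x i := fun i =>
      congrArg (fun y : Fin 3 ↪ Sylow p G => y i) (mem_stabilizer_iff.1 hg)
    exact hZ.2.2.1 g (x 0) (x 1) (x 2) (x.injective.ne (by decide)) (x.injective.ne (by decide))
      (x.injective.ne (by decide)) (hi 0) (hi 1) (hi 2)
  have h3 : IsMultiplyPretransitive G (Sylow p G) 3 := by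
    obtain ⟨e₀⟩ : Nonempty (Fin 3 ↪ Sylow p G) :=
      Function.Embedding.nonempty_of_card_le (by rw [Fintype.card_fin, hn']; omega)
    have hbij : Function.Bijective fun g : G => g • e₀ := by
      refine (Nat.bijective_iff_injective_and_card _).2 ⟨fun g g' h => ?_, ?_⟩
      · have h' : g • e₀ = g' • e₀ := h
        have : g'⁻¹ * g ∈ stabilizer G e₀ := mem_stabilizer_iff.2 (by rw [mul_smul, h', inv_smul_smul])
        rw [hs, Subgroup.mem_bot] at this
        exact (inv_mul_eq_one.1 this).symm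
      · rw [hemb, hG, hkq]
    refine ⟨fun x y => ?_⟩
    obtain ⟨a, ha⟩ := hbij.2 x
    obtain ⟨b, hb⟩ := hbij.2 y
    exact ⟨b * a⁻¹, by rw [← ha, ← hb]; simp only []; rw [mul_smul, inv_smul_smul]⟩
  have hsharp := SharpEven.sharp3_of_pretransitive h3 hs
  -- every two-point stabiliser contains exactly one involution
  obtain ⟨Q, hQ⟩ : ∃ Q : Sylow p G, Q ≠ P := by
    haveI : Nontrivial (Sylow p G) := Finite.one_lt_card_iff_nontrivial.1 (by rw [hn]; omega)
    exact exists_ne P
  obtain ⟨i, hi⟩ := exists_prime_orderOf_dvd_card' (G := (stabilizer G P ⊓ stabilizer G Q : Subgroup G)) 2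
    (by rw [hstab Q hQ]; omega)
  have hexist : ∀ a b : Sylow p G, a ≠ b → ∃ t : G, orderOf t = 2 ∧ t • a = a ∧ t • b = b := by
    intro a b hab
    haveI := hZ.2.1
    obtain ⟨g, hg1, hg2⟩ := MulAction.is_two_pretransitive_iff.1 hZ.2.1 hQ.symm hab
    refine ⟨MulAut.conj g (i : G), by rw [MulEquiv.orderOf_eq, Subgroup.orderOf_coe, hi], ?_, ?_⟩
    · show (g * (i : G) * g⁻¹) • a = a
      rw [← hg1, mul_smul, mul_smul, inv_smul_smul, mem_stabilizer_iff.1 i.2.1]
    · show (g * (i : G) * g⁻¹) • b = b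
      rw [← hg2, mul_smul, mul_smul, inv_smul_smul, mem_stabilizer_iff.1 i.2.2]
  have hinvert : ∀ (t : G) (a : Sylow p G), orderOf t = 2 → t • a = a →
      ∀ u ∈ (a : Subgroup G), t * u * t⁻¹ = u⁻¹ := by
    intro t a ht hta u hu
    have hmem : ∀ v : (a : Subgroup G), t * (v : G) * t⁻¹ ∈ (a : Subgroup G) := fun v =>
      (Subgroup.mem_normalizer_iff.1 (Sylow.smul_eq_iff_mem_normalizer.1 hta) _).1 v.2
    let φ : ↥(a : Subgroup G) →* ↥(a : Subgroup G) :=
      { toFun := fun v => ⟨t * (v : G) * t⁻¹, hmem v⟩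
        map_one' := Subtype.ext (by simp)
        map_mul' := fun v w => Subtype.ext (by
          show t * ((v : G) * w) * t⁻¹ = t * v * t⁻¹ * (t * w * t⁻¹); group) }
    have htp : ¬ p ∣ orderOf t := by
      rw [ht]; exact fun hdv => hp2 ((Nat.prime_dvd_prime_iff_eq hp.out Nat.prime_two).1 hdv)
    have hfpf : MonoidHom.FixedPointFree ⇑φ := by
      intro v hv
      by_contra hv1
      have e : t * (v : G) * t⁻¹ = v := congrArg Subtype.val hv
      have ht1 := SylowTISpec.eq_one_of_commute H.iso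
        (SylowTISpec.orderOf_eq_of_mem H.iso a.2 v.2 fun e2 => hv1 (Subtype.ext e2))
        (mul_inv_eq_iff_eq_mul.1 e).symm htp
      rw [ht1, orderOf_one] at ht; omega
    have hinvol : Function.Involutive ⇑φ := fun v => Subtype.ext (by
      show t * (t * (v : G) * t⁻¹) * t⁻¹ = v
      have htt : t * t = 1 := by rw [← pow_two, ← ht, pow_orderOf_eq_one]
      calc t * (t * (v : G) * t⁻¹) * t⁻¹ = (t * t) * v * (t * t)⁻¹ := by group
        _ = v := by rw [htt]; group)
    exact congrArg Subtype.val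
      (congrFun (MonoidHom.FixedPointFree.coe_eq_inv_of_involutive hfpf hinvol) ⟨u, hu⟩)
  have huniq : ∀ (a b : Sylow p G) (t t' : G), a ≠ b → orderOf t = 2 → orderOf t' = 2 →
      t • a = a → t • b = b → t' • a = a → t' • b = b → t = t' := by
    intro a b t t' hab ht ht' hta htb hta' htb'
    haveI : Nontrivial (a : Subgroup G) := Finite.one_lt_card_iff_nontrivial.1 (by rw [hcard]; omega)
    obtain ⟨u, hu⟩ := exists_ne (1 : (a : Subgroup G))
    set x := t'⁻¹ * t with hx
    have hxu : Commute (u : G) x := by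
      show (u : G) * (t'⁻¹ * t) = t'⁻¹ * t * u
      calc (u : G) * (t'⁻¹ * t) = t'⁻¹ * (t' * u * t'⁻¹) * t := by group
        _ = t'⁻¹ * (t * u * t⁻¹) * t := by rw [hinvert t a ht hta u u.2, hinvert t' a ht' hta' u u.2]
        _ = _ := by group
    have hxp := SylowTISpec.pow_eq_one_of_commute H.iso
      (SylowTISpec.orderOf_eq_of_mem H.iso a.2 u.2 fun e => hu (Subtype.ext e)) hxu
    have hxa : x • a = a := by rw [hx, mul_smul, hta, inv_smul_eq_iff, hta']
    have hxb : x • b = b := by rw [hx, mul_smul, htb, inv_smul_eq_iff, htb']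
    obtain ⟨g, hg1, hg2⟩ := MulAction.is_two_pretransitive_iff.1 hZ.2.1 hab hQ.symm
    have hmem : MulAut.conj g x ∈ stabilizer G P ⊓ stabilizer G Q := by
      constructor
      · show (g * x * g⁻¹) • P = P
        rw [← hg1, mul_smul, mul_smul, inv_smul_smul, hxa]
      · show (g * x * g⁻¹) • Q = Q
        rw [← hg2, mul_smul, mul_smul, inv_smul_smul, hxb]
    have hdk : orderOf x ∣ q - 1 := by
      have := Subgroup.orderOf_dvd_natCard _ hmem
      rwa [MulEquiv.orderOf_eq, hstab Q hQ, hkq] at this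
    rcases (Nat.dvd_prime hp.out).1 (orderOf_dvd_of_pow_eq_one hxp) with h1 | h1
    · exact (inv_mul_eq_one.1 (orderOf_eq_one_iff.1 h1)).symm
    · exfalso
      rw [h1] at hdk
      have hpq : p ∣ q := dvd_pow_self p H.fpos.ne'
      have h4 := Nat.dvd_sub hpq hdk
      rw [Nat.sub_sub_self (by omega : 1 ≤ q)] at h4
      exact hp.out.one_lt.ne' (Nat.dvd_one.1 h4)
  -- counting exchanged pairs
  let I := {t : G // orderOf t = 2}
  let Y := {x : I × Sylow p G // (x.1 : G) • x.2 ≠ x.2}
  let X := {x : G × Sylow p G // x.1 • x.2 ≠ x.2 ∧ x.1 • (x.1 • x.2) = x.2}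
  have hI : Nat.card I = q * q := h2
  have hfixa : ∀ a : Sylow p G, Nat.card {t : I // (t : G) • a = a} = q := by
    intro a
    have hother : ∀ t : {t : I // (t : G) • a = a}, ∃ b, ((t.1 : G) • b = b) ∧ b ≠ a := by
      intro t
      have h2n : 2 ∣ Fintype.card (Sylow p G) := by rw [hn']; omega
      refine Equiv.Perm.exists_fixed_point_of_prime' (p := 2) (n := 1) h2n
        (σ := MulAction.toPermHom G (Sylow p G) (t.1 : G)) ?_ t.2
      rw [pow_one, ← map_pow, orderOf_dvd_iff_pow_eq_one.1 (dvd_of_eq t.1.2), map_one]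
    choose other hother1 hother2 using hother
    have hbij : Function.Bijective fun t => (⟨other t, hother2 t⟩ : {b : Sylow p G // b ≠ a}) := by
      refine ⟨fun t t' e => ?_, fun b => ?_⟩
      · have e' : other t = other t' := congrArg Subtype.val e
        exact Subtype.ext (Subtype.ext (huniq a (other t) _ _ (hother2 t).symm t.1.2 t'.1.2 t.2 (hother1 t) t'.2
          (e' ▸ hother1 t')))
      · obtain ⟨t, ht, hta, htb⟩ := hexist a b.1 b.2.symm
        refine ⟨⟨⟨t, ht⟩, hta⟩, Subtype.ext ?_⟩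
        by_contra hne
        have ht1 := hZ.2.2.1 t a b.1 (other ⟨⟨t, ht⟩, hta⟩) b.2.symm (Ne.symm hne) (hother2 _).symm hta htb
          (hother1 ⟨⟨t, ht⟩, hta⟩)
        rw [ht1, orderOf_one] at ht; omega
    rw [Nat.card_congr (Equiv.ofBijective _ hbij), Nat.card_eq_fintype_card (α := {b : Sylow p G // b ≠ a}),
      Fintype.card_subtype_compl, Fintype.card_subtype_eq, hn']
    omega
  haveI : Fintype I := Fintype.ofFinite _
  have hY : Nat.card Y = (q + 1) * q * (q - 1) := by
    let F := {x : I × Sylow p G // (x.1 : G) • x.2 = x.2}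
    have hF : Nat.card F = (q + 1) * q := by
      let e : F ≃ Σ a : Sylow p G, {t : I // (t : G) • a = a} :=
        { toFun := fun x => ⟨x.1.2, ⟨x.1.1, x.2⟩⟩
          invFun := fun x => ⟨(x.2.1, x.1), x.2.2⟩
          left_inv := fun _ => rfl
          right_inv := fun _ => rfl }
      rw [Nat.card_congr e, Nat.card_sigma, Finset.sum_const_nat (m := q) fun a _ => hfixa a,
        Finset.card_univ, hn']
    have hsum : Nat.card F + Nat.card Y = q * q * (q + 1) := by
      rw [← Nat.card_sum, Nat.card_congr (Equiv.sumCompl fun x : I × Sylow p G => (x.1 : G) • x.2 = x.2),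
        Nat.card_prod, hI, hn]
    rw [hF] at hsum
    refine Nat.add_left_cancel (hsum.trans ?_)
    obtain ⟨m, hm⟩ : ∃ m, q = m + 1 := ⟨q - 1, by omega⟩
    rw [show q - 1 = m by omega, hm]
    ring
  have hthird : ∀ a b : Sylow p G, ∃ c : Sylow p G, c ≠ a ∧ c ≠ b := by
    intro a b
    obtain ⟨c, hc⟩ := Finset.exists_mem_notMem_of_card_lt_card (s := ({a, b} : Finset (Sylow p G)))
      (t := Finset.univ) (lt_of_le_of_lt Finset.card_le_two (by rw [Finset.card_univ, hn']; omega))
    simp only [Finset.mem_univ, true_and, Finset.mem_insert, Finset.mem_singleton, not_or] at hc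
    exact ⟨c, hc⟩
  choose third hthird1 hthird2 using hthird
  let toEmb : X → (Fin 3 ↪ Sylow p G) := fun x =>
    ⟨![x.1.2, x.1.1 • x.1.2, x.1.1 • third x.1.2 (x.1.1 • x.1.2)], by
      have h01 := x.2.1
      have h02 : x.1.1 • third x.1.2 (x.1.1 • x.1.2) ≠ x.1.2 := fun e => hthird2 x.1.2 (x.1.1 • x.1.2)
        ((smul_left_cancel_iff x.1.1).1 (e.trans x.2.2.symm))
      have h12 : x.1.1 • third x.1.2 (x.1.1 • x.1.2) ≠ x.1.1 • x.1.2 := fun e =>
        hthird1 x.1.2 (x.1.1 • x.1.2) ((smul_left_cancel_iff x.1.1).1 e)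
      intro i j h
      fin_cases i <;> fin_cases j <;> first
        | rfl
        | exact absurd h h01.symm
        | exact absurd h h01
        | exact absurd h h02.symm
        | exact absurd h h02
        | exact absurd h h12.symm
        | exact absurd h h12⟩
  have htoEmb : Function.Injective toEmb := by
    rintro ⟨⟨g, a⟩, h1, h1'⟩ ⟨⟨g', a'⟩, h2', h2''⟩ e
    have e0 : a = a' := congrArg (fun y : Fin 3 ↪ Sylow p G => y 0) e
    subst e0
    have e1 : g • a = g' • a := congrArg (fun y : Fin 3 ↪ Sylow p G => y 1) e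
    have e2 : g • third a (g • a) = g' • third a (g' • a) := congrArg (fun y : Fin 3 ↪ Sylow p G => y 2) e
    rw [← e1] at e2
    have : g = g' := SharpEven.agree hsharp h1.symm (hthird1 a (g • a)).symm (hthird2 a (g • a)).symm e1
      (h1'.trans (h2''.symm.trans (by rw [e1]))) e2
    subst this
    rfl
  let inc : Y → X := fun y => ⟨((y.1.1 : G), y.1.2), y.2, by
    show (y.1.1 : G) • ((y.1.1 : G) • y.1.2) = y.1.2
    rw [← mul_smul, ← pow_two, orderOf_dvd_iff_pow_eq_one.1 (dvd_of_eq y.1.1.2), one_smul]⟩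
  have hinc : Function.Injective inc := by
    rintro ⟨⟨⟨t, ht⟩, a⟩, hy⟩ ⟨⟨⟨t', ht'⟩, a'⟩, hy'⟩ e
    have e' : (t, a) = (t', a') := congrArg Subtype.val e
    simp only [Prod.mk.injEq] at e'
    obtain ⟨rfl, rfl⟩ := e'
    rfl
  have hsurj : Function.Surjective inc := by
    refine (hinc.bijective_of_nat_card_le ?_).2
    rw [hY, ← hemb]
    exact Nat.card_le_card_of_injective toEmb htoEmb
  have hinv : ∀ (g : G) (a b : Sylow p G), a ≠ b → g • a = b → g • b = a → g * g = 1 := by
    intro g a b hab hga hgb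
    obtain ⟨y, hy⟩ := hsurj ⟨(g, a), by show g • a ≠ a; rw [hga]; exact hab.symm,
      by show g • (g • a) = a; rw [hga, hgb]⟩
    have e : ((y.1.1 : G), y.1.2) = (g, a) := congrArg Subtype.val hy
    simp only [Prod.mk.injEq] at e
    rw [← e.1, ← pow_two, orderOf_dvd_iff_pow_eq_one.1 (dvd_of_eq y.1.1.2)]
  exact SharpInv.equiv_pgl H.fpos hn hsharp hinv

end hyp

/-- The counts of a group with the order of `PGL(2, q)` and the same set of counts. -/
theorem hyp_of_values (hp2 : p ≠ 2) (hf : 0 < f) (hq : 3 < p ^ f)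
    (hcard : Nat.card G = (p ^ f + 1) * p ^ f * (p ^ f - 1))
    (hval : ∀ g : G, cnt G (orderOf g) = 1 ∨ cnt G (orderOf g) = (p ^ f + 1) * (p ^ f - 1) ∨
      p ^ f ∣ cnt G (orderOf g))
    (hsq : ∃ g : G, cnt G (orderOf g) = p ^ f * p ^ f) :
    PSL2Spec.Hyp G p f 1 ∧ cnt G 2 = p ^ f * p ^ f := by
  classical
  haveI := Fintype.ofFinite G
  set q := p ^ f with hqdef
  set w := (q + 1) * (q - 1) with hwdef
  have hqodd : q % 2 = 1 := by
    rw [hqdef, Nat.pow_mod, hp.out.eq_two_or_odd.resolve_left hp2, one_pow, Nat.one_mod]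
  have hpq : p ∣ q := dvd_pow_self p hf.ne'
  have hw : w + 1 = q * q := by
    obtain ⟨m, hm⟩ : ∃ m, q = m + 1 := ⟨q - 1, by omega⟩
    rw [hwdef, hm, Nat.add_sub_cancel]; ring
  have hGw : Nat.card G = q * w := by rw [hcard, hwdef]; ring
  have hwq : ¬ p ∣ w := fun hd => hp.out.one_lt.ne' (Nat.dvd_one.1
    ((Nat.dvd_add_right hd).1 (hw ▸ hpq.mul_right q)))
  -- `q²` counts the involutions
  have h2 : cnt G 2 = q * q := by
    obtain ⟨g, hg⟩ := hsq
    have hne : orderOf g ≠ 1 := fun e => by rw [e, cnt_one] at hg; nlinarith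
    have hle : orderOf g ≤ 2 := by
      by_contra hgt
      have h1 := (Nat.totient_even (show 2 < orderOf g by omega)).two_dvd.trans (totient_dvd_cnt (G := G) (orderOf g))
      rw [hg] at h1
      rcases Nat.prime_two.dvd_mul.1 h1 with h | h <;> omega
    have : orderOf g = 2 := by have := orderOf_pos g; omega
    rwa [this] at hg
  have hval' : ∀ g : G, g ≠ 1 → cnt G (orderOf g) = w ∨ q ∣ cnt G (orderOf g) := by
    intro g hg
    rcases hval g with h | h | h
    · exfalso
      have hd := totient_dvd_cnt (G := G) (orderOf g)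
      rw [h, Nat.dvd_one, Nat.totient_eq_one_iff] at hd
      rcases hd with hd | hd
      · exact hg (orderOf_eq_one_iff.1 hd)
      · rw [hd, h2] at h; nlinarith
    · exact Or.inl h
    · exact Or.inr h
  -- the value `w` occurs only once
  set K : Finset ℕ := ((Finset.univ : Finset G).filter fun _ => True).image orderOf with hK
  have hall : ∀ k ∈ K, k ≠ 1 → cnt G k = w ∨ q ∣ cnt G k := by
    intro k hk hk1
    obtain ⟨g, -, rfl⟩ := Finset.mem_image.1 hk
    exact hval' g fun e => hk1 (orderOf_eq_one_iff.2 e)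
  have hsum : ∑ k ∈ K, cnt G k = q * w := by
    rw [hK, ← card_filter_eq_sum (fun _ => True) fun _ _ _ => Iff.rfl, Finset.filter_true, Finset.card_univ,
      ← Nat.card_eq_fintype_card, hGw]
  have h1K : 1 ∈ K := Finset.mem_image.2 ⟨1, by simp, orderOf_one⟩
  set J := (K.erase 1).filter fun k => ¬ q ∣ cnt G k with hJ
  have hJw : ∀ k ∈ J, cnt G k = w := fun k hk => by
    obtain ⟨hk1, hk2⟩ := Finset.mem_filter.1 hk
    obtain ⟨hne, hkK⟩ := Finset.mem_erase.1 hk1
    exact (hall k hkK hne).resolve_right hk2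
  have hJ1 : J.card ≤ 1 := by
    obtain ⟨R, hR, hRq⟩ : ∃ R, 1 + J.card * w + R = q * w ∧ q ∣ R := by
      refine ⟨∑ k ∈ (K.erase 1).filter fun k => q ∣ cnt G k, cnt G k, ?_,
        Finset.dvd_sum fun k hk => (Finset.mem_filter.1 hk).2⟩
      have e1 := Finset.sum_filter_add_sum_filter_not (K.erase 1) (fun k => q ∣ cnt G k) (cnt G)
      have e2 : ∑ k ∈ J, cnt G k = J.card * w := by
        rw [Finset.sum_congr rfl hJw, Finset.sum_const, smul_eq_mul]
      have e3 := Finset.add_sum_erase K (cnt G) h1K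
      rw [cnt_one, hsum] at e3
      rw [← hJ, e2] at e1
      omega
    have hw0 : 0 < w := by nlinarith
    have hjle : J.card * w < q * w := by omega
    have hjq : J.card < q := Nat.lt_of_mul_lt_mul_right hjle
    have hd : q ∣ 1 + J.card * w := (Nat.dvd_add_left hRq).1 (hR ▸ dvd_mul_right q w)
    have hd' : (q : ℤ) ∣ (J.card : ℤ) - 1 := by
      have h3 : (q : ℤ) ∣ 1 + (J.card : ℤ) * w := by exact_mod_cast hd
      have h4 : (w : ℤ) + 1 = q * q := by exact_mod_cast hw
      have : (J.card : ℤ) - 1 = (q : ℤ) * ((J.card : ℤ) * q) - (1 + (J.card : ℤ) * w) := by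
        linear_combination (J.card : ℤ) * h4
      rw [this]
      exact dvd_sub (dvd_mul_right _ _) h3
    by_contra hgt
    have := Int.le_of_dvd (by omega) hd'
    omega
  -- it counts the elements of order `p`
  have hpJ : p ∈ J ∧ cnt G p = w := by
    have hqG : q ∣ Nat.card G := hGw ▸ dvd_mul_right q w
    have hs := Cfsg.Agent.SameOrder.dvd_sum_cnt (G := G) hqG
    obtain ⟨e, he, hne1, hnd⟩ : ∃ e ∈ q.divisors, e ≠ 1 ∧ ¬ q ∣ cnt G e := by
      by_contra hno
      push Not at hno
      rw [← Finset.add_sum_erase _ _ (Nat.one_mem_divisors.2 (by omega : q ≠ 0)), cnt_one] at hs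
      have : q ∣ ∑ x ∈ q.divisors.erase 1, cnt G x :=
        Finset.dvd_sum fun x hx => hno x (Finset.mem_of_mem_erase hx) (Finset.ne_of_mem_erase hx)
      exact absurd ((Nat.dvd_add_left this).1 hs) (by rw [Nat.dvd_one]; omega)
    obtain ⟨g, hg⟩ := exists_of_cnt_ne_zero (G := G) (d := e) fun e0 => hnd (e0 ▸ dvd_zero q)
    have hg1 : g ≠ 1 := fun e' => hne1 (by rw [← hg, e', orderOf_one])
    have hcw : cnt G e = w := hg ▸ (hval' g hg1).resolve_right (hg ▸ hnd)
    obtain ⟨i, -, rfl⟩ := (Nat.mem_divisors_prime_pow hp.out f).1 he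
    have hi1 : i = 1 := by
      rcases i with _ | _ | i
      · simp at hne1
      · rfl
      · exfalso
        have hd := totient_dvd_cnt (G := G) (p ^ (i + 1 + 1))
        rw [hcw, Nat.totient_prime_pow_succ hp.out, pow_succ, mul_assoc] at hd
        exact hwq ((dvd_mul_of_dvd_right (dvd_mul_right p (p - 1)) _).trans hd)
    rw [hi1, pow_one] at hnd hcw hg
    refine ⟨Finset.mem_filter.2 ⟨Finset.mem_erase.2 ⟨hp.out.ne_one, ?_⟩, hnd⟩, hcw⟩
    exact Finset.mem_image.2 ⟨g, by simp, hg⟩
  obtain ⟨hpJ, hcp⟩ := hpJ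
  -- the elements of other orders divisible by `p`
  have hiso : SylowTISpec.Iso p G := by
    set S := Finset.univ.filter fun g : G => p ∣ orderOf g ∧ orderOf g ≠ p with hS
    suffices hS0 : S.card = 0 by
      intro g hg
      by_contra hne
      have hmem : g ∈ S := Finset.mem_filter.2 ⟨Finset.mem_univ g, hg, hne⟩
      rw [Finset.card_eq_zero.1 hS0] at hmem
      simp at hmem
    have hSq : q ∣ S.card := by
      rw [hS, card_filter_eq_sum (fun g : G => p ∣ orderOf g ∧ orderOf g ≠ p) fun g h e => by rw [e]]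
      refine Finset.dvd_sum fun k hk => ?_
      obtain ⟨g, hg, rfl⟩ := Finset.mem_image.1 hk
      obtain ⟨-, hg1, hg2⟩ := Finset.mem_filter.1 hg
      by_contra hnd
      have hgJ : orderOf g ∈ J := Finset.mem_filter.2 ⟨Finset.mem_erase.2 ⟨fun e => hp.out.ne_one (Nat.dvd_one.1 (e ▸ hg1)),
        Finset.mem_image.2 ⟨g, by simp, rfl⟩⟩, hnd⟩
      exact hg2 (Finset.card_le_one.1 hJ1 _ hgJ _ hpJ)
    set A := Finset.univ.filter fun g : G => ¬ p ∣ orderOf g with hA
    have hAw : w ∣ A.card := by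
      have h1 := Counting.dvd_card_pow_eq_one (G := G) w (hGw ▸ dvd_mul_left w q)
      rw [Nat.card_eq_fintype_card, Fintype.card_subtype] at h1
      convert h1 using 2
      rw [hA]
      refine Finset.filter_congr fun g _ => ⟨fun hg => ?_, fun hg hd => ?_⟩
      · rw [← orderOf_dvd_iff_pow_eq_one]
        have h3 : orderOf g ∣ p ^ f * w := by rw [← hqdef, ← hGw]; exact orderOf_dvd_natCard g
        exact (Nat.Coprime.pow_right f (Nat.Coprime.symm ((Nat.Prime.coprime_iff_not_dvd hp.out).2 hg))).dvd_of_dvd_mul_left h3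
      · exact hwq (hd.trans (orderOf_dvd_of_pow_eq_one hg))
    have hdec : A.card + w + S.card = q * w := by
      rw [← hGw, Nat.card_eq_fintype_card, ← Finset.card_univ,
        ← Finset.card_filter_add_card_filter_not (s := (Finset.univ : Finset G)) fun g => ¬ p ∣ orderOf g,
        ← hA, add_assoc]
      congr 1
      rw [← Finset.card_filter_add_card_filter_not
        (s := Finset.univ.filter fun g : G => ¬ ¬ p ∣ orderOf g) fun g => orderOf g = p, ← hcp,
        Cfsg.Agent.SameOrder.cnt, Nat.card_eq_fintype_card, Fintype.card_subtype, Finset.filter_filter,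
        Finset.filter_filter, hS]
      congr 1 <;> refine congrArg Finset.card (Finset.filter_congr fun g _ => ?_)
      · exact ⟨fun e => ⟨not_not.2 (e ▸ dvd_rfl), e⟩, fun e => e.2⟩
      · rw [not_not]
    have hSw : w ∣ S.card :=
      (Nat.dvd_add_right (dvd_add hAw dvd_rfl)).1 (hdec ▸ dvd_mul_left w q)
    have hqwS : q * w ∣ S.card :=
      (Nat.Coprime.pow_left f ((Nat.Prime.coprime_iff_not_dvd hp.out).2 hwq)).mul_dvd_of_dvd_of_dvd hSq hSw
    refine Nat.eq_zero_of_dvd_of_lt hqwS ?_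
    have hw0 : 0 < w := by nlinarith
    omega
  exact ⟨{ fpos := hf, q3 := hq, hd := Or.inl rfl, card := by rw [one_mul]; exact hcard, iso := hiso,
           ex := fun h => absurd (h.resolve_right fun h2 => absurd h2.1 (by norm_num)) hp2 }, h2⟩

end Cfsg.Agent.PGL2Nse
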