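import Cfsg.Agent.Lib.Recog.PSL2ClassSplit

/-!
Finite groups with the class sizes of `PSL(2, q)`: recognition.
-/

set_option autoImplicit false
set_option linter.style.haveILetI false
set_option linter.unusedSectionVars false

namespace Cfsg.Agent.PSL2ClassSizes

open Cfsg.Agent.ThreeSizes PSL2Inv SL2Inv LinearBlock

theorem sz_map {G H : Type*} [Group G] [Group H] [Finite G] [Finite H] (e : G ≃* H) (x : G) : sz (e x) = sz x := by
  have h : (cent x).map e.toMonoidHom = cent (e x) := by
    ext y
    rw [Subgroup.mem_map_equiv, mem_cent, mem_cent]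
    constructor
    · intro hy
      simpa using congrArg e hy
    · intro hy
      exact e.injective (by simpa using hy)
  rw [sz, ← h]
  exact Subgroup.index_map_of_bijective (f := e.toMonoidHom) e.bijective _

/-- The parameters of `PSL(2, F)`. -/
theorem exists_params {F : Type*} [Field F] [Fintype F]
    (hq : (2 ∣ Fintype.card F ∧ 2 < Fintype.card F) ∨ (¬ 2 ∣ Fintype.card F ∧ 7 ≤ Fintype.card F))
    {G : Type*} [Group G] [Finite G]
    (h : Set.range (fun g : G => (Subgroup.centralizer ({g} : Set G)).index) =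
      Set.range (fun g : (Matrix.ProjectiveSpecialLinearGroup (Fin 2) F) =>
        (Subgroup.centralizer ({g} : Set (Matrix.ProjectiveSpecialLinearGroup (Fin 2) F))).index)) :
    ∃ p f d U W : ℕ, Sizes G p f d (Fintype.card F) U W ∧ CharP F p ∧
      (d = 2 → (2 : F) ≠ 0 ∧ Odd U ∧ (if Nat.card F % 4 = 1 then Nat.card F * (Nat.card F + 1) / 2
        else Nat.card F * (Nat.card F - 1) / 2) = Fintype.card F * U) := by
  obtain ⟨p, hcp⟩ := CharP.exists F
  obtain ⟨n, hp, hcard⟩ := FiniteField.card F p
  haveI := Fact.mk hp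
  have hn : Nat.card F = Fintype.card F := Nat.card_eq_fintype_card
  set q := Fintype.card F with hqdef
  rcases hq with ⟨heven, h2q⟩ | ⟨hodd, h7⟩
  · obtain rfl : p = 2 := ((Nat.prime_dvd_prime_iff_eq Nat.prime_two hp).1
      (Nat.prime_two.dvd_of_dvd_pow (hcard ▸ heven))).symm
    have h20 : (2 : F) = 0 := CharTwo.two_eq_zero
    have hq4 : 4 ≤ q := by obtain ⟨m, hm⟩ := heven; omega
    obtain ⟨m, hm⟩ : ∃ m, q = 2 * m := heven
    have P : Params 2 n 1 q (q + 1) (q - 1) :=
      { pp := Nat.prime_two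
        hq := hcard
        q3 := by omega
        hd := Or.inl ⟨rfl, rfl⟩
        card := by
          obtain ⟨k, hk⟩ : ∃ k, q = k + 1 := ⟨q - 1, by omega⟩
          rw [hk, Nat.add_sub_cancel]; ring
        sum := by omega
        two_lt_U := by omega
        two_lt_W := by omega
        copU := by simp
        copW := by
          obtain ⟨k, hk⟩ : ∃ k, q = k + 1 := ⟨q - 1, by omega⟩
          rw [hk, Nat.add_sub_cancel]; simp
        copUW := by
          refine Nat.coprime_of_dvd fun r hr h1 h2 => ?_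
          have h3 := Nat.dvd_sub h1 h2
          rw [show q + 1 - (q - 1) = 2 by omega] at h3
          obtain rfl := (Nat.prime_dvd_prime_iff_eq hr Nat.prime_two).1 h3
          omega }
    have hR := PSL2Sizes.range_even (F := F) h20 (by omega)
    rw [hn, pow_two, show q * q - 1 = (q + 1) * (q - 1) by
      obtain ⟨k, hk⟩ : ∃ k, q = k + 1 := ⟨q - 1, by omega⟩
      rw [hk, Nat.add_sub_cancel]; ring_nf; omega] at hR
    refine ⟨2, n, 1, q + 1, q - 1, ⟨P, fun x hx => ?_, fun i => ?_⟩, hcp, fun hd => absurd hd (by norm_num)⟩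
    · have hmem : sz x ∈ Set.range (fun g : G => (Subgroup.centralizer ({g} : Set G)).index) := ⟨x, rfl⟩
      rw [h] at hmem
      change sz x ∈ Set.range (fun g => PSL2Sizes.cls g) at hmem
      rw [hR] at hmem
      simp only [Set.mem_insert_iff, Set.mem_singleton_iff] at hmem
      rcases hmem with e | e | e | e
      · exact absurd (index_cent_eq_one_iff.1 e) hx
      · exact ⟨1, e⟩
      · exact ⟨0, e⟩
      · exact ⟨2, Or.inl e⟩
    · have hmem : base q (q + 1) (q - 1) i ∈ Set.range (fun g => PSL2Sizes.cls (G := Matrix.ProjectiveSpecialLinearGroup (Fin 2) F) g) := by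
        rw [hR]
        fin_cases i <;> simp [base]
      change base q (q + 1) (q - 1) i ∈ Set.range (fun g : Matrix.ProjectiveSpecialLinearGroup (Fin 2) F => (Subgroup.centralizer ({g} : Set _)).index) at hmem
      rw [← h] at hmem
      exact hmem
  · have hqo : q % 2 = 1 := by omega
    have hp2 : p ≠ 2 := by
      rintro rfl
      exact hodd (hcard ▸ dvd_pow_self 2 n.ne_zero)
    have h20 : (2 : F) ≠ 0 := fun e => hp2 (by
      have := (CharP.cast_eq_zero_iff F p 2).1 (by exact_mod_cast e)
      exact (Nat.prime_dvd_prime_iff_eq hp Nat.prime_two).1 this)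
    obtain ⟨k, hk⟩ : ∃ k, q = 4 * k + 1 ∨ q = 4 * k + 3 := ⟨q / 4, by omega⟩
    set U := 2 * k + 1 with hU
    obtain ⟨W, hW⟩ : ∃ W, (q = 4 * k + 1 ∧ W = 4 * k) ∨ (q = 4 * k + 3 ∧ W = 4 * k + 4) := by
      rcases hk with e | e
      · exact ⟨_, Or.inl ⟨e, rfl⟩⟩
      · exact ⟨_, Or.inr ⟨e, rfl⟩⟩
    have hk1 : 1 ≤ k := by omega
    have P : Params p n 2 q U W :=
      { pp := hp
        hq := hcard
        q3 := by omega
        hd := Or.inr ⟨hp2, rfl, by rcases hW with ⟨-, e⟩ | ⟨-, e⟩ <;> omega⟩
        card := by rcases hW with ⟨e, e'⟩ | ⟨e, e'⟩ <;> rw [e, e', hU] <;> ring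
        sum := by omega
        two_lt_U := by omega
        two_lt_W := by omega
        copU := by
          refine Nat.coprime_of_dvd fun r hr h1 h2 => hr.not_dvd_one ?_
          rcases hW with ⟨e, -⟩ | ⟨e, -⟩
          · have h3 := Nat.dvd_sub (h2.mul_left 2) h1
            rwa [show 2 * U - q = 1 by omega] at h3
          · have h3 := Nat.dvd_sub h1 (h2.mul_left 2)
            rwa [show q - 2 * U = 1 by omega] at h3
        copW := by
          refine Nat.coprime_of_dvd fun r hr h1 h2 => hr.not_dvd_one ?_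
          rcases hW with ⟨e, e'⟩ | ⟨e, e'⟩
          · have h3 := Nat.dvd_sub h1 h2
            rwa [show q - W = 1 by omega] at h3
          · have h3 := Nat.dvd_sub h2 h1
            rwa [show W - q = 1 by omega] at h3
        copUW := by
          refine Nat.coprime_of_dvd fun r hr h1 h2 => ?_
          have h3 : r ∣ 2 := by
            rcases hW with ⟨e, e'⟩ | ⟨e, e'⟩
            · have h3 := Nat.dvd_sub (h1.mul_left 2) h2
              rwa [show 2 * U - W = 2 by omega] at h3
            · have h3 := Nat.dvd_sub h2 (h1.mul_left 2)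
              rwa [show W - 2 * U = 2 by omega] at h3
          obtain rfl := (Nat.prime_dvd_prime_iff_eq hr Nat.prime_two).1 h3
          omega }
    have eUW : (q * q - 1) / 2 = U * W := by
      have := P.card
      omega
    have einv : (if q % 4 = 1 then q * (q + 1) / 2 else q * (q - 1) / 2) = q * U := by
      rcases hW with ⟨e, -⟩ | ⟨e, -⟩
      · rw [if_pos (by omega), show q + 1 = 2 * U by omega, mul_left_comm, Nat.mul_div_cancel_left _ two_pos]
      · rw [if_neg (by omega), show q - 1 = 2 * U by omega, mul_left_comm, Nat.mul_div_cancel_left _ two_pos]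
    have hR := PSL2Sizes.range_odd (F := F) h20 (by omega) (by omega)
    rw [hn, pow_two, eUW, einv] at hR
    refine ⟨p, n, 2, U, W, ⟨P, fun x hx => ?_, fun i => ?_⟩, hcp, fun _ => ⟨h20, ⟨k, rfl⟩, by rw [hn]; exact einv⟩⟩
    · have hmem : sz x ∈ Set.range (fun g : G => (Subgroup.centralizer ({g} : Set G)).index) := ⟨x, rfl⟩
      rw [h] at hmem
      change sz x ∈ Set.range (fun g => PSL2Sizes.cls g) at hmem
      rw [hR] at hmem
      simp only [Set.mem_insert_iff, Set.mem_singleton_iff] at hmem
      rcases hW with ⟨e, e'⟩ | ⟨e, e'⟩ <;> rcases hmem with e1 | e1 | e1 | e1 | e1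
      · exact absurd (index_cent_eq_one_iff.1 e1) hx
      · exact ⟨0, e1⟩
      · exact ⟨2, Or.inl e1⟩
      · exact ⟨1, e1.trans (by rw [show q - 1 = W by omega])⟩
      · exact ⟨2, Or.inr ⟨rfl, e1.trans (by rw [show q + 1 = 2 * U by omega]; ring)⟩⟩
      · exact absurd (index_cent_eq_one_iff.1 e1) hx
      · exact ⟨0, e1⟩
      · exact ⟨2, Or.inl e1⟩
      · exact ⟨2, Or.inr ⟨rfl, e1.trans (by rw [show q - 1 = 2 * U by omega]; ring)⟩⟩
      · exact ⟨1, e1.trans (by rw [show q + 1 = W by omega])⟩
    · have hmem : base q U W i ∈ Set.range (fun g => PSL2Sizes.cls (G := Matrix.ProjectiveSpecialLinearGroup (Fin 2) F) g) := by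
        rw [hR]
        rcases hW with ⟨e, e'⟩ | ⟨e, e'⟩
        · have : q - 1 = W := by omega
          fin_cases i <;> simp [base, this]
        · have : q + 1 = W := by omega
          fin_cases i <;> simp [base, this]
      change base q U W i ∈ Set.range (fun g : Matrix.ProjectiveSpecialLinearGroup (Fin 2) F => (Subgroup.centralizer ({g} : Set _)).index) at hmem
      rw [← h] at hmem
      exact hmem

/-- The derived subgroup avoids the centre. -/
theorem commutator_inf_center {G : Type*} [Group G] [Finite G] {F : Type*} [Field F] [Fintype F]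
    {p f d U W : ℕ} (S : Sizes G p f d (Fintype.card F) U W) [CharP F p]
    (hd : d = 2 → (2 : F) ≠ 0 ∧ Odd U ∧ (if Nat.card F % 4 = 1 then Nat.card F * (Nat.card F + 1) / 2
        else Nat.card F * (Nat.card F - 1) / 2) = Fintype.card F * U)
    (e : G ⧸ Subgroup.center G ≃* Matrix.ProjectiveSpecialLinearGroup (Fin 2) F) :
    commutator G ⊓ Subgroup.center G = ⊥ := by
  classical
  set q := Fintype.card F with hqdef
  haveI hpF : Fact p.Prime := ⟨S.par.pp⟩
  by_contra hne
  obtain ⟨r, hr, hrd⟩ := Nat.exists_prime_and_dvd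
    (n := Nat.card ↥(commutator G ⊓ Subgroup.center G)) fun h1 => hne (Subgroup.card_eq_one.1 h1)
  haveI := Fact.mk hr
  obtain ⟨⟨z, hz⟩, hzo⟩ := exists_prime_orderOf_dvd_card' (G := ↥(commutator G ⊓ Subgroup.center G)) r hrd
  rw [Subgroup.orderOf_mk] at hzo
  set π := QuotientGroup.mk' (Subgroup.center G) with hπ
  let ψ : G →* Matrix.ProjectiveSpecialLinearGroup (Fin 2) F := e.toMonoidHom.comp π
  have hψs : Function.Surjective ψ := e.surjective.comp (QuotientGroup.mk'_surjective _)
  have hψk : ∀ g, ψ g = 1 ↔ g ∈ Subgroup.center G := fun g => by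
    show e (π g) = 1 ↔ _
    rw [MulEquiv.map_eq_one_iff, hπ, mk_eq_one_iff]
  obtain ⟨T, hT⟩ := (IsPGroup.of_card (n := 1) (by rw [Nat.card_zpowers, hzo, pow_one]) :
    IsPGroup r (Subgroup.zpowers z)).exists_le_sylow
  have abel : IsMulCommutative (T : Subgroup G) → False := fun hab => by
    have h1 := TransferHall.inf_commutator_inf_center (T : Subgroup G) hab T.card_coprime_index
    have h2 : z ∈ (T : Subgroup G) ⊓ commutator G ⊓ Subgroup.center G :=
      ⟨⟨hT (Subgroup.mem_zpowers z), hz.1⟩, hz.2⟩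
    rw [h1, Subgroup.mem_bot] at h2
    rw [h2, orderOf_one] at hzo
    exact hr.one_lt.ne hzo
  by_cases hrp : r = p
  · subst hrp
    -- the centraliser of a `p`-element is a Sylow subgroup
    refine abel ⟨⟨fun a b => Subtype.ext ?_⟩⟩
    show (a : G) * b = b * a
    by_cases ha : (a : G) ∈ Subgroup.center G
    · exact (Subgroup.mem_center_iff.1 ha b).symm
    have hA1 : π a ≠ 1 := fun h1 => ha (mk_eq_one_iff.1 h1)
    obtain ⟨i, hi⟩ := IsPGroup.iff_orderOf.1 (T.2.map π)
      (⟨π (a : G), Subgroup.mem_map_of_mem π a.2⟩ : (T : Subgroup G).map π)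
    rw [← Subgroup.orderOf_coe] at hi
    have hpa : r ∣ orderOf (π (a : G)) := by
      rcases i with _ | i
      · rw [pow_zero, orderOf_eq_one_iff] at hi; exact absurd hi hA1
      · rw [hi]; exact dvd_pow_self r i.succ_ne_zero
    obtain ⟨hs, -, hc⟩ := S.ty_zero (S.ty_of_dvd hpa)
    obtain ⟨g, hg, -, hT0⟩ := S.ty_of_dvd hpa
    have hsa : sz (a : G) = U * W := by
      rw [show sz (a : G) = sz g by rw [sz, sz, cent_eq_of_mk_eq hg.symm]]; exact hT0
    -- all elements of `T` commute with `a` modulo the centre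
    have hcm : π (b : G) ∈ cent (π (a : G)) := by
      let T' := T.mapSurjective (f := π) (QuotientGroup.mk'_surjective _)
      have hTq : Nat.card (T' : Subgroup (G ⧸ Subgroup.center G)) = q := by
        obtain ⟨n, hn⟩ := IsPGroup.iff_card.1 T'.2
        refine Nat.dvd_antisymm ?_ ?_
        · have h1 : r ^ n ∣ q * U * W := hn ▸ S.card_quot ▸ Subgroup.card_subgroup_dvd_card _
          rw [hn, mul_assoc] at *
          refine Nat.Coprime.dvd_of_dvd_mul_right ?_ h1
          exact (Nat.Coprime.coprime_dvd_left (S.par.p_dvd_q) (Nat.Coprime.mul_right S.par.copU S.par.copW)).pow_left n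
        · rw [S.par.hq, T'.card_eq_multiplicity, S.card_quot]
          exact Nat.pow_dvd_pow _ ((S.par.pp.pow_dvd_iff_le_factorization S.par.N_pos.ne').1
            (by rw [← S.par.hq, mul_assoc]; exact dvd_mul_right _ _))
      have hpg : IsPGroup r (cent (π (a : G))) := IsPGroup.of_card (n := f) (by rw [hc, S.par.hq])
      obtain ⟨P', hP'⟩ := hpg.exists_le_sylow
      have hab : r = 2 → ∀ P : Sylow r (G ⧸ Subgroup.center G), ∀ x ∈ (P : Subgroup (G ⧸ Subgroup.center G)),
          ∀ y ∈ (P : Subgroup (G ⧸ Subgroup.center G)), x * y = y * x := fun h2 P x hx y hy => by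
        have hinv : ∀ w ∈ (P : Subgroup (G ⧸ Subgroup.center G)), w⁻¹ = w := fun w hw =>
          inv_eq_of_mul_eq_one_right (by
            have := SylowTISpec.pow_eq_one_of_mem S.iso P.2 hw
            rw [← pow_two]
            exact h2 ▸ this)
        rw [← hinv _ (P.1.mul_mem hx hy), mul_inv_rev, hinv _ hx, hinv _ hy]
      have hmemT : π (a : G) ∈ (T' : Subgroup (G ⧸ Subgroup.center G)) := ⟨a, a.2, rfl⟩
      have hEq : T' = P' := by
        by_contra hne'
        have h1 := SylowTISpec.inf_eq_bot S.iso hab hne'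
        exact hA1 (Subgroup.mem_bot.1 (h1 ▸ ⟨hmemT, hP' (self_mem_cent _)⟩))
      subst hEq
      rw [Subgroup.eq_of_le_of_card_ge hP' (by rw [hTq, hc])]
      exact ⟨b, b.2, rfl⟩
    have hK : cent (a : G) = (cent (π (a : G))).comap π := by
      refine eq_of_le_of_index_le (fun y hy => ?_) (le_of_eq ?_)
      · rw [Subgroup.mem_comap, mem_cent, ← map_mul, ← map_mul, mem_cent.1 hy]
      · rw [Subgroup.index_comap_of_surjective _ (QuotientGroup.mk'_surjective _)]
        exact hsa.trans hs.symm
    have hb : (b : G) ∈ cent (a : G) := by rw [hK]; exact hcm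
    exact (mem_cent.1 hb).symm
  by_cases hr2 : r = 2
  · subst hr2
    have hd2 : d = 2 := by
      rcases S.par.hd with h1 | h1
      · exact absurd h1.1.symm hrp
      · exact h1.2.1
    obtain ⟨h20, hUo, hinv⟩ := hd hd2
    obtain ⟨g, hgZ, hgs, hgT⟩ := S.ex' 2
    have hX : π g ≠ 1 := fun h1 => hgZ (mk_eq_one_iff.1 h1)
    have hsX : sz (π g) = q * U := by
      obtain ⟨m, hm, -⟩ := sz_quot g
      exact Nat.dvd_antisymm (Dvd.intro_left m (hm.symm.trans hgs)) (S.base_dvd ⟨g, rfl, hgZ, hgT⟩)
    have hsY : sz (ψ g) = q * U := (sz_map e (π g)).trans hsX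
    -- it is the class of involutions
    obtain ⟨s, hs⟩ := pr_surjective (ψ g)
    have htr : s.1.trace = 0 := by
      by_contra hne0
      have hne1 : pr s ≠ 1 := by
        rw [hs]; exact fun h1 => hgZ ((hψk g).1 h1)
      have hcls := PSL2Sizes.cls_pr_of_trace (g := s) (Or.inr hne0)
      rw [hs] at hcls
      change sz (ψ g) = PSL2Sizes.cls s at hcls
      have hn : Nat.card F = q := Nat.card_eq_fintype_card
      have hcopW := S.par.not_W_dvd
      have hsum := S.par.sum
      have hq3 := S.par.q3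
      have hU2 := S.par.two_lt_U
      rw [hd2] at hsum
      rcases PSL2Sizes.card_cases (PSL2Sizes.not_scalar_of_ne hne1) with h1 | h1 | h1
      · rw [PSL2Sizes.cls_torus h1, hn, hsY] at hcls
        have := Nat.eq_of_mul_eq_mul_left S.par.q_pos hcls
        have := S.par.two_lt_W
        omega
      · rw [PSL2Sizes.cls_split h1, hn, hsY] at hcls
        have := Nat.eq_of_mul_eq_mul_left S.par.q_pos hcls
        omega
      · rw [SL2Classes.card_sq_one_odd h20] at h1
        have hdv : 2 ∣ Nat.card F ^ 2 - 1 := by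
          rw [hn, pow_two]
          have hc := S.par.card
          rw [hd2] at hc
          omega
        rw [PSL2Sizes.cls_unip (Or.inr rfl) hdv h1, hn, hsY] at hcls
        have hc := S.par.card
        rw [hd2] at hc
        have : q * U = U * W := by rw [hcls, pow_two]; omega
        exact S.par.not_q_dvd ⟨U, this.symm⟩
    obtain ⟨c, hc⟩ := isConj_iff.1 (isConj_pr_w h20 (pr_mul_self htr) (pr_ne_one h20 htr))
    rw [hs] at hc
    let ψ' := (MulAut.conj c⁻¹).toMonoidHom.comp ψ
    have hψg : ψ' g = pr (w : Matrix.SpecialLinearGroup (Fin 2) F) := by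
      show MulAut.conj c⁻¹ (ψ g) = _
      rw [← hc, MulAut.conj_apply]; group
    refine no_central_two h20 ψ' ((MulAut.conj c⁻¹).surjective.comp hψs) (fun u => ?_) hψg ?_ ?_ hz.1 hz.2 hzo
    · show MulAut.conj c⁻¹ (ψ u) = 1 ↔ _
      rw [MulEquiv.map_eq_one_iff, hψk]
    · refine eq_of_le_of_index_le (fun y hy => ?_) (le_of_eq ?_)
      · rw [Subgroup.mem_comap, ← hψg, Subgroup.mem_centralizer_singleton_iff, ← map_mul, ← map_mul,
          mem_cent.1 hy]
      · rw [Subgroup.index_comap_of_surjective _ (show Function.Surjective ψ' from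
          (MulAut.conj c⁻¹).surjective.comp hψs), ← hψg]
        show sz g = sz (MulAut.conj c⁻¹ (ψ g))
        rw [sz_map, hsY, hgs]
        rfl
    · rw [show (cent g).index = q * U from hgs]
      refine Odd.mul ?_ hUo
      rw [Nat.odd_iff]
      have hc' := S.par.copW
      rcases Nat.mod_two_eq_zero_or_one q with h0 | h0
      · exact absurd (Nat.eq_one_of_dvd_coprimes hc' (Nat.dvd_of_mod_eq_zero h0) (S.par.two_dvd_W hd2))
          (by norm_num)
      · exact h0
  · -- cyclic Sylow subgroups
    let T1 := T.mapSurjective hψs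
    obtain ⟨R⟩ : Nonempty (Sylow r (Matrix.SpecialLinearGroup (Fin 2) F)) := inferInstance
    haveI := SL2Sylow.sylow_odd_cyclic p r hr2 hrp (R : Subgroup (Matrix.SpecialLinearGroup (Fin 2) F)) R.2
    let R1 := R.mapSurjective (f := (pr : Matrix.SpecialLinearGroup (Fin 2) F →*
      Matrix.ProjectiveSpecialLinearGroup (Fin 2) F)) pr_surjective
    haveI : IsCyclic (R1 : Subgroup (Matrix.ProjectiveSpecialLinearGroup (Fin 2) F)) :=
      isCyclic_of_surjective (pr.subgroupMap (R : Subgroup (Matrix.SpecialLinearGroup (Fin 2) F))) (pr.subgroupMap_surjective _)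
    haveI : IsCyclic (T1 : Subgroup (Matrix.ProjectiveSpecialLinearGroup (Fin 2) F)) :=
      isCyclic_of_surjective (Sylow.equiv R1 T1).toMonoidHom (Sylow.equiv R1 T1).surjective
    refine abel ⟨⟨fun a b => commutative_of_cyclic_center_quotient
      ((ψ.comp (T : Subgroup G).subtype).codRestrict (T1 : Subgroup (Matrix.ProjectiveSpecialLinearGroup (Fin 2) F))
        fun x => Subgroup.mem_map_of_mem ψ x.2)
      (fun x hx => Subgroup.mem_center_iff.2 fun y => Subtype.ext
        (Subgroup.mem_center_iff.1 ((hψk _).1 (congrArg Subtype.val (MonoidHom.mem_ker.1 hx))) y)) a b⟩⟩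

end Cfsg.Agent.PSL2ClassSizes

namespace Cfsg.Agent.PSL2ClassSizes

/-- The group is the direct product of its derived subgroup and its centre. -/
theorem split {F : Type*} [Field F] [Fintype F]
    (hq : (2 ∣ Fintype.card F ∧ 2 < Fintype.card F) ∨ (¬ 2 ∣ Fintype.card F ∧ 7 ≤ Fintype.card F))
    {G : Type*} [Group G] [Finite G]
    (h : Set.range (fun g : G => (Subgroup.centralizer ({g} : Set G)).index) =
      Set.range (fun g : (Matrix.ProjectiveSpecialLinearGroup (Fin 2) F) =>
        (Subgroup.centralizer ({g} : Set (Matrix.ProjectiveSpecialLinearGroup (Fin 2) F))).index)) :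
    ∃ N A : Subgroup G, N.Normal ∧ A ≤ Subgroup.center G ∧ N ⊓ A = ⊥ ∧ N ⊔ A = ⊤ ∧
      Nonempty (N ≃* Matrix.ProjectiveSpecialLinearGroup (Fin 2) F) := by
  obtain ⟨p, f, d, U, W, S, hcp, hd⟩ := exists_params hq h
  obtain ⟨e⟩ := S.equiv rfl
  have hinf := commutator_inf_center S hd e
  set Q := G ⧸ Subgroup.center G
  set π := QuotientGroup.mk' (Subgroup.center G)
  have h4 : 4 ≤ Nat.card F := by
    rw [Nat.card_eq_fintype_card]
    rcases hq with ⟨h1, h2⟩ | ⟨-, h2⟩ <;> omega
  haveI : IsSimpleGroup (Matrix.ProjectiveSpecialLinearGroup (Fin 2) F) :=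
    Matrix.ProjectiveSpecialLinearGroup.rank_two_simple h4
  have hQ : commutator Q = ⊤ := by
    haveI : IsSimpleGroup Q := e.isSimpleGroup
    refine (IsSimpleGroup.eq_bot_or_eq_top_of_normal (commutator Q) inferInstance).resolve_left fun hb => ?_
    haveI : Nontrivial Q := IsSimpleGroup.toNontrivial
    obtain ⟨X, hX⟩ := exists_ne (1 : Q)
    obtain ⟨i, hi⟩ := S.exists_ty hX
    have h1 : sz X = 1 := by
      rw [ThreeSizes.index_cent_eq_one_iff, Subgroup.mem_center_iff]
      intro Y
      refine commutatorElement_eq_one_iff_mul_comm.1 (Subgroup.mem_bot.1 (hb ▸ ?_))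
      exact Subgroup.commutator_mem_commutator (Subgroup.mem_top _) (Subgroup.mem_top _)
    have h2 := Nat.le_of_dvd (by omega) (h1 ▸ S.base_dvd hi)
    have := S.par.one_lt_base i
    omega
  have hmap : (commutator G).map π = ⊤ := by
    rw [commutator_def, Subgroup.map_commutator, Subgroup.map_top_of_surjective π (QuotientGroup.mk'_surjective _),
      ← commutator_def, hQ]
  refine ⟨commutator G, Subgroup.center G, inferInstance, le_rfl, hinf, ?_, ⟨(MulEquiv.ofBijective
    (π.comp (commutator G).subtype) ⟨?_, ?_⟩).trans e⟩⟩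
  · have h1 := Subgroup.comap_map_eq π (commutator G)
    rw [hmap, Subgroup.comap_top, QuotientGroup.ker_mk'] at h1
    exact h1.symm
  · refine (injective_iff_map_eq_one _).2 fun x hx => Subtype.ext ?_
    have : (x : G) ∈ commutator G ⊓ Subgroup.center G := ⟨x.2, (QuotientGroup.eq_one_iff _).1 hx⟩
    rwa [hinf, Subgroup.mem_bot] at this
  · intro X
    obtain ⟨g, hg, hgX⟩ := (hmap ▸ Subgroup.mem_top X : X ∈ (commutator G).map π)
    exact ⟨⟨g, hg⟩, hgX⟩

end Cfsg.Agent.PSL2ClassSizes
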