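import Cfsg.Agent.Lib.Recog.SylowTISpec
import Cfsg.Agent.Lib.Recog.SL2Orders
import Cfsg.Agent.Lib.ZassAbelian.Main
import Cfsg.Agent.Lib.Small.SharpEven
import Cfsg.Agent.Lib.Small.DegreePrimeSuccData
import Cfsg.Agent.S0738

/-!
A group with the order of `PSL(2, q)` in which elements of order divisible by `p` have order `p`, and with an
element of order `(q + 1) / d`, is `PSL(2, q)`: the Sylow `p`-subgroups give a Zassenhaus group.
-/

set_option autoImplicit false
set_option linter.style.haveILetI false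
set_option linter.unusedSectionVars false

namespace Cfsg.Agent.PSL2Spec

open MulAction

universe u

variable {G : Type u} [Group G] [Finite G] {p : ℕ} [hp : Fact p.Prime]

/-- The numerical hypotheses. -/
structure Hyp (G : Type u) [Group G] (p f d : ℕ) : Prop where
  fpos : 0 < f
  q3 : 3 < p ^ f
  hd : d = 1 ∨ (p ≠ 2 ∧ d = 2)
  card : d * Nat.card G = (p ^ f + 1) * p ^ f * (p ^ f - 1)
  iso : SylowTISpec.Iso p G
  ex : p = 2 ∨ (d = 2 ∧ Odd ((p ^ f - 1) / 2)) → (∃ g : G, d * orderOf g = p ^ f + 1) ∨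
    ∀ M : Subgroup G, M.Normal → Nat.card M ≠ p ^ f + 1

theorem mem_of_coprime {M : Subgroup G} [M.Normal] {g : G} (h : (orderOf g).Coprime M.index) : g ∈ M := by
  rw [← QuotientGroup.eq_one_iff]
  refine orderOf_eq_one_iff.1 (Nat.eq_one_of_dvd_coprimes h (orderOf_map_dvd (QuotientGroup.mk' M) g) ?_)
  rw [Subgroup.index_eq_card]
  exact orderOf_dvd_natCard _

variable {f d : ℕ}

theorem Hyp.exists_zassenhaus (H : Hyp G p f d) :
    ∃ (k : ℕ) (P : Sylow p G), 2 ≤ k ∧ d * k + 1 = p ^ f ∧ Nat.card (Sylow p G) = p ^ f + 1 ∧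
      Nat.card G = (p ^ f + 1) * p ^ f * k ∧ Cfsg.IsZassenhausGroup G (Sylow p G) ∧
      (∀ Q R : Sylow p G, Q ≠ P → R ≠ P → ∃! u : (P : Subgroup G), (u : G) • Q = R) ∧
      (∀ Q : Sylow p G, Q ≠ P →
        Nat.card ↥(stabilizer G P ⊓ stabilizer G Q) = k) := by
  classical
  haveI := Fintype.ofFinite (Sylow p G)
  have hq3 := H.q3
  have hp0 := hp.out.pos
  set q := p ^ f with hq
  have hd0 : d = 1 ∨ d = 2 := H.hd.elim Or.inl fun h => Or.inr h.2
  have hpd : p.Coprime d := by
    rcases H.hd with rfl | ⟨h2, rfl⟩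
    · exact Nat.coprime_one_right p
    · exact (Nat.coprime_primes hp.out Nat.prime_two).2 h2
  -- the order of a Sylow subgroup
  obtain ⟨m, hm⟩ : q ∣ Nat.card G :=
    (Nat.Coprime.pow_left f hpd).dvd_of_dvd_mul_left ⟨(q + 1) * (q - 1), by rw [H.card]; ring⟩
  have hdm : d * m = (q + 1) * (q - 1) := by
    refine Nat.eq_of_mul_eq_mul_left (show 0 < q by omega) ?_
    rw [← mul_assoc, mul_comm q d, mul_assoc, ← hm, H.card]
    ring
  have hpq : p ∣ q := dvd_pow_self p H.fpos.ne'
  have hpm : ¬ p ∣ m := by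
    intro hdv
    have h1 : p ∣ (q + 1) * (q - 1) := hdm ▸ hdv.mul_left d
    rcases hp.out.dvd_mul.1 h1 with h2 | h2
    · exact hp.out.one_lt.ne' (Nat.dvd_one.1 ((Nat.dvd_add_right hpq).1 h2))
    · have h3 := Nat.dvd_sub hpq h2
      rw [Nat.sub_sub_self (by omega : 1 ≤ q)] at h3
      exact hp.out.one_lt.ne' (Nat.dvd_one.1 h3)
  have hP : ∀ P : Sylow p G, Nat.card (P : Subgroup G) = q := by
    intro P
    have hm0 : m ≠ 0 := fun e => hpm (e ▸ dvd_zero p)
    rw [P.card_eq_multiplicity, hm, Nat.factorization_mul (by omega) hm0, Finsupp.add_apply,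
      Nat.factorization_eq_zero_of_not_dvd hpm, hq, hp.out.factorization_pow, Finsupp.single_eq_same,
      add_zero]
  have hab : p = 2 → ∀ P : Sylow p G, ∀ x ∈ (P : Subgroup G), ∀ y ∈ (P : Subgroup G), x * y = y * x := by
    intro h2 P x hx y hy
    have hinv : ∀ z ∈ (P : Subgroup G), z⁻¹ = z := fun z hz => inv_eq_of_mul_eq_one_right (by
      have := SylowTISpec.pow_eq_one_of_mem H.iso P.2 hz
      rw [← pow_two]
      exact h2 ▸ this)
    rw [← hinv _ (P.1.mul_mem hx hy), mul_inv_rev, hinv _ hx, hinv _ hy]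
  -- an element of a Sylow subgroup normalising another one lies in it
  have hfreeP : ∀ {P Q : Sylow p G}, P ≠ Q → ∀ u ∈ (P : Subgroup G), u • Q = Q → u = 1 := by
    intro P Q hPQ u hu huQ
    have hmem : u ∈ (Q : Subgroup G) := by
      have huN : u ∈ Subgroup.normalizer (Q : Set G) := Sylow.smul_eq_iff_mem_normalizer.1 huQ
      have hle : Subgroup.zpowers u ≤ Subgroup.normalizer (Q : Set G) := by
        rwa [Subgroup.zpowers_le]
      have hpg : IsPGroup p (Subgroup.zpowers u) := P.2.to_le (by rwa [Subgroup.zpowers_le])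
      have hsup : IsPGroup p ↥((Subgroup.zpowers u) ⊔ (Q : Subgroup G)) :=
        hpg.to_sup_of_normal_right' Q.2 hle
      exact (Q.3 hsup le_sup_right) ▸ Subgroup.mem_sup_left (Subgroup.mem_zpowers u)
    have : u ∈ (P : Subgroup G) ⊓ (Q : Subgroup G) := ⟨hu, hmem⟩
    rwa [SylowTISpec.inf_eq_bot H.iso hab hPQ, Subgroup.mem_bot] at this
  -- an element fixing three points is trivial
  have hfix : ∀ g : G, ∀ A : Sylow p G, g • A = A → ∀ u ∈ (A : Subgroup G), g * u * g⁻¹ ∈ (A : Subgroup G) :=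
    fun g A hA u hu => (Subgroup.mem_normalizer_iff.1 (Sylow.smul_eq_iff_mem_normalizer.1 hA) u).1 hu
  have hpfix : ∀ g : G, ∀ A : Sylow p G, g • A = A → g ^ p = 1 → g ∈ (A : Subgroup G) := by
    intro g A hA hg
    have hle : Subgroup.zpowers g ≤ Subgroup.normalizer (A : Set G) := by
      rw [Subgroup.zpowers_le]; exact Sylow.smul_eq_iff_mem_normalizer.1 hA
    have hpg : IsPGroup p (Subgroup.zpowers g) := fun x => ⟨1, by
      obtain ⟨i, hi⟩ := Subgroup.mem_zpowers_iff.1 x.2
      refine Subtype.ext ?_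
      rw [SubmonoidClass.coe_pow, pow_one, ← hi, ← zpow_natCast, ← zpow_mul, mul_comm, zpow_mul,
        zpow_natCast, hg, one_zpow]
      rfl⟩
    exact (A.3 (hpg.to_sup_of_normal_right' A.2 hle) le_sup_right) ▸
      Subgroup.mem_sup_left (Subgroup.mem_zpowers g)
  -- counting
  obtain ⟨P⟩ := (inferInstance : Nonempty (Sylow p G))
  set N := Subgroup.normalizer (P : Set G) with hN
  have hPN : (P : Subgroup G) ≤ N := Subgroup.le_normalizer
  haveI : ((P : Subgroup G).subgroupOf N).Normal := Subgroup.normal_in_normalizer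
  have hcardP' : Nat.card ((P : Subgroup G).subgroupOf N) = q := by
    rw [Nat.card_congr (Subgroup.subgroupOfEquivOfLe hPN).toEquiv, hP]
  set k := ((P : Subgroup G).subgroupOf N).index with hk
  have hNk : Nat.card N = q * k := by rw [← ((P : Subgroup G).subgroupOf N).card_mul_index, hcardP']
  set n := Nat.card (Sylow p G) with hn
  have hnN : n = N.index := by rw [hn, Sylow.card_eq_index_normalizer P]
  have hGn : Nat.card G = n * (q * k) := by rw [hnN, ← hNk, mul_comm, N.card_mul_index]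
  -- regular action on the other points
  have hreg_inj : ∀ Q : Sylow p G, Q ≠ P → Function.Injective fun u : (P : Subgroup G) => (u : G) • Q := by
    intro Q hQ u v e
    have e' : (u : G) • Q = (v : G) • Q := e
    have := hfreeP hQ.symm ((v : G)⁻¹ * u) (P.1.mul_mem (P.1.inv_mem v.2) u.2)
      (by rw [mul_smul, e', inv_smul_smul])
    exact Subtype.ext (inv_mul_eq_one.1 this).symm
  have hother : ∀ u : (P : Subgroup G), ∀ Q : Sylow p G, Q ≠ P → (u : G) • Q ≠ P := by
    intro u Q hQ e
    refine hQ ((smul_left_cancel_iff (u : G)).1 (e.trans ?_))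
    exact (Sylow.smul_eq_iff_mem_normalizer.2 (hPN u.2)).symm
  have hdvd : q ∣ n - 1 := by
    letI : MulAction (P : Subgroup G) {Q : Sylow p G // Q ≠ P} :=
      { smul := fun u Q => ⟨(u : G) • Q.1, hother u _ Q.2⟩
        one_smul := fun Q => Subtype.ext (one_smul G Q.1)
        mul_smul := fun u v Q => Subtype.ext (mul_smul (u : G) (v : G) Q.1) }
    have h1 := ZassAb.card_dvd_of_free (A := (P : Subgroup G)) (S := {Q : Sylow p G // Q ≠ P})
      fun g Q e => Subtype.ext (hfreeP Q.2.symm g g.2 (congrArg Subtype.val e))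
    rwa [hP, Nat.card_eq_fintype_card (α := {Q : Sylow p G // Q ≠ P}), Fintype.card_subtype_compl,
      Fintype.card_subtype_eq, ← Nat.card_eq_fintype_card, ← hn] at h1
  have hkq : k ≤ q - 1 := by
    obtain ⟨K, hK⟩ := Subgroup.exists_right_complement'_of_coprime
      (N := (P : Subgroup G).subgroupOf N) (by
        rw [hcardP', ← hk]
        refine Nat.Coprime.pow_left f ((Nat.Prime.coprime_iff_not_dvd hp.out).2 fun hd' => ?_)
        have : p * q ∣ Nat.card G := by
          rw [hGn, show n * (q * k) = q * (n * k) by ring, mul_comm p]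
          exact mul_dvd_mul_left q (hd'.mul_left n)
        rw [hm, mul_comm p] at this
        exact hpm (Nat.dvd_of_mul_dvd_mul_left (by omega) this))
    have hKk : Nat.card K = k := by
      have h1 := hK.card_mul
      rw [hcardP', hNk] at h1
      exact Nat.eq_of_mul_eq_mul_left (by omega) h1
    haveI : Nontrivial (P : Subgroup G) := Finite.one_lt_card_iff_nontrivial.1 (by rw [hP]; omega)
    obtain ⟨u, hu⟩ := exists_ne (1 : (P : Subgroup G))
    have hu' : orderOf (u : G) = p :=
      SylowTISpec.orderOf_eq_of_mem H.iso P.2 u.2 fun e => hu (Subtype.ext e)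
    let φ : K → {x : (P : Subgroup G) // x ≠ 1} := fun y =>
      ⟨⟨((y : N) : G) * u * ((y : N) : G)⁻¹, (Subgroup.mem_normalizer_iff.1 (y : N).2 _).1 u.2⟩,
        fun e => hu (Subtype.ext (conj_eq_one_iff.1 (congrArg Subtype.val e)))⟩
    have hφ : Function.Injective φ := by
      intro y z e
      have e' : ((y : N) : G) * u * ((y : N) : G)⁻¹ = ((z : N) : G) * u * ((z : N) : G)⁻¹ :=
        congrArg (fun x => ((x.1 : (P : Subgroup G)) : G)) e
      set w : K := z⁻¹ * y with hw
      have hc : Commute (u : G) ((w : N) : G) := by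
        show (u : G) * (((z : N) : G)⁻¹ * ((y : N) : G)) = ((z : N) : G)⁻¹ * ((y : N) : G) * u
        calc (u : G) * (((z : N) : G)⁻¹ * ((y : N) : G))
            = ((z : N) : G)⁻¹ * (((z : N) : G) * u * ((z : N) : G)⁻¹) * ((y : N) : G) := by group
          _ = ((z : N) : G)⁻¹ * (((y : N) : G) * u * ((y : N) : G)⁻¹) * ((y : N) : G) := by rw [e']
          _ = _ := by group
      have hwp : ((w : N) : G) ^ p = 1 := SylowTISpec.pow_eq_one_of_commute H.iso hu' hc
      have hwP : ((w : N) : G) ∈ (P : Subgroup G) :=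
        hpfix _ P (Sylow.smul_eq_iff_mem_normalizer.2 (w : N).2) hwp
      have hw1 : (w : N) ∈ (P : Subgroup G).subgroupOf N ⊓ K := ⟨hwP, w.2⟩
      rw [disjoint_iff.1 hK.disjoint, Subgroup.mem_bot] at hw1
      exact (inv_mul_eq_one.1 (Subtype.ext hw1 : w = 1)).symm
    have h2 := Nat.card_le_card_of_injective φ hφ
    haveI := Fintype.ofFinite (P : Subgroup G)
    rwa [hKk, Nat.card_eq_fintype_card (α := {x : (P : Subgroup G) // x ≠ 1}), Fintype.card_subtype_compl,
      Fintype.card_subtype_eq, ← Nat.card_eq_fintype_card, hP] at h2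
  have hkpos : 0 < k := Nat.pos_of_ne_zero Subgroup.index_ne_zero_of_finite
  have hnpos : 0 < n := Nat.card_pos
  have heq : d * n * k = (q + 1) * (q - 1) := by
    rw [← hdm, mul_assoc]
    congr 1
    refine Nat.eq_of_mul_eq_mul_left (show 0 < q by omega) ?_
    rw [← hm, hGn]; ring
  obtain ⟨j, hj⟩ := hdvd
  have hnj : n = 1 + q * j := by omega
  have hdk : d * k + 1 = q := by
    have h1 : q ∣ d * k + 1 := by
      refine (Nat.dvd_add_right (dvd_mul_right q (d * j * k))).1 ⟨q, ?_⟩
      have e : d * n * k + 1 = q * q := by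
        obtain ⟨r, hr⟩ : ∃ r, q = r + 1 := ⟨q - 1, by omega⟩
        rw [heq, hr, Nat.add_sub_cancel]; ring
      rw [← e, hnj]; ring
    obtain ⟨i, hi⟩ := h1
    have hdk2 : d * k ≤ 2 * (q - 1) := Nat.mul_le_mul (by rcases hd0 with rfl | rfl <;> norm_num) hkq
    rcases i with _ | _ | i
    · simp at hi
    · omega
    · have : q * 2 ≤ q * (i + 1 + 1) := Nat.mul_le_mul_left q (by omega)
      omega
  have hn' : n = q + 1 := by
    refine Nat.eq_of_mul_eq_mul_left (show 0 < q - 1 by omega) ?_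
    rw [show q - 1 = d * k by omega, mul_right_comm, heq, show q - 1 = d * k by omega]
    ring
  have hk2 : 2 ≤ k := by
    by_contra hlt
    have : k = 1 := by omega
    rw [this, mul_one] at hdk
    omega
  have hreg : ∀ Q R : Sylow p G, Q ≠ P → R ≠ P → ∃! u : (P : Subgroup G), (u : G) • Q = R := by
    intro Q R hQ hR
    let φ : ↥(P : Subgroup G) → {S : Sylow p G // S ≠ P} := fun u => ⟨(u : G) • Q, hother u Q hQ⟩
    have hφ : Function.Injective φ := fun u v e => hreg_inj Q hQ (congrArg Subtype.val e)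
    have hbij : Function.Bijective φ := by
      refine (Nat.bijective_iff_injective_and_card φ).2 ⟨hφ, ?_⟩
      rw [hP, Nat.card_eq_fintype_card (α := {S : Sylow p G // S ≠ P}), Fintype.card_subtype_compl,
        Fintype.card_subtype_eq, ← Nat.card_eq_fintype_card, ← hn, hn']
      omega
    obtain ⟨u, hu⟩ := hbij.2 ⟨R, hR⟩
    exact ⟨u, congrArg Subtype.val hu, fun v hv => hφ (Subtype.ext (hv.trans (congrArg Subtype.val hu).symm))⟩
  have h2t : IsMultiplyPretransitive G (Sylow p G) 2 := by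
    rw [MulAction.is_two_pretransitive_iff]
    intro x y x' y' hxy hxy'
    obtain ⟨g, hg⟩ := exists_smul_eq G x P
    obtain ⟨g', hg'⟩ := exists_smul_eq G x' P
    have h1 : g • y ≠ P := fun e => hxy ((smul_left_cancel_iff g).1 (hg.trans e.symm))
    have h2 : g' • y' ≠ P := fun e => hxy' ((smul_left_cancel_iff g').1 (hg'.trans e.symm))
    obtain ⟨w, hw, -⟩ := hreg _ _ h1 h2
    exact ⟨g'⁻¹ * ((w : G) * g), by
      rw [mul_smul, mul_smul, hg, Sylow.smul_eq_iff_mem_normalizer.2 (hPN w.2), inv_smul_eq_iff, hg'],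
      by rw [mul_smul, mul_smul, hw, inv_smul_smul]⟩
  -- no non-identity element fixes three points
  have hthree : ∀ g : G, ∀ a b c : Sylow p G, a ≠ b → b ≠ c → a ≠ c →
      g • a = a → g • b = b → g • c = c → g = 1 := by
    intro g a b c hab' hbc hac hga hgb hgc
    obtain ⟨w, hw⟩ := exists_smul_eq G a P
    have h1 : w • b ≠ P := fun e => hab' ((smul_left_cancel_iff w).1 (hw.trans e.symm))
    have h2 : w • c ≠ P := fun e => hac ((smul_left_cancel_iff w).1 (hw.trans e.symm))
    set e := w * g * w⁻¹ with he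
    have hea : e • P = P := by rw [← hw, he, mul_smul, mul_smul, inv_smul_smul, hga]
    have heb : e • (w • b) = w • b := by rw [he, mul_smul, mul_smul, inv_smul_smul, hgb]
    have hec : e • (w • c) = w • c := by rw [he, mul_smul, mul_smul, inv_smul_smul, hgc]
    obtain ⟨u, hu, huniq⟩ := hreg _ _ h1 h2
    have h3 : (⟨e * u * e⁻¹, hfix e P hea u u.2⟩ : (P : Subgroup G)) = u := huniq _ (by
      show (e * (u : G) * e⁻¹) • (w • b) = w • c
      rw [mul_smul, mul_smul, inv_smul_eq_iff.2 heb.symm, hu, hec])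
    have hu1 : (u : G) ≠ 1 := fun e' => hbc ((smul_left_cancel_iff w).1 (by rw [e', one_smul] at hu; exact hu))
    have h3' : e * (u : G) * e⁻¹ = u := congrArg Subtype.val h3
    have hep : e ^ p = 1 := SylowTISpec.pow_eq_one_of_commute H.iso
      (SylowTISpec.orderOf_eq_of_mem H.iso P.2 u.2 hu1) (mul_inv_eq_iff_eq_mul.1 h3').symm
    exact conj_eq_one_iff.1 (hfreeP h1.symm e (hpfix e P hea hep) heb)
  -- two point stabilisers
  have hstab : ∀ Q : Sylow p G, Q ≠ P → Nat.card ↥(stabilizer G P ⊓ stabilizer G Q) = k := by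
    intro Q hQ
    have hi : (stabilizer G Q).relIndex (stabilizer G P) = q := by
      have hTr : orbit (stabilizer G P) Q = {P}ᶜ := by
        ext c
        constructor
        · rintro ⟨⟨g, hg⟩, rfl⟩ e
          exact hQ ((smul_left_cancel_iff g).1 (((e : g • Q = P)).trans (mem_stabilizer_iff.1 hg).symm))
        · intro hc
          obtain ⟨u, hu, -⟩ := hreg Q c hQ hc
          exact ⟨⟨u, mem_stabilizer_iff.2 (Sylow.smul_eq_iff_mem_normalizer.2 (hPN u.2))⟩, hu⟩
      have hst : stabilizer (stabilizer G P) Q = (stabilizer G Q).subgroupOf (stabilizer G P) := by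
        ext g; simp [Subgroup.mem_subgroupOf, mem_stabilizer_iff]; rfl
      rw [Subgroup.relIndex, ← hst, MulAction.index_stabilizer, hTr, Set.ncard_compl, Set.ncard_singleton,
        ← hn, hn', Nat.add_sub_cancel]
    have hsN : Nat.card (stabilizer G P) = q * k := by rw [Sylow.stabilizer_eq_normalizer, ← hN, hNk]
    have h1 := Subgroup.card_mul_index ((stabilizer G Q).subgroupOf (stabilizer G P))
    rw [← Subgroup.relIndex, hi, hsN, ← Subgroup.inf_subgroupOf_right,
      Nat.card_congr (Subgroup.subgroupOfEquivOfLe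
        (inf_le_right : stabilizer G Q ⊓ stabilizer G P ≤ stabilizer G P)).toEquiv, inf_comm] at h1
    exact Nat.eq_of_mul_eq_mul_right (show 0 < q by omega) (by rw [h1, mul_comm q k])
  obtain ⟨Q, hQ⟩ : ∃ Q : Sylow p G, Q ≠ P := by
    haveI : Nontrivial (Sylow p G) := Finite.one_lt_card_iff_nontrivial.1 (by rw [← hn, hn']; omega)
    exact exists_ne P
  have hfaith : FaithfulSMul G (Sylow p G) := by
    constructor
    intro g g' hgg
    obtain ⟨R, hR⟩ : ∃ R : Sylow p G, R ≠ P ∧ R ≠ Q := by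
      haveI : Nontrivial (P : Subgroup G) := Finite.one_lt_card_iff_nontrivial.1 (by rw [hP]; omega)
      obtain ⟨u, hu⟩ := exists_ne (1 : (P : Subgroup G))
      exact ⟨(u : G) • Q, hother u Q hQ, fun e => hu (Subtype.ext (hfreeP hQ.symm u u.2 e))⟩
    have := hthree (g'⁻¹ * g) P Q R hQ.symm hR.2.symm hR.1.symm
      (by rw [mul_smul, hgg, inv_smul_smul]) (by rw [mul_smul, hgg, inv_smul_smul])
      (by rw [mul_smul, hgg, inv_smul_smul])
    exact (inv_mul_eq_one.1 this).symm
  refine ⟨k, P, hk2, hdk, by rw [hn'], by rw [hGn, hn']; ring, ⟨hfaith, h2t, hthree, ?_, ?_⟩, hreg, hstab⟩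
  · obtain ⟨⟨g, hg⟩, hg1⟩ : ∃ g : (stabilizer G P ⊓ stabilizer G Q : Subgroup G), g ≠ 1 := by
      haveI := Finite.one_lt_card_iff_nontrivial.1 (lt_of_lt_of_eq (by omega : 1 < k) (hstab Q hQ).symm)
      exact exists_ne 1
    exact ⟨g, fun e => hg1 (Subtype.ext e), P, Q, hQ.symm, mem_stabilizer_iff.1 hg.1, mem_stabilizer_iff.1 hg.2⟩
  -- there is no regular normal subgroup
  intro M hM htr
  refine ⟨P, fun hbot => ?_⟩
  haveI := hM
  have hMfree : ∀ m : M, (m : G) • P = P → m = 1 := fun m hm' => by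
    have : m ∈ stabilizer M P := mem_stabilizer_iff.2 hm'
    rwa [hbot, Subgroup.mem_bot] at this
  let ev : M → Sylow p G := fun m => (m : G) • P
  have hev : Function.Bijective ev := by
    refine ⟨fun m m' e => ?_, fun R => ?_⟩
    · have e' : (m : G) • P = (m' : G) • P := e
      exact (inv_mul_eq_one.1 (hMfree (m'⁻¹ * m) (by
        show ((m' : G)⁻¹ * (m : G)) • P = P
        rw [mul_smul, e', inv_smul_smul]))).symm
    · obtain ⟨m, hm'⟩ := htr.exists_smul_eq P R
      exact ⟨m, hm'⟩
  have hMcard : Nat.card M = q + 1 := by rw [Nat.card_congr (Equiv.ofBijective ev hev), ← hn, hn']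
  -- all non-identity elements of `M` are conjugate under `P`
  have hconj : ∀ x y : M, x ≠ 1 → y ≠ 1 → ∃ u ∈ (P : Subgroup G), u * (x : G) * u⁻¹ = y := by
    intro x y hx hy
    have h1 : (x : G) • P ≠ P := fun e => hx (hMfree x e)
    have h2 : (y : G) • P ≠ P := fun e => hy (hMfree y e)
    obtain ⟨u, hu, -⟩ := hreg _ _ h1 h2
    refine ⟨u, u.2, congrArg Subtype.val (hev.1 (show ev ⟨_, hM.conj_mem _ x.2 u⟩ = ev y from ?_))⟩
    show ((u : G) * x * (u : G)⁻¹) • P = (y : G) • P
    rw [mul_smul, inv_smul_eq_iff.2 (Sylow.smul_eq_iff_mem_normalizer.2 (hPN u.2)).symm, mul_smul, hu]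
  -- the common order is a prime `r`
  obtain ⟨r, hr, hrM⟩ := Nat.exists_prime_and_dvd (n := Nat.card M) (by omega)
  haveI : Fact r.Prime := ⟨hr⟩
  obtain ⟨x, hx⟩ := exists_prime_orderOf_dvd_card' (G := M) r hrM
  have hx1 : x ≠ 1 := fun e => by rw [e, orderOf_one] at hx; exact hr.one_lt.ne hx
  have hexp : ∀ y : G, y ∈ M → y ^ r = 1 := by
    intro y hy
    by_cases hy1 : (⟨y, hy⟩ : M) = 1
    · rw [show y = 1 from congrArg Subtype.val hy1, one_pow]
    · obtain ⟨u, -, hu⟩ := hconj x ⟨y, hy⟩ hx1 hy1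
      rw [← show u * (x : G) * u⁻¹ = y from hu, conj_pow, ← hx, ← Subgroup.orderOf_coe, pow_orderOf_eq_one]
      group
  by_cases hex : p = 2 ∨ (d = 2 ∧ Odd ((q - 1) / 2))
  swap
  · -- an involution of a two-point stabiliser centralises at most one non-identity element of `M`
    obtain ⟨hp2, hd2⟩ := not_or.1 hex
    obtain ⟨a, ha⟩ := IsPGroup.iff_card.1 (fun y => ⟨1, Subtype.ext (by
      rw [SubmonoidClass.coe_pow, pow_one]; exact hexp y y.2)⟩ : IsPGroup r M)
    have hqodd : q % 2 = 1 := by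
      rw [hq, Nat.pow_mod, hp.out.eq_two_or_odd.resolve_left hp2, one_pow, Nat.one_mod]
    have hr2 : r = 2 := by
      by_contra hne
      have hodd : r ^ a % 2 = 1 := by
        rw [Nat.pow_mod, (hr.eq_two_or_odd).resolve_left hne, one_pow, Nat.one_mod]
      have := hMcard ▸ ha
      omega
    subst hr2
    have hcomm : ∀ y ∈ M, ∀ z ∈ M, y * z = z * y := fun y hy z hz => by
      have hinv : ∀ w ∈ M, w⁻¹ = w := fun w hw =>
        inv_eq_of_mul_eq_one_right (by rw [← pow_two]; exact hexp w hw)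
      rw [← hinv _ (M.mul_mem hy hz), mul_inv_rev, hinv _ hy, hinv _ hz]
    obtain ⟨i, hi⟩ := exists_prime_orderOf_dvd_card' (G := (stabilizer G P ⊓ stabilizer G Q : Subgroup G)) 2
      (by
        rw [hstab Q hQ]
        rcases hd0 with h1 | h1
        · rw [h1, one_mul] at hdk; omega
        · have h3 : ¬ Odd ((q - 1) / 2) := fun ho => hd2 ⟨h1, ho⟩
          rw [Nat.not_odd_iff_even, Nat.even_iff] at h3
          rw [h1] at hdk; omega)
    have hiP : (i : G) • P = P := mem_stabilizer_iff.1 i.2.1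
    have hiQ : (i : G) • Q = Q := mem_stabilizer_iff.1 i.2.2
    have hi1 : (i : G) ≠ 1 := fun e => by
      rw [← Subgroup.orderOf_coe, e, orderOf_one] at hi; omega
    have hii : (i : G) * i = 1 := by
      rw [← pow_two, ← hi, ← Subgroup.orderOf_coe, pow_orderOf_eq_one]
    let φ : M → M := fun y => ⟨(y : G) * ((i : G) * y * (i : G)⁻¹), M.mul_mem y.2 (hM.conj_mem _ y.2 i)⟩
    have hC : ∀ c : M, (i : G) * c * (i : G)⁻¹ = c → ev c = P ∨ ev c = Q := by
      intro c hc
      by_contra hne
      push Not at hne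
      refine hi1 (hthree i P Q (ev c) hQ.symm hne.2.symm hne.1.symm hiP hiQ ?_)
      show (i : G) • ((c : G) • P) = (c : G) • P
      rw [← mul_smul, mul_inv_eq_iff_eq_mul.1 hc, mul_smul, hiP]
    have hinvc : ∀ w ∈ M, (i : G) * w * (i : G)⁻¹ ∈ M := fun w hw => hM.conj_mem _ hw i
    haveI := Fintype.ofFinite M
    have hfib : ∀ c : M, (Finset.univ.filter fun y => φ y = c).card ≤ 2 := by
      intro c
      rcases (Finset.univ.filter fun y => φ y = c).eq_empty_or_nonempty with he | ⟨y₀, hy₀⟩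
      · simp [he]
      refine le_trans (Finset.card_le_card_of_injOn (fun y => ev (y₀⁻¹ * y)) (t := ({P, Q} : Finset (Sylow p G)))
        ?_ fun y _ z _ e => mul_left_cancel (hev.1 e)) Finset.card_le_two
      intro y hy
      simp only [Finset.coe_filter, Finset.mem_univ, true_and, Set.mem_setOf_eq] at hy
      have hy₀' : φ y₀ = c := (Finset.mem_filter.1 hy₀).2
      have e := congrArg Subtype.val (hy.trans hy₀'.symm)
      change (y : G) * ((i : G) * y * (i : G)⁻¹) = (y₀ : G) * ((i : G) * y₀ * (i : G)⁻¹) at e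
      have h1 := hC (y₀⁻¹ * y) (by
        show (i : G) * ((y₀ : G)⁻¹ * y) * (i : G)⁻¹ = (y₀ : G)⁻¹ * y
        have hy₀i : ((y₀ : G)⁻¹) = y₀ := inv_eq_of_mul_eq_one_right (by rw [← pow_two]; exact hexp _ y₀.2)
        have hyi : ((y : G)⁻¹) = y := inv_eq_of_mul_eq_one_right (by rw [← pow_two]; exact hexp _ y.2)
        have e1 : (i : G) * y * (i : G)⁻¹ = (y : G)⁻¹ * ((y₀ : G) * ((i : G) * y₀ * (i : G)⁻¹)) := by
          rw [← e]; group
        calc (i : G) * ((y₀ : G)⁻¹ * y) * (i : G)⁻¹
            = ((i : G) * y₀ * (i : G)⁻¹)⁻¹ * ((i : G) * y * (i : G)⁻¹) := by group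
          _ = ((i : G) * y₀ * (i : G)⁻¹)⁻¹ * ((y : G)⁻¹ * (y₀ : G)) * ((i : G) * y₀ * (i : G)⁻¹) := by
            rw [e1]; group
          _ = ((y : G)⁻¹ * (y₀ : G)) := by
            rw [hcomm _ (M.inv_mem (hinvc _ y₀.2)) _ (M.mul_mem (M.inv_mem y.2) y₀.2)]; group
          _ = (y₀ : G)⁻¹ * y := by rw [hy₀i, hyi, hcomm _ y.2 _ y₀.2])
      simpa using h1
    have himg : (Finset.univ.image φ).card ≤ 2 := by
      refine le_trans (Finset.card_le_card_of_injOn ev (t := ({P, Q} : Finset (Sylow p G))) ?_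
        fun y _ z _ e => hev.1 e) Finset.card_le_two
      intro c hc
      obtain ⟨y, -, rfl⟩ := Finset.mem_image.1 hc
      have h1 := hC (φ y) (by
        show (i : G) * ((y : G) * ((i : G) * y * (i : G)⁻¹)) * (i : G)⁻¹ = (y : G) * ((i : G) * y * (i : G)⁻¹)
        calc (i : G) * ((y : G) * ((i : G) * y * (i : G)⁻¹)) * (i : G)⁻¹
            = ((i : G) * y * (i : G)⁻¹) * (((i : G) * i) * y * ((i : G) * i)⁻¹) := by group
          _ = ((i : G) * y * (i : G)⁻¹) * y := by rw [hii]; group
          _ = _ := hcomm _ (hinvc _ y.2) _ y.2)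
      simpa using h1
    have h4 := Finset.card_le_mul_card_image Finset.univ 2 (f := φ) fun c _ => hfib c
    rw [Finset.card_univ, ← Nat.card_eq_fintype_card, hMcard] at h4
    omega
  -- an element of order `(q + 1) / d` lies in `M`
  obtain ⟨g, hg⟩ := (H.ex hex).resolve_right fun hno => hno M hM hMcard
  have hcases : (p = 2 ∧ d = 1) ∨ (p ≠ 2 ∧ d = 2) := by
    rcases H.hd with h1 | h2
    · exact Or.inl ⟨hex.resolve_right (fun h => by have := h.1; omega), h1⟩
    · exact Or.inr h2
  have hidx : M.index = q * k := by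
    refine Nat.eq_of_mul_eq_mul_left (Nat.succ_pos q) ?_
    rw [Nat.succ_eq_add_one]
    conv_lhs => rw [← hMcard, M.card_mul_index, hGn, hn']
  have hMr : IsPGroup r M := fun y => ⟨1, Subtype.ext (by
    rw [SubmonoidClass.coe_pow, pow_one]; exact hexp y y.2)⟩
  obtain ⟨a, ha⟩ := IsPGroup.iff_card.1 hMr
  have hgM : g ∈ M := by
    refine mem_of_coprime ?_
    rw [hidx]
    have hog : orderOf g ∣ q + 1 := ⟨d, by rw [mul_comm]; exact hg.symm⟩
    have hra : q + 1 = r ^ a := hMcard ▸ ha
    refine Nat.Coprime.coprime_dvd_left hog ?_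
    refine Nat.Coprime.mul_right (by simp) ?_
    rw [hra]
    refine Nat.Coprime.pow_left a ((Nat.Prime.coprime_iff_not_dvd hr).2 fun hrk => ?_)
    have hrq : r ∣ q + 1 := hMcard ▸ hrM
    have h1 : r ∣ d * k := hrk.mul_left d
    have h2 : r ∣ 2 := by
      have := Nat.dvd_sub hrq h1
      rwa [show q + 1 - d * k = 2 by omega] at this
    have hr2 : r = 2 := (Nat.prime_dvd_prime_iff_eq hr Nat.prime_two).1 h2
    subst hr2
    rcases hcases with ⟨hp2, hd1⟩ | ⟨-, hd2⟩
    · have : 2 ∣ q := hp2 ▸ hpq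
      omega
    · subst hd2
      -- `q + 1` is a power of two, at least eight, so `(q - 1) / 2` is odd
      rcases a with _ | _ | a
      · simp at hra; omega
      · simp at hra; omega
      · obtain ⟨i, hi⟩ : 4 ∣ q + 1 := ⟨2 ^ a, by rw [hra]; ring⟩
        obtain ⟨i', hi'⟩ := hrk
        omega
  have hor : orderOf g ∣ r := orderOf_dvd_of_pow_eq_one (hexp g hgM)
  rcases hcases with ⟨hp2, hd1⟩ | ⟨-, hd2⟩
  · -- `q + 1` is prime
    subst hd1
    rw [one_mul] at hg
    have hrq : r = q + 1 := by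
      rcases (Nat.dvd_prime hr).1 hor with h1 | h1 <;> omega
    have hcyc : Nat.card M = r := by omega
    haveI := isCyclic_of_prime_card hcyc
    -- at most two conjugates
    have hsmall : ∀ y : M, y ≠ 1 → y = x ∨ y = x⁻¹ := by
      intro y hy
      obtain ⟨u, hu, huy⟩ := hconj x y hx1 hy
      have hxy : y ∈ Subgroup.zpowers x := mem_zpowers_of_prime_card hcyc hx1
      obtain ⟨i, hi⟩ := Subgroup.mem_zpowers_iff.1 hxy
      have hu2 : u * u = 1 := by
        have := SylowTISpec.pow_eq_one_of_mem H.iso P.2 hu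
        rw [hp2, pow_two] at this
        exact this
      have h2 : x ^ (i * i) = x := by
        refine Subtype.ext ?_
        rw [zpow_mul, hi, SubgroupClass.coe_zpow, ← huy, conj_zpow]
        calc u * (x : G) ^ i * u⁻¹ = u * (y : G) * u⁻¹ := by rw [← SubgroupClass.coe_zpow, hi]
          _ = (u * u) * (x : G) * (u * u)⁻¹ := by rw [← huy]; group
          _ = (x : G) := by rw [hu2]; group
      have h3 : ((orderOf x : ℕ) : ℤ) ∣ i * i - 1 := by
        rw [orderOf_dvd_iff_zpow_eq_one, zpow_sub, h2, zpow_one, mul_inv_cancel]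
      rw [hx, show i * i - 1 = (i - 1) * (i + 1) by ring] at h3
      rcases (Nat.prime_iff_prime_int.1 hr).dvd_or_dvd h3 with h4 | h4
      · left
        rw [← hx, orderOf_dvd_iff_zpow_eq_one, zpow_sub, hi, zpow_one, mul_inv_eq_one] at h4
        exact h4
      · right
        rw [← hx, orderOf_dvd_iff_zpow_eq_one, zpow_add, hi, zpow_one] at h4
        exact eq_inv_of_mul_eq_one_left h4
    haveI := Fintype.ofFinite M
    have : Fintype.card M ≤ ({1, x, x⁻¹} : Finset M).card := by
      rw [← Finset.card_univ]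
      refine Finset.card_le_card fun y _ => ?_
      by_cases hy : y = 1
      · simp [hy]
      · rcases hsmall y hy with h1 | h1 <;> simp [h1]
    rw [← Nat.card_eq_fintype_card, hMcard] at this
    exact absurd (this.trans Finset.card_le_three) (by omega)
  · subst hd2
    have : r ∣ q + 1 := hMcard ▸ hrM
    have hrev : r = 2 := by
      by_contra hne
      have h2 : Even (q + 1) := ⟨orderOf g, by omega⟩
      have hodd : r ^ a % 2 = 1 := by
        rw [Nat.pow_mod, (hr.eq_two_or_odd).resolve_left hne, one_pow, Nat.one_mod]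
      have : q + 1 = r ^ a := hMcard ▸ ha
      rw [Nat.even_iff] at h2
      omega
    have := Nat.le_of_dvd hr.pos hor
    omega

theorem sharp_card {α : Type*} [MulAction G α] [Finite α] (h3 : IsMultiplyPretransitive G α 3)
    (hs : ∀ x : Fin 3 ↪ α, stabilizer G x = ⊥) (e : Fin 3 ↪ α) :
    Nat.card G = Nat.card (Fin 3 ↪ α) := by
  refine Nat.card_congr (Equiv.ofBijective (fun g : G => g • e) ⟨fun g g' h => ?_, fun e' => ?_⟩)
  · have h' : g • e = g' • e := h
    have : g'⁻¹ * g ∈ stabilizer G e := mem_stabilizer_iff.2 (by rw [mul_smul, h', inv_smul_smul])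
    rw [hs, Subgroup.mem_bot] at this
    exact (inv_mul_eq_one.1 this).symm
  · haveI := h3
    exact exists_smul_eq G e e'

/-- The recognition theorem. -/
theorem Hyp.equiv (H : Hyp G p f d) (hcases : (p = 2 ∧ d = 1) ∨ (p ≠ 2 ∧ d = 2)) {F : Type*} [Field F] [Fintype F] (hF : Fintype.card F = p ^ f) :
    Nonempty (G ≃* Matrix.ProjectiveSpecialLinearGroup (Fin 2) F) := by
  classical
  haveI := Fintype.ofFinite (Sylow p G)
  obtain ⟨k, P, hk, hdk, hn, hG, hZ, hreg, hstab⟩ := H.exists_zassenhaus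
  have hn' : Fintype.card (Sylow p G) = p ^ f + 1 := by rw [← Nat.card_eq_fintype_card, hn]
  have hq3 := H.q3
  have hemb : Nat.card (Fin 3 ↪ Sylow p G) = (p ^ f + 1) * p ^ f * (p ^ f - 1) := by
    obtain ⟨m, hm⟩ : ∃ m, p ^ f = m + 1 := ⟨p ^ f - 1, by omega⟩
    rw [Nat.card_eq_fintype_card, Fintype.card_embedding_eq, hn', hm, Fintype.card_fin]
    simp [Nat.descFactorial]
    ring
  obtain ⟨e₀⟩ : Nonempty (Fin 3 ↪ Sylow p G) :=
    Function.Embedding.nonempty_of_card_le (by rw [Fintype.card_fin, hn']; omega)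
  rcases hcases with ⟨rfl, rfl⟩ | ⟨hp2, rfl⟩
  · -- sharply triply transitive
    have hs : ∀ x : Fin 3 ↪ Sylow 2 G, stabilizer G x = ⊥ := by
      intro x
      refine (Subgroup.eq_bot_iff_forall _).2 fun g hg => ?_
      have hi : ∀ i, g • x i = x i := fun i =>
        congrArg (fun y : Fin 3 ↪ Sylow 2 G => y i) (mem_stabilizer_iff.1 hg)
      exact hZ.2.2.1 g (x 0) (x 1) (x 2) (x.injective.ne (by decide)) (x.injective.ne (by decide))
        (x.injective.ne (by decide)) (hi 0) (hi 1) (hi 2)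
    have hbij : Function.Bijective fun g : G => g • e₀ := by
      refine (Nat.bijective_iff_injective_and_card _).2 ⟨fun g g' h => ?_, ?_⟩
      · have h' : g • e₀ = g' • e₀ := h
        have : g'⁻¹ * g ∈ stabilizer G e₀ := mem_stabilizer_iff.2 (by rw [mul_smul, h', inv_smul_smul])
        rw [hs, Subgroup.mem_bot] at this
        exact (inv_mul_eq_one.1 this).symm
      · rw [hemb, hG, show 2 ^ f - 1 = k by omega]
    have h3 : IsMultiplyPretransitive G (Sylow 2 G) 3 := by
      refine ⟨fun x y => ?_⟩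
      obtain ⟨a, ha⟩ := hbij.2 x
      obtain ⟨b, hb⟩ := hbij.2 y
      exact ⟨b * a⁻¹, by rw [← ha, ← hb]; simp only []; rw [mul_smul, inv_smul_smul]⟩
    obtain ⟨e⟩ := SharpEven.equiv_pgl (G := G) (α := Sylow 2 G) (f := f) H.fpos hn
      (SharpEven.sharp3_of_pretransitive h3 hs)
    haveI : Fact (Nat.Prime 2) := hp
    letI : Fintype (GaloisField 2 f) := Fintype.ofFinite _
    have hK : Fintype.card (GaloisField 2 f) = 2 ^ f := by
      rw [← Nat.card_eq_fintype_card, GaloisField.card 2 f H.fpos.ne']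
    obtain ⟨e1⟩ := SharpEven.psl_equiv_pgl hK
    obtain ⟨e2⟩ := PSucc.psl_congr (FiniteField.ringEquivOfCardEq (hK.trans hF.symm))
    exact ⟨(e.trans e1.symm).trans e2⟩
  · obtain ⟨Q, hQ⟩ : ∃ Q : Sylow p G, Q ≠ P := by
      haveI : Nontrivial (Sylow p G) := Finite.one_lt_card_iff_nontrivial.1 (by rw [hn]; omega)
      exact exists_ne P
    have hle : (P : Subgroup G) ≤ stabilizer G P := by
      rw [Sylow.stabilizer_eq_normalizer]; exact Subgroup.le_normalizer
    have hnormal : ∀ g ∈ stabilizer G P, ∀ u ∈ (P : Subgroup G), g * u * g⁻¹ ∈ (P : Subgroup G) :=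
      fun g hg u hu =>
        (Subgroup.mem_normalizer_iff.1 (Sylow.smul_eq_iff_mem_normalizer.1 (mem_stabilizer_iff.1 hg)) u).1 hu
    have hFn : ((P : Subgroup G).subgroupOf (stabilizer G P)).Normal := ⟨fun u hu g => by
      rw [Subgroup.mem_subgroupOf] at hu ⊢
      exact hnormal g g.2 u hu⟩
    obtain ⟨hc, -⟩ := S0738.result hZ hQ.symm (by rw [hstab Q hQ, hn']; omega) P hle hFn hreg
    have A : ZassAb.Ab P Q (P : Subgroup G) :=
      { zg := hZ, ne := hQ.symm, le := hle, normal := hnormal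
        comm := fun u hu v hv => congrArg Subtype.val (hc.is_comm.comm ⟨u, hu⟩ ⟨v, hv⟩)
        reg := hreg }
    rcases A.main with ⟨h3, hs⟩ | ⟨K, iK, iF, hK, ⟨e⟩⟩
    · exfalso
      have h := sharp_card h3 hs e₀
      rw [hemb, hG] at h
      have := Nat.eq_of_mul_eq_mul_left (Nat.mul_pos (Nat.succ_pos _) (by omega)) h
      omega
    · have hcardK := Cfsg.Agent.ProjLine.two_mul_card_psl (F := K)
      rw [← Nat.card_congr e.toEquiv, Nat.card_eq_fintype_card (α := K)] at hcardK
      have hKodd := FiniteField.odd_card_of_char_ne_two hK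
      obtain ⟨s, hs⟩ : ∃ s, Fintype.card K = s + 1 :=
        ⟨Fintype.card K - 1, by have := Fintype.one_lt_card (α := K); omega⟩
      have hs0 : 0 < s := by have := Fintype.one_lt_card (α := K); omega
      rw [hs, Nat.add_sub_cancel, Nat.gcd_eq_left (show 2 ∣ s by omega)] at hcardK
      have h2 : 2 * Nat.card G = (s + 1) * s * (s + 2) := by
        refine Nat.eq_of_mul_eq_mul_right hs0 ?_
        rw [hcardK]; ring
      rw [hG] at h2
      have hKq : Fintype.card K = p ^ f := by
        rw [hs]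
        set q := p ^ f with hq
        have h3 : (q + 1) * q * (2 * k) = (s + 1) * s * (s + 2) := by rw [← h2]; ring
        rcases lt_trichotomy (s + 1) q with hlt | heq | hgt
        · exfalso
          have : (s + 1) * s * (s + 2) < q * (2 * k) * (q + 1) :=
            Nat.mul_lt_mul'' (Nat.mul_lt_mul'' hlt (by omega)) (by omega)
          exact this.ne (by rw [← h3]; ring)
        · exact heq
        · exfalso
          have : q * (2 * k) * (q + 1) < (s + 1) * s * (s + 2) :=
            Nat.mul_lt_mul'' (Nat.mul_lt_mul'' hgt (by omega)) (by omega)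
          exact this.ne (by rw [← h3]; ring)
      obtain ⟨e2⟩ := PSucc.psl_congr (FiniteField.ringEquivOfCardEq (hKq.trans hF.symm))
      exact ⟨e.trans e2⟩

end Cfsg.Agent.PSL2Spec
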