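import Cfsg.Agent.Lib.Recog.PSL2ClassSizes
import Cfsg.Agent.Lib.Recog.PSL2Spec

/-!
Finite groups with the class sizes of `PSL(2, q)`: the quotient by the centre is `PSL(2, q)`.
-/

set_option autoImplicit false
set_option linter.style.haveILetI false
set_option linter.unusedSectionVars false

namespace Cfsg.Agent.PSL2ClassSizes

open Cfsg.Agent.ThreeSizes

theorem ncard_carrier {H : Type*} [Group H] (x : H) : (ConjClasses.mk x).carrier.ncard = (cent x).index := by
  have h : (ConjClasses.mk x).carrier = MulAction.orbit (ConjAct H) x := by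
    ext y
    rw [ConjClasses.mem_carrier_iff_mk_eq, ConjClasses.mk_eq_mk_iff_isConj, isConj_iff,
      MulAction.mem_orbit_iff]
    constructor
    · rintro ⟨c, hc⟩
      exact ⟨ConjAct.toConjAct c⁻¹, by rw [ConjAct.toConjAct_smul, ← hc]; group⟩
    · rintro ⟨c, rfl⟩
      exact ⟨(ConjAct.ofConjAct c)⁻¹, by rw [ConjAct.smul_def]; group⟩
  rw [h, ← MulAction.index_stabilizer, ConjAct.stabilizer_eq_centralizer]
  rfl

/-- An invariant set is a union of classes. -/
theorem dvd_card_invariant {H : Type*} [Group H] [Finite H] (P : H → Prop)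
    (hP : ∀ x y, IsConj x y → P x → P y) {b : ℕ} (hb : ∀ x, P x → b ∣ (cent x).index) :
    b ∣ Nat.card {x : H // P x} := by
  classical
  haveI := Fintype.ofFinite H
  rw [Nat.card_eq_fintype_card, Fintype.card_subtype, Finset.card_eq_sum_card_image ConjClasses.mk]
  refine Finset.dvd_sum fun c hc => ?_
  obtain ⟨x, hx, rfl⟩ := Finset.mem_image.1 hc
  have hPx : P x := (Finset.mem_filter.1 hx).2
  refine (hb x hPx).trans (dvd_of_eq ?_)
  rw [← ncard_carrier x, ← Set.ncard_coe_finset]
  congr 1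
  ext y
  simp only [Finset.coe_filter, Finset.mem_filter, Finset.mem_univ, true_and, Set.mem_setOf_eq,
    ConjClasses.mem_carrier_iff_mk_eq]
  exact ⟨fun e => ⟨hP x y (ConjClasses.mk_eq_mk_iff_isConj.1 e.symm) hPx, e⟩, fun h => h.2⟩

/-- The arithmetic of the class equation. -/
theorem Params.coeff {p f d q U W : ℕ} (P : Params p f d q U W) {a b e : ℕ}
    (h : a * (U * W) + b * (q * W) + e * (q * U) + 1 = q * U * W) : a = d := by
  have hq := P.q3
  have hd : d = 1 ∨ d = 2 := P.hd.elim (fun x => Or.inl x.2) fun x => Or.inr x.2.1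
  have hc : (d : ℤ) * (U * W) + 1 = q * q := by exact_mod_cast P.card
  have hs : (W : ℤ) + d * U = 2 * q := by exact_mod_cast P.sum
  have he : (a : ℤ) * (U * W) + b * (q * W) + e * (q * U) + 1 = q * U * W := by exact_mod_cast h
  have h1 : (U : ℤ) ∣ 2 * b + 1 :=
    ⟨q * W - a * W - e * q + (b * d * q - 2 * b * d * W), by
      linear_combination (2 * (b : ℤ)) * hc + he - (b : ℤ) * q * hs⟩
  have h2 : (W : ℤ) ∣ 2 * e + d :=
    ⟨d * (q * U - a * U - b * q) + (e * q - 2 * e * d * U), by
      linear_combination (2 * (e : ℤ)) * hc + (d : ℤ) * he - (e : ℤ) * q * hs⟩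
  have h3 : (q : ℤ) ∣ (a : ℤ) - d :=
    ⟨a * q - d * (U * W - b * W - e * U), by linear_combination (a : ℤ) * hc - (d : ℤ) * he⟩
  have h1' : (U : ℤ) ≤ 2 * b + 1 := Int.le_of_dvd (by positivity) h1
  have h2' : (W : ℤ) ≤ 2 * e + d := Int.le_of_dvd (by rcases hd with rfl | rfl <;> positivity) h2
  have hUW : (0 : ℤ) < U * W := by
    have := P.two_lt_U; have := P.two_lt_W; positivity
  have hle : (a : ℤ) ≤ d := by
    have i1 : (0 : ℤ) ≤ (2 * b + 1 - U) * (q * W) := by
      have : (0 : ℤ) ≤ 2 * b + 1 - U := by linarith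
      positivity
    have i2 : (0 : ℤ) ≤ (2 * e + d - W) * (q * U) := by
      have : (0 : ℤ) ≤ 2 * e + d - W := by linarith
      positivity
    have i3 : ((a : ℤ) - d) * (U * W) ≤ 0 := by nlinarith
    by_contra hlt
    push Not at hlt
    have : (0 : ℤ) < ((a : ℤ) - d) * (U * W) := mul_pos (by linarith) hUW
    linarith
  have h4 : (a : ℤ) = d := by
    by_contra hne
    have h5 : (0 : ℤ) < d - a := by
      rcases lt_or_eq_of_le hle with h | h
      · linarith
      · exact absurd h hne
    have h6 : (q : ℤ) ≤ d - a := Int.le_of_dvd h5 (by rw [← neg_sub]; exact h3.neg_right)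
    have : (d : ℤ) ≤ 2 := by rcases hd with rfl | rfl <;> norm_num
    have : (3 : ℤ) < q := by exact_mod_cast hq
    linarith
  exact_mod_cast h4

variable {G : Type*} [Group G] [Finite G] {p f d q U W : ℕ}

local notation "π" => QuotientGroup.mk' (Subgroup.center G)

theorem cent_eq_of_mk_eq {g g' : G} (h : π g = π g') : cent g' = cent g := by
  obtain ⟨z, hz, rfl⟩ : ∃ z ∈ Subgroup.center G, g' = g * z :=
    ⟨g⁻¹ * g', QuotientGroup.eq.1 h, by group⟩
  ext y
  have hc : y * z = z * y := (Subgroup.mem_center_iff.1 hz y)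
  rw [mem_cent, mem_cent]
  constructor
  · intro e
    refine mul_right_cancel (b := z) ?_
    calc y * g * z = y * (g * z) := by group
      _ = g * z * y := e
      _ = g * (y * z) := by rw [hc]; group
      _ = g * y * z := by group
  · intro e
    calc y * (g * z) = y * g * z := by group
      _ = g * (y * z) := by rw [e]; group
      _ = g * z * y := by rw [hc]; group

theorem mk_eq_one_iff {g : G} : π g = 1 ↔ g ∈ Subgroup.center G := QuotientGroup.eq_one_iff g

/-- The classes of the quotient. -/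
theorem sz_quot (g : G) :
    ∃ e, sz g = e * sz (π g) ∧ ∀ r : ℕ, r.Prime → r ∣ e → r ∣ orderOf (π g) := by
  classical
  set K : Subgroup G := (cent (π g)).comap π with hK
  have hle : cent g ≤ K := fun y hy => by
    rw [hK, Subgroup.mem_comap, mem_cent, ← map_mul, ← map_mul, mem_cent.1 hy]
  have hKi : K.index = sz (π g) := Subgroup.index_comap_of_surjective _ (QuotientGroup.mk'_surjective _)
  refine ⟨(cent g).relIndex K, by rw [← hKi, Subgroup.relIndex_mul_index hle], fun r hr hre => ?_⟩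
  haveI := Fact.mk hr
  have hmem : ∀ k : K, (k : G) * g * (k : G)⁻¹ * g⁻¹ ∈ Subgroup.center G := fun k => by
    have hk : π k * π g = π g * π k := mem_cent.1 k.2
    rw [← mk_eq_one_iff, map_mul, map_mul, map_mul, map_inv, map_inv, hk]
    group
  let φ : K →* Subgroup.center G :=
    { toFun := fun k => ⟨_, hmem k⟩
      map_one' := Subtype.ext (by simp)
      map_mul' := fun a b => Subtype.ext (by
        show ((a : G) * b) * g * ((a : G) * b)⁻¹ * g⁻¹ = ((a : G) * g * (a : G)⁻¹ * g⁻¹) * ((b : G) * g * (b : G)⁻¹ * g⁻¹)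
        have hb := Subgroup.mem_center_iff.1 (hmem b)
        calc ((a : G) * b) * g * ((a : G) * b)⁻¹ * g⁻¹
            = (a : G) * ((b : G) * g * (b : G)⁻¹ * g⁻¹) * (g * (a : G)⁻¹ * g⁻¹) := by group
          _ = (a : G) * (((b : G) * g * (b : G)⁻¹ * g⁻¹) * (g * (a : G)⁻¹ * g⁻¹)) := by group
          _ = (a : G) * ((g * (a : G)⁻¹ * g⁻¹) * ((b : G) * g * (b : G)⁻¹ * g⁻¹)) := by rw [hb]
          _ = _ := by group) }
  have hker : φ.ker = (cent g).subgroupOf K := by
    ext k
    rw [MonoidHom.mem_ker, Subgroup.mem_subgroupOf, mem_cent, Subtype.ext_iff]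
    show (k : G) * g * (k : G)⁻¹ * g⁻¹ = 1 ↔ _
    rw [mul_inv_eq_one, mul_inv_eq_iff_eq_mul]
  have hrange : (cent g).relIndex K = Nat.card φ.range := by
    rw [← Subgroup.index_ker, hker]; rfl
  obtain ⟨⟨_, k, rfl⟩, hz⟩ := exists_prime_orderOf_dvd_card' (G := φ.range) r (hrange ▸ hre)
  rw [← hz]
  refine orderOf_dvd_of_pow_eq_one (Subtype.ext (Subtype.ext ?_))
  set n := orderOf (π g) with hn
  set z : G := (k : G) * g * (k : G)⁻¹ * g⁻¹ with hzdef
  show z ^ n = 1
  have hgn : g ^ n ∈ Subgroup.center G := by rw [← mk_eq_one_iff, map_pow, hn, pow_orderOf_eq_one]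
  have hzg : Commute z g := ((Subgroup.mem_center_iff.1 (hmem k)) g).symm
  have h1 : ((k : G) * g * (k : G)⁻¹) ^ n = z ^ n * g ^ n := by
    rw [← hzg.mul_pow]; congr 1; rw [hzdef]; group
  rw [conj_pow, Subgroup.mem_center_iff.1 hgn (k : G), mul_inv_cancel_right] at h1
  exact mul_eq_right.1 h1.symm

/-- The type of an element of the quotient. -/
def Ty (d q U W : ℕ) (i : Fin 3) (X : G ⧸ Subgroup.center G) : Prop :=
  ∃ g : G, π g = X ∧ g ∉ Subgroup.center G ∧ T d q U W i (sz g)

theorem Ty.ne_one {i : Fin 3} {X : G ⧸ Subgroup.center G} (h : Ty d q U W i X) : X ≠ 1 := by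
  obtain ⟨g, rfl, hg, -⟩ := h
  exact fun e => hg (mk_eq_one_iff.1 e)

theorem Ty.conj {i : Fin 3} {X Y : G ⧸ Subgroup.center G} (hXY : IsConj X Y) (h : Ty d q U W i X) :
    Ty d q U W i Y := by
  obtain ⟨g, rfl, hg, hT⟩ := h
  obtain ⟨c, rfl⟩ := isConj_iff.1 hXY
  obtain ⟨c, rfl⟩ := QuotientGroup.mk'_surjective _ c
  refine ⟨c * g * c⁻¹, by simp, fun hc => hg ?_, by rwa [sz_conj]⟩
  have := (inferInstance : (Subgroup.center G).Normal).conj_mem _ hc c⁻¹
  simpa [mul_assoc] using this

namespace Sizes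

variable (S : Sizes G p f d q U W)
include S

theorem exists_ty {X : G ⧸ Subgroup.center G} (hX : X ≠ 1) : ∃ i, Ty d q U W i X := by
  obtain ⟨g, rfl⟩ := QuotientGroup.mk'_surjective _ X
  have hg : g ∉ Subgroup.center G := fun h => hX (mk_eq_one_iff.2 h)
  obtain ⟨i, hi⟩ := S.mem g hg
  exact ⟨i, g, rfl, hg, hi⟩

theorem ty_unique {X : G ⧸ Subgroup.center G} {i j : Fin 3} (hi : Ty d q U W i X)
    (hj : Ty d q U W j X) : i = j := by
  obtain ⟨g, rfl, -, hi⟩ := hi
  obtain ⟨g', hg', -, hj⟩ := hj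
  refine (S.par.dvd_same hi hj (dvd_of_eq ?_)).1
  show (cent g).index = (cent g').index
  rw [cent_eq_of_mk_eq hg'.symm]

theorem card_quot : Nat.card (G ⧸ Subgroup.center G) = q * U * W := by
  rw [← Subgroup.index_eq_card, S.index_center]

theorem orderOf_dvd_cof {g : G} {c : ℕ} (hc : sz g * c = q * U * W) : orderOf (π g) ∣ c := by
  haveI : ((Subgroup.center G).subgroupOf (cent g)).Normal := inferInstance
  have hi : ((Subgroup.center G).subgroupOf (cent g)).index = c := by
    refine Nat.eq_of_mul_eq_mul_left (Nat.card_pos (α := Subgroup.center G)) ?_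
    rw [← S.card_cent hc, ← Subgroup.card_mul_index ((Subgroup.center G).subgroupOf (cent g)),
      Nat.card_congr (Subgroup.subgroupOfEquivOfLe (center_le_cent g)).toEquiv]
  refine orderOf_dvd_of_pow_eq_one ?_
  rw [← map_pow, mk_eq_one_iff, ← hi]
  exact Subgroup.pow_index_mem ((Subgroup.center G).subgroupOf (cent g)) (⟨g, self_mem_cent g⟩ : cent g)

theorem base_dvd {X : G ⧸ Subgroup.center G} {i : Fin 3} (h : Ty d q U W i X) :
    base q U W i ∣ sz X := by
  obtain ⟨g, rfl, -, hT⟩ := h
  obtain ⟨c, hc, hcop, -, hb⟩ := S.par.cof hT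
  obtain ⟨e, he, hprime⟩ := sz_quot g
  refine Nat.Coprime.dvd_of_dvd_mul_left ?_ (he ▸ hb)
  refine Nat.coprime_of_dvd fun r hr hrb hre => ?_
  have h1 : r ∣ c := (hprime r hr hre).trans (S.orderOf_dvd_cof hc)
  exact hr.one_lt.ne' (Nat.eq_one_of_dvd_coprimes hcop hrb h1)

theorem ty_zero {X : G ⧸ Subgroup.center G} (h : Ty d q U W 0 X) :
    sz X = U * W ∧ orderOf X ∣ q ∧ Nat.card (cent X) = q := by
  have hb := S.base_dvd h
  obtain ⟨g, rfl, -, hT⟩ := h
  obtain ⟨e, he, -⟩ := sz_quot g
  have hsz : sz (π g) = U * W :=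
    Nat.dvd_antisymm (Dvd.intro_left e (he.symm.trans hT)) hb
  refine ⟨hsz, S.orderOf_dvd_cof (show sz g * q = q * U * W by rw [show sz g = U * W from hT]; ring), ?_⟩
  have h1 := (cent (π g)).card_mul_index
  rw [S.card_quot, show (cent (π g)).index = U * W from hsz] at h1
  refine Nat.eq_of_mul_eq_mul_right ?_ (h1.trans (mul_assoc q U W))
  have := S.par.two_lt_U; have := S.par.two_lt_W; positivity

/-- Elements of order divisible by `p` are of the first type. -/
theorem ty_of_dvd {X : G ⧸ Subgroup.center G} (h : p ∣ orderOf X) : Ty d q U W 0 X := by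
  have hX : X ≠ 1 := fun e => by
    rw [e, orderOf_one] at h; exact S.par.pp.not_dvd_one h
  obtain ⟨i, hi⟩ := S.exists_ty hX
  suffices i = 0 by subst this; exact hi
  by_contra hne
  obtain ⟨g, rfl, -, hT⟩ := hi
  obtain ⟨c, hc, hcop, -, -⟩ := S.par.cof hT
  have h1 : p ∣ base q U W i :=
    S.par.mark_dvd (i := 0) (T_base (d := d) (q := q) (U := U) (W := W) i) (Ne.symm hne)
  exact S.par.pp.one_lt.ne' (Nat.eq_one_of_dvd_coprimes hcop h1 (h.trans (S.orderOf_dvd_cof hc)))

/-- The class equation. -/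
theorem count_zero : Nat.card {X : G ⧸ Subgroup.center G // Ty d q U W 0 X} = d * (U * W) := by
  classical
  have hsum : ∀ N : Fin 3 → ℕ, ∑ i, N i = N 0 + N 1 + N 2 := fun N => Fin.sum_univ_three N
  have hdvd : ∀ i, base q U W i ∣ Nat.card {X : G ⧸ Subgroup.center G // Ty d q U W i X} := fun i =>
    dvd_card_invariant _ (fun _ _ => Ty.conj) fun X hX => S.base_dvd hX
  have hbij : Function.Bijective
      (fun s : Σ i, {X : G ⧸ Subgroup.center G // Ty d q U W i X} =>
        (⟨s.2.1, s.2.2.ne_one⟩ : {X : G ⧸ Subgroup.center G // X ≠ 1})) := by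
    refine ⟨fun s t e => ?_, fun X => ?_⟩
    · obtain ⟨i, X, hX⟩ := s
      obtain ⟨j, Y, hY⟩ := t
      obtain rfl : X = Y := congrArg Subtype.val e
      obtain rfl := S.ty_unique hX hY
      rfl
    · obtain ⟨i, hi⟩ := S.exists_ty X.2
      exact ⟨⟨i, X, hi⟩, rfl⟩
  have hne : Nat.card {X : G ⧸ Subgroup.center G // X ≠ 1} + 1 = q * U * W := by
    haveI := Fintype.ofFinite (G ⧸ Subgroup.center G)
    rw [Nat.card_eq_fintype_card, Fintype.card_subtype_compl, Fintype.card_subtype_eq, ← Nat.card_eq_fintype_card,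
      S.card_quot]
    have := S.par.N_pos
    omega
  have h := Nat.card_congr (Equiv.ofBijective _ hbij)
  rw [Nat.card_sigma, hsum] at h
  obtain ⟨a, ha⟩ := hdvd 0
  obtain ⟨b, hb⟩ := hdvd 1
  obtain ⟨e, he⟩ := hdvd 2
  simp only [base] at ha hb he
  rw [ha, hb, he] at h
  rw [ha, S.par.coeff (a := a) (b := b) (e := e) (by rw [← hne, ← h]; ring)]
  ring

/-- There are at most `d` classes of `p`-elements. -/
theorem card_le {s : Finset (G ⧸ Subgroup.center G)} (hs : ∀ X ∈ s, Ty d q U W 0 X)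
    (hnc : ∀ X ∈ s, ∀ Y ∈ s, IsConj X Y → X = Y) : s.card ≤ d := by
  classical
  haveI := Fintype.ofFinite (G ⧸ Subgroup.center G)
  have hpos : 0 < U * W := by have := S.par.two_lt_U; have := S.par.two_lt_W; positivity
  refine Nat.le_of_mul_le_mul_right ?_ hpos
  rw [← S.count_zero, Nat.card_eq_fintype_card, Fintype.card_subtype]
  set t : (G ⧸ Subgroup.center G) → Finset (G ⧸ Subgroup.center G) :=
    fun X => (ConjClasses.mk X).carrier.toFinset with ht
  calc s.card * (U * W) = ∑ X ∈ s, (t X).card := by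
        rw [Finset.sum_congr rfl fun X hX => ?_, Finset.sum_const, smul_eq_mul]
        rw [ht, ← (S.ty_zero (hs X hX)).1, sz, ← ncard_carrier, Set.ncard_eq_toFinset_card']
    _ = (s.biUnion t).card := by
        rw [Finset.card_biUnion]
        intro X hX Y hY hne
        refine Finset.disjoint_left.2 fun Z hZX hZY => hne ?_
        simp only [ht, Set.mem_toFinset, ConjClasses.mem_carrier_iff_mk_eq] at hZX hZY
        exact hnc X hX Y hY (ConjClasses.mk_eq_mk_iff_isConj.1 (hZX.symm.trans hZY))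
    _ ≤ _ := by
        refine Finset.card_le_card fun Z hZ => ?_
        obtain ⟨X, hX, hZX⟩ := Finset.mem_biUnion.1 hZ
        simp only [ht, Set.mem_toFinset, ConjClasses.mem_carrier_iff_mk_eq] at hZX
        exact Finset.mem_filter.2 ⟨Finset.mem_univ _,
          Ty.conj (ConjClasses.mk_eq_mk_iff_isConj.1 hZX.symm) (hs X hX)⟩

theorem iso : SylowTISpec.Iso p (G ⧸ Subgroup.center G) := by
  classical
  haveI := Fact.mk S.par.pp
  have hpp := S.par.pp
  intro X hX
  obtain ⟨-, hdvd, -⟩ := S.ty_zero (S.ty_of_dvd hX)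
  obtain ⟨j, -, hj⟩ := (Nat.dvd_prime_pow hpp).1 (S.par.hq ▸ hdvd)
  rcases j with _ | _ | j
  · rw [hj, pow_zero] at hX; exact absurd hX hpp.not_dvd_one
  · rw [hj, pow_one]
  exfalso
  set u := X ^ p ^ j with hudef
  have hu : orderOf u = p ^ 2 := by
    rw [hudef, orderOf_pow_of_dvd (pow_ne_zero _ hpp.ne_zero) (hj ▸ pow_dvd_pow p (by omega)), hj,
      Nat.pow_div (by omega) hpp.pos, show j + 1 + 1 - j = 2 by omega]
  set v := u ^ p with hvdef
  have hv : orderOf v = p := by
    rw [hvdef, orderOf_pow_of_dvd hpp.ne_zero (hu ▸ dvd_pow_self p two_ne_zero), hu, pow_two,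
      Nat.mul_div_cancel _ hpp.pos]
  have hv1 : v ≠ 1 := fun e => by rw [e, orderOf_one] at hv; exact hpp.one_lt.ne hv
  have hcomm : Commute u v := Commute.pow_right (Commute.refl u) p
  have huvp : (u * v) ^ p = v := by
    rw [hcomm.mul_pow, ← hvdef, ← hv, pow_orderOf_eq_one, mul_one]
  have huv : orderOf (u * v) = p ^ 2 := by
    refine orderOf_eq_prime_pow (n := 1) ?_ ?_
    · rw [pow_one, huvp]; exact hv1
    · rw [show p ^ (1 + 1) = p * p by ring, pow_mul, huvp, ← hv, pow_orderOf_eq_one]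
  have hT : ∀ Y ∈ ({u, v, u * v} : Finset (G ⧸ Subgroup.center G)), Ty d q U W 0 Y := by
    intro Y hY
    simp only [Finset.mem_insert, Finset.mem_singleton] at hY
    refine S.ty_of_dvd ?_
    rcases hY with rfl | rfl | rfl
    · rw [hu]; exact dvd_pow_self p two_ne_zero
    · rw [hv]
    · rw [huv]; exact dvd_pow_self p two_ne_zero
  have hno : ∀ Y : G ⧸ Subgroup.center G, orderOf Y = p ^ 2 → ¬ IsConj Y v := by
    intro Y hY hc
    obtain ⟨c, hc⟩ := isConj_iff.1 hc
    rw [← hc, show c * Y * c⁻¹ = MulAut.conj c Y from rfl, MulEquiv.orderOf_eq, hY] at hv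
    have := Nat.pow_right_injective hpp.two_le (hv.trans (pow_one p).symm)
    omega
  rcases S.par.hd with ⟨-, hd1⟩ | ⟨-, hd2, -⟩
  · have hcard := S.card_le (s := {u, v}) (fun Y hY => hT Y (by
      simp only [Finset.mem_insert, Finset.mem_singleton] at hY ⊢; tauto)) (by
      intro Y hY Z hZ hc
      simp only [Finset.mem_insert, Finset.mem_singleton] at hY hZ
      rcases hY with rfl | rfl <;> rcases hZ with rfl | rfl
      · rfl
      · exact absurd hc (hno _ hu)
      · exact absurd hc.symm (hno _ hu)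
      · rfl)
    rw [Finset.card_pair (fun e => by rw [e, hv] at hu; exact hv1 (by
      have := Nat.pow_right_injective hpp.two_le ((pow_one p).trans hu)
      omega))] at hcard
    omega
  · -- `u` and `u * v` are conjugate
    by_cases hconj : IsConj u (u * v)
    · obtain ⟨c, hc⟩ := isConj_iff.1 hconj
      have hcv : c * v * c⁻¹ = v := by rw [hvdef, ← conj_pow, hc, huvp, hvdef]
      have hle : cent u ≤ cent v := cent_le_cent_pow u p
      have heq : cent u = cent v := Subgroup.eq_of_le_of_card_ge hle (by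
        rw [(S.ty_zero (hT v (by simp))).2.2, (S.ty_zero (hT u (by simp))).2.2])
      have hcu : c ∈ cent u := heq ▸ mem_cent.2 (mul_inv_eq_iff_eq_mul.1 hcv)
      rw [show c * u * c⁻¹ = u by rw [mem_cent.1 hcu, mul_inv_cancel_right]] at hc
      exact hv1 (mul_eq_left.1 hc.symm)
    · have hcard := S.card_le (s := {u, v, u * v}) hT (by
        intro Y hY Z hZ hc
        simp only [Finset.mem_insert, Finset.mem_singleton] at hY hZ
        rcases hY with rfl | rfl | rfl <;> rcases hZ with rfl | rfl | rfl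
        · rfl
        · exact absurd hc (hno _ hu)
        · exact absurd hc hconj
        · exact absurd hc.symm (hno _ hu)
        · rfl
        · exact absurd hc.symm (hno _ huv)
        · exact absurd hc.symm hconj
        · exact absurd hc (hno _ huv)
        · rfl)
      have hne1 : u ≠ v := fun e => by
        rw [e, hv] at hu
        have := Nat.pow_right_injective hpp.two_le ((pow_one p).trans hu)
        omega
      have hne2 : u ≠ u * v := fun e => hv1 (mul_eq_left.1 e.symm)
      have hne3 : v ≠ u * v := fun e => by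
        have e' : u = 1 := mul_eq_right.1 e.symm
        rw [e', orderOf_one] at hu
        exact (Nat.one_lt_pow two_ne_zero hpp.one_lt).ne hu
      rw [Finset.card_insert_of_notMem (by simp [hne1, hne2]), Finset.card_pair hne3] at hcard
      omega

theorem hyp : PSL2Spec.Hyp (G ⧸ Subgroup.center G) p f d where
  fpos := S.par.fpos
  q3 := S.par.hq ▸ S.par.q3
  hd := S.par.hd.imp (fun x => x.2) fun x => ⟨x.1, x.2.1⟩
  card := by
    have h := S.par.card
    obtain ⟨m, hm⟩ : ∃ m, q = m + 1 := ⟨q - 1, by have := S.par.q3; omega⟩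
    have h' : d * (U * W) = (q + 1) * (q - 1) := by
      refine Nat.add_right_cancel (m := 1) (h.trans ?_)
      rw [hm, Nat.add_sub_cancel]; ring
    rw [← S.par.hq, S.card_quot, show d * (q * U * W) = q * (d * (U * W)) by ring, h']
    ring
  iso := S.iso
  ex := fun _ => Or.inr fun M hM hcard => by
    haveI := hM
    rw [← S.par.hq] at hcard
    have hq3 := S.par.q3
    haveI : Nontrivial M := Finite.one_lt_card_iff_nontrivial.1 (by omega)
    obtain ⟨y, hy⟩ := exists_ne (1 : M)
    have hy1 : (y : G ⧸ Subgroup.center G) ≠ 1 := fun e => hy (Subtype.ext e)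
    obtain ⟨i, hi⟩ := S.exists_ty hy1
    have h1 : sz (y : G ⧸ Subgroup.center G) ≤ q + 1 := by
      rw [sz, ← ncard_carrier, ← hcard, ← SetLike.coe_sort_coe, Nat.card_coe_set_eq]
      refine Set.ncard_le_ncard ?_ (Set.toFinite _)
      intro z hz
      obtain ⟨c, rfl⟩ := isConj_iff.1 (ConjClasses.mk_eq_mk_iff_isConj.1
        (ConjClasses.mem_carrier_iff_mk_eq.1 hz).symm)
      exact hM.conj_mem _ y.2 c
    have h2 := (Nat.le_of_dvd (Nat.pos_of_ne_zero Subgroup.index_ne_zero_of_finite) (S.base_dvd hi)).trans h1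
    have := S.par.two_lt_U
    have := S.par.two_lt_W
    have hc := S.par.card
    have hd : d ≤ 2 := by rcases S.par.hd with h | h <;> omega
    fin_cases i <;> simp only [base] at h2
    · nlinarith
    · nlinarith
    · nlinarith

theorem equiv {F : Type*} [Field F] [Fintype F] (hF : Fintype.card F = q) :
    Nonempty (G ⧸ Subgroup.center G ≃* Matrix.ProjectiveSpecialLinearGroup (Fin 2) F) := by
  haveI := Fact.mk S.par.pp
  exact S.hyp.equiv (S.par.hd.imp id fun x => ⟨x.1, x.2.1⟩) (hF.trans S.par.hq)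

end Sizes

end Cfsg.Agent.PSL2ClassSizes
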