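import Cfsg.Agent.Lib.ThreeSizes.Basic

/-!
Finite groups with the class sizes of `PSL(2, q)`: the index of the centre.
-/

set_option autoImplicit false
set_option linter.style.haveILetI false
set_option linter.unusedSectionVars false

namespace Cfsg.Agent.PSL2ClassSizes

open Cfsg.Agent.ThreeSizes

/-- The parameters of `PSL(2, q)`: `U` and `W` are the orders of the centralizers of elements in the two
tori, with `W` belonging to the involutions when `q` is odd. -/
structure Params (p f d q U W : ℕ) : Prop where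
  pp : p.Prime
  hq : q = p ^ f
  q3 : 3 < q
  hd : (p = 2 ∧ d = 1) ∨ (p ≠ 2 ∧ d = 2 ∧ 4 ∣ W)
  card : d * (U * W) + 1 = q * q
  sum : W + d * U = 2 * q
  two_lt_U : 2 < U
  two_lt_W : 2 < W
  copU : q.Coprime U
  copW : q.Coprime W
  copUW : U.Coprime W

/-- The smallest size of a class of each of the three types. -/
def base (q U W : ℕ) : Fin 3 → ℕ
  | 0 => U * W
  | 1 => q * W
  | 2 => q * U

/-- The sizes of each type. -/
def T (d q U W : ℕ) : Fin 3 → ℕ → Prop
  | 0, a => a = U * W
  | 1, a => a = q * W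
  | 2, a => a = q * U ∨ (d = 2 ∧ a = 2 * (q * U))

/-- A prime belonging to each type. -/
def mark (p d U W : ℕ) : Fin 3 → ℕ
  | 0 => p
  | 1 => U.minFac
  | 2 => if d = 2 then 2 else W.minFac

variable {p f d q U W : ℕ}

theorem T_base (i : Fin 3) : T d q U W i (base q U W i) := by
  fin_cases i
  · rfl
  · rfl
  · exact Or.inl rfl

namespace Params

variable (P : Params p f d q U W)
include P

theorem q_pos : 0 < q := by have := P.q3; omega

theorem fpos : 0 < f := by
  rcases Nat.eq_zero_or_pos f with h | h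
  · have := P.q3; rw [P.hq, h, pow_zero] at this; omega
  · exact h

theorem p_dvd_q : p ∣ q := P.hq ▸ dvd_pow_self p P.fpos.ne'

theorem N_pos : 0 < q * U * W := by
  have := P.two_lt_U; have := P.two_lt_W; have := P.q_pos
  positivity

theorem not_U_dvd : ¬ U ∣ q * W := fun h => by
  have := Nat.Coprime.eq_one_of_dvd P.copUW ((P.copU.symm).dvd_of_dvd_mul_left h)
  have := P.two_lt_U; omega

theorem not_q_dvd : ¬ q ∣ U * W := fun h => by
  have := Nat.Coprime.eq_one_of_dvd P.copW (P.copU.dvd_of_dvd_mul_left h)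
  have := P.q3; omega

theorem not_W_dvd : ¬ W ∣ 2 * (q * U) := fun h => by
  have := Nat.le_of_dvd two_pos ((Nat.Coprime.mul_right P.copW.symm P.copUW.symm).dvd_of_dvd_mul_right h)
  have := P.two_lt_W; omega

theorem two_dvd_W (h : d = 2) : 2 ∣ W := by
  rcases P.hd with h1 | h1
  · omega
  · exact dvd_trans (by norm_num) h1.2.2

theorem mark_prime (i : Fin 3) : (mark p d U W i).Prime := by
  have := P.two_lt_U; have := P.two_lt_W
  fin_cases i
  · exact P.pp
  · exact Nat.minFac_prime (by omega)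
  · show (if d = 2 then 2 else W.minFac).Prime
    split_ifs
    · exact Nat.prime_two
    · exact Nat.minFac_prime (by omega)

theorem mark_two_dvd : mark p d U W 2 ∣ W := by
  show (if d = 2 then 2 else W.minFac) ∣ W
  split_ifs with h
  · exact P.two_dvd_W h
  · exact Nat.minFac_dvd W

theorem mark_dvd {i j : Fin 3} {a : ℕ} (ha : T d q U W j a) (hij : i ≠ j) : mark p d U W i ∣ a := by
  have hp := P.p_dvd_q
  have hU : U.minFac ∣ U := Nat.minFac_dvd U
  have hW := P.mark_two_dvd
  fin_cases i <;> fin_cases j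
  all_goals first
    | exact absurd rfl hij
    | (rcases ha with rfl | ⟨-, rfl⟩
       · first
          | exact dvd_mul_of_dvd_left hp _
          | exact dvd_mul_of_dvd_right hU _
       · first
          | exact dvd_mul_of_dvd_right (dvd_mul_of_dvd_left hp _) _
          | exact dvd_mul_of_dvd_right (dvd_mul_of_dvd_right hU _) _)
    | (rw [show a = _ from ha]
       first
        | exact dvd_mul_of_dvd_left hp _
        | exact dvd_mul_of_dvd_left hU _
        | exact dvd_mul_of_dvd_right hW _)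

/-- The cofactor of a size. -/
theorem cof {i : Fin 3} {a : ℕ} (ha : T d q U W i a) :
    ∃ c, a * c = q * U * W ∧ (base q U W i).Coprime c ∧ mark p d U W i ∣ c ∧ base q U W i ∣ a := by
  fin_cases i
  · obtain rfl : a = U * W := ha
    exact ⟨q, by ring, (Nat.Coprime.mul_right P.copU P.copW).symm, P.p_dvd_q, dvd_refl _⟩
  · obtain rfl : a = q * W := ha
    exact ⟨U, by ring, (Nat.Coprime.mul_right P.copU.symm P.copUW).symm, Nat.minFac_dvd U, dvd_refl _⟩
  · rcases ha with rfl | ⟨hd2, rfl⟩
    · exact ⟨W, rfl, Nat.Coprime.mul_left P.copW P.copUW, P.mark_two_dvd, dvd_refl _⟩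
    · obtain ⟨w, hw⟩ : 4 ∣ W := by
        rcases P.hd with h | h
        · omega
        · exact h.2.2
      refine ⟨2 * w, by rw [hw]; ring, ?_, ?_, dvd_mul_left _ _⟩
      · exact (Nat.Coprime.mul_left P.copW P.copUW).coprime_dvd_right ⟨2, by rw [hw]; ring⟩
      · show (if d = 2 then 2 else W.minFac) ∣ 2 * w
        rw [if_pos hd2]
        exact dvd_mul_right 2 w

theorem base_dvd_N (i : Fin 3) : base q U W i ∣ q * U * W := by
  obtain ⟨c, hc, -⟩ := P.cof (T_base i (d := d))
  exact ⟨c, hc.symm⟩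

/-- A size divides another one only within its type. -/
theorem dvd_same {i j : Fin 3} {a b : ℕ} (ha : T d q U W i a) (hb : T d q U W j b) (h : a ∣ b) :
    i = j ∧ (b = a ∨ (i = 2 ∧ d = 2 ∧ b = 2 * a)) := by
  have h1 := P.not_U_dvd
  have h2 := P.not_q_dvd
  have h3 := P.not_W_dvd
  have hu : ∀ c, T d q U W 2 c → c ∣ 2 * (q * U) ∧ q * U ∣ c := by
    rintro c (rfl | ⟨-, rfl⟩)
    · exact ⟨dvd_mul_left _ _, dvd_refl _⟩
    · exact ⟨dvd_refl _, dvd_mul_left _ _⟩
  fin_cases i <;> fin_cases j
  · exact ⟨rfl, Or.inl ((show b = U * W from hb).trans (show a = U * W from ha).symm)⟩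
  · refine absurd (dvd_trans (dvd_mul_right U W) ?_) h1
    rwa [← (show a = U * W from ha), ← (show b = q * W from hb)]
  · refine absurd (dvd_trans (dvd_mul_left W U) ?_) h3
    rw [← (show a = U * W from ha)]; exact h.trans (hu b hb).1
  · refine absurd (dvd_trans (dvd_mul_right q W) ?_) h2
    rwa [← (show a = q * W from ha), ← (show b = U * W from hb)]
  · exact ⟨rfl, Or.inl ((show b = q * W from hb).trans (show a = q * W from ha).symm)⟩
  · refine absurd (dvd_trans (dvd_mul_left W q) ?_) h3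
    rw [← (show a = q * W from ha)]; exact h.trans (hu b hb).1
  · refine absurd (dvd_trans (dvd_mul_right q U) ?_) h2
    rw [← (show b = U * W from hb)]; exact (hu a ha).2.trans h
  · refine absurd (dvd_trans (dvd_mul_left U q) ?_) h1
    rw [← (show b = q * W from hb)]; exact (hu a ha).2.trans h
  · refine ⟨rfl, ?_⟩
    have hpos : 0 < q * U := Nat.mul_pos P.q_pos (by have := P.two_lt_U; omega)
    rcases ha with rfl | ⟨hd2, rfl⟩ <;> rcases hb with rfl | ⟨hd2', rfl⟩
    · exact Or.inl rfl
    · exact Or.inr ⟨rfl, hd2', rfl⟩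
    · have := Nat.le_of_dvd hpos h; omega
    · exact Or.inl rfl

theorem prime_miss {r : ℕ} (hr : r.Prime) : ∃ i, ¬ r ∣ base q U W i := by
  have key : ∀ {x y : ℕ}, x.Coprime y → r ∣ x → ¬ r ∣ y := fun hxy hx hy =>
    hr.one_lt.ne' (Nat.eq_one_of_dvd_coprimes hxy hx hy)
  by_cases h1 : r ∣ q
  · exact ⟨0, fun h => (hr.dvd_mul.1 h).elim (key P.copU h1) (key P.copW h1)⟩
  by_cases h2 : r ∣ W
  · exact ⟨2, fun h => (hr.dvd_mul.1 h).elim h1 (key P.copUW.symm h2)⟩
  · exact ⟨1, fun h => (hr.dvd_mul.1 h).elim h1 h2⟩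

theorem one_lt_base (i : Fin 3) : 1 < base q U W i := by
  have := P.two_lt_U; have := P.two_lt_W; have := P.q3
  have e1 : U * 1 ≤ U * W := Nat.mul_le_mul_left U (by omega)
  have e2 : q * 1 ≤ q * W := Nat.mul_le_mul_left q (by omega)
  have e3 : q * 1 ≤ q * U := Nat.mul_le_mul_left q (by omega)
  fin_cases i <;> simp only [base] <;> omega

end Params

variable {G : Type*} [Group G] [Finite G]

/-- The size of a class. -/
noncomputable abbrev sz (x : G) : ℕ := (cent x).index

theorem sz_conj (x g : G) : sz (g * x * g⁻¹) = sz x := by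
  have hmap : (cent x).map (MulAut.conj g).toMonoidHom = cent (g * x * g⁻¹) := by
    ext y
    rw [Subgroup.mem_map_equiv, mem_cent, mem_cent, MulAut.conj_symm_apply]
    constructor
    · intro h
      calc y * (g * x * g⁻¹) = g * (g⁻¹ * y * g * x) * g⁻¹ := by group
        _ = g * (x * (g⁻¹ * y * g)) * g⁻¹ := by rw [h]
        _ = g * x * g⁻¹ * y := by group
    · intro h
      calc g⁻¹ * y * g * x = g⁻¹ * (y * (g * x * g⁻¹)) * g := by group
        _ = g⁻¹ * (g * x * g⁻¹ * y) * g := by rw [h]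
        _ = x * (g⁻¹ * y * g) := by group
  rw [sz, ← hmap]
  exact Subgroup.index_map_of_bijective (f := (MulAut.conj g).toMonoidHom) (MulAut.conj g).bijective _

theorem sz_dvd_of_le {x y : G} (h : cent x ≤ cent y) : sz y ∣ sz x := Subgroup.index_dvd_of_le h

/-- The hypothesis on the class sizes. -/
structure Sizes (G : Type*) [Group G] (p f d q U W : ℕ) : Prop where
  par : Params p f d q U W
  mem : ∀ x : G, x ∉ Subgroup.center G → ∃ i, T d q U W i (sz x)
  ex : ∀ i, ∃ x : G, sz x = base q U W i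

namespace Sizes

variable (S : Sizes G p f d q U W)
include S

theorem ex' (i : Fin 3) : ∃ x : G, x ∉ Subgroup.center G ∧ sz x = base q U W i ∧ T d q U W i (sz x) := by
  obtain ⟨x, hx⟩ := S.ex i
  refine ⟨x, fun h => ?_, hx, by rw [hx]; exact T_base i⟩
  have := S.par.one_lt_base i
  rw [← hx, sz, index_cent_eq_one_iff.2 h] at this
  omega

theorem sz_of_le {x y : G} {i : Fin 3} (hx : T d q U W i (sz x)) (hy : y ∉ Subgroup.center G)
    (hle : cent x ≤ cent y) :
    T d q U W i (sz y) ∧ (sz x = sz y ∨ (i = 2 ∧ d = 2 ∧ sz x = 2 * sz y)) := by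
  obtain ⟨j, hj⟩ := S.mem y hy
  obtain ⟨rfl, h⟩ := S.par.dvd_same hj hx (sz_dvd_of_le hle)
  exact ⟨hj, h⟩

theorem primary {x : G} (hx : x ∉ Subgroup.center G) {i : Fin 3} (hi : T d q U W i (sz x)) :
    ∃ (l : ℕ) (y : G), l.Prime ∧ PEl l y ∧ y ∉ Subgroup.center G ∧ cent x ≤ cent y ∧
      T d q U W i (sz y) := by
  obtain ⟨l, n, hl, hy, hn⟩ := exists_primary_not_mem hx
  exact ⟨l, x ^ n, hl, hy, hn, cent_le_cent_pow x n, (S.sz_of_le hi hn (cent_le_cent_pow x n)).1⟩

theorem mul_not_central {l r : ℕ} (hl : l.Prime) (hr : r.Prime) (hlr : l ≠ r) {y v : G} (hy : PEl l y)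
    (hv : PEl r v) (hyc : y ∉ Subgroup.center G) (hc : v ∈ cent y) :
    y * v ∉ Subgroup.center G := fun h => by
  refine hyc (cent_eq_top_iff.1 ?_)
  have h1 := cent_mul_primes hl hr hlr hy hv hc
  rw [cent_eq_top_iff.2 h] at h1
  exact eq_top_iff.2 (h1.le.trans inf_le_left)

/-- Commuting elements of coprime order are of the same type. -/
theorem prod_same {l r : ℕ} (hl : l.Prime) (hr : r.Prime) (hlr : l ≠ r) {y v : G} (hy : PEl l y)
    (hv : PEl r v) (hyc : y ∉ Subgroup.center G) (hc : v ∈ cent y)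
    {i j : Fin 3} (hi : T d q U W i (sz y)) (hj : T d q U W j (sz v)) : i = j := by
  obtain ⟨k, hk⟩ := S.mem _ (S.mul_not_central hl hr hlr hy hv hyc hc)
  have h1 := cent_mul_primes hl hr hlr hy hv hc
  have e1 := (S.par.dvd_same hi hk (sz_dvd_of_le (h1.le.trans inf_le_left))).1
  have e2 := (S.par.dvd_same hj hk (sz_dvd_of_le (h1.le.trans inf_le_right))).1
  rw [e1, e2]

theorem N_dvd : q * U * W ∣ (Subgroup.center G).index := by
  have hb : ∀ i, base q U W i ∣ (Subgroup.center G).index := fun i => by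
    obtain ⟨x, hx⟩ := S.ex i
    rw [← hx]; exact Subgroup.index_dvd_of_le (center_le_cent x)
  exact Nat.Coprime.mul_dvd_of_dvd_of_dvd (Nat.Coprime.mul_left S.par.copW S.par.copUW) (hb 2)
    ((dvd_mul_left W U).trans (hb 0))

theorem dvd_card_cent {x : G} {c : ℕ}
    (hc : sz x * c = q * U * W) : Nat.card (Subgroup.center G) * c ∣ Nat.card (cent x) := by
  obtain ⟨e, he⟩ := S.N_dvd
  refine ⟨e, Nat.eq_of_mul_eq_mul_right (Nat.pos_of_ne_zero (Subgroup.index_ne_zero_of_finite (H := cent x))) ?_⟩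
  rw [(cent x).card_mul_index, ← (Subgroup.center G).card_mul_index, he, ← hc]
  ring

/-- The centraliser contains a non-central element for the prime of the type. -/
theorem has_mark {x : G} {i : Fin 3} (hi : T d q U W i (sz x)) : Has (mark p d U W i) (cent x) := by
  obtain ⟨c, hc, -, hm, -⟩ := S.par.cof hi
  have hl := S.par.mark_prime i
  rw [has_iff hl (center_le_cent x)]
  have hc0 : c ≠ 0 := fun e => S.par.N_pos.ne' (by rw [← hc, e, mul_zero])
  have h1 : (Nat.card (Subgroup.center G) * mark p d U W i) ∣ Nat.card (cent x) :=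
    (mul_dvd_mul_left _ hm).trans (S.dvd_card_cent hc)
  have h2 := (Nat.factorization_le_iff_dvd (mul_ne_zero Nat.card_pos.ne' hl.ne_zero) Nat.card_pos.ne').2 h1
    (mark p d U W i)
  rw [Nat.factorization_mul Nat.card_pos.ne' hl.ne_zero, Finsupp.add_apply, hl.factorization_self] at h2
  omega

/-- All non-central `r`-elements have the type of a size prime to `r`. -/
theorem tau {r : ℕ} (hr : r.Prime) {x : G} (hx : x ∉ Subgroup.center G) {i : Fin 3}
    (hi : T d q U W i (sz x)) (hrx : ¬ r ∣ sz x) {v : G} (hv : PEl r v) (hvc : v ∉ Subgroup.center G) :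
    T d q U W i (sz v) := by
  haveI := Fact.mk hr
  obtain ⟨l, y, hl, hy, hyc, hle, hiy⟩ := S.primary hx hi
  have hry : ¬ r ∣ sz y := fun h => hrx (h.trans (sz_dvd_of_le hle))
  -- move `v` into the centraliser of `y`
  have hpg : IsPGroup r (Subgroup.zpowers v) := PEl.isPGroup_of_forall fun w hw => by
    obtain ⟨n, rfl⟩ := Subgroup.mem_zpowers_iff.1 hw
    obtain ⟨k, hk⟩ := hv
    exact ⟨k, by rw [← zpow_natCast, ← zpow_mul, mul_comm, zpow_mul, zpow_natCast, hk, one_zpow]⟩
  obtain ⟨P, hP⟩ := hpg.exists_le_sylow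
  obtain ⟨P', hP'⟩ := ClassCover.exists_sylow_of_mem r (x := y) hry
  obtain ⟨c, hc⟩ := MulAction.exists_smul_eq G P P'
  set v' := c * v * c⁻¹ with hv'def
  have hv' : PEl r v' := hv.conj c
  have hv'c : v' ∉ Subgroup.center G := fun h => hvc (by
    have := (inferInstance : (Subgroup.center G).Normal).conj_mem _ h c⁻¹
    rw [hv'def] at this
    simpa [mul_assoc] using this)
  have hmem : v' ∈ cent y := by
    have h1 : v' ∈ (P' : Subgroup G) := by
      rw [← hc, Sylow.coe_subgroup_smul, Subgroup.mem_pointwise_smul_iff_inv_smul_mem]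
      simp only [MulAut.smul_def, ← map_inv, MulAut.conj_apply, hv'def]
      simpa [mul_assoc] using hP (Subgroup.mem_zpowers v)
    exact mem_cent.2 (Subgroup.mem_centralizer_iff.1 hP' v' h1)
  obtain ⟨j, hj⟩ := S.mem v' hv'c
  suffices i = j by
    subst this
    rwa [hv'def, sz_conj] at hj
  by_cases hlr : l = r
  swap
  · exact S.prod_same hl hr hlr hy hv' hyc hmem hiy hj
  subst hlr
  by_contra hij
  -- a non-central element of another prime in the centraliser of `v'`
  obtain ⟨u, hu, hus, huc⟩ := S.has_mark hj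
  set s := mark p d U W j
  have hs : s.Prime := S.par.mark_prime j
  have hsr : s ≠ l := fun e => hry (e ▸ S.par.mark_dvd hiy (Ne.symm hij))
  have hz := cent_mul_primes hl hs hsr.symm hv' hus hu
  obtain ⟨k, hk⟩ := S.mem _ (S.mul_not_central hl hs hsr.symm hv' hus hv'c hu)
  obtain ⟨-, hdich⟩ := S.par.dvd_same hj hk (sz_dvd_of_le (hz.le.trans inf_le_left))
  have hyv : y ∈ cent v' := mem_cent_comm.1 hmem
  have hyz : y ∈ cent (v' * u) := by
    rcases hdich with h | ⟨hj2, hd2, h⟩
    · rw [eq_of_le_of_index_le (hz.le.trans inf_le_left) h.le]; exact hyv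
    · have h2 : ((cent (v' * u)).subgroupOf (cent v')).index = 2 := by
        refine Nat.eq_of_mul_eq_mul_right
          (Nat.pos_of_ne_zero (Subgroup.index_ne_zero_of_finite (H := cent v'))) ?_
        show (cent (v' * u)).relIndex (cent v') * sz v' = _
        rw [Subgroup.relIndex_mul_index (hz.le.trans inf_le_left)]
        exact h
      have h3 : y ^ 2 ∈ cent (v' * u) := Subgroup.sq_mem_of_index_two h2 ⟨y, hyv⟩
      have hl2 : l ≠ 2 := fun e => hsr (by
        rw [e]; show mark p d U W j = 2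
        rw [hj2]; exact if_pos hd2)
      obtain ⟨n, hn⟩ := hy
      obtain ⟨m, hm⟩ := (hl.odd_of_ne_two hl2).pow (n := n)
      have hy1 : y = ((y ^ 2) ^ m)⁻¹ := by
        rw [eq_inv_iff_mul_eq_one, ← pow_mul, ← pow_succ', ← hm, hn]
      rw [hy1]
      exact inv_mem (pow_mem h3 m)
  have hyu : y ∈ cent u := (hz.le.trans inf_le_right) hyz
  obtain ⟨k', hk'⟩ := S.mem u huc
  have e1 := S.prod_same hs hl hsr hus hy huc hyu hk' hiy
  have e2 := S.prod_same hl hs hsr.symm hv' hus hv'c hu hj hk'
  exact hij (e1.symm.trans e2.symm)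

/-- All non-central `r`-elements have the same type. -/
theorem same_prime {r : ℕ} (hr : r.Prime) {v w : G} (hv : PEl r v) (hw : PEl r w)
    (hvc : v ∉ Subgroup.center G) (hwc : w ∉ Subgroup.center G) {i j : Fin 3}
    (hi : T d q U W i (sz v)) (hj : T d q U W j (sz w)) : i = j := by
  obtain ⟨k, hk⟩ := S.par.prime_miss hr
  obtain ⟨x, hx, hxs, hxT⟩ := S.ex' k
  rw [← hxs] at hk
  have e1 := (S.par.dvd_same hi (S.tau hr hx hxT hk hv hvc) dvd_rfl).1
  have e2 := (S.par.dvd_same hj (S.tau hr hx hxT hk hw hwc) dvd_rfl).1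
  rw [e1, e2]

theorem commute_same {r : ℕ} (hr : r.Prime) {v w : G} (hw : PEl r w) (hvc : v ∉ Subgroup.center G)
    (hwc : w ∉ Subgroup.center G) (h : w ∈ cent v) {i j : Fin 3}
    (hi : T d q U W i (sz v)) (hj : T d q U W j (sz w)) : i = j := by
  obtain ⟨l, y, hl, hy, hyc, hle, hiy⟩ := S.primary hvc hi
  by_cases hlr : l = r
  · exact S.same_prime hr (hlr ▸ hy) hw hyc hwc hiy hj
  · exact S.prod_same hl hr hlr hy hw hyc (hle h) hiy hj

/-- The index of the centre is the order of `PSL(2, q)`. -/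
theorem index_center : (Subgroup.center G).index = q * U * W := by
  refine Nat.dvd_antisymm ?_ S.N_dvd
  rw [← Nat.factorization_le_iff_dvd Subgroup.index_ne_zero_of_finite S.par.N_pos.ne']
  intro r
  by_cases hr : r.Prime
  swap
  · simp [Nat.factorization_eq_zero_of_not_prime _ hr]
  obtain ⟨i, hi⟩ : ∃ i, ∀ w : G, PEl r w → w ∉ Subgroup.center G → ¬ T d q U W i (sz w) := by
    by_cases h : ∃ w : G, PEl r w ∧ w ∉ Subgroup.center G
    · obtain ⟨w, hw, hwc⟩ := h
      obtain ⟨j, hj⟩ := S.mem w hwc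
      refine ⟨j + 1, fun v hv hvc hT => ?_⟩
      have := S.same_prime hr hv hw hvc hwc hT hj
      revert this
      fin_cases j <;> decide
    · exact ⟨0, fun w hw hwc => absurd ⟨w, hw, hwc⟩ h⟩
  obtain ⟨x, hx, hxs, hxT⟩ := S.ex' i
  have hno : ¬ Has r (cent x) := by
    rintro ⟨w, hwx, hw, hwc⟩
    obtain ⟨j, hj⟩ := S.mem w hwc
    exact hi w hw hwc ((S.commute_same hr hw hx hwc hwx hxT hj) ▸ hj)
  rw [has_iff hr (center_le_cent x)] at hno
  have h1 : (Nat.card G).factorization r =
      (Nat.card (cent x)).factorization r + (sz x).factorization r := (factorization_card r (cent x)).symm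
  have h2 := factorization_card r (Subgroup.center G)
  have h3 : (sz x).factorization r ≤ (q * U * W).factorization r :=
    (Nat.factorization_le_iff_dvd Subgroup.index_ne_zero_of_finite S.par.N_pos.ne').2
      (by rw [show (cent x).index = _ from hxs]; exact S.par.base_dvd_N i) r
  omega

theorem card_cent {x : G} {c : ℕ} (hc : sz x * c = q * U * W) :
    Nat.card (cent x) = Nat.card (Subgroup.center G) * c := by
  refine Nat.eq_of_mul_eq_mul_right (Nat.pos_of_ne_zero (Subgroup.index_ne_zero_of_finite (H := cent x))) ?_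
  rw [(cent x).card_mul_index, ← (Subgroup.center G).card_mul_index, S.index_center, ← hc]
  ring

end Sizes

end Cfsg.Agent.PSL2ClassSizes
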