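import Cfsg.Agent.Lib.Recog.PSL2ClassQuot
import Cfsg.Agent.Lib.Transfer.Hall
import Cfsg.Agent.Lib.LinearBlock.PSL2Sizes
import Cfsg.Agent.Lib.Classical.SL2Sylow

/-!
Finite groups with the class sizes of `PSL(2, q)`: the derived subgroup avoids the centre.
-/

set_option autoImplicit false
set_option linter.style.haveILetI false
set_option linter.unusedSectionVars false

open scoped commutatorElement

namespace Cfsg.Agent.PSL2ClassSizes

open Cfsg.Agent.ThreeSizes PSL2Inv SL2Inv LinearBlock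

/-- An element of order two of `G' ∩ Z(G)` cannot lie over the centraliser of an involution. -/
theorem no_central_two {G : Type*} [Group G] [Finite G] {F : Type*} [Field F] [Fintype F] (h2 : (2 : F) ≠ 0)
    (ψ : G →* Matrix.ProjectiveSpecialLinearGroup (Fin 2) F) (hψ : Function.Surjective ψ)
    (hker : ∀ g, ψ g = 1 ↔ g ∈ Subgroup.center G) {g₀ : G} (hg₀ : ψ g₀ = pr (w : Matrix.SpecialLinearGroup (Fin 2) F))
    (hH : cent g₀ = (Subgroup.centralizer {pr (w : Matrix.SpecialLinearGroup (Fin 2) F)}).comap ψ)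
    (hodd : Odd (cent g₀).index) {z : G} (hzc : z ∈ commutator G) (hzZ : z ∈ Subgroup.center G)
    (hz2 : orderOf z = 2) : False := by
  classical
  set A : Subgroup G := ((C : Subgroup (Matrix.SpecialLinearGroup (Fin 2) F)).map pr).comap ψ with hA
  have hAH : A ≤ cent g₀ := by
    intro a ha
    obtain ⟨c, hc, hca⟩ := ha
    rw [hH]
    show ψ a ∈ Subgroup.centralizer _
    rw [← hca, Subgroup.mem_centralizer_singleton_iff, ← map_mul, ← map_mul, mem_C.1 hc]
  have hAc : ∀ a b : G, a ∈ A → b ∈ A → a * b = b * a := by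
    intro a b ha hb
    haveI := isCyclic_C (F := F) h2
    haveI : IsCyclic ((C : Subgroup (Matrix.SpecialLinearGroup (Fin 2) F)).map pr) :=
      isCyclic_of_surjective (pr.subgroupMap C) (pr.subgroupMap_surjective C)
    let f : A →* ((C : Subgroup (Matrix.SpecialLinearGroup (Fin 2) F)).map pr) :=
      (ψ.comp A.subtype).codRestrict _ fun x => x.2
    haveI : IsCyclic f.range := inferInstance
    have := commutative_of_cyclic_center_quotient f (fun x hx => ?_) ⟨a, ha⟩ ⟨b, hb⟩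
    · exact congrArg Subtype.val this
    · refine Subgroup.mem_center_iff.2 fun y => Subtype.ext ?_
      exact Subgroup.mem_center_iff.1 ((hker _).1 (congrArg Subtype.val (MonoidHom.mem_ker.1 hx))) y
  obtain ⟨j₀, hj₀⟩ := exists_anti (F := F) h2
  obtain ⟨j, hj⟩ := hψ (pr j₀)
  have hjH : j ∈ cent g₀ := by
    rw [hH]
    show ψ j ∈ Subgroup.centralizer _
    rw [hj]
    exact (mem_D (g := j₀)).2 (Or.inr hj₀.2)
  have hjA : ∀ a ∈ A, j * a * j⁻¹ ∈ A := by
    rintro a ⟨c, hc, hca⟩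
    exact ⟨c⁻¹, inv_mem hc, by rw [← hj₀.conj_C hc, map_mul, map_mul, map_inv, map_mul, map_mul, map_inv, hj, hca]⟩
  have hφmem : ∀ a ∈ A, j * a * j⁻¹ * a⁻¹ ∈ A := fun a ha => A.mul_mem (hjA a ha) (A.inv_mem ha)
  let φ : A →* G :=
    { toFun := fun a => j * a * j⁻¹ * (a : G)⁻¹
      map_one' := by simp
      map_mul' := fun a b => by
        show j * ((a : G) * b) * j⁻¹ * ((a : G) * b)⁻¹ = j * a * j⁻¹ * (a : G)⁻¹ * (j * b * j⁻¹ * (b : G)⁻¹)
        calc j * ((a : G) * b) * j⁻¹ * ((a : G) * b)⁻¹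
            = (j * a * j⁻¹) * ((j * b * j⁻¹ * (b : G)⁻¹) * (a : G)⁻¹) := by group
          _ = (j * a * j⁻¹) * ((a : G)⁻¹ * (j * b * j⁻¹ * (b : G)⁻¹)) := by
            rw [hAc _ _ (hφmem b b.2) (A.inv_mem a.2)]
          _ = _ := by group }
  have hdich : ∀ h ∈ cent g₀, h ∈ A ∨ ∃ a ∈ A, h = j * a := by
    intro h hh
    rw [hH] at hh
    obtain ⟨s, hs⟩ := pr_surjective (ψ h)
    have hsD : s ∈ (D : Subgroup (Matrix.SpecialLinearGroup (Fin 2) F)) := by
      show pr s ∈ Subgroup.centralizer ({pr (w : Matrix.SpecialLinearGroup (Fin 2) F)} : Set _)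
      rw [hs]; exact hh
    rcases D_dichotomy hj₀ hsD with hc | hc
    · exact Or.inl ⟨s, hc, hs⟩
    · exact Or.inr ⟨j⁻¹ * h, ⟨_, hc, by rw [map_mul, map_mul, map_inv, map_inv, hj, hs]⟩, by group⟩
  have hI : ∀ x (hx : x ∈ A), j * x * j⁻¹ * x⁻¹ ∈ φ.range := fun x hx => ⟨⟨x, hx⟩, rfl⟩
  have hcomm : ∀ a ∈ cent g₀, ∀ b ∈ cent g₀, ⁅a, b⁆ ∈ φ.range := by
    have h1 : ∀ a ∈ A, ∀ b ∈ A, ⁅a, j * b⁆ ∈ φ.range := by
      intro a ha b hb
      have e : ⁅a, j * b⁆ = (j * a * j⁻¹ * a⁻¹)⁻¹ := by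
        calc ⁅a, j * b⁆ = a * j * (b * a⁻¹) * b⁻¹ * j⁻¹ := by rw [commutatorElement_def]; group
          _ = a * j * (a⁻¹ * b) * b⁻¹ * j⁻¹ := by rw [hAc _ _ hb (A.inv_mem ha)]
          _ = _ := by group
      rw [e]
      exact inv_mem (hI a ha)
    intro a ha b hb
    rcases hdich a ha with ha' | ⟨a', ha', rfl⟩ <;> rcases hdich b hb with hb' | ⟨b', hb', rfl⟩
    · rw [commutatorElement_eq_one_iff_mul_comm.2 (hAc _ _ ha' hb')]; exact one_mem _
    · exact h1 a ha' b' hb'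
    · rw [← commutatorElement_inv]; exact inv_mem (h1 b hb' a' ha')
    · set x := j * (b' * a'⁻¹) * j⁻¹ with hx
      have hxA : x ∈ A := hjA _ (A.mul_mem hb' (A.inv_mem ha'))
      have hp : j * (b' * a'⁻¹) * j⁻¹ * (b' * a'⁻¹)⁻¹ ∈ A :=
        hφmem _ (A.mul_mem hb' (A.inv_mem ha'))
      have e : ⁅j * a', j * b'⁆ = j * x * j⁻¹ * x⁻¹ := by
        calc ⁅j * a', j * b'⁆ = j * (a' * (j * (b' * a'⁻¹) * j⁻¹ * (b' * a'⁻¹)⁻¹) * (b' * a'⁻¹) * b'⁻¹) * j⁻¹ := by
              rw [commutatorElement_def]; group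
          _ = j * ((j * (b' * a'⁻¹) * j⁻¹ * (b' * a'⁻¹)⁻¹) * (a' * (b' * a'⁻¹)) * b'⁻¹) * j⁻¹ := by
            rw [hAc _ _ ha' hp]; group
          _ = j * ((j * (b' * a'⁻¹) * j⁻¹ * (b' * a'⁻¹)⁻¹) * ((b' * a'⁻¹) * a') * b'⁻¹) * j⁻¹ := by
            rw [hAc _ _ ha' (A.mul_mem hb' (A.inv_mem ha'))]
          _ = _ := by rw [hx]; group
      rw [e]
      exact hI x hxA
  -- transfer
  set H := cent g₀
  have hzH : z ∈ H := center_le_cent g₀ hzZ
  have hkey : ∀ (k : ℕ) (u : G), u⁻¹ * z ^ k * u ∈ H → u⁻¹ * z ^ k * u = z ^ k := fun k u _ => by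
    rw [mul_assoc, ← Subgroup.mem_center_iff.1 (Subgroup.pow_mem _ hzZ k) u, inv_mul_cancel_left]
  have h1 := MonoidHom.transfer_eq_pow (Abelianization.of (G := H)) z hkey
  rw [(Abelianization.commutator_subset_ker _ hzc : MonoidHom.transfer (Abelianization.of (G := H)) z = 1)] at h1
  have h3 : (⟨z, hzH⟩ : H) ∈ commutator H := by
    obtain ⟨m, hm⟩ := hodd
    have e : z ^ (cent g₀).index = z := by
      rw [hm, pow_succ, pow_mul, ← hz2, pow_orderOf_eq_one, one_pow, one_mul]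
    have := (QuotientGroup.eq_one_iff (N := commutator H) _).1 h1.symm
    convert this using 1
    exact Subtype.ext e.symm
  have h4 : commutator H ≤ φ.range.subgroupOf H := by
    rw [commutator_def, Subgroup.commutator_le]
    intro a _ b _
    rw [Subgroup.mem_subgroupOf]
    simpa [commutatorElement_def] using hcomm a a.2 b b.2
  obtain ⟨⟨a, ha⟩, hza⟩ := h4 h3
  have hza' : j * a * j⁻¹ * a⁻¹ = z := hza
  -- `a` is a square root of one modulo the centre
  obtain ⟨c, hc, hca⟩ := ha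
  have hz1 : ψ z = 1 := (hker z).2 hzZ
  have hprc : pr (c * c) = 1 := by
    have h5 : ψ z = pr (c⁻¹ * c⁻¹) := by
      rw [← hza', map_mul, map_mul, map_mul, map_inv, map_inv, hj, ← hca, ← map_inv, ← map_inv, ← map_mul,
        ← map_mul, ← map_mul, hj₀.conj_C hc]
    rw [hz1, ← mul_inv_rev, map_inv, eq_comm, inv_eq_one] at h5
    exact h5
  have hcases : pr c = 1 ∨ pr c = pr (w : Matrix.SpecialLinearGroup (Fin 2) F) := by
    rcases pr_eq_one_iff.1 hprc with e | e
    · exact Or.inl (pr_eq_one_iff.2 (eq_or_eq_negOne_of_mul_self h2 e))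
    · right
      have ht := (mul_self_eq_negOne_iff c).1 e
      obtain ⟨e1, e2⟩ := C_entries hc
      have hd := Matrix.det_fin_two c.1
      rw [c.2] at hd
      rw [Matrix.trace_fin_two, e1, ← two_mul] at ht
      have e0 : c.1 0 0 = 0 := (mul_eq_zero.1 ht).resolve_left h2
      have e3 : c.1 1 0 * c.1 1 0 = 1 := by rw [e2, e1, e0] at hd; linear_combination -hd
      rw [eq_comm, pr_eq_iff]
      rcases mul_self_eq_one_iff.1 e3 with e4 | e4
      · refine Or.inl (Subtype.ext ?_)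
        ext i k
        fin_cases i <;> fin_cases k <;> simp [w, e0, e1, e2, e4]
      · refine Or.inr (Subtype.ext ?_)
        rw [Matrix.SpecialLinearGroup.coe_mul, coe_negOne, neg_one_mul]
        ext i k
        fin_cases i <;> fin_cases k <;> simp [w, e0, e1, e2, e4]
  have hja : j * a = a * j := by
    have hcen : ∀ u : G, ψ u = 1 → j * u = u * j := fun u hu => Subgroup.mem_center_iff.1 ((hker u).1 hu) j
    rcases hcases with e | e
    · exact hcen a (hca ▸ e)
    · have h8 := hcen (a * g₀⁻¹) (by rw [map_mul, map_inv, ← hca, e, hg₀, mul_inv_cancel])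
      have h9 : g₀⁻¹ * j = j * g₀⁻¹ := by
        rw [inv_mul_eq_iff_eq_mul, ← mul_assoc, eq_mul_inv_iff_mul_eq]
        exact mem_cent.1 hjH
      calc j * a = j * (a * g₀⁻¹) * g₀ := by group
        _ = a * (g₀⁻¹ * j) * g₀ := by rw [h8]; group
        _ = a * j := by rw [h9]; group
  rw [hja, mul_inv_cancel_right, mul_inv_cancel] at hza'
  rw [← hza', orderOf_one] at hz2
  omega

end Cfsg.Agent.PSL2ClassSizes
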