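import Mathlib.GroupTheory.Perm.Cycle.Type
import Mathlib.Algebra.Field.ZMod
import Mathlib.Data.ZMod.Basic
import Mathlib.Data.Fintype.BigOperators

/-!
# Permutations of prime order: models, conjugacy, counting of fixed points
-/

set_option autoImplicit false

namespace Cfsg.Agent.PrimeOrderPerm

/-- The number of fixed points. -/
noncomputable def nfix {α : Type*} (σ : Equiv.Perm α) : ℕ := Nat.card {x : α // σ x = x}

theorem nfix_congr {α β : Type*} (e : α ≃ β) (σ : Equiv.Perm α) (τ : Equiv.Perm β)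
    (h : ∀ x, e (σ x) = τ (e x)) : nfix σ = nfix τ :=
  Nat.card_congr (e.subtypeEquiv fun x => by rw [← h, e.injective.eq_iff])

variable {r : ℕ} [hr : Fact r.Prime]

theorem permCongr_pow {α β : Type*} (e : α ≃ β) (σ : Equiv.Perm α) (m : ℕ) :
    (e.permCongr σ) ^ m = e.permCongr (σ ^ m) := by
  induction m with
  | zero => ext x; simp
  | succ m ih => rw [pow_succ, pow_succ, ih]; ext x; simp

theorem eq_add_mul {α : Type*} [Fintype α] [DecidableEq α] (σ : Equiv.Perm α) (hσ : σ ^ r = 1) :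
    ∃ c : ℕ, Fintype.card α = nfix σ + c * r ∧ σ.cycleType = Multiset.replicate c r := by
  have hall : ∀ k ∈ σ.cycleType, k = r := by
    intro k hk
    have h1 : k ∣ r :=
      (Multiset.dvd_lcm hk).trans (σ.lcm_cycleType ▸ orderOf_dvd_of_pow_eq_one hσ)
    rcases (Nat.dvd_prime hr.out).1 h1 with h | h
    · have := Equiv.Perm.one_lt_of_mem_cycleType hk
      omega
    · exact h
  refine ⟨σ.cycleType.card, ?_, Multiset.eq_replicate_card.2 hall⟩
  have hs : σ.cycleType.card * r = σ.support.card := by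
    rw [← σ.sum_cycleType]
    conv_rhs => rw [Multiset.eq_replicate_card.2 hall, Multiset.sum_replicate, smul_eq_mul]
  have hf : nfix σ = σ.supportᶜ.card := by
    rw [nfix, Nat.card_eq_fintype_card, Fintype.card_subtype]
    congr 1
    ext x
    simp
  rw [hs, hf, Finset.card_compl_add_card]

theorem modEq {α : Type*} [Finite α] (σ : Equiv.Perm α) (hσ : σ ^ r = 1) :
    Nat.card α ≡ nfix σ [MOD r] := by
  classical
  have := Fintype.ofFinite α
  obtain ⟨c, hc, -⟩ := eq_add_mul σ hσ
  rw [Nat.card_eq_fintype_card, hc]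
  show (nfix σ + c * r) % r = nfix σ % r
  rw [Nat.add_mul_mod_self_right]

theorem nfix_le {α : Type*} [Finite α] (σ : Equiv.Perm α) : nfix σ ≤ Nat.card α :=
  Nat.card_le_card_of_injective _ Subtype.val_injective

/-- Permutations of order dividing a prime with equally many fixed points are conjugate. -/
theorem exists_conj {α β : Type*} [Finite α] [Finite β] (σ : Equiv.Perm α) (τ : Equiv.Perm β)
    (hσ : σ ^ r = 1) (hτ : τ ^ r = 1) (hc : Nat.card α = Nat.card β) (hf : nfix σ = nfix τ) :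
    ∃ e : α ≃ β, ∀ x, e (σ x) = τ (e x) := by
  classical
  have := Fintype.ofFinite α
  have := Fintype.ofFinite β
  obtain ⟨e₀⟩ := (Finite.card_eq (α := α) (β := β)).1 hc
  set τ' : Equiv.Perm α := e₀.symm.permCongr τ with hτ'
  have hτ'p : τ' ^ r = 1 := by rw [hτ', permCongr_pow, hτ]; ext x; simp
  obtain ⟨c, hc1, hc2⟩ := eq_add_mul σ hσ
  obtain ⟨d, hd1, hd2⟩ := eq_add_mul τ' hτ'p
  have hfix : nfix τ' = nfix τ := nfix_congr e₀ τ' τ fun x => by simp [hτ']
  have hcd : c = d := Nat.eq_of_mul_eq_mul_right hr.out.pos (by omega)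
  obtain ⟨g, hg⟩ := isConj_iff.1 (Equiv.Perm.isConj_iff_cycleType_eq.2
    (hc2.trans (hcd ▸ hd2.symm)))
  refine ⟨(g : α ≃ α).trans e₀, fun x => ?_⟩
  have h := congrArg (fun e : Equiv.Perm α => e₀ (e (g x))) hg
  simpa [hτ'] using h

/-- Translation by one on `ZMod r`. -/
theorem addOne_pow (r m : ℕ) : (Equiv.addRight (1 : ZMod r)) ^ m = Equiv.addRight (m : ZMod r) := by
  induction m with
  | zero => ext x; simp
  | succ m ih => rw [pow_succ', ih]; ext x; simp [add_assoc]

/-- A model with `c` cycles of length `r` and `f` fixed points. -/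
theorem exists_model (c f : ℕ) (α : Type*) [Finite α] (hα : Nat.card α = f + c * r) :
    ∃ σ : Equiv.Perm α, σ ^ r = 1 ∧ nfix σ = f := by
  classical
  let ρ : Equiv.Perm (Fin f ⊕ Fin c × ZMod r) :=
    Equiv.sumCongr (Equiv.refl _) (Equiv.prodCongr (Equiv.refl _) (Equiv.addRight 1))
  have hpow : ∀ (m : ℕ) (x : Fin c × ZMod r), (ρ ^ m) (Sum.inr x) = Sum.inr (x.1, x.2 + m) := by
    intro m
    induction m with
    | zero => intro x; simp
    | succ m ih => intro x; rw [pow_succ', Equiv.Perm.mul_apply, ih]; simp [ρ, add_assoc]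
  have hpowl : ∀ (m : ℕ) (x : Fin f), (ρ ^ m) (Sum.inl x) = Sum.inl x := by
    intro m
    induction m with
    | zero => intro x; simp
    | succ m ih => intro x; rw [pow_succ', Equiv.Perm.mul_apply, ih]; simp [ρ]
  have hρ : ρ ^ r = 1 := by
    ext x
    rcases x with x | x
    · rw [hpowl]; rfl
    · rw [hpow, ZMod.natCast_self, add_zero]; rfl
  obtain ⟨e⟩ := (Finite.card_eq (α := Fin f ⊕ Fin c × ZMod r) (β := α)).1 (by
    rw [hα, Nat.card_sum, Nat.card_prod, Nat.card_fin, Nat.card_fin, Nat.card_zmod])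
  refine ⟨e.permCongr ρ, by rw [permCongr_pow, hρ]; ext x; simp, ?_⟩
  rw [← nfix_congr e ρ (e.permCongr ρ) fun x => by simp, nfix]
  conv_rhs => rw [← Nat.card_fin f]
  refine (Nat.card_congr (Equiv.ofBijective (fun x => ⟨Sum.inl x, rfl⟩) ⟨fun x y h => ?_, ?_⟩)).symm
  · exact Sum.inl_injective (congrArg Subtype.val h)
  · rintro ⟨x | x, hx⟩
    · exact ⟨x, rfl⟩
    · exfalso
      have h : x.2 + 1 = x.2 := congrArg Prod.snd (Sum.inr_injective hx)
      simp at h

/-- The fixed point count of a disjoint union. -/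
theorem nfix_sumCongr {α β : Type*} [Finite α] [Finite β] (σ : Equiv.Perm α) (τ : Equiv.Perm β) :
    nfix (Equiv.sumCongr σ τ) = nfix σ + nfix τ := by
  rw [nfix, nfix, nfix, ← Nat.card_sum]
  exact Nat.card_congr
    { toFun := fun x => match x with
        | ⟨Sum.inl a, h⟩ => Sum.inl ⟨a, Sum.inl_injective h⟩
        | ⟨Sum.inr b, h⟩ => Sum.inr ⟨b, Sum.inr_injective h⟩
      invFun := fun x => match x with
        | Sum.inl a => ⟨Sum.inl a.1, congrArg Sum.inl a.2⟩
        | Sum.inr b => ⟨Sum.inr b.1, congrArg Sum.inr b.2⟩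
      left_inv := fun x => match x with
        | ⟨Sum.inl a, h⟩ => rfl
        | ⟨Sum.inr b, h⟩ => rfl
      right_inv := fun x => match x with
        | Sum.inl a => rfl
        | Sum.inr b => rfl }

theorem sumCongr_pow {α β : Type*} (σ : Equiv.Perm α) (τ : Equiv.Perm β) (m : ℕ) :
    (Equiv.sumCongr σ τ : Equiv.Perm (α ⊕ β)) ^ m = Equiv.sumCongr (σ ^ m) (τ ^ m) := by
  induction m with
  | zero => ext x; cases x <;> rfl
  | succ m ih => rw [pow_succ, pow_succ, pow_succ, ih]; ext x; cases x <;> rfl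

/-- Integers below a bound with a prescribed sum. -/
theorem exists_split : ∀ (B q J : ℕ), J ≤ B * q → ∃ c : Fin B → ℕ, (∀ p, c p ≤ q) ∧ ∑ p, c p = J := by
  intro B
  induction B with
  | zero => intro q J h; exact ⟨fun p => p.elim0, fun p => p.elim0, by simp at h; simp [h]⟩
  | succ B ih =>
    intro q J h
    obtain ⟨c, hc, hsum⟩ := ih q (J - min q J) (by rw [Nat.succ_mul] at h; omega)
    refine ⟨Fin.cons (min q J) c, fun p => Fin.cases (by simp) (fun i => by simpa using hc i) p, ?_⟩
    rw [Fin.sum_univ_succ]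
    simp [hsum]

end Cfsg.Agent.PrimeOrderPerm
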