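import Cfsg.Agent.Lib.Recog.AltComponent
import Cfsg.Agent.Lib.Recog.JordanSetsQP

/-!
# Groups containing a Sylow 2-subgroup of the alternating group of degree eight on some orbit
-/

set_option autoImplicit false

namespace Cfsg.Agent.QuadSeed

open Equiv Equiv.Perm Cfsg.Agent.AltSub Cfsg.Agent.AltComponent

/-- The double transposition `(a b)(c d)`. -/
def dt {α : Type*} [DecidableEq α] (a b c d : α) : Perm α := swap a b * swap c d

/-- `(01)(23)` -/
def g1 : Perm (Fin 8) := dt 0 1 2 3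
/-- `(02)(13)` -/
def g2 : Perm (Fin 8) := dt 0 2 1 3
/-- `(45)(67)` -/
def g3 : Perm (Fin 8) := dt 4 5 6 7
/-- `(46)(57)` -/
def g4 : Perm (Fin 8) := dt 4 6 5 7
/-- `(04)(15)(26)(37)` -/
def g5 : Perm (Fin 8) := dt 0 4 1 5 * dt 2 6 3 7
/-- `(01)(45)` -/
def g6 : Perm (Fin 8) := dt 0 1 4 5

/-- A Sylow 2-subgroup of `A₈`. -/
def sylowEight : Subgroup (Perm (Fin 8)) := Subgroup.closure {g5, g6, g4, g3, g2, g1}

theorem isPGroup_insert {G : Type*} [Group G] {S : Set G} (hS : IsPGroup 2 (Subgroup.closure S))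
    {g : G} (hg : g * g = 1) (hn : ∀ s ∈ S, g * s * g⁻¹ ∈ Subgroup.closure S) :
    IsPGroup 2 (Subgroup.closure (insert g S)) := by
  rw [Set.insert_eq, Subgroup.closure_union]
  have hz : IsPGroup 2 (Subgroup.closure ({g} : Set G)) := by
    intro x
    obtain ⟨n, hn⟩ := Subgroup.mem_closure_singleton.1 x.2
    refine ⟨1, Subtype.ext ?_⟩
    rw [pow_one, pow_two, Subgroup.coe_mul, ← hn, ← (Commute.refl g).mul_zpow, hg, one_zpow]
    rfl
  refine hz.to_sup_of_normal_right' hS ?_
  rw [Subgroup.closure_le, Set.singleton_subset_iff, SetLike.mem_coe, Subgroup.mem_normalizer_iff]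
  have key : ∀ x ∈ Subgroup.closure S, g * x * g⁻¹ ∈ Subgroup.closure S := by
    intro x hx
    induction hx using Subgroup.closure_induction with
    | mem s hs => exact hn s hs
    | one => simp
    | mul x y _ _ hx hy =>
      convert mul_mem hx hy using 1
      group
    | inv x _ hx =>
      convert inv_mem hx using 1
      group
  refine fun x => ⟨key x, fun h => ?_⟩
  have hinv : g⁻¹ = g := inv_eq_of_mul_eq_one_right hg
  have := key _ h
  rw [show g * (g * x * g⁻¹) * g⁻¹ = (g * g) * x * (g * g)⁻¹ by group, hg] at this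
  simpa using this

theorem isPGroup_sylowEight : IsPGroup 2 sylowEight := by
  have h0 : IsPGroup 2 (Subgroup.closure (∅ : Set (Perm (Fin 8)))) := by
    rw [Subgroup.closure_empty]; exact IsPGroup.of_bot
  have h1 : IsPGroup 2 (Subgroup.closure ({g1} : Set (Perm (Fin 8)))) := by
    have := isPGroup_insert h0 (g := g1) (by decide +kernel) (fun s hs => hs.elim)
    rwa [insert_empty_eq] at this
  have h2 := isPGroup_insert h1 (g := g2) (by decide +kernel) (fun s hs => by
    rcases hs with rfl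
    rw [show g2 * g1 * g2⁻¹ = g1 by decide +kernel]
    exact Subgroup.subset_closure rfl)
  have h3 := isPGroup_insert h2 (g := g3) (by decide +kernel) (fun s hs => by
    rcases hs with rfl | rfl
    · rw [show g3 * g2 * g3⁻¹ = g2 by decide +kernel]; exact Subgroup.subset_closure (by simp)
    · rw [show g3 * g1 * g3⁻¹ = g1 by decide +kernel]; exact Subgroup.subset_closure (by simp))
  have h4 := isPGroup_insert h3 (g := g4) (by decide +kernel) (fun s hs => by
    rcases hs with rfl | rfl | rfl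
    · rw [show g4 * g3 * g4⁻¹ = g3 by decide +kernel]; exact Subgroup.subset_closure (by simp)
    · rw [show g4 * g2 * g4⁻¹ = g2 by decide +kernel]; exact Subgroup.subset_closure (by simp)
    · rw [show g4 * g1 * g4⁻¹ = g1 by decide +kernel]; exact Subgroup.subset_closure (by simp))
  have h6 := isPGroup_insert h4 (g := g6) (by decide +kernel) (fun s hs => by
    rcases hs with rfl | rfl | rfl | rfl
    · rw [show g6 * g4 * g6⁻¹ = g3 * g4 by decide +kernel]
      exact mul_mem (Subgroup.subset_closure (by simp)) (Subgroup.subset_closure (by simp))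
    · rw [show g6 * g3 * g6⁻¹ = g3 by decide +kernel]; exact Subgroup.subset_closure (by simp)
    · rw [show g6 * g2 * g6⁻¹ = g1 * g2 by decide +kernel]
      exact mul_mem (Subgroup.subset_closure (by simp)) (Subgroup.subset_closure (by simp))
    · rw [show g6 * g1 * g6⁻¹ = g1 by decide +kernel]; exact Subgroup.subset_closure (by simp))
  refine isPGroup_insert h6 (g := g5) (by decide +kernel) (fun s hs => ?_)
  rcases hs with rfl | rfl | rfl | rfl | rfl
  · rw [show g5 * g6 * g5⁻¹ = g6 by decide +kernel]; exact Subgroup.subset_closure (by simp)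
  · rw [show g5 * g4 * g5⁻¹ = g2 by decide +kernel]; exact Subgroup.subset_closure (by simp)
  · rw [show g5 * g3 * g5⁻¹ = g1 by decide +kernel]; exact Subgroup.subset_closure (by simp)
  · rw [show g5 * g2 * g5⁻¹ = g4 by decide +kernel]; exact Subgroup.subset_closure (by simp)
  · rw [show g5 * g1 * g5⁻¹ = g3 by decide +kernel]; exact Subgroup.subset_closure (by simp)

variable {α β : Type*}

theorem via_swap [DecidableEq α] [DecidableEq β] (e : α ↪ β) (a b : α) :
    viaEmbeddingHom e (swap a b) = swap (e a) (e b) := by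
  rw [viaEmbeddingHom_apply]
  apply Equiv.ext
  intro x
  by_cases hx : x ∈ Set.range e
  · obtain ⟨y, rfl⟩ := hx
    rw [viaEmbedding_apply, e.injective.swap_apply]
  · rw [viaEmbedding_apply_of_notMem _ _ _ hx,
      swap_apply_of_ne_of_ne (fun h => hx ⟨a, h.symm⟩) (fun h => hx ⟨b, h.symm⟩)]

theorem via_dt [DecidableEq α] [DecidableEq β] (e : α ↪ β) (a b c d : α) :
    viaEmbeddingHom e (dt a b c d) = dt (e a) (e b) (e c) (e d) := by
  rw [dt, dt, map_mul, via_swap, via_swap]

theorem via_apply (e : α ↪ β) (g : Perm α) (a : α) : viaEmbeddingHom e g (e a) = e (g a) := by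
  rw [viaEmbeddingHom_apply, viaEmbedding_apply]

theorem conj_via (e : α ↪ β) (h : Perm β) (g : Perm α) :
    h * viaEmbeddingHom e g * h⁻¹ = viaEmbeddingHom (e.trans h.toEmbedding) g := by
  apply Equiv.ext
  intro x
  rw [Perm.mul_apply, Perm.mul_apply, viaEmbeddingHom_apply, viaEmbeddingHom_apply]
  by_cases hx : x ∈ Set.range (e.trans h.toEmbedding)
  · obtain ⟨y, rfl⟩ := hx
    rw [viaEmbedding_apply]
    simp [viaEmbedding_apply]
  · rw [viaEmbedding_apply_of_notMem _ _ _ hx, viaEmbedding_apply_of_notMem]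
    · simp
    · rintro ⟨y, hy⟩
      exact hx ⟨y, by simp [hy]⟩

variable [Fintype α] [DecidableEq α] {H : Subgroup (Perm α)}

theorem conj_dt (g : Perm α) (a b c d : α) :
    g * dt a b c d * g⁻¹ = dt (g a) (g b) (g c) (g d) := by
  simp only [dt, Equiv.swap_apply_apply]
  group

theorem dt_mem_supp {R : Finset α} {a b c d : α} (ha : a ∈ R) (hb : b ∈ R) (hc : c ∈ R)
    (hd : d ∈ R) : dt a b c d ∈ supp R := mul_mem (swap_mem_supp ha hb) (swap_mem_supp hc hd)

theorem dt_apply_first {a b c d : α} (hac : a ≠ c) (had : a ≠ d) : dt a b c d a = b := by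
  rw [dt, Perm.mul_apply, swap_apply_of_ne_of_ne hac had, swap_apply_left]

/-- All double transpositions on the four points of `R` lie in `H`. -/
def Quad (H : Subgroup (Perm α)) (R : Finset α) : Prop :=
  R.card = 4 ∧ ∀ a ∈ R, ∀ b ∈ R, ∀ c ∈ R, ∀ d ∈ R, [a, b, c, d].Nodup → dt a b c d ∈ H

theorem Quad.image {R : Finset α} (hR : Quad H R) {h : Perm α} (hh : h ∈ H) :
    Quad H (R.image h) := by
  refine ⟨by rw [Finset.card_image_of_injective _ h.injective]; exact hR.1, ?_⟩
  simp only [Finset.mem_image]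
  rintro _ ⟨a, ha, rfl⟩ _ ⟨b, hb, rfl⟩ _ ⟨c, hc, rfl⟩ _ ⟨d, hd, rfl⟩ hn
  rw [← conj_dt]
  refine mul_mem (mul_mem hh (hR.2 a ha b hb c hc d hd ?_)) (inv_mem hh)
  exact List.Nodup.of_map h hn

theorem exists_three_of_card {R : Finset α} (h : R.card = 3) :
    ∃ a b c, a ∈ R ∧ b ∈ R ∧ c ∈ R ∧ a ≠ b ∧ a ≠ c ∧ b ≠ c := AltSub.exists_three h.ge

/-- Two quads meeting in one or three points give a three-cycle. -/
theorem overlap_even (hno : ∀ g ∈ H, ¬ g.IsThreeCycle) {R R' : Finset α} (hR : Quad H R)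
    (hR' : Quad H R') : (R ∩ R').card % 2 = 0 := by
  have hle : (R ∩ R').card ≤ 4 := hR.1 ▸ Finset.card_le_card Finset.inter_subset_left
  by_contra hodd
  rcases (show (R ∩ R').card = 1 ∨ (R ∩ R').card = 3 by omega) with h1 | h3
  · obtain ⟨o, ho⟩ := Finset.card_eq_one.1 h1
    obtain ⟨hoR, hoR'⟩ := Finset.mem_inter.1 (ho ▸ Finset.mem_singleton_self o : o ∈ R ∩ R')
    obtain ⟨a, b, c, ha, hb, hc, hab, hac, hbc⟩ := exists_three_of_card (R := R.erase o)
      (by rw [Finset.card_erase_of_mem hoR, hR.1])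
    obtain ⟨x, y, z, hx, hy, hz, hxy, hxz, hyz⟩ := exists_three_of_card (R := R'.erase o)
      (by rw [Finset.card_erase_of_mem hoR', hR'.1])
    rw [Finset.mem_erase] at ha hb hc hx hy hz
    have hne : ∀ u ∈ R, u ≠ o → u ∉ R' := fun u hu huo hu' =>
      huo (Finset.mem_singleton.1 (ho ▸ Finset.mem_inter.2 ⟨hu, hu'⟩))
    have hax : a ≠ x := fun e => hne a ha.2 ha.1 (e ▸ hx.2)
    have hm := hR.2 o hoR a ha.2 b hb.2 c hc.2 (by simp [ha.1.symm, hb.1.symm, hc.1.symm, hab, hac, hbc])
    have hm' := hR'.2 o hoR' x hx.2 y hy.2 z hz.2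
      (by simp [hx.1.symm, hy.1.symm, hz.1.symm, hxy, hxz, hyz])
    have hp := mul_mem (mul_mem hm hm') (mul_mem hm hm')
    -- the product squared equals `((o a)(o x))²`
    have huw : ∀ u ∈ ({o, a, x} : Finset α), u ∉ ({b, c, y, z} : Finset α) := by
      intro u hu hu'
      simp only [Finset.mem_insert, Finset.mem_singleton] at hu hu'
      rcases hu with rfl | rfl | rfl <;> rcases hu' with rfl | rfl | rfl | rfl
      · exact hb.1 rfl
      · exact hc.1 rfl
      · exact hy.1 rfl
      · exact hz.1 rfl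
      · exact hab rfl
      · exact hac rfl
      · exact hne _ ha.2 ha.1 hy.2
      · exact hne _ ha.2 ha.1 hz.2
      · exact hne _ hb.2 hb.1 hx.2
      · exact hne _ hc.2 hc.1 hx.2
      · exact hxy rfl
      · exact hxz rfl
    have hvs : swap b c * swap o x = swap o x * swap b c :=
      (supp_commute huw (swap_mem_supp (by simp) (by simp)) (swap_mem_supp (by simp) (by simp))).symm
    have hvt : swap b c * swap y z = swap y z * swap b c :=
      supp_commute (Δ := {b, c}) (Δ' := {y, z}) (by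
        intro u hu hu'
        simp only [Finset.mem_insert, Finset.mem_singleton] at hu hu'
        rcases hu with rfl | rfl <;> rcases hu' with rfl | rfl
        · exact hne _ hb.2 hb.1 hy.2
        · exact hne _ hb.2 hb.1 hz.2
        · exact hne _ hc.2 hc.1 hy.2
        · exact hne _ hc.2 hc.1 hz.2) (swap_mem_supp (by simp) (by simp))
        (swap_mem_supp (by simp) (by simp))
    have hQQ : swap b c * swap y z * (swap b c * swap y z) = 1 := by
      nth_rewrite 2 [hvt]
      rw [mul_assoc, ← mul_assoc (swap y z), swap_mul_self, one_mul, swap_mul_self]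
    set P := swap o a * swap o x with hP
    set Q := swap b c * swap y z with hQ
    have hPQ : P * Q = Q * P := supp_commute huw
      (mul_mem (swap_mem_supp (by simp) (by simp)) (swap_mem_supp (by simp) (by simp)))
      (mul_mem (swap_mem_supp (by simp) (by simp)) (swap_mem_supp (by simp) (by simp)))
    have hprod : dt o a b c * dt o x y z = P * Q := by
      rw [dt, dt, hP, hQ, mul_assoc, ← mul_assoc (swap b c), hvs, mul_assoc (swap o x), ← mul_assoc]
    rw [hprod, mul_assoc, ← mul_assoc Q, ← hPQ, mul_assoc P, hQQ, mul_one] at hp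
    exact hno _ hp (isThreeCycle_swap_mul_swap_same ha.1.symm hx.1.symm hax).isThreeCycle_sq
  · obtain ⟨a, b, c, ha, hb, hc, hab, hac, hbc⟩ := exists_three_of_card h3
    obtain ⟨d, hd, hd'⟩ : ∃ d ∈ R, d ∉ R ∩ R' := Finset.exists_mem_notMem_of_card_lt_card (by rw [hR.1]; omega)
    obtain ⟨e, he, he'⟩ : ∃ d ∈ R', d ∉ R ∩ R' :=
      Finset.exists_mem_notMem_of_card_lt_card (by rw [hR'.1]; omega)
    rw [Finset.mem_inter] at ha hb hc
    have hd2 : d ∉ R' := fun h => hd' (Finset.mem_inter.2 ⟨hd, h⟩)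
    have he2 : e ∉ R := fun h => he' (Finset.mem_inter.2 ⟨h, he⟩)
    have had : a ≠ d := fun h => hd2 (h ▸ ha.2)
    have hbd : b ≠ d := fun h => hd2 (h ▸ hb.2)
    have hcd : c ≠ d := fun h => hd2 (h ▸ hc.2)
    have hae : a ≠ e := fun h => he2 (h ▸ ha.1)
    have hbe : b ≠ e := fun h => he2 (h ▸ hb.1)
    have hce : c ≠ e := fun h => he2 (h ▸ hc.1)
    have hp := mul_mem (hR.2 a ha.1 b hb.1 c hc.1 d hd (by simp [hab, hac, had, hbc, hbd, hcd]))
      (hR'.2 a ha.2 b hb.2 c hc.2 e he (by simp [hab, hac, hae, hbc, hbe, hce]))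
    have hcm : swap a b * swap c d = swap c d * swap a b :=
      supp_commute (Δ := {a, b}) (Δ' := {c, d}) (by simp [hac, had, hbc, hbd])
        (swap_mem_supp (by simp) (by simp)) (swap_mem_supp (by simp) (by simp))
    rw [dt, dt, hcm, mul_assoc, ← mul_assoc (swap a b), swap_mul_self, one_mul] at hp
    exact hno _ hp (isThreeCycle_swap_mul_swap_same hcd hce (fun h => he2 (h ▸ hd)))

theorem dt_mem_closure_left : ∀ a b c d : Fin 4, [a, b, c, d].Nodup →
    dt (Fin.castLE (by omega) a : Fin 8) (Fin.castLE (by omega) b) (Fin.castLE (by omega) c)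
      (Fin.castLE (by omega) d) ∈ sylowEight := by
  have key : ∀ a b c d : Fin 4, [a, b, c, d].Nodup →
      dt (Fin.castLE (by omega) a : Fin 8) (Fin.castLE (by omega) b) (Fin.castLE (by omega) c)
        (Fin.castLE (by omega) d) ∈ [g1, g2, g1 * g2] := by decide +kernel
  intro a b c d h
  have hm : ∀ g ∈ [g1, g2, g1 * g2], g ∈ sylowEight := by
    simp only [List.forall_mem_cons, List.not_mem_nil, IsEmpty.forall_iff, implies_true, and_true]
    exact ⟨Subgroup.subset_closure (by simp), Subgroup.subset_closure (by simp),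
      mul_mem (Subgroup.subset_closure (by simp)) (Subgroup.subset_closure (by simp))⟩
  exact hm _ (key a b c d h)

/-- A group with an element of `S₈` support pattern of a Sylow 2-subgroup of `A₈` and quasisimple
generalised Fitting subgroup contains a three-cycle. -/
theorem exists_threeCycle (hF : Cfsg.IsQuasisimple ↥(Cfsg.generalizedFittingSubgroup ↥H))
    (e : Fin 8 ↪ α) (hD : ∀ g ∈ sylowEight, viaEmbeddingHom e g ∈ H) :
    ∃ g ∈ H, g.IsThreeCycle := by
  classical
  by_contra hno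
  push Not at hno
  have hgen : ∀ g ∈ ({g5, g6, g4, g3, g2, g1} : Set (Perm (Fin 8))), g ∈ sylowEight :=
    fun g hg => Subgroup.subset_closure hg
  set A : Finset (Fin 8) := {0, 1, 2, 3} with hA
  set R1 : Finset α := A.image e with hR1def
  have hR1 : Quad H R1 := by
    refine ⟨by rw [Finset.card_image_of_injective _ e.injective]; rfl, ?_⟩
    have hA' : ∀ x ∈ R1, ∃ i : Fin 4, e (Fin.castLE (by omega) i) = x := by
      intro x hx
      obtain ⟨y, hy, rfl⟩ := Finset.mem_image.1 hx
      have : ∀ y ∈ A, ∃ i : Fin 4, (Fin.castLE (by omega) i : Fin 8) = y := by decide +kernel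
      obtain ⟨i, hi⟩ := this y hy
      exact ⟨i, by rw [hi]⟩
    intro a ha b hb c hc d hd hn
    obtain ⟨i, rfl⟩ := hA' a ha
    obtain ⟨j, rfl⟩ := hA' b hb
    obtain ⟨k, rfl⟩ := hA' c hc
    obtain ⟨l, rfl⟩ := hA' d hd
    rw [← via_dt]
    exact hD _ (dt_mem_closure_left i j k l (List.Nodup.of_map (fun i => e (Fin.castLE (by omega) i)) hn))
  -- the orbit
  set Γ : Finset α := Finset.univ.filter fun x => ∃ h ∈ H, h (e 0) = x with hΓdef
  have hΓmem : ∀ {x}, x ∈ Γ ↔ ∃ h ∈ H, h (e 0) = x := by simp [hΓdef]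
  have hΓst : ∀ h ∈ H, ∀ x ∈ Γ, h x ∈ Γ := by
    intro h hh x hx
    obtain ⟨g, hg, rfl⟩ := hΓmem.1 hx
    exact hΓmem.2 ⟨h * g, mul_mem hh hg, rfl⟩
  have heΓ : ∀ i, e i ∈ Γ := by
    have hcov : ∀ i : Fin 8, ∃ g ∈ [1, g1, g2, g1 * g2, g5, g5 * g1, g5 * g2, g5 * (g1 * g2)], g 0 = i := by
      decide +kernel
    have hm : ∀ g ∈ [1, g1, g2, g1 * g2, g5, g5 * g1, g5 * g2, g5 * (g1 * g2)], g ∈ sylowEight := by
      have m1 := hgen g1 (by simp)
      have m2 := hgen g2 (by simp)
      have m5 := hgen g5 (by simp)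
      simp only [List.forall_mem_cons, List.not_mem_nil, IsEmpty.forall_iff, implies_true, and_true]
      exact ⟨one_mem _, m1, m2, mul_mem m1 m2, m5, mul_mem m5 m1, mul_mem m5 m2,
        mul_mem m5 (mul_mem m1 m2)⟩
    intro i
    obtain ⟨g, hg, rfl⟩ := hcov i
    exact hΓmem.2 ⟨_, hD g (hm g hg), via_apply e g 0⟩
  have hR1Γ : R1 ⊆ Γ := Finset.image_subset_iff.2 fun i _ => heΓ i
  have h0R1 : e 0 ∈ R1 := Finset.mem_image_of_mem _ (by decide)
  have hv0 : ∀ {R : Finset α}, Quad H R → ∀ x ∈ R, ∀ y ∈ R, x ≠ y →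
      ∃ v ∈ H, v ∈ supp R ∧ v x = y := by
    intro R hR x hx y hy hxy
    obtain ⟨c, hc, d, hd, hcd⟩ := (Finset.one_lt_card (s := (R.erase x).erase y)).1 (by
      rw [Finset.card_erase_of_mem (Finset.mem_erase.2 ⟨hxy.symm, hy⟩), Finset.card_erase_of_mem hx,
        hR.1]
      omega)
    simp only [Finset.mem_erase] at hc hd
    exact ⟨dt x y c d, hR.2 x hx y hy c hc.2.2 d hd.2.2
      (by simp [hxy, hc.1.symm, hc.2.1.symm, hd.1.symm, hd.2.1.symm, hcd]),
      dt_mem_supp hx hy hc.2.2 hd.2.2, dt_apply_first hc.2.1.symm hd.2.1.symm⟩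
  obtain ⟨v, hvH, hvS, hv01⟩ := hv0 hR1 _ h0R1 (e 1) (Finset.mem_image_of_mem _ (by decide))
    (e.injective.ne (by decide))
  have hv1 : v ≠ 1 := fun h => e.injective.ne (show (0 : Fin 8) ≠ 1 by decide) (by rw [← hv01, h]; rfl)
  have hK1 : fstar H ≠ ⊥ := by
    haveI := Components.quasisimple_nontrivial (quasisimple_fstar hF)
    exact (Subgroup.nontrivial_iff_ne_bot _).1 inferInstance
  by_cases hblk : ∃ B : Finset α, e 0 ∈ B ∧ B ⊆ Γ ∧ 1 < B.card ∧ B ≠ Γ ∧
      ∀ h ∈ H, (∃ x ∈ B, h x ∈ B) → ∀ x ∈ B, h x ∈ B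
  · -- imprimitive
    obtain ⟨B, hB0, hBΓ, hB1, hBne, hBblk⟩ := hblk
    have htr : ∀ h₁ ∈ H, ∀ h₂ ∈ H, ∀ x ∈ B.image h₁, x ∈ B.image h₂ → B.image h₁ = B.image h₂ := by
      intro h₁ hh₁ h₂ hh₂ x hx₁ hx₂
      obtain ⟨y₁, hy₁, rfl⟩ := Finset.mem_image.1 hx₁
      obtain ⟨y₂, hy₂, he₂⟩ := Finset.mem_image.1 hx₂
      have hin : (h₂⁻¹ * h₁) y₁ = y₂ := by rw [Perm.mul_apply, ← he₂]; simp
      have hall := hBblk (h₂⁻¹ * h₁) (mul_mem (inv_mem hh₂) hh₁) ⟨y₁, hy₁, hin ▸ hy₂⟩
      refine Finset.eq_of_subset_of_card_le (Finset.image_subset_iff.2 fun y hy => ?_)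
        (by rw [Finset.card_image_of_injective _ h₁.injective,
          Finset.card_image_of_injective _ h₂.injective])
      exact Finset.mem_image.2 ⟨_, hall y hy, by rw [Perm.mul_apply]; simp⟩
    -- the kernel of the action on the block system
    let M : Subgroup (Perm α) := H ⊓ ⨅ h : H, setStab (B.image (h : Perm α))
    have hMmem : ∀ {m}, m ∈ M ↔ m ∈ H ∧ ∀ h ∈ H, ∀ x, m x ∈ B.image h ↔ x ∈ B.image h := by
      intro m
      simp only [M, Subgroup.mem_inf, Subgroup.mem_iInf, Subtype.forall, mem_setStab]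
    have hMconj : ∀ g ∈ H, ∀ m ∈ M, g * m * g⁻¹ ∈ M := by
      intro g hg m hm
      rw [hMmem] at hm ⊢
      refine ⟨mul_mem (mul_mem hg hm.1) (inv_mem hg), fun h hh x => ?_⟩
      have key : ∀ y, y ∈ B.image h ↔ g⁻¹ y ∈ B.image (g⁻¹ * h : Perm α) := by
        intro y
        simp only [Finset.mem_image, Perm.mul_apply]
        exact ⟨fun ⟨z, hz, hzy⟩ => ⟨z, hz, by rw [hzy]⟩,
          fun ⟨z, hz, hzy⟩ => ⟨z, hz, g⁻¹.injective hzy⟩⟩
      rw [key, key x, ← hm.2 (g⁻¹ * h) (mul_mem (inv_mem hg) hh) (g⁻¹ x)]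
      simp [Perm.mul_apply]
    have hBimg : B = B.image (1 : Perm α) := by simp
    by_cases hsub : R1 ⊆ B
    · have hvM : v ∈ M := hMmem.2 ⟨hvH, fun h hh => by
        by_cases hd : ∃ x ∈ B, x ∈ B.image h
        · obtain ⟨x, hx, hx'⟩ := hd
          rw [htr h hh 1 (one_mem _) x hx' (hBimg ▸ hx), ← hBimg]
          exact supp_le_setStab B (supp_mono hsub hvS)
        · push Not at hd
          intro x
          by_cases hx : x ∈ B.image h
          · rw [(supp_mono hsub hvS) x (fun hx' => hd x hx' hx)]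
          · constructor
            · intro hvx
              have : v (v x) = v x := (supp_mono hsub hvS) _ (fun hx' => hd _ hx' hvx)
              exact absurd (v.injective this ▸ hvx) hx
            · exact fun h => absurd h hx⟩
      rcases le_or_central hF (inf_le_left : M ≤ H) (fun k hk m hm => hMconj k (fstar_le hk) m hm) with
        hKM | ⟨hle, hc⟩
      · have hKB : ∀ k ∈ fstar H, ∀ n ∈ H ⊓ supp B, k * n * k⁻¹ ∈ H ⊓ supp B := by
          intro k hk n hn
          rw [Subgroup.mem_inf] at hn ⊢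
          refine ⟨mul_mem (mul_mem (fstar_le hk) hn.1) (inv_mem (fstar_le hk)), ?_⟩
          have hkB : B.image k = B := by
            refine Finset.eq_of_subset_of_card_le (Finset.image_subset_iff.2 fun x hx => ?_)
              (Finset.card_image_of_injective _ k.injective).ge
            rw [hBimg]
            exact ((hMmem.1 (hKM hk)).2 1 (one_mem _) x).2 (hBimg ▸ hx)
          exact hkB ▸ conj_mem_supp k hn.2
        rcases le_or_central hF inf_le_left hKB with hKN | ⟨hle, hc⟩
        · obtain ⟨y, hyΓ, hyB⟩ : ∃ y ∈ Γ, y ∉ B := by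
            by_contra hcon
            push Not at hcon
            exact hBne (Finset.Subset.antisymm hBΓ hcon)
          obtain ⟨h, hh, hy⟩ := hΓmem.1 hyΓ
          refine hK1 ((Subgroup.eq_bot_iff_forall _).2 fun k hk => ?_)
          apply Equiv.ext
          intro x
          by_cases hx : x ∈ B
          · have hk' := (hKN (conj_mem_fstar (inv_mem hh) hk)).2 (h⁻¹ x) (fun hin => hyB ?_)
            · simpa using hk'
            · have := hBblk h hh ⟨_, hin, by simpa using hx⟩ (e 0) hB0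
              rwa [hy] at this
          · exact (hKN hk).2 x hx
        · exact hv1 (eq_one_of_central hF (hle ⟨hvH, supp_mono hsub hvS⟩)
            (hc v ⟨hvH, supp_mono hsub hvS⟩) hvS hR1.1.le)
      · exact hv1 (eq_one_of_central hF (hle hvM) (hc v hvM) hvS hR1.1.le)
    · obtain ⟨r, hrR, hrB⟩ := Finset.not_subset.1 hsub
      have hBR : B ⊆ R1 := by
        intro x hx
        by_contra hxR
        obtain ⟨w, hw, hwS, hwr⟩ := hv0 hR1 _ h0R1 r hrR (fun h => hrB (h ▸ hB0))
        have := hBblk w hw ⟨x, hx, (hwS x hxR).symm ▸ hx⟩ (e 0) hB0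
        rw [hwr] at this
        exact hrB this
      have hB2 : B.card = 2 := by
        by_contra hne
        have h3 : 3 ≤ B.card := by omega
        obtain ⟨a, ha, b, hb, hab⟩ := (Finset.one_lt_card (s := B.erase (e 0))).1
          (by rw [Finset.card_erase_of_mem hB0]; omega)
        rw [Finset.mem_erase] at ha hb
        have hnr : ∀ u ∈ B, u ≠ r := fun u hu h => hrB (h ▸ hu)
        have hm := hR1.2 _ h0R1 a (hBR ha.2) b (hBR hb.2) r hrR
          (by simp [ha.1.symm, hb.1.symm, hnr _ hB0, hab, hnr a ha.2, hnr b hb.2])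
        have h1 : dt (e 0) a b r (e 0) = a := dt_apply_first hb.1.symm (hnr _ hB0)
        have := hBblk _ hm ⟨e 0, hB0, by rw [h1]; exact ha.2⟩ b hb.2
        rw [dt, Perm.mul_apply, swap_apply_left,
          swap_apply_of_ne_of_ne (hnr _ hB0).symm (hnr a ha.2).symm] at this
        exact hrB this
      obtain ⟨a, ha⟩ : ∃ a, B.erase (e 0) = {a} :=
        Finset.card_eq_one.1 (by rw [Finset.card_erase_of_mem hB0, hB2])
      have haB : a ∈ B ∧ a ≠ e 0 := by
        have : a ∈ B.erase (e 0) := ha ▸ Finset.mem_singleton_self a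
        exact ⟨Finset.mem_of_mem_erase this, Finset.ne_of_mem_erase this⟩
      have hBeq : ∀ u ∈ B, u = e 0 ∨ u = a := fun u hu => by
        by_cases hu0 : u = e 0
        · exact Or.inl hu0
        · exact Or.inr (Finset.mem_singleton.1 (ha ▸ Finset.mem_erase.2 ⟨hu0, hu⟩))
      have hcard2 : (R1 \ B).card = 2 := by
        rw [Finset.card_sdiff_of_subset hBR, hR1.1, hB2]
      obtain ⟨c, d, hcd, hcd'⟩ := Finset.card_eq_two.1 hcard2
      have hcm : c ∈ R1 ∧ c ∉ B := Finset.mem_sdiff.1 (hcd' ▸ Finset.mem_insert_self c _)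
      have hdm : d ∈ R1 ∧ d ∉ B :=
        Finset.mem_sdiff.1 (hcd' ▸ Finset.mem_insert_of_mem (Finset.mem_singleton_self d))
      have hc0 : e 0 ≠ c := fun h => hcm.2 (h ▸ hB0)
      have hd0 : e 0 ≠ d := fun h => hdm.2 (h ▸ hB0)
      have hca : a ≠ c := fun h => hcm.2 (h ▸ haB.1)
      have hda : a ≠ d := fun h => hdm.2 (h ▸ haB.1)
      set ε := dt (e 0) a c d with hε
      have hεH : ε ∈ H := hR1.2 _ h0R1 a (hBR haB.1) c hcm.1 d hdm.1
        (by simp [haB.2.symm, hc0, hd0, hca, hda, hcd])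
      set π := dt (e 0) c a d with hπ
      have hπH : π ∈ H := hR1.2 _ h0R1 c hcm.1 a (hBR haB.1) d hdm.1
        (by simp [haB.2.symm, hc0, hd0, hca.symm, hda, hcd])
      have hπ0 : π (e 0) = c := dt_apply_first haB.2.symm hd0
      have hπa : π a = d := by
        rw [hπ, dt, Perm.mul_apply, swap_apply_left, swap_apply_of_ne_of_ne hd0.symm hcd.symm]
      have hεS : ε ∈ supp R1 := dt_mem_supp h0R1 (hBR haB.1) hcm.1 hdm.1
      have hεB : ε ∈ setStab B := mem_setStab_of_maps fun u hu => by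
        rcases hBeq u hu with rfl | rfl
        · rw [hε, dt_apply_first hc0 hd0]; exact haB.1
        · rw [hε, dt, Perm.mul_apply, swap_apply_of_ne_of_ne hca hda, swap_apply_right]; exact hB0
      have hεM : ε ∈ M := hMmem.2 ⟨hεH, fun h hh => by
        by_cases hd' : ∃ x ∈ R1, x ∈ B.image h
        · obtain ⟨x, hx, hx'⟩ := hd'
          by_cases hxB : x ∈ B
          · rw [htr h hh 1 (one_mem _) x hx' (hBimg ▸ hxB), ← hBimg]
            exact hεB
          · have hxcd : x = c ∨ x = d := by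
              have : x ∈ R1 \ B := Finset.mem_sdiff.2 ⟨hx, hxB⟩
              simpa [hcd'] using this
            have hxπ : x ∈ B.image π := by
              rcases hxcd with rfl | rfl
              · exact Finset.mem_image.2 ⟨_, hB0, hπ0⟩
              · exact Finset.mem_image.2 ⟨_, haB.1, hπa⟩
            rw [htr h hh π hπH x hx' hxπ]
            refine mem_setStab.1 (mem_setStab_of_maps fun u hu => ?_)
            obtain ⟨w, hw, rfl⟩ := Finset.mem_image.1 hu
            rcases hBeq w hw with rfl | rfl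
            · rw [hπ0, hε, dt, Perm.mul_apply, swap_apply_left,
                swap_apply_of_ne_of_ne hd0.symm hda.symm]
              exact Finset.mem_image.2 ⟨_, haB.1, hπa⟩
            · rw [hπa, hε, dt, Perm.mul_apply, swap_apply_right, swap_apply_of_ne_of_ne hc0.symm hca.symm]
              exact Finset.mem_image.2 ⟨_, hB0, hπ0⟩
        · push Not at hd'
          intro x
          by_cases hx : x ∈ R1
          · have h1 : ε x ∈ R1 := apply_mem_of_mem_supp hεS hx
            exact ⟨fun h' => absurd h' (hd' _ h1), fun h' => absurd h' (hd' _ hx)⟩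
          · rw [hεS x hx]⟩
      have hεΓ : ε ∈ supp Γ := supp_mono hR1Γ hεS
      -- elements of `M` supported in `Γ` commute
      have hcommM : ∀ m₁ ∈ M, m₁ ∈ supp Γ → ∀ m₂ ∈ M, m₂ ∈ supp Γ → m₁ * m₂ = m₂ * m₁ := by
        intro m₁ hm₁ hs₁ m₂ hm₂ hs₂
        apply Equiv.ext
        intro x
        simp only [Perm.mul_apply]
        by_cases hx : x ∈ Γ
        · obtain ⟨h, hh, rfl⟩ := hΓmem.1 hx
          have hxB : h (e 0) ∈ B.image h := Finset.mem_image_of_mem _ hB0
          have two : ∀ u ∈ B.image h, u = h (e 0) ∨ u = h a := by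
            intro u hu
            obtain ⟨w, hw, rfl⟩ := Finset.mem_image.1 hu
            rcases hBeq w hw with rfl | rfl
            · exact Or.inl rfl
            · exact Or.inr rfl
          have hxa : h a ∈ B.image h := Finset.mem_image_of_mem _ haB.1
          have hne : h (e 0) ≠ h a := h.injective.ne haB.2.symm
          have perm : ∀ m ∈ M, (m (h (e 0)) = h (e 0) ∧ m (h a) = h a) ∨
              (m (h (e 0)) = h a ∧ m (h a) = h (e 0)) := by
            intro m hm
            rcases two _ (((hMmem.1 hm).2 h hh _).2 hxB) with e1 | e1 <;>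
              rcases two _ (((hMmem.1 hm).2 h hh _).2 hxa) with e2 | e2
            · exact absurd (m.injective (e1.trans e2.symm)) hne
            · exact Or.inl ⟨e1, e2⟩
            · exact Or.inr ⟨e1, e2⟩
            · exact absurd (m.injective (e1.trans e2.symm)) hne
          rcases perm m₁ hm₁ with ⟨p1, q1⟩ | ⟨p1, q1⟩ <;>
            rcases perm m₂ hm₂ with ⟨p2, q2⟩ | ⟨p2, q2⟩ <;> simp [p1, q1, p2, q2]
        · rw [hs₂ x hx, hs₁ x hx, hs₂ x hx]
      have hε1 : ε ≠ 1 := fun h => by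
        have := dt_apply_first (b := a) hc0 hd0
        rw [← hε, h] at this
        exact haB.2.symm this
      refine hε1 (eq_one_of_commuting hF hεH hεS hR1.1.le fun g hg h hh => ?_)
      have hΓimg : ∀ g ∈ H, Γ.image g ⊆ Γ := fun g hg => Finset.image_subset_iff.2 (hΓst g hg)
      exact hcommM _ (hMconj g hg ε hεM) (supp_mono (hΓimg g hg) (conj_mem_supp g hεΓ)) _
        (hMconj h hh ε hεM) (supp_mono (hΓimg h hh) (conj_mem_supp h hεΓ))
  -- primitive
  push Not at hblk
  have horb : ∀ N : Subgroup (Perm α), N ≤ H → (∀ g ∈ H, ∀ n ∈ N, g * n * g⁻¹ ∈ N) →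
      (∀ n ∈ N, ∀ x ∈ Γ, n x = x) ∨ (∀ x ∈ Γ, ∃ n ∈ N, n (e 0) = x) := by
    intro N hN hn
    let B : Finset α := Γ.filter fun x => ∃ n ∈ N, n (e 0) = x
    have hB0 : e 0 ∈ B := Finset.mem_filter.2 ⟨heΓ 0, 1, one_mem _, rfl⟩
    by_cases hcard : 1 < B.card
    · right
      intro x hx
      by_contra hcon
      obtain ⟨h, hh, ⟨u, hu, hhu⟩, w, hw, hhw⟩ := hblk B hB0 (Finset.filter_subset _ _) hcard
        (fun he => hcon (Finset.mem_filter.1 (he.symm ▸ hx : x ∈ B)).2)
      apply hhw
      obtain ⟨-, n₁, hn₁, rfl⟩ := Finset.mem_filter.1 hu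
      obtain ⟨-, n₂, hn₂, he₂⟩ := Finset.mem_filter.1 hhu
      obtain ⟨-, n₃, hn₃, rfl⟩ := Finset.mem_filter.1 hw
      refine Finset.mem_filter.2 ⟨hΓst h hh _ (hΓst n₃ (hN hn₃) _ (heΓ 0)),
        h * (n₃ * n₁⁻¹) * h⁻¹ * n₂, mul_mem (hn h hh _ (mul_mem hn₃ (inv_mem hn₁))) hn₂, ?_⟩
      simp only [Perm.mul_apply, he₂]
      simp
    · left
      intro n hn' x hx
      obtain ⟨h, hh, rfl⟩ := hΓmem.1 hx
      have hfix : ∀ m ∈ N, m (e 0) = e 0 := fun m hm =>
        Finset.card_le_one.1 (not_lt.1 hcard) _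
          (Finset.mem_filter.2 ⟨hΓst m (hN hm) _ (heΓ 0), m, hm, rfl⟩) _ hB0
      have := hfix _ (hn h⁻¹ (inv_mem hh) n hn')
      simp only [Perm.mul_apply, inv_inv] at this
      exact Perm.inv_eq_iff_eq.1 this
  by_cases h9 : 9 ≤ Γ.card
  · -- Marggraf
    let f : ↥H →* Perm {x // x ∈ Γ} :=
      { toFun := fun h => (h : Perm α).subtypePerm
          (fun x => mem_setStab_of_maps (hΓst h h.2) x)
        map_one' := by ext x; rfl
        map_mul' := fun k j => by ext x; rfl }
    have hqp : ∀ N : Subgroup ↥f.range, N.Normal → N ≠ ⊥ →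
        MulAction.IsPretransitive ↥N {x // x ∈ Γ} := by
      intro N hN hNne
      haveI := hN
      let N' : Subgroup (Perm α) := (N.comap f.rangeRestrict).map H.subtype
      have hN'c : ∀ g ∈ H, ∀ n ∈ N', g * n * g⁻¹ ∈ N' := by
        rintro g hg _ ⟨n, hn, rfl⟩
        exact ⟨⟨g, hg⟩ * n * ⟨g, hg⟩⁻¹, (inferInstance : (N.comap f.rangeRestrict).Normal).conj_mem n hn _, rfl⟩
      rcases horb N' (Subgroup.map_subtype_le _) hN'c with hfix | htr
      · exfalso
        refine hNne ((Subgroup.eq_bot_iff_forall _).2 fun n hn => ?_)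
        obtain ⟨h, rfl⟩ := f.rangeRestrict_surjective n
        apply Subtype.ext
        apply Equiv.ext
        intro x
        exact Subtype.ext (hfix h ⟨h, hn, rfl⟩ x x.2)
      · refine (MulAction.isPretransitive_iff_base (⟨e 0, heΓ 0⟩ : {x // x ∈ Γ})).2 fun x => ?_
        obtain ⟨_, ⟨h, hh, rfl⟩, hhx⟩ := htr x x.2
        exact ⟨⟨f.rangeRestrict h, hh⟩, Subtype.ext hhx⟩
    let T : Finset {x // x ∈ Γ} := R1.subtype (· ∈ Γ)
    have hT : T.card = 4 := by
      rw [Finset.card_subtype, Finset.filter_true_of_mem fun x hx => hR1Γ hx]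
      exact hR1.1
    have hJ : JordanSets.IsJSet ↥f.range T := by
      intro x hx y hy
      rw [Finset.mem_subtype] at hx hy
      by_cases hxy : (x : α) = y
      · exact ⟨1, fun z _ => one_smul _ z, Subtype.ext (by simpa using hxy)⟩
      obtain ⟨w, hw, hwS, hwx⟩ := hv0 hR1 _ hx _ hy hxy
      exact ⟨f.rangeRestrict ⟨w, hw⟩, fun z hz => Subtype.ext (hwS z (by simpa [T] using hz)),
        Subtype.ext hwx⟩
    have hA' := JordanSets.quasiprimitive _ ↥f.range {x // x ∈ Γ} rfl hqp T hJ (by omega)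
      (by rw [Fintype.card_coe]; omega)
    obtain ⟨a, b, c, d, hab, hac, had, hbc, hbd, hcd, hR1e⟩ := Finset.card_eq_four.1 hR1.1
    obtain ⟨x, hx, y, hy, hxy⟩ := (Finset.one_lt_card (s := Γ \ R1)).1
      (by rw [Finset.card_sdiff_of_subset hR1Γ, hR1.1]; omega)
    rw [Finset.mem_sdiff] at hx hy
    have hin : ∀ {u}, u ∈ ({a, b, c, d} : Finset α) → u ∈ R1 ∧ u ≠ x ∧ u ≠ y := fun {u} hu =>
      ⟨hR1e ▸ hu, fun h => hx.2 (h ▸ hR1e ▸ hu), fun h => hy.2 (h ▸ hR1e ▸ hu)⟩
    obtain ⟨haR, hax, hay⟩ := hin (u := a) (by simp)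
    obtain ⟨hbR, hbx, hby⟩ := hin (u := b) (by simp)
    obtain ⟨hcR, hcx, hcy⟩ := hin (u := c) (by simp)
    obtain ⟨hdR, hdx, hdy⟩ := hin (u := d) (by simp)
    let d' : {x // x ∈ Γ} := ⟨d, hR1Γ hdR⟩
    let x' : {x // x ∈ Γ} := ⟨x, hx.1⟩
    let y' : {x // x ∈ Γ} := ⟨y, hy.1⟩
    have hdx' : d' ≠ x' := fun h => hdx (congrArg Subtype.val h)
    have hdy' : d' ≠ y' := fun h => hdy (congrArg Subtype.val h)
    have hxy' : x' ≠ y' := fun h => hxy (congrArg Subtype.val h)
    obtain ⟨g, hg⟩ := hA' (show cyc d' x' y' ∈ alternatingGroup _ from sign_cyc hdx' hxy')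
    obtain ⟨h, rfl⟩ := f.rangeRestrict_surjective g
    have happ : ∀ z : {x // x ∈ Γ}, (h : Perm α) z = (cyc d' x' y' z : α) := fun z =>
      congrArg (fun σ : Perm {x // x ∈ Γ} => ((σ z : {x // x ∈ Γ}) : α)) hg
    have hfixed : ∀ u (hu : u ∈ R1), u ≠ d → (h : Perm α) u = u := by
      intro u hu hud
      rw [happ ⟨u, hR1Γ hu⟩, cyc_mem_supp (Δ := {d', x', y'}) (by simp) (by simp) (by simp) ⟨u, hR1Γ hu⟩]
      simp only [Finset.mem_insert, Finset.mem_singleton, d', x', y', Subtype.mk.injEq]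
      rintro (h1 | h1 | h1)
      · exact hud h1
      · exact hx.2 (h1 ▸ hu)
      · exact hy.2 (h1 ▸ hu)
    have hhd : (h : Perm α) d = x := by
      rw [happ d', cyc_apply_left hdx' hdy']
    have hov := overlap_even hno hR1 (hR1.image h.2)
    have himg : R1.image (h : Perm α) = {a, b, c, x} := by
      rw [hR1e]
      simp only [Finset.image_insert, Finset.image_singleton]
      rw [hfixed a haR had, hfixed b hbR hbd, hfixed c hcR hcd, hhd]
    rw [himg] at hov
    have hint : R1 ∩ {a, b, c, x} = {a, b, c} := by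
      ext u
      rw [hR1e]
      simp only [Finset.mem_inter, Finset.mem_insert, Finset.mem_singleton]
      refine ⟨?_, fun h => ⟨by tauto, by tauto⟩⟩
      rintro ⟨hu, hu'⟩
      rcases hu' with h1 | h1 | h1 | h1
      · exact Or.inl h1
      · exact Or.inr (Or.inl h1)
      · exact Or.inr (Or.inr h1)
      · subst h1
        rcases hu with h1 | h1 | h1 | h1
        · exact absurd h1.symm hax
        · exact absurd h1.symm hbx
        · exact absurd h1.symm hcx
        · exact absurd h1.symm hdx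
    rw [hint, Finset.card_eq_three.2 ⟨a, b, c, hab, hac, hbc, rfl⟩] at hov
    omega
  -- eight points
  have hΓeq : Γ = Finset.univ.image e :=
    (Finset.eq_of_subset_of_card_le (Finset.image_subset_iff.2 fun i _ => heΓ i)
      (by rw [Finset.card_image_of_injective _ e.injective, Finset.card_univ, Fintype.card_fin]
          omega)).symm
  have hΓimg : ∀ g ∈ H, Γ.image g = Γ := fun g hg =>
    Finset.eq_of_subset_of_card_le (Finset.image_subset_iff.2 (hΓst g hg))
      (Finset.card_image_of_injective _ g.injective).ge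
  have hsd : ∀ g ∈ H, ∀ R : Finset α, (Γ \ R).image g = Γ \ R.image g := by
    intro g hg R
    rw [Finset.image_sdiff _ _ g.injective, hΓimg g hg]
  have hdd : ∀ R ⊆ Γ, Γ \ (Γ \ R) = R := fun R hR =>
    Finset.sdiff_sdiff_eq_self hR
  let M : Subgroup (Perm α) :=
    { carrier := {g | g ∈ H ∧ g ∈ supp Γ ∧ ∀ R, Quad H R → R ⊆ Γ → R.image g = R ∨ R.image g = Γ \ R}
      one_mem' := ⟨one_mem _, one_mem _, fun R _ _ => Or.inl (by simp)⟩
      mul_mem' := by
        rintro g k ⟨hg, hgs, hgR⟩ ⟨hk, hks, hkR⟩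
        refine ⟨mul_mem hg hk, mul_mem hgs hks, fun R hR hRΓ => ?_⟩
        rw [Perm.coe_mul, ← Finset.image_image]
        rcases hkR R hR hRΓ with e1 | e1 <;> rw [e1]
        · exact hgR R hR hRΓ
        · rw [hsd g hg]
          rcases hgR R hR hRΓ with e2 | e2 <;> rw [e2]
          · exact Or.inr rfl
          · exact Or.inl (hdd R hRΓ)
      inv_mem' := by
        rintro g ⟨hg, hgs, hgR⟩
        refine ⟨inv_mem hg, inv_mem hgs, fun R hR hRΓ => ?_⟩
        have hinv : ∀ S : Finset α, S.image g = R → R.image (g⁻¹ : Perm α) = S := by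
          intro S hS
          rw [← hS, Finset.image_image, ← Perm.coe_mul, inv_mul_cancel, Perm.coe_one, Finset.image_id]
        rcases hgR R hR hRΓ with e1 | e1
        · exact Or.inl (hinv R e1)
        · exact Or.inr (hinv _ (by rw [hsd g hg, e1, hdd R hRΓ])) }
  have hMconj : ∀ g ∈ H, ∀ m ∈ M, g * m * g⁻¹ ∈ M := by
    intro g hg m ⟨hm, hms, hmR⟩
    refine ⟨mul_mem (mul_mem hg hm) (inv_mem hg),
      hΓimg g hg ▸ conj_mem_supp g hms, fun R hR hRΓ => ?_⟩
    have hR' : R.image (g⁻¹ : Perm α) ⊆ Γ := fun u hu => by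
      obtain ⟨w, hw, rfl⟩ := Finset.mem_image.1 hu
      exact hΓst _ (inv_mem hg) w (hRΓ hw)
    rw [Perm.coe_mul, ← Finset.image_image, Perm.coe_mul, ← Finset.image_image]
    rcases hmR _ (hR.image (inv_mem hg)) hR' with e1 | e1 <;> rw [e1]
    · left
      rw [Finset.image_image, ← Perm.coe_mul, mul_inv_cancel, Perm.coe_one, Finset.image_id]
    · right
      rw [hsd g hg, Finset.image_image, ← Perm.coe_mul, mul_inv_cancel, Perm.coe_one, Finset.image_id]
  -- elements fixing every quad are trivial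
  have hM' : ∀ m ∈ M, (∀ R, Quad H R → R ⊆ Γ → R.image m = R) → m = 1 := by
    let M' : Subgroup (Perm α) := M ⊓ ⨅ R : {R : Finset α // Quad H R ∧ R ⊆ Γ}, setStab (R : Finset α)
    have hst : ∀ m : Perm α, ∀ R : Finset α, R.image m = R → m ∈ setStab R := fun m R he =>
      mem_setStab_of_maps fun u hu => he ▸ Finset.mem_image_of_mem _ hu
    have himg' : ∀ m ∈ M', ∀ R, Quad H R → R ⊆ Γ → R.image m = R := by
      intro m hm R hR hRΓ
      refine Finset.eq_of_subset_of_card_le (Finset.image_subset_iff.2 fun u hu => ?_)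
        (Finset.card_image_of_injective _ m.injective).ge
      exact ((Subgroup.mem_iInf.1 hm.2) ⟨R, hR, hRΓ⟩ u).2 hu
    have hc' : ∀ g ∈ H, ∀ m ∈ M', g * m * g⁻¹ ∈ M' := by
      intro g hg m hm
      refine ⟨hMconj g hg m hm.1, Subgroup.mem_iInf.2 fun R => hst _ _ ?_⟩
      have hR' : (R : Finset α).image (g⁻¹ : Perm α) ⊆ Γ := fun u hu => by
        obtain ⟨w, hw, rfl⟩ := Finset.mem_image.1 hu
        exact hΓst _ (inv_mem hg) w (R.2.2 hw)
      rw [Perm.coe_mul, ← Finset.image_image, Perm.coe_mul, ← Finset.image_image,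
        himg' m hm _ (R.2.1.image (inv_mem hg)) hR', Finset.image_image, ← Perm.coe_mul, mul_inv_cancel,
        Perm.coe_one, Finset.image_id]
    intro m hm hfix
    have hmM' : m ∈ M' := ⟨hm, Subgroup.mem_iInf.2 fun R => hst _ _ (hfix R R.2.1 R.2.2)⟩
    rcases horb M' (fun m hm => hm.1.1) hc' with h1 | h1
    · apply Equiv.ext
      intro u
      by_cases hu : u ∈ Γ
      · exact h1 m hmM' u hu
      · exact hm.2.1 u hu
    · exfalso
      obtain ⟨n, hn, hn4⟩ := h1 (e 4) (heΓ 4)
      have : e 4 ∈ R1 := by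
        rw [← hn4, ← himg' n hn R1 hR1 hR1Γ]
        exact Finset.mem_image_of_mem _ h0R1
      obtain ⟨i, hi, hi4⟩ := Finset.mem_image.1 this
      rw [e.injective hi4] at hi
      exact absurd hi (by decide)
  have hsq : ∀ m ∈ M, m * m = 1 := by
    intro m hm
    refine hM' _ (mul_mem hm hm) fun R hR hRΓ => ?_
    rw [Perm.coe_mul, ← Finset.image_image]
    rcases hm.2.2 R hR hRΓ with e1 | e1
    · rw [e1, e1]
    · rw [e1, hsd m hm.1, e1, hdd R hRΓ]
  have hMcomm : ∀ m ∈ M, ∀ k ∈ M, m * k = k * m := by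
    intro m hm k hk
    have h1 := inv_eq_of_mul_eq_one_right (hsq _ (mul_mem hm hk))
    rw [mul_inv_rev, inv_eq_of_mul_eq_one_right (hsq _ hm), inv_eq_of_mul_eq_one_right (hsq _ hk)] at h1
    exact h1.symm
  set t := viaEmbeddingHom e (g1 * g3) with ht
  have htM : t ∈ M := by
    refine ⟨hD _ (mul_mem (hgen g1 (by simp)) (hgen g3 (by simp))), fun u hu => ?_, fun R hR hRΓ => ?_⟩
    · rw [ht, viaEmbeddingHom_apply, viaEmbedding_apply_of_notMem]
      rintro ⟨i, rfl⟩
      exact hu (heΓ i)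
    · set S : Finset (Fin 8) := Finset.univ.filter fun i => e i ∈ R with hS
      have hRS : R = S.image e := by
        ext u
        simp only [hS, Finset.mem_image, Finset.mem_filter, Finset.mem_univ, true_and]
        refine ⟨fun hu => ?_, ?_⟩
        · have hu' := hRΓ hu
          rw [hΓeq, Finset.mem_image] at hu'
          obtain ⟨i, -, rfl⟩ := hu'
          exact ⟨i, hu, rfl⟩
        · rintro ⟨i, hi, rfl⟩; exact hi
      have himg : ∀ g : Perm (Fin 8), R.image (viaEmbeddingHom e g) = (S.image g).image e := by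
        intro g
        rw [hRS, Finset.image_image, Finset.image_image]
        exact Finset.image_congr fun i _ => via_apply e g i
      have hcard : S.card = 4 := by
        rw [← hR.1, hRS, Finset.card_image_of_injective _ e.injective]
      have hev1 : (S ∩ A).card % 2 = 0 := by
        have := overlap_even hno hR hR1
        rwa [hR1def, hRS, ← Finset.image_inter _ _ e.injective,
          Finset.card_image_of_injective _ e.injective] at this
      have hev2 : (S ∩ S.image g6).card % 2 = 0 := by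
        have := overlap_even hno hR (hR.image (hD g6 (hgen g6 (by simp))))
        rwa [himg, hRS, ← Finset.image_inter _ _ e.injective,
          Finset.card_image_of_injective _ e.injective] at this
      have key : ∀ S : Finset (Fin 8), S.card = 4 → (S ∩ {0, 1, 2, 3}).card % 2 = 0 →
          (S ∩ S.image g6).card % 2 = 0 → S.image (g1 * g3) = S ∨ S.image (g1 * g3) = Sᶜ := by
        decide +kernel
      rcases key S hcard hev1 hev2 with e1 | e1
      · left; rw [ht, himg, e1, ← hRS]
      · right; rw [ht, himg, e1, hΓeq, hRS, Finset.compl_eq_univ_sdiff, Finset.image_sdiff _ _ e.injective]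
  rcases le_or_central hF (fun m (hm : m ∈ M) => hm.1)
      (fun k hk m hm => hMconj k (fstar_le hk) m hm) with h1 | ⟨hle, hc⟩
  · exact fstar_not_comm hF fun x hx y hy => hMcomm x (h1 hx) y (h1 hy)
  have htmove : t (e 0) = e 1 := by
    rw [ht, via_apply]
    congr 1
  have htrM : ∀ x ∈ Γ, ∃ m ∈ M, m (e 0) = x := by
    rcases horb M (fun m hm => hm.1) hMconj with h1 | h1
    · exact absurd ((h1 t htM (e 0) (heΓ 0)).symm.trans htmove) (e.injective.ne (by decide))
    · exact h1
  have hfixK : fstar H ≤ supp Γᶜ := by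
    rw [← Components.quasisimple_commutator_eq (quasisimple_fstar hF)]
    refine Subgroup.commutator_le.2 fun k1 hk1 k2 hk2 => ?_
    intro x hx
    simp only [Finset.mem_compl, not_not] at hx
    obtain ⟨m, hm, rfl⟩ := htrM x hx
    have agree : ∀ x ∈ Γ, k1 (k2 x) = k2 (k1 x) := by
      intro x hx
      obtain ⟨m, hm, rfl⟩ := htrM x hx
      obtain ⟨m1, hm1, he1⟩ := htrM _ (hΓst k1 (fstar_le hk1) _ (heΓ 0))
      obtain ⟨m2, hm2, he2⟩ := htrM _ (hΓst k2 (fstar_le hk2) _ (heΓ 0))
      have c : ∀ k ∈ fstar H, ∀ n ∈ M, ∀ u, k (n u) = n (k u) := fun k hk n hn u =>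
        congrArg (fun σ : Perm α => σ u) (hc n hn k hk).symm
      rw [c k2 hk2 m hm, c k1 hk1 m hm, c k1 hk1 m hm, c k2 hk2 m hm, ← he2, c k1 hk1 m2 hm2, ← he1,
        c k2 hk2 m1 hm1, ← he2, ← Perm.mul_apply m2 m1, hMcomm m2 hm2 m1 hm1, Perm.mul_apply]
    set y := k2⁻¹ (k1⁻¹ (m (e 0))) with hy
    have hyΓ : y ∈ Γ := hΓst _ (inv_mem (fstar_le hk2)) _
      (hΓst _ (inv_mem (fstar_le hk1)) _ hx)
    have h2 := agree y hyΓ
    rw [commutatorElement_def, Perm.mul_apply, Perm.mul_apply, Perm.mul_apply]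
    have e3 : m (e 0) = k1 (k2 y) := by rw [hy]; simp
    rw [e3, h2]
    simpa using h2
  exact e.injective.ne (show (0 : Fin 8) ≠ 1 by decide)
    ((hfixK (hle htM) (e 0) (by simp [heΓ])).symm.trans htmove)

end Cfsg.Agent.QuadSeed
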