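import Cfsg.Agent.Lib.Recog.SameOrderSolvable
import Cfsg.Agent.Lib.Char.TransPStab

/-!
# Groups all of whose non-trivial elements have order one of two odd primes
-/

set_option autoImplicit false

universe u

namespace Cfsg.Agent.SameOrder

open scoped IsMulCommutative Pointwise

variable {G : Type u} [Group G] [Finite G]

omit [Finite G] in
theorem mul_conj_pow_eq (A : Subgroup G) [A.Normal] [IsMulCommutative ↥A] (a : ↥A) (y : G) (k : ℕ) :
    ((a : G) * y) ^ k = ((∏ i ∈ Finset.range k, MulAut.conjNormal (y ^ i) a : ↥A) : G) * y ^ k := by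
  induction k with
  | zero => simp
  | succ k ih =>
    rw [pow_succ ((a : G) * y), ih, Finset.prod_range_succ, Subgroup.coe_mul, MulAut.conjNormal_apply,
      pow_succ y k]
    group

theorem exists_complement {p q : ℕ} [Fact p.Prime] [Fact q.Prime] (hq3 : 3 ≤ q) (hpq : p ≠ q)
    (hpd : p ∣ Nat.card G) (hqd : q ∣ Nat.card G)
    (hord : ∀ g : G, orderOf g = 1 ∨ orderOf g = p ∨ orderOf g = q)
    (A : Subgroup G) [A.Normal] [IsMulCommutative ↥A] (hA : A ≠ ⊥) (hAp : ∀ a ∈ A, a ^ p = 1) :
    ∃ C : Subgroup G, Cfsg.IsFrobeniusComplement C ∧ (Nat.card ↥C).Prime := by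
  have hp := (Fact.out : p.Prime)
  have hq := (Fact.out : q.Prime)
  have hno : ∀ a b : G, orderOf a = p → orderOf b = q → a * b ≠ b * a := by
    intro a b ha hb hab
    have h := Commute.orderOf_mul_eq_mul_orderOf_of_coprime (show Commute a b from hab)
      (by rw [ha, hb]; exact (Nat.coprime_primes hp hq).2 hpq)
    rw [ha, hb] at h
    have := hp.two_le
    rcases hord (a * b) with e | e | e <;> rw [e] at h <;> nlinarith
  have hordA : ∀ a ∈ A, a ≠ 1 → orderOf a = p := fun a ha h1 => orderOf_eq_prime (hAp a ha) h1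
  obtain ⟨Q⟩ : Nonempty (Sylow q G) := inferInstance
  haveI hQnt : Nontrivial ↥(Q : Subgroup G) := by
    rw [← Finite.one_lt_card_iff_nontrivial, Sylow.card_eq_multiplicity]
    exact Nat.one_lt_pow (hq.factorization_pos_of_dvd Nat.card_pos.ne' hqd).ne' hq.one_lt
  have hQord : ∀ x ∈ (Q : Subgroup G), x ≠ 1 → orderOf x = q := by
    intro x hx h1
    obtain ⟨k, hk⟩ := IsPGroup.iff_orderOf.1 Q.2 ⟨x, hx⟩
    rw [Subgroup.orderOf_mk] at hk
    rcases hord x with e | e | e
    · exact absurd (orderOf_eq_one_iff.1 e) h1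
    · rw [e] at hk
      exact absurd ((Nat.prime_dvd_prime_iff_eq hp hq).1 (hp.dvd_of_dvd_pow (dvd_of_eq hk))) hpq
    · exact e
  haveI : Nontrivial ↥A := (Subgroup.nontrivial_iff_ne_bot _).2 hA
  -- a Sylow `q`-subgroup has prime order
  have hQcard : Nat.card ↥(Q : Subgroup G) = q := by
    rcases TransPStab.cyclic_or_quat_of_fpf Q.2
      ((MulAut.conjNormal (H := A)).comp (Q : Subgroup G).subtype) (fun x hx a ha => by
        by_contra h1
        have h2 : (x : G) * a * (x : G)⁻¹ = a := congrArg Subtype.val ha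
        exact hno a x (hordA a a.2 (fun e => h1 (Subtype.ext e)))
          (hQord x x.2 (fun e => hx (Subtype.ext e))) (mul_inv_eq_iff_eq_mul.1 h2).symm) with hc | ⟨h2, -⟩
    · rw [← IsCyclic.exponent_eq_card]
      refine (Monoid.exponent_eq_prime_iff hq).2 fun x hx => ?_
      rw [← Subgroup.orderOf_coe]
      exact hQord x x.2 fun e => hx (Subtype.ext e)
    · omega
  haveI : Fintype ↥(Q : Subgroup G) := Fintype.ofFinite _
  have hN : Subgroup.normalizer ((Q : Subgroup G) : Set G) ≤ (Q : Subgroup G) := by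
    intro x hx
    rcases hord x with e | e | e
    · rw [orderOf_eq_one_iff.1 e]; exact one_mem _
    · exfalso
      obtain ⟨a, ha, ha1⟩ := A.bot_or_exists_ne_one.resolve_left hA
      set n : ↥A := ⟨a, ha⟩
      have hpow : ∀ i ∈ Finset.range p, i ≠ 0 → orderOf (x ^ i) = p := fun i hi h0 =>
        orderOf_eq_prime (by rw [← pow_mul, mul_comm, pow_mul, ← e, pow_orderOf_eq_one, one_pow])
          (fun h => by
            have := Nat.le_of_dvd (Nat.pos_of_ne_zero h0) (e ▸ orderOf_dvd_of_pow_eq_one h)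
            have := Finset.mem_range.1 hi
            omega)
      have hprod : ∀ y : G, orderOf y = p →
          ∏ i ∈ Finset.range p, MulAut.conjNormal (y ^ i) n = 1 := by
        intro y hy
        have hy' : y ^ p = 1 := hy ▸ pow_orderOf_eq_one y
        have h := mul_conj_pow_eq A n y p
        rw [hy', mul_one] at h
        have h2 : ((n : G) * y) ^ (p * p) = 1 := by
          rw [pow_mul, h]
          exact hAp _ (SetLike.coe_mem _)
        have hdvd : ((n : G) * y) ^ p = 1 := by
          rcases hord ((n : G) * y) with e' | e' | e'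
          · rw [orderOf_eq_one_iff.1 e', one_pow]
          · rw [← e', pow_orderOf_eq_one]
          · exfalso
            have hd : q ∣ p * p := e' ▸ orderOf_dvd_of_pow_eq_one h2
            rcases hq.dvd_mul.1 hd with h' | h' <;>
              exact hpq ((Nat.prime_dvd_prime_iff_eq hq hp).1 h').symm
        rw [h] at hdvd
        exact Subtype.ext hdvd
      have h1 : ∏ z : ↥(Q : Subgroup G), ∏ i ∈ Finset.range p,
          MulAut.conjNormal ((z : G) * x ^ i * (z : G)⁻¹) n = 1 := by
        refine Finset.prod_eq_one fun z _ => ?_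
        have := hprod ((z : G) * x * (z : G)⁻¹) ((MulEquiv.orderOf_eq (MulAut.conj (z : G)) x).trans e)
        simpa only [conj_pow] using this
      rw [Finset.prod_comm, ← Finset.mul_prod_erase _ _ (Finset.mem_range.2 hp.pos)] at h1
      have h0 : ∏ z : ↥(Q : Subgroup G), MulAut.conjNormal ((z : G) * x ^ 0 * (z : G)⁻¹) n = n ^ q := by
        simp [Finset.prod_const, Finset.card_univ, ← Nat.card_eq_fintype_card, hQcard]
      rw [h0, Finset.prod_eq_one (fun i hi => ?_), mul_one] at h1
      · have h2 : a ^ q = 1 := congrArg Subtype.val h1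
        have hd := orderOf_dvd_of_pow_eq_one h2
        rw [hordA a ha ha1] at hd
        exact hpq ((Nat.prime_dvd_prime_iff_eq hp hq).1 hd)
      rw [Finset.mem_erase] at hi
      set y := x ^ i with hy
      have hy_ord : orderOf y = p := hpow i hi.2 hi.1
      have hyN : y ∈ Subgroup.normalizer ((Q : Subgroup G) : Set G) := pow_mem hx i
      let f : ↥(Q : Subgroup G) → ↥(Q : Subgroup G) := fun z =>
        ⟨(z : G) * (y * (z : G)⁻¹ * y⁻¹), mul_mem z.2 ((Subgroup.mem_normalizer_iff.1 hyN _).1 (inv_mem z.2))⟩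
      have hf : Function.Bijective f := by
        refine Finite.injective_iff_bijective.1 fun z w hzw => ?_
        have h' : (z : G) * (y * (z : G)⁻¹ * y⁻¹) = (w : G) * (y * (w : G)⁻¹ * y⁻¹) :=
          congrArg Subtype.val hzw
        by_contra hne
        refine hno y ((w : G)⁻¹ * z) hy_ord (hQord _ (mul_mem (inv_mem w.2) z.2) (fun h =>
          hne (Subtype.ext (inv_mul_eq_one.1 h).symm))) ?_
        have : (w : G)⁻¹ * z * y = y * ((w : G)⁻¹ * z) := by
          calc (w : G)⁻¹ * z * y = (w : G)⁻¹ * ((z : G) * (y * (z : G)⁻¹ * y⁻¹)) * (y * z) := by group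
            _ = (w : G)⁻¹ * ((w : G) * (y * (w : G)⁻¹ * y⁻¹)) * (y * z) := by rw [h']
            _ = y * ((w : G)⁻¹ * z) := by group
        exact this.symm
      calc ∏ z : ↥(Q : Subgroup G), MulAut.conjNormal ((z : G) * y * (z : G)⁻¹) n
          = ∏ z : ↥(Q : Subgroup G), MulAut.conjNormal ((f z : ↥(Q : Subgroup G)) : G)
              (MulAut.conjNormal y n) := by
            refine Finset.prod_congr rfl fun z _ => ?_
            rw [← MulAut.mul_apply, ← map_mul]
            congr 2
            show _ = (z : G) * (y * (z : G)⁻¹ * y⁻¹) * y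
            group
        _ = ∏ z : ↥(Q : Subgroup G), MulAut.conjNormal (z : G) (MulAut.conjNormal y n) :=
            hf.prod_comp (fun w : ↥(Q : Subgroup G) =>
              MulAut.conjNormal (w : G) (MulAut.conjNormal y n))
        _ = 1 := by
          set m := MulAut.conjNormal y n
          set S := ∏ z : ↥(Q : Subgroup G), MulAut.conjNormal (z : G) m with hS
          obtain ⟨b, hb⟩ := exists_ne (1 : ↥(Q : Subgroup G))
          have hfix : MulAut.conjNormal (b : G) S = S := by
            rw [hS, map_prod]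
            refine Fintype.prod_equiv (Equiv.mulLeft b) _ _ fun z => ?_
            rw [← MulAut.mul_apply, ← map_mul]
            rfl
          by_contra hne
          have h3 : (b : G) * S * (b : G)⁻¹ = S := congrArg Subtype.val hfix
          exact hno S b (hordA _ (SetLike.coe_mem _) (fun h => hne (Subtype.ext h)))
            (hQord b b.2 (fun h => hb (Subtype.ext h))) (mul_inv_eq_iff_eq_mul.1 h3).symm
    · have hz : IsPGroup q (Subgroup.zpowers x) := IsPGroup.of_card (n := 1)
        (by rw [Nat.card_zpowers, e, pow_one])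
      have := Q.3 (hz.to_sup_of_normal_right' Q.2 (Subgroup.zpowers_le.2 hx)) le_sup_right
      rw [← this]
      exact Subgroup.mem_sup_left (Subgroup.mem_zpowers x)
  refine ⟨Q, ⟨fun h => ?_, fun h => ?_, fun g hg => ?_⟩, by rw [hQcard]; exact hq⟩
  · rw [h, Subgroup.card_bot] at hQcard
    exact hq.one_lt.ne hQcard
  · rw [h, Subgroup.card_top] at hQcard
    rw [hQcard] at hpd
    exact hpq ((Nat.prime_dvd_prime_iff_eq hp hq).1 hpd)
  · set T := (Q : Subgroup G) ⊓ MulAut.conj g • (Q : Subgroup G) with hT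
    by_contra hne
    have hT1 : 1 < Nat.card T := (Subgroup.one_lt_card_iff_ne_bot _).2 hne
    have hd : Nat.card T ∣ q := hQcard ▸ Subgroup.card_dvd_of_le (inf_le_left : T ≤ Q)
    have hTQ : T = (Q : Subgroup G) := Subgroup.eq_of_le_of_card_ge inf_le_left
      (by rw [hQcard, ((Nat.dvd_prime hq).1 hd).resolve_left hT1.ne'])
    have hle : (Q : Subgroup G) ≤ MulAut.conj g • (Q : Subgroup G) := hTQ.ge.trans inf_le_right
    have heq : MulAut.conj g • (Q : Subgroup G) = (Q : Subgroup G) := by
      refine (Subgroup.eq_of_le_of_card_ge hle ?_).symm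
      rw [Nat.card_congr (Subgroup.equivSMul (MulAut.conj g) (Q : Subgroup G)).toEquiv]
    apply hg
    refine hN (Subgroup.mem_normalizer_iff.2 fun y => ⟨fun hy => ?_, fun hy => ?_⟩)
    · rw [← heq]; exact Subgroup.smul_mem_pointwise_smul y (MulAut.conj g) _ hy
    · rw [← heq] at hy
      exact Subgroup.smul_mem_pointwise_smul_iff.1 (show MulAut.conj g • y ∈ _ from hy)

theorem frobenius_of_two_orders {p q : ℕ} [Fact p.Prime] [Fact q.Prime] (hp3 : 3 ≤ p) (hq3 : 3 ≤ q)
    (hpq : p ≠ q) (hpd : p ∣ Nat.card G) (hqd : q ∣ Nat.card G) (hs : Group.IsSolvable G)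
    (hord : ∀ g : G, orderOf g = 1 ∨ orderOf g = p ∨ orderOf g = q) :
    ∃ C : Subgroup G, Cfsg.IsFrobeniusComplement C ∧ (Nat.card ↥C).Prime := by
  classical
  haveI : Nontrivial G := by
    rw [← Finite.one_lt_card_iff_nontrivial]
    have := Nat.le_of_dvd Nat.card_pos hpd
    omega
  obtain ⟨n, hn⟩ := hs.solvable
  have hex : ∃ n, derivedSeries G n = ⊥ := ⟨n, hn⟩
  have h0 : Nat.find hex ≠ 0 := fun h => by
    have := Nat.find_spec hex
    rw [h, derivedSeries_zero] at this
    exact top_ne_bot this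
  obtain ⟨k, hk⟩ := Nat.exists_eq_succ_of_ne_zero h0
  have hk1 : derivedSeries G (k + 1) = ⊥ := by
    have := Nat.find_spec hex
    rwa [hk] at this
  set A := derivedSeries G k
  have hA : A ≠ ⊥ := Nat.find_min hex (by omega)
  haveI : A.Normal := derivedSeries_normal G k
  rw [derivedSeries_succ, Subgroup.commutator_eq_bot_iff_le_centralizer] at hk1
  haveI : IsMulCommutative ↥A :=
    ⟨⟨fun a b => Subtype.ext (Subgroup.mem_centralizer_iff.1 (hk1 b.2) a a.2)⟩⟩
  obtain ⟨a, ha, ha1⟩ := A.bot_or_exists_ne_one.resolve_left hA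
  have key : ∀ r s : ℕ, ∀ [Fact r.Prime], ∀ [Fact s.Prime], r ≠ s →
      (∀ g : G, orderOf g = 1 ∨ orderOf g = r ∨ orderOf g = s) → orderOf a = r → ∀ b ∈ A, b ^ r = 1 := by
    intro r s _ _ hrs ho har b hb
    rcases ho b with e | e | e
    · rw [orderOf_eq_one_iff.1 e, one_pow]
    · rw [← e, pow_orderOf_eq_one]
    · exfalso
      have hc : Commute a b := (Subgroup.mem_centralizer_iff.1 (hk1 hb) a ha)
      have h := hc.orderOf_mul_eq_mul_orderOf_of_coprime
        (by rw [har, e]; exact (Nat.coprime_primes Fact.out Fact.out).2 hrs)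
      rw [har, e] at h
      have := (Fact.out : r.Prime).two_le
      have := (Fact.out : s.Prime).two_le
      rcases ho (a * b) with e' | e' | e' <;> rw [e'] at h <;> nlinarith
  rcases hord a with e | e | e
  · exact absurd (orderOf_eq_one_iff.1 e) ha1
  · exact exists_complement hq3 hpq hpd hqd hord A hA (key p q hpq hord e)
  · exact exists_complement (p := q) (q := p) hp3 hpq.symm hqd hpd (fun g => (hord g).imp_right Or.symm) A hA
      (key q p hpq.symm (fun g => (hord g).imp_right Or.symm) e)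

/-- Prime exponents for the Sylow subgroups. -/
theorem orders {a b : ℕ} (hV : ∀ d, cnt G d = 0 ∨ cnt G d = 1 ∨ cnt G d = a ∨ cnt G d = b)
    (hodd : Odd (Nat.card G)) {p q : ℕ} [Fact p.Prime] [Fact q.Prime] (hp3 : 3 ≤ p) (hq3 : 3 ≤ q)
    (hpq : p ≠ q) (hpd : p ∣ Nat.card G) (hqd : q ∣ Nat.card G)
    (hsub : (Nat.card G).primeFactors ⊆ {p, q}) (g : G) :
    orderOf g = 1 ∨ orderOf g = p ∨ orderOf g = q := by
  have h2 : cnt G 2 ≤ 1 := by
    rw [cnt_two_eq_zero (fun h => by rw [Nat.odd_iff] at hodd; omega)]; omega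
  have key : ∀ r s : ℕ, ∀ [Fact r.Prime], ∀ [Fact s.Prime], 3 ≤ r → 3 ≤ s → r ≠ s → r ∣ Nat.card G →
      s ∣ Nat.card G → ∀ i, 2 ≤ i → cnt G (r ^ i) = 0 := by
    intro r s _ _ hr3 hs3 hrs hrd hsd i hi
    have hr := (Fact.out : r.Prime)
    have hs := (Fact.out : s.Prime)
    obtain ⟨hx, -, hW⟩ := two_primes hV h2 hr3 hs3 hrd hsd hrs
    have hsz : (cnt G (r ^ i) : ZMod s) = 0 := by
      by_contra hne
      obtain ⟨S⟩ : Nonempty (Sylow s G) := inferInstance
      obtain ⟨x, hxo, hxc⟩ := exists_commuting (S : Subgroup G) S.2 hne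
      obtain ⟨c, hc⟩ := exists_prime_orderOf_dvd_card' (G := ↥(S : Subgroup G)) s (by
        rw [Sylow.card_eq_multiplicity]
        exact dvd_pow_self s (hs.factorization_pos_of_dvd Nat.card_pos.ne' hsd).ne')
      obtain ⟨j, rfl⟩ : ∃ j, i = j + 1 := ⟨i - 1, by omega⟩
      have hxr : orderOf (x ^ (r ^ j)) = r := by
        rw [orderOf_pow_of_dvd (pow_ne_zero _ hr.ne_zero) (by rw [hxo, pow_succ]; exact Dvd.intro r rfl),
          hxo, pow_succ, Nat.mul_div_cancel_left _ (pow_pos hr.pos _)]
      have hcm : Commute (x ^ (r ^ j)) (c : G) := (Commute.symm (hxc c c.2)).pow_left _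
      have ho := hcm.orderOf_mul_eq_mul_orderOf_of_coprime
        (by rw [hxr, Subgroup.orderOf_coe, hc]; exact (Nat.coprime_primes hr hs).2 hrs)
      rw [hxr, Subgroup.orderOf_coe, hc] at ho
      have := cnt_pos (g := x ^ (r ^ j) * (c : G))
      rw [ho, hx] at this
      exact lt_irrefl 0 this
    rcases hW (r ^ i) (by calc 2 < r := by omega
        _ ≤ r ^ i := Nat.le_self_pow (by omega) r) with e | e | e
    · exact e
    · have h := cnt_prime_pow (G := G) hr i hi
      rw [e, cnt_prime hr hrd] at h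
      exact absurd (neg_eq_zero.1 h) one_ne_zero
    · rw [e, cnt_prime hs hsd] at hsz
      exact absurd (neg_eq_zero.1 hsz) one_ne_zero
  obtain ⟨hx, -, -⟩ := two_primes hV h2 hp3 hq3 hpd hqd hpq
  have hno : ¬ p * q ∣ orderOf g := fun h => by
    have := cnt_pos (g := g ^ (orderOf g / (p * q)))
    rw [orderOf_pow_orderOf_div (orderOf_pos g).ne' h, hx] at this
    exact lt_irrefl 0 this
  have hcop : p.Coprime q := (Nat.coprime_primes Fact.out Fact.out).2 hpq
  obtain ⟨i, j, hij⟩ := eq_pow_mul_pow (orderOf_pos g).ne' (Fact.out : p.Prime) (Fact.out : q.Prime) hpq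
    ((Nat.primeFactors_mono (orderOf_dvd_natCard g) Nat.card_pos.ne').trans hsub)
  have hij0 : i = 0 ∨ j = 0 := by
    by_contra h
    push Not at h
    exact hno (hij ▸ Nat.mul_dvd_mul (dvd_pow_self p h.1) (dvd_pow_self q h.2))
  rcases hij0 with rfl | rfl
  · rw [pow_zero, one_mul] at hij
    rcases (show j = 0 ∨ j = 1 ∨ 2 ≤ j by omega) with rfl | rfl | hj
    · left; simpa using hij
    · right; right; simpa using hij
    · have := cnt_pos (g := g)
      rw [hij, key q p hq3 hp3 hpq.symm hqd hpd j hj] at this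
      exact absurd this (lt_irrefl 0)
  · rw [pow_zero, mul_one] at hij
    rcases (show i = 0 ∨ i = 1 ∨ 2 ≤ i by omega) with rfl | rfl | hi
    · left; simpa using hij
    · right; left; simpa using hij
    · have := cnt_pos (g := g)
      rw [hij, key p q hp3 hq3 hpq hpd hqd i hi] at this
      exact absurd this (lt_irrefl 0)

end Cfsg.Agent.SameOrder
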