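import Cfsg.Agent.Lib.Recog.SameOrderCounts

/-!
# Solvability of groups with three values of the same-order counts
-/

set_option autoImplicit false

universe u

namespace Cfsg.Agent.SameOrder

variable {G : Type u} [Group G] [Finite G]

theorem exists_values (h : (((fun m : ℕ => Nat.card {g : G // orderOf g = m}) ''
    Set.range (orderOf : G → ℕ))).ncard = 3) :
    ∃ a b, ∀ d, cnt G d = 0 ∨ cnt G d = 1 ∨ cnt G d = a ∨ cnt G d = b := by
  set S := (fun m : ℕ => Nat.card {g : G // orderOf g = m}) '' Set.range (orderOf : G → ℕ) with hS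
  have h1 : 1 ∈ S := ⟨1, ⟨1, orderOf_one⟩, cnt_one (G := G)⟩
  have h2 : (S \ {1}).ncard = 2 := by rw [Set.ncard_sdiff_singleton_of_mem h1, h]
  obtain ⟨a, b, -, hab⟩ := Set.ncard_eq_two.1 h2
  refine ⟨a, b, fun d => ?_⟩
  by_cases h0 : cnt G d = 0
  · exact Or.inl h0
  by_cases hd1 : cnt G d = 1
  · exact Or.inr (Or.inl hd1)
  obtain ⟨g, rfl⟩ := exists_of_cnt_ne_zero h0
  have hm : cnt G (orderOf g) ∈ S \ {1} := ⟨⟨_, ⟨g, rfl⟩, rfl⟩, hd1⟩
  rw [hab] at hm
  exact Or.inr (Or.inr hm)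

theorem eq_pow_mul_pow {n p q : ℕ} (hn : n ≠ 0) (hp : p.Prime) (hq : q.Prime) (hpq : p ≠ q)
    (h : n.primeFactors ⊆ {p, q}) : ∃ a b, n = p ^ a * q ^ b := by
  refine ⟨n.factorization p, n.factorization q, ?_⟩
  refine Nat.eq_of_factorization_eq hn
    (mul_ne_zero (pow_ne_zero _ hp.ne_zero) (pow_ne_zero _ hq.ne_zero)) fun r => ?_
  rw [Nat.factorization_mul (pow_ne_zero _ hp.ne_zero) (pow_ne_zero _ hq.ne_zero),
    hp.factorization_pow, hq.factorization_pow, Finsupp.add_apply]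
  by_cases hr : r ∈ n.primeFactors
  · rcases Finset.mem_insert.1 (h hr) with rfl | hr'
    · rw [Finsupp.single_eq_same, Finsupp.single_eq_of_ne hpq, add_zero]
    · rw [Finset.mem_singleton] at hr'
      subst hr'
      rw [Finsupp.single_eq_same, Finsupp.single_eq_of_ne hpq.symm, zero_add]
  · have h0 : n.factorization r = 0 := by
      rwa [← Nat.support_factorization, Finsupp.notMem_support_iff] at hr
    rw [h0]
    by_cases e1 : r = p
    · subst e1; rw [Finsupp.single_eq_same, Finsupp.single_eq_of_ne hpq, h0, add_zero]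
    by_cases e2 : r = q
    · subst e2; rw [Finsupp.single_eq_same, Finsupp.single_eq_of_ne hpq.symm, h0, add_zero]
    rw [Finsupp.single_eq_of_ne e1, Finsupp.single_eq_of_ne e2, add_zero]

theorem cnt_two_eq_zero (h : ¬ 2 ∣ Nat.card G) : cnt G 2 = 0 := by
  by_contra h0; exact h (dvd_card_of_cnt_ne_zero h0)

theorem card_odd_primes_le {a b : ℕ} (hV : ∀ d, cnt G d = 0 ∨ cnt G d = 1 ∨ cnt G d = a ∨ cnt G d = b)
    (h1 : cnt G 2 ≤ 1) : ((Nat.card G).primeFactors.filter (3 ≤ ·)).card ≤ 2 := by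
  refine le_trans (Finset.card_le_card_of_injOn (cnt G) (t := {a, b}) ?_ ?_) Finset.card_le_two
  · intro p hp
    simp only [Finset.mem_filter, Nat.mem_primeFactors, Finset.mem_coe] at hp
    obtain ⟨⟨hp, hpd, -⟩, hp3⟩ := hp
    haveI := Fact.mk hp
    rcases value hV (show 2 < p by omega) with e | e | e
    · have := cnt_prime hp hpd
      rw [e, Nat.cast_zero] at this
      exact absurd (neg_eq_zero.1 this.symm) one_ne_zero
    · simp [e]
    · simp [e]
  · intro p hp q hq he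
    simp only [Finset.mem_filter, Nat.mem_primeFactors, Finset.mem_coe] at hp hq
    by_contra hne
    exact count_ne hV h1 hp.1.1 hq.1.1 hp.2 hq.2 hp.1.2.1 hq.1.2.1 hne he

theorem not_four_dvd {a b : ℕ} (hV : ∀ d, cnt G d = 0 ∨ cnt G d = 1 ∨ cnt G d = a ∨ cnt G d = b)
    (hone : cnt G 2 = 1) {p q : ℕ} (hp : p.Prime) (hq : q.Prime) (hp3 : 3 ≤ p) (hq3 : 3 ≤ q)
    (hpd : p ∣ Nat.card G) (hqd : q ∣ Nat.card G) (hpq : p ≠ q) : ¬ 4 ∣ Nat.card G := by
  intro h4
  have hall : cnt G 4 = 0 ∨ cnt G 4 = cnt G p ∨ cnt G 4 = cnt G q := by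
    haveI := Fact.mk hp; haveI := Fact.mk hq
    exact (two_primes hV hone.le hp3 hq3 hpd hqd hpq).2.2 4 (by norm_num)
  have s4 : ∑ e ∈ (4 : ℕ).divisors, cnt G e = 2 + cnt G 4 := by
    rw [show (4 : ℕ).divisors = {1, 2, 4} by decide, Finset.sum_insert (by simp),
      Finset.sum_pair (by norm_num), cnt_one, hone]
    ring
  have hn4 : cnt G 4 ≠ 0 := fun h0 => by
    have := dvd_sum_cnt (G := G) h4
    rw [s4, h0] at this
    omega
  suffices key : ∀ r s : ℕ, r.Prime → s.Prime → 3 ≤ r → 3 ≤ s → r ∣ Nat.card G → s ∣ Nat.card G →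
      r ≠ s → cnt G 4 = cnt G r → False by
    rcases hall with e | e | e
    · exact hn4 e
    · exact key p q hp hq hp3 hq3 hpd hqd hpq e
    · exact key q p hq hp hq3 hp3 hqd hpd hpq.symm e
  intro r s hr hs hr3 hs3 hrd hsd hrs e4
  haveI := Fact.mk hr; haveI := Fact.mk hs
  obtain ⟨-, hs0, hW⟩ := two_primes hV hone.le hr3 hs3 hrd hsd hrs
  have hr4 : ¬ r ∣ 4 := fun h => by
    have h' : r ∣ 2 ^ 2 := h
    have := Nat.le_of_dvd (by omega) (hr.dvd_of_dvd_pow h')
    omega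
  have hd : 4 * r ∣ Nat.card G :=
    Nat.Coprime.mul_dvd_of_dvd_of_dvd (hr.coprime_iff_not_dvd.2 hr4).symm h4 hrd
  have h := cast_sum_eq_zero (p := r) hd (Dvd.intro_left 4 rfl)
  rw [sum_divisors_mul_prime hr hr4, s4, show (4 : ℕ).divisors = {1, 2, 4} by decide,
    Finset.sum_insert (by simp), Finset.sum_pair (by norm_num), one_mul,
    cnt_two_mul hone (hr.odd_of_ne_two (by omega)), e4] at h
  push_cast at h
  rw [cnt_prime hr hrd] at h
  rcases hW (4 * r) (by omega) with e | e | e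
  · rw [e, Nat.cast_zero] at h
    exact one_ne_zero (by linear_combination -h : (1 : ZMod r) = 0)
  · rw [e, cnt_prime hr hrd] at h
    exact ne_zero_two hr3 (by linear_combination -h)
  · rw [e, hs0] at h
    exact one_ne_zero (by linear_combination -h : (1 : ZMod r) = 0)

theorem isSolvable_of_values {a b : ℕ}
    (hV : ∀ d, cnt G d = 0 ∨ cnt G d = 1 ∨ cnt G d = a ∨ cnt G d = b) : Group.IsSolvable G := by
  set O := (Nat.card G).primeFactors.filter (3 ≤ ·) with hO
  have hG0 : Nat.card G ≠ 0 := Nat.card_pos.ne'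
  have hsub : ∀ r ∈ (Nat.card G).primeFactors, r = 2 ∨ r ∈ O := fun r hr => by
    have := (Nat.prime_of_mem_primeFactors hr).two_le
    by_cases h : r = 2
    · exact Or.inl h
    · exact Or.inr (Finset.mem_filter.2 ⟨hr, by omega⟩)
  by_cases hle : O.card ≤ 1
  · obtain ⟨p, hp, hp2, hpO⟩ : ∃ p, p.Prime ∧ p ≠ 2 ∧ O ⊆ {p} := by
      rcases Nat.le_one_iff_eq_zero_or_eq_one.1 hle with h | h
      · exact ⟨3, Nat.prime_three, by norm_num, by rw [Finset.card_eq_zero.1 h]; exact Finset.empty_subset _⟩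
      · obtain ⟨p, hp⟩ := Finset.card_eq_one.1 h
        have hm : p ∈ O := hp ▸ Finset.mem_singleton_self p
        exact ⟨p, Nat.prime_of_mem_primeFactors (Finset.mem_filter.1 hm).1,
          by have := (Finset.mem_filter.1 hm).2; omega, hp.le⟩
    refine Cfsg.Agent.Char.isSolvable_of_card_pq 2 p Nat.prime_two hp _ G rfl
      (eq_pow_mul_pow hG0 Nat.prime_two hp hp2.symm fun r hr => ?_)
    rcases hsub r hr with rfl | h
    · simp
    · exact Finset.mem_insert_of_mem (hpO h)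
  obtain ⟨p, hp, q, hq, hpq⟩ := Finset.one_lt_card.1 (by omega : 1 < O.card)
  simp only [hO, Finset.mem_filter, Nat.mem_primeFactors] at hp hq
  have h1 : cnt G 2 ≤ 1 := by
    by_cases h2 : 2 ∣ Nat.card G
    · by_contra h
      exact hpq (eq_of_many_involutions hV h2 (by omega) hp.1.1 hq.1.1 hp.2 hq.2 hp.1.2.1 hq.1.2.1)
    · rw [cnt_two_eq_zero h2]; omega
  have hOeq : O = {p, q} := (Finset.eq_of_subset_of_card_le (fun r hr => by
    rcases Finset.mem_insert.1 hr with rfl | hr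
    · simp [hO, hp]
    · rw [Finset.mem_singleton] at hr; subst hr; simp [hO, hq])
    (by rw [Finset.card_pair hpq]; exact card_odd_primes_le hV h1)).symm
  by_cases h2 : 2 ∣ Nat.card G
  swap
  · refine Cfsg.Agent.Char.isSolvable_of_card_pq p q hp.1.1 hq.1.1 _ G rfl
      (eq_pow_mul_pow hG0 hp.1.1 hq.1.1 hpq fun r hr => ?_)
    rcases hsub r hr with rfl | h
    · exact absurd (Nat.dvd_of_mem_primeFactors hr) h2
    · rwa [hOeq] at h
  have hone : cnt G 2 = 1 := by
    have := odd_cnt_two h2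
    rw [Nat.odd_iff] at this; omega
  have h4 := not_four_dvd hV hone hp.1.1 hq.1.1 hp.2 hq.2 hp.1.2.1 hq.1.2.1 hpq
  obtain ⟨z, hz⟩ := exists_of_cnt_ne_zero (G := G) (d := 2) (by omega)
  have hZn : (Subgroup.zpowers z).Normal := by
    refine ⟨fun x hx g => ?_⟩
    have hcen : g * z * g⁻¹ = z := by
      haveI := (Nat.card_eq_one_iff_unique.1 hone).1
      exact congrArg Subtype.val (Subsingleton.elim
        (⟨g * z * g⁻¹, (MulEquiv.orderOf_eq (MulAut.conj g) z).trans hz⟩ : {x : G // orderOf x = 2}) ⟨z, hz⟩)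
    obtain ⟨k, rfl⟩ := Subgroup.mem_zpowers_iff.1 hx
    rw [← conj_zpow, hcen]
    exact Subgroup.zpow_mem_zpowers z k
  have hcardZ : Nat.card (Subgroup.zpowers z) = 2 := by rw [Nat.card_zpowers, hz]
  have hQ : Nat.card (G ⧸ Subgroup.zpowers z) * 2 = Nat.card G := by
    rw [← hcardZ]; exact (Subgroup.card_eq_card_quotient_mul_card_subgroup _).symm
  have hQ0 : Nat.card (G ⧸ Subgroup.zpowers z) ≠ 0 := Nat.card_pos.ne'
  have hQs : Group.IsSolvable (G ⧸ Subgroup.zpowers z) := by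
    refine Cfsg.Agent.Char.isSolvable_of_card_pq p q hp.1.1 hq.1.1 _ _ rfl
      (eq_pow_mul_pow hQ0 hp.1.1 hq.1.1 hpq fun r hr => ?_)
    obtain ⟨hr', hrd, -⟩ := Nat.mem_primeFactors.1 hr
    rcases hsub r (Nat.mem_primeFactors.2 ⟨hr', hrd.trans ⟨2, hQ.symm⟩, hG0⟩) with rfl | h
    · exact absurd (by rw [← hQ]; exact Nat.mul_dvd_mul_right hrd 2) h4
    · rwa [hOeq] at h
  haveI : IsMulCommutative ↥(Subgroup.zpowers z) := inferInstance
  haveI : Group.IsSolvable ↥(Subgroup.zpowers z) := Group.isSolvable_of_comm fun x y => mul_comm' x y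
  exact Group.isSolvable_of_ker_le_range (Subgroup.zpowers z).subtype (QuotientGroup.mk' (Subgroup.zpowers z))
    (by rw [QuotientGroup.ker_mk', Subgroup.range_subtype])

end Cfsg.Agent.SameOrder
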