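import Mathlib.FieldTheory.Finite.Basic
import Mathlib.FieldTheory.Galois.Basic
import Mathlib.Algebra.Algebra.ZMod
import Mathlib.FieldTheory.Finite.GaloisField
import Mathlib.RingTheory.IntegralDomain
import Mathlib.Algebra.Ring.Subring.Basic
import Mathlib.Algebra.Module.ZMod
import Mathlib.Algebra.Field.ZMod
import Mathlib.Algebra.CharP.Lemmas
import Mathlib.GroupTheory.SpecificGroups.Cyclic

/-!
An abelian normal subgroup acting irreducibly on an elementary abelian group spans a field, so it is cyclic and
the quotient of the acting group by its centraliser is cyclic of order dividing the degree.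
-/

set_option autoImplicit false

namespace Cfsg.Agent.SchurField

/-- In a domain with `p ^ d` elements not all elements are fixed by a smaller power of the Frobenius. -/
theorem not_all_fixed {R : Type*} [CommRing R] [IsDomain R] [Finite R] {p i d : ℕ} (hp : 1 < p)
    (hcard : Nat.card R = p ^ d) (hi : 0 < i) (hid : i < d) (hfix : ∀ r : R, r ^ p ^ i = r) : False := by
  classical
  haveI := Fintype.ofFinite R
  letI : Field R := Fintype.fieldOfDomain R
  have h1 : 1 < p ^ i := Nat.one_lt_pow hi.ne' hp
  have hP : (Polynomial.X ^ p ^ i - Polynomial.X : Polynomial R) ≠ 0 :=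
    FiniteField.X_pow_card_sub_X_ne_zero R h1
  have h2 : Fintype.card R ≤ (Polynomial.X ^ p ^ i - Polynomial.X : Polynomial R).roots.toFinset.card := by
    rw [← Finset.card_univ]
    refine Finset.card_le_card fun r _ => ?_
    rw [Multiset.mem_toFinset, Polynomial.mem_roots hP]
    simp [hfix r]
  have h3 := h2.trans ((Multiset.toFinset_card_le _).trans (Polynomial.card_roots' _))
  rw [FiniteField.X_pow_card_sub_X_natDegree_eq R h1, ← Nat.card_eq_fintype_card, hcard] at h3
  exact absurd h3 (not_le.2 (Nat.pow_lt_pow_right hp hid))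

/-- A group of ring automorphisms of a finite domain: cyclic, of order dividing the degree. -/
theorem quotient_cyclic {R : Type*} [CommRing R] [IsDomain R] [Finite R] {p d : ℕ} [Fact p.Prime] [CharP R p]
    (hcard : Nat.card R = p ^ d) {H : Type*} [Group H] [Finite H] (φ : H →* RingAut R) :
    φ.ker.index ∣ d ∧ ∃ h : H, ⊤ = φ.ker ⊔ Subgroup.zpowers h := by
  classical
  haveI := Fintype.ofFinite R
  letI : Field R := Fintype.fieldOfDomain R
  letI : Algebra (ZMod p) R := ZMod.algebra R p
  have hfr : Module.finrank (ZMod p) R = d := by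
    have h2 := Module.natCard_eq_pow_finrank (K := ZMod p) (V := R)
    rw [hcard, Nat.card_zmod] at h2
    exact (Nat.pow_right_injective (Fact.out : p.Prime).two_le h2).symm
  let ψ : H →* (R ≃ₐ[ZMod p] R) :=
    { toFun := fun h => AlgEquiv.ofRingEquiv (f := φ h)
        (fun x => RingHom.congr_fun (Subsingleton.elim
          ((φ h : R →+* R).comp (algebraMap (ZMod p) R)) (algebraMap (ZMod p) R)) x)
      map_one' := AlgEquiv.ext fun r => by
        show φ 1 r = r
        rw [map_one]; rfl
      map_mul' := fun g k => AlgEquiv.ext fun r => by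
        show φ (g * k) r = φ g (φ k r)
        rw [map_mul]; rfl }
  have hker : ψ.ker = φ.ker := by
    ext h
    rw [MonoidHom.mem_ker, MonoidHom.mem_ker]
    exact ⟨fun e => RingEquiv.ext fun r => DFunLike.congr_fun e r,
      fun e => AlgEquiv.ext fun r => (RingEquiv.congr_fun e r : φ h r = r)⟩
  have hG : Nat.card (R ≃ₐ[ZMod p] R) = d := by rw [IsGalois.card_aut_eq_finrank, hfr]
  rw [← hker]
  refine ⟨?_, ?_⟩
  · rw [Subgroup.index_ker, ← hG]
    exact Subgroup.card_subgroup_dvd_card _
  · haveI : IsCyclic ψ.range := inferInstance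
    obtain ⟨g, hg⟩ := IsCyclic.exists_generator (α := ψ.range)
    obtain ⟨h, hh⟩ := g.2
    refine ⟨h, (eq_top_iff.2 fun x _ => ?_).symm⟩
    obtain ⟨k, hk⟩ := hg ⟨ψ x, x, rfl⟩
    have hk' : ψ (h ^ k) = ψ x := by
      rw [map_zpow, hh]
      exact congrArg Subtype.val hk
    have hm : x * (h ^ k)⁻¹ ∈ ψ.ker := by
      rw [MonoidHom.mem_ker, map_mul, map_inv, hk', mul_inv_cancel]
    have h2 := mul_mem (Subgroup.mem_sup_left hm : x * (h ^ k)⁻¹ ∈ ψ.ker ⊔ Subgroup.zpowers h)
      (Subgroup.mem_sup_right (zpow_mem (Subgroup.mem_zpowers h) k))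
    rwa [inv_mul_cancel_right] at h2

variable {V : Type*} [AddCommGroup V] [Finite V] {p : ℕ} [Fact p.Prime] {d : ℕ}
variable {H : Type*} [Group H] [Finite H] (act : H →* AddMonoid.End V) (A : Subgroup H)

/-- The subring spanned by the images of `A`. -/
abbrev span : Subring (AddMonoid.End V) := Subring.closure (act '' (A : Set H))

theorem mem_span {a : H} (ha : a ∈ A) : act a ∈ span act A := Subring.subset_closure ⟨a, ha, rfl⟩

theorem main (hexp : ∀ v : V, p • v = 0) (hcard : Nat.card V = p ^ d) (hd : 0 < d)
    (hinj : Function.Injective act) (hn : A.Normal) (hcomm : ∀ a ∈ A, ∀ b ∈ A, a * b = b * a)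
    (hirr : ∀ L : AddSubgroup V, (∀ a ∈ A, ∀ v ∈ L, act a v ∈ L) → L = ⊥ ∨ L = ⊤) :
    IsCyclic A ∧ (∀ i, 0 < i → i < d → ¬ Nat.card A ∣ p ^ i - 1) ∧
      (Subgroup.centralizer (A : Set H) = A →
        Nat.card H ∣ Nat.card A * d ∧ ∃ h : H, ⊤ = A ⊔ Subgroup.zpowers h) := by
  classical
  set R := span act A with hR
  haveI hRc : IsMulCommutative R := Subring.isMulCommutative_closure (by
    rintro _ ⟨a, ha, rfl⟩ _ ⟨b, hb, rfl⟩
    rw [← map_mul, hcomm a ha b hb, map_mul])
  letI : CommRing R :=
    { (inferInstance : Ring R) with mul_comm := fun a b => mul_comm' a b }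
  haveI : Finite (AddMonoid.End V) := Finite.of_injective (fun f : AddMonoid.End V => (f : V → V))
    DFunLike.coe_injective
  haveI : Finite R := Finite.of_injective (fun r : R => (r : AddMonoid.End V)) Subtype.val_injective
  -- a vector
  obtain ⟨v, hv⟩ : ∃ v : V, v ≠ 0 := by
    by_contra hc
    push Not at hc
    haveI : Subsingleton V := ⟨fun a b => by rw [hc a, hc b]⟩
    rw [Nat.card_of_subsingleton (0 : V)] at hcard
    exact (Nat.one_lt_pow hd.ne' (Fact.out : p.Prime).one_lt).ne hcard
  haveI : Nontrivial R := ⟨⟨1, 0, fun h => hv (by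
    have h2 := congrArg (fun r : R => (r : AddMonoid.End V) v) h
    simpa using h2)⟩⟩
  -- evaluation at a non-zero vector
  have ev_surj : ∀ u : V, u ≠ 0 → ∀ w, ∃ r : R, (r : AddMonoid.End V) u = w := by
    intro u hu w
    let L : AddSubgroup V :=
      { carrier := {w | ∃ r : R, (r : AddMonoid.End V) u = w}
        add_mem' := by
          rintro _ _ ⟨r, rfl⟩ ⟨s, rfl⟩
          exact ⟨r + s, rfl⟩
        zero_mem' := ⟨0, rfl⟩
        neg_mem' := by
          rintro _ ⟨r, rfl⟩
          exact ⟨-r, rfl⟩ }
    have hL : L = ⊤ := (hirr L (by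
      rintro a ha _ ⟨r, rfl⟩
      exact ⟨⟨act a, mem_span act A ha⟩ * r, rfl⟩)).resolve_left fun e => hu (by
        have h2 : u ∈ L := ⟨1, rfl⟩
        rwa [e, AddSubgroup.mem_bot] at h2)
    exact (hL ▸ AddSubgroup.mem_top w : w ∈ L)
  have ev_inj : ∀ u : V, u ≠ 0 → ∀ r : R, (r : AddMonoid.End V) u = 0 → r = 0 := by
    intro u hu r hr
    refine Subtype.ext (AddMonoidHom.ext fun w => ?_)
    obtain ⟨s, rfl⟩ := ev_surj u hu w
    have h2 : (r : AddMonoid.End V) ((s : AddMonoid.End V) u) = ((r * s : R) : AddMonoid.End V) u := rfl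
    rw [mul_comm r s] at h2
    show (r : AddMonoid.End V) ((s : AddMonoid.End V) u) = 0
    rw [h2]
    show (s : AddMonoid.End V) ((r : AddMonoid.End V) u) = 0
    rw [hr, map_zero]
  haveI : IsDomain R := by
    haveI : NoZeroDivisors R := ⟨fun {r s} h => by
      by_cases hs : (s : AddMonoid.End V) v = 0
      · exact Or.inr (ev_inj v hv s hs)
      · left
        refine ev_inj _ hs r ?_
        have h2 := congrArg (fun x : R => (x : AddMonoid.End V) v) h
        exact h2⟩
    exact NoZeroDivisors.to_isDomain R
  -- the homomorphism into the ring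
  let f : A →* R :=
    { toFun := fun a => ⟨act a, mem_span act A a.2⟩
      map_one' := Subtype.ext (map_one act)
      map_mul' := fun a b => Subtype.ext (map_mul act _ _) }
  have hf : Function.Injective f := fun a b e => Subtype.ext (hinj (congrArg Subtype.val e))
  have hRcard : Nat.card R = p ^ d := by
    rw [← hcard]
    refine Nat.card_eq_of_bijective (fun r : R => (r : AddMonoid.End V) v) ⟨fun r s e => ?_, ev_surj v hv⟩
    refine sub_eq_zero.1 (ev_inj v hv _ ?_)
    show (r : AddMonoid.End V) v - (s : AddMonoid.End V) v = 0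
    exact sub_eq_zero.2 e
  have hp0 : (p : R) = 0 := by
    refine Subtype.ext (AddMonoidHom.ext fun w => ?_)
    show ((p : AddMonoid.End V)) w = 0
    rw [AddMonoid.End.natCast_apply]
    exact hexp w
  haveI : CharP R p := CharP.charP_iff_prime_eq_zero (Fact.out : p.Prime) |>.2 hp0
  refine ⟨isCyclic_of_injective_ringHom f hf, fun i hi hid hdvd => ?_, fun hC => ?_⟩
  · -- all of `R` satisfies `r ^ p ^ i = r`
    have hfix : ∀ r : R, r ^ p ^ i = r := by
      let S : Subring R :=
        { carrier := {r | r ^ p ^ i = r}
          mul_mem' := fun {a b} ha hb => by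
            show (a * b) ^ p ^ i = a * b
            rw [mul_pow, ha, hb]
          one_mem' := one_pow _
          add_mem' := fun {a b} ha hb => by
            show (a + b) ^ p ^ i = a + b
            rw [add_pow_char_pow, ha, hb]
          zero_mem' := zero_pow (pow_pos (Fact.out : p.Prime).pos i).ne'
          neg_mem' := fun {a} ha => by
            show (-a) ^ p ^ i = -a
            have h0 : (a + -a) ^ p ^ i = a + (-a) ^ p ^ i := by rw [add_pow_char_pow, ha]
            rw [add_neg_cancel, zero_pow (pow_pos (Fact.out : p.Prime).pos i).ne'] at h0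
            exact eq_neg_of_add_eq_zero_right h0.symm }
      have hgen : R ≤ S.map R.subtype := by
        refine Subring.closure_le.2 ?_
        rintro _ ⟨a, ha, rfl⟩
        refine ⟨f ⟨a, ha⟩, ?_, rfl⟩
        show f ⟨a, ha⟩ ^ p ^ i = f ⟨a, ha⟩
        obtain ⟨c, hc⟩ := hdvd
        have h1 : (⟨a, ha⟩ : A) ^ (p ^ i - 1) = 1 := by
          rw [hc, pow_mul, pow_card_eq_one', one_pow]
        have h2 : (⟨a, ha⟩ : A) ^ p ^ i = ⟨a, ha⟩ := by
          conv_lhs => rw [← Nat.sub_add_cancel (pow_pos (Fact.out : p.Prime).pos i : 1 ≤ p ^ i)]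
          rw [pow_succ, h1, one_mul]
        rw [← map_pow, h2]
      intro r
      obtain ⟨s, hs, e⟩ := hgen r.2
      rw [show r = s from Subtype.ext e.symm]
      exact hs
    exact not_all_fixed (Fact.out : p.Prime).one_lt hRcard hi hid hfix
  · -- conjugation
    have hconj : ∀ h : H, ∀ r : R, act h * (r : AddMonoid.End V) * act h⁻¹ ∈ R := by
      intro h r
      let S : Subring (AddMonoid.End V) :=
        { carrier := {x | act h * x * act h⁻¹ ∈ R}
          mul_mem' := fun {a b} ha hb => by
            show act h * (a * b) * act h⁻¹ ∈ R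
            have e : act h * (a * b) * act h⁻¹ = (act h * a * act h⁻¹) * (act h * b * act h⁻¹) := by
              have h1 : act h⁻¹ * act h = 1 := by rw [← map_mul, inv_mul_cancel, map_one]
              calc act h * (a * b) * act h⁻¹ = act h * a * 1 * b * act h⁻¹ := by simp [mul_assoc]
                _ = _ := by rw [← h1]; simp [mul_assoc]
            rw [e]
            exact R.mul_mem ha hb
          one_mem' := by
            show act h * 1 * act h⁻¹ ∈ R
            rw [mul_one, ← map_mul, mul_inv_cancel, map_one]
            exact R.one_mem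
          add_mem' := fun {a b} ha hb => by
            show act h * (a + b) * act h⁻¹ ∈ R
            rw [mul_add, add_mul]
            exact R.add_mem ha hb
          zero_mem' := by
            show act h * 0 * act h⁻¹ ∈ R
            rw [mul_zero, zero_mul]
            exact R.zero_mem
          neg_mem' := fun {a} ha => by
            show act h * (-a) * act h⁻¹ ∈ R
            rw [mul_neg, neg_mul]
            exact R.neg_mem ha }
      have hle : R ≤ S := Subring.closure_le.2 (by
        rintro _ ⟨a, ha, rfl⟩
        show act h * act a * act h⁻¹ ∈ R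
        rw [← map_mul, ← map_mul]
        exact mem_span act A (hn.conj_mem a ha h))
      exact hle r.2
    let φ : H → (R →+* R) := fun h =>
      { toFun := fun r => ⟨act h * (r : AddMonoid.End V) * act h⁻¹, hconj h r⟩
        map_one' := Subtype.ext (by
          show act h * 1 * act h⁻¹ = 1
          rw [mul_one, ← map_mul, mul_inv_cancel, map_one])
        map_mul' := fun a b => Subtype.ext (by
          show act h * ((a : AddMonoid.End V) * b) * act h⁻¹ =
            (act h * a * act h⁻¹) * (act h * b * act h⁻¹)
          have h1 : act h⁻¹ * act h = 1 := by rw [← map_mul, inv_mul_cancel, map_one]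
          calc act h * ((a : AddMonoid.End V) * b) * act h⁻¹
              = act h * a * 1 * b * act h⁻¹ := by simp [mul_assoc]
            _ = _ := by rw [← h1]; simp [mul_assoc])
        map_zero' := Subtype.ext (by
          show act h * 0 * act h⁻¹ = 0
          rw [mul_zero, zero_mul])
        map_add' := fun a b => Subtype.ext (by
          show act h * ((a : AddMonoid.End V) + b) * act h⁻¹ = _
          rw [mul_add, add_mul]; rfl) }
    have φ_mul : ∀ g k r, φ (g * k) r = φ g (φ k r) := fun g k r => Subtype.ext (by
      show act (g * k) * (r : AddMonoid.End V) * act (g * k)⁻¹ = act g * (act k * r * act k⁻¹) * act g⁻¹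
      rw [mul_inv_rev, map_mul, map_mul]; simp [mul_assoc])
    have φ_one : ∀ r, φ 1 r = r := fun r => Subtype.ext (by
      show act 1 * (r : AddMonoid.End V) * act (1 : H)⁻¹ = r
      rw [inv_one, map_one, one_mul, mul_one])
    let ψ : H →* RingAut R :=
      { toFun := fun h => RingEquiv.ofRingHom (φ h) (φ h⁻¹)
            (RingHom.ext fun r => by
              rw [RingHom.comp_apply, ← φ_mul, mul_inv_cancel, φ_one]; rfl)
            (RingHom.ext fun r => by
              rw [RingHom.comp_apply, ← φ_mul, inv_mul_cancel, φ_one]; rfl)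
        map_one' := RingEquiv.ext fun r => φ_one r
        map_mul' := fun g k => RingEquiv.ext fun r => φ_mul g k r }
    have hker : ψ.ker = A := by
      refine Eq.trans ?_ hC
      ext h
      rw [MonoidHom.mem_ker, Subgroup.mem_centralizer_iff]
      constructor
      · intro e a ha
        have h2 := congrArg Subtype.val (DFunLike.congr_fun e (⟨act a, mem_span act A ha⟩ : R))
        have h3 : act (h * a * h⁻¹) = act a := by
          rw [map_mul, map_mul]
          exact h2
        exact (mul_inv_eq_iff_eq_mul.1 (hinj h3)).symm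
      · intro e
        let S : Subring R :=
          { carrier := {r | φ h r = r}
            mul_mem' := fun {a b} ha hb => by
              show φ h (a * b) = a * b
              rw [map_mul, ha, hb]
            one_mem' := map_one _
            add_mem' := fun {a b} ha hb => by
              show φ h (a + b) = a + b
              rw [map_add, ha, hb]
            zero_mem' := map_zero _
            neg_mem' := fun {a} ha => by
              show φ h (-a) = -a
              rw [map_neg, ha] }
        have hle : R ≤ S.map R.subtype := Subring.closure_le.2 (by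
          rintro _ ⟨a, ha, rfl⟩
          refine ⟨⟨act a, mem_span act A ha⟩, Subtype.ext ?_, rfl⟩
          show act h * act a * act h⁻¹ = act a
          rw [← map_mul, ← map_mul, ← e a ha, mul_inv_cancel_right])
        refine RingEquiv.ext fun r => ?_
        obtain ⟨s, hs, e'⟩ := hle r.2
        rw [show r = s from Subtype.ext e'.symm]
        exact hs
    obtain ⟨h1, h, h2⟩ := quotient_cyclic hRcard ψ
    rw [hker] at h1 h2
    refine ⟨?_, h, h2⟩
    rw [← Subgroup.index_mul_card A, mul_comm (Nat.card A) d]
    exact Nat.mul_dvd_mul_right h1 _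

end Cfsg.Agent.SchurField
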