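import Cfsg.Agent.S0732
import Cfsg.Agent.S2508
import Cfsg.Agent.S2475
import Cfsg.Agent.Lib.Classical.ProjLine
import Cfsg.Agent.Lib.JComp.S4
import Cfsg.Agent.Lib.FiniteGroup.SylowNumbers
import Cfsg.Agent.Lib.Solvable.Structure
import Mathlib.GroupTheory.Perm.Cycle.Type
import Mathlib.GroupTheory.SpecificGroups.Cyclic

/-!
The centreless groups with Sylow numbers `18`, `136`, `153`.
-/

set_option autoImplicit false
set_option linter.style.haveILetI false
set_option linter.unusedSectionVars false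

namespace Cfsg.Agent.SylowSeventeen

open Subgroup

theorem sylow_card_le_of_injective {H G : Type*} [Group H] [Group G] [Finite H] [Finite G] {r : ℕ}
    [Fact r.Prime] (f : H →* G) (hf : Function.Injective f) :
    Nat.card (Sylow r H) ≤ Nat.card (Sylow r G) := by
  have h : ∀ Q : Sylow r H, ∃ S : Sylow r G, (Q : Subgroup H).map f ≤ S := fun Q =>
    (Q.2.map f).exists_le_sylow
  choose F hF using h
  refine Nat.card_le_card_of_injective F fun Q₁ Q₂ e => ?_
  have hp : IsPGroup r ((F Q₁ : Subgroup G).comap f) := (F Q₁).2.comap_of_injective f hf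
  have h1 : (Q₁ : Subgroup H) ≤ (F Q₁ : Subgroup G).comap f := map_le_iff_le_comap.1 (hF Q₁)
  have h2 : (Q₂ : Subgroup H) ≤ (F Q₁ : Subgroup G).comap f := by
    rw [e]; exact map_le_iff_le_comap.1 (hF Q₂)
  exact Sylow.ext ((Q₁.3 hp h1).symm.trans (Q₂.3 hp h2))

theorem sylow_card_le_of_surjective {G G' : Type*} [Group G] [Group G'] [Finite G] {r : ℕ}
    [Fact r.Prime] (f : G →* G') (hf : Function.Surjective f) :
    Nat.card (Sylow r G') ≤ Nat.card (Sylow r G) :=
  Nat.card_le_card_of_surjective _ (Sylow.mapSurjective_surjective hf r)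

theorem ker_le_normalizer {G G' : Type*} [Group G] [Group G'] [Finite G] {r : ℕ}
    [Fact r.Prime] (f : G →* G') (hf : Function.Surjective f)
    (h : Nat.card (Sylow r G') = Nat.card (Sylow r G)) (S : Sylow r G) :
    f.ker ≤ normalizer ((S : Subgroup G) : Set G) := by
  haveI : Finite G' := Finite.of_surjective f hf
  have hb := (Nat.bijective_iff_surjective_and_card _).2
    ⟨Sylow.mapSurjective_surjective hf r, h.symm⟩
  intro k hk
  refine (Sylow.stabilizer_eq_normalizer S).le (MulAction.mem_stabilizer_iff.2 ?_)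
  refine hb.1 (Sylow.ext ?_)
  rw [Sylow.coe_mapSurjective, Sylow.coe_mapSurjective]
  show ((S : Subgroup G).map (MulAut.conj k).toMonoidHom).map f = _
  rw [map_map]
  refine congrArg (fun g : G →* G' => (S : Subgroup G).map g) (MonoidHom.ext fun x => ?_)
  show f (k * x * k⁻¹) = f x
  rw [map_mul, map_mul, map_inv, MonoidHom.mem_ker.1 hk, one_mul, inv_one, mul_one]

/-! ## The group `PSL₂(17)` -/

local notation "T17" => Matrix.ProjectiveSpecialLinearGroup (Fin 2) (ZMod 17)

instance : Fact (Nat.Prime 17) := ⟨by norm_num⟩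

theorem card_T : Nat.card T17 = 2448 := by
  have h := ProjLine.two_mul_card_psl (F := ZMod 17)
  rw [Nat.card_zmod, show Nat.gcd 2 (17 - 1) = 2 from rfl] at h
  norm_num [-Nat.card_eq_fintype_card] at h
  omega

theorem orders : Set.range (orderOf : T17 → ℕ) = {m : ℕ | m ∣ 17 ∨ m ∣ 8 ∨ m ∣ 9} := by
  haveI : CharP (ZMod 17) 17 := ZMod.charP 17
  have h := Cfsg.Agent.S2475.result (F := ZMod 17) 17 (by rw [ZMod.card]; norm_num)
  rw [ZMod.card, show (17 - 1) / Nat.gcd 2 (17 - 1) = 8 from rfl,
    show (17 + 1) / Nat.gcd 2 (17 - 1) = 9 from rfl] at h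
  exact h

theorem exists_order {m : ℕ} (hm : m ∣ 17 ∨ m ∣ 8 ∨ m ∣ 9) : ∃ x : T17, orderOf x = m :=
  orders.ge hm

theorem index_mem (g : T17) :
    (centralizer ({g} : Set T17)).index ∈ ({1, 144, 153, 272, 306} : Set ℕ) := by
  have h := (Cfsg.Agent.S2508.result (F := ZMod 17) (by rw [ZMod.card]; norm_num)
    (by rw [ZMod.card]; norm_num)).1 (by rw [ZMod.card])
  rw [ZMod.card] at h
  have h1 := h.le ⟨g, rfl⟩
  norm_num at h1 ⊢
  omega

/-- The centraliser of an element of order `3`, `9` or `17`. -/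
theorem card_centralizer {y : T17} (hy : orderOf y = 3 ∨ orderOf y = 9 ∨ orderOf y = 17) :
    Nat.card (centralizer ({y} : Set T17)) = 9 ∨ Nat.card (centralizer ({y} : Set T17)) = 17 := by
  have hd : orderOf y ∣ Nat.card (centralizer ({y} : Set T17)) :=
    orderOf_dvd_natCard _ (mem_centralizer_singleton_iff.2 rfl)
  have hmul := (centralizer ({y} : Set T17)).card_mul_index
  rw [card_T] at hmul
  have h1 : (centralizer ({y} : Set T17)).index ≠ 1 := by
    intro h
    rw [index_eq_one] at h
    obtain ⟨l, hl, z, hz⟩ : ∃ l, ((l = 17 ∧ orderOf y ≠ 17) ∨ (l = 3 ∧ orderOf y = 17)) ∧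
        ∃ z : T17, orderOf z = l := by
      rcases hy with h' | h' | h'
      · exact ⟨17, Or.inl ⟨rfl, by omega⟩, exists_order (Or.inl dvd_rfl)⟩
      · exact ⟨17, Or.inl ⟨rfl, by omega⟩, exists_order (Or.inl dvd_rfl)⟩
      · exact ⟨3, Or.inr ⟨rfl, h'⟩, exists_order (Or.inr (Or.inr (by norm_num)))⟩
    have hc : Commute y z :=
      (mem_centralizer_singleton_iff.1 (h.ge (mem_top z))).symm
    have hco : Nat.Coprime (orderOf y) (orderOf z) := by
      rw [hz]
      rcases hl with ⟨rfl, _⟩ | ⟨rfl, h'⟩ <;> rcases hy with h'' | h'' | h'' <;>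
        first | omega | (rw [h'']; norm_num)
    have ho := orders.le ⟨y * z, rfl⟩
    rw [hc.orderOf_mul_eq_mul_orderOf_of_coprime hco, hz] at ho
    rcases hl with ⟨rfl, h'⟩ | ⟨rfl, h'⟩ <;> rcases hy with h'' | h'' | h'' <;>
      rw [h''] at ho <;> norm_num at ho <;> omega
  have hi := index_mem y
  simp only [Set.mem_insert_iff, Set.mem_singleton_iff] at hi
  rcases hi with h | h | h | h | h <;> rw [h] at hmul h1 <;>
    rcases hy with h' | h' | h' <;> rw [h'] at hd <;> omega

theorem dvd_153 {n : ℕ} (h : n ∣ 153) :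
    n = 1 ∨ n = 3 ∨ n = 9 ∨ n = 17 ∨ n = 51 ∨ n = 153 := by
  have h1 : n ∈ Nat.divisors 153 := Nat.mem_divisors.2 ⟨h, by norm_num⟩
  rw [show Nat.divisors 153 = {1, 3, 9, 17, 51, 153} by decide] at h1
  simpa using h1

theorem card_sylow_two : Nat.card (Sylow 2 T17) = 153 := by
  obtain ⟨S⟩ : Nonempty (Sylow 2 T17) := inferInstance
  have hS : Nat.card (S : Subgroup T17) = 16 := by
    rw [S.card_eq_multiplicity, card_T, show (2448 : ℕ) = 2 ^ 4 * 153 by norm_num,
      Nat.factorization_mul (by norm_num) (by norm_num), Finsupp.add_apply,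
      Nat.prime_two.factorization_pow, Finsupp.single_eq_same,
      Nat.factorization_eq_zero_of_not_dvd (by norm_num : ¬ 2 ∣ 153)]
    norm_num
  have hidx := (S : Subgroup T17).card_mul_index
  rw [hS, card_T] at hidx
  have hn := S.card_dvd_index
  rw [show (S : Subgroup T17).index = 153 by omega] at hn
  set N := normalizer ((S : Subgroup T17) : Set T17)
  -- no element of order 3 or 17 normalises `S`
  have key : ∀ l : ℕ, l.Prime → l ∣ Nat.card N → (l = 3 ∨ l = 17) → False := by
    intro l hl hd hl3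
    haveI : Fact l.Prime := ⟨hl⟩
    obtain ⟨y, hy⟩ := exists_prime_orderOf_dvd_card' (G := N) l hd
    rw [← Subgroup.orderOf_coe] at hy
    obtain ⟨x0, hx0⟩ := exists_order (m := 8) (Or.inr (Or.inl dvd_rfl))
    obtain ⟨Q, hQ⟩ := (IsPGroup.of_card (p := 2) (n := 3) (G := zpowers x0) (by
      rw [Nat.card_zpowers, hx0]; rfl)).exists_le_sylow
    obtain ⟨g, rfl⟩ := MulAction.exists_smul_eq T17 Q S
    set x := g * x0 * g⁻¹ with hxdef
    have hxS : x ∈ ((g • Q : Sylow 2 T17) : Subgroup T17) :=
      mem_map_of_mem (MulAut.conj g).toMonoidHom (hQ (mem_zpowers x0))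
    have hx : orderOf x = 8 := by
      rw [hxdef, ← hx0]
      exact orderOf_injective (MulAut.conj g).toMonoidHom (MulAut.conj g).injective x0
    have hcard : ((zpowers x).subgroupOf ((g • Q : Sylow 2 T17) : Subgroup T17)).index = 2 := by
      have h := ((zpowers x).subgroupOf ((g • Q : Sylow 2 T17) : Subgroup T17)).card_mul_index
      rw [Nat.card_congr (subgroupOfEquivOfLe (zpowers_le.2 hxS)).toEquiv, Nat.card_zpowers, hx,
        hS] at h
      omega
    set t := x ^ 4 with ht
    have hto : orderOf t = 2 := by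
      rw [ht, orderOf_pow, hx]; rfl
    have hyt : (y : T17) * t = t * (y : T17) := by
      have hx'S : (y : T17) * x * (y : T17)⁻¹ ∈ ((g • Q : Sylow 2 T17) : Subgroup T17) :=
        (mem_normalizer_iff.1 y.2 x).1 hxS
      set x' := (y : T17) * x * (y : T17)⁻¹ with hx'def
      have hx' : orderOf x' = 8 := by
        rw [hx'def, ← hx]
        exact orderOf_injective (MulAut.conj (y : T17)).toMonoidHom (MulAut.conj (y : T17)).injective x
      haveI := Subgroup.normal_of_index_eq_two hcard
      have hsq : x' * x' ∈ zpowers x := by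
        have h := mul_self_mem_of_index_two hcard (⟨x', hx'S⟩ : ((g • Q : Sylow 2 T17) : Subgroup T17))
        exact h
      obtain ⟨i, hi⟩ := (isOfFinOrder_of_finite x).mem_powers_iff_mem_zpowers.2 hsq
      simp only at hi
      have h4 : x' ^ 4 = t ^ (i / 2 % 2) := by
        rw [show x' ^ 4 = (x' * x') ^ 2 by rw [← pow_two, ← pow_mul], ← hi, ← pow_mul, ht, ← pow_mul]
        have h8 : x ^ 8 = 1 := by rw [← hx]; exact pow_orderOf_eq_one x
        have hev : i % 2 = 0 := by
          by_contra h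
          have h' : (x' * x') ^ 4 = 1 := by
            rw [← pow_two, ← pow_mul, show 2 * 4 = 8 from rfl, ← hx']; exact pow_orderOf_eq_one x'
          rw [← hi, ← pow_mul] at h'
          have := orderOf_dvd_of_pow_eq_one h'
          rw [hx] at this
          omega
        rw [pow_eq_pow_mod (i * 2) h8]
        congr 1
        omega
      have h5 : x' ^ 4 = t := by
        have hne : x' ^ 4 ≠ 1 := fun h => by
          have := orderOf_dvd_of_pow_eq_one h
          rw [hx'] at this
          omega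
        rcases Nat.mod_two_eq_zero_or_one (i / 2) with h | h
        · exact absurd (by rw [h4, h, pow_zero]) hne
        · rw [h4, h, pow_one]
      rw [hx'def, conj_pow, ← ht] at h5
      exact mul_inv_eq_iff_eq_mul.1 h5
    have h2 : orderOf t ∣ Nat.card (centralizer ({(y : T17)} : Set T17)) :=
      orderOf_dvd_natCard _ (mem_centralizer_singleton_iff.2 hyt.symm)
    rw [hto] at h2
    rcases card_centralizer (y := (y : T17)) (by omega) with h | h <;> omega
  have hN := N.card_mul_index
  rw [show N.index = Nat.card (Sylow 2 T17) from (Sylow.card_eq_index_normalizer S).symm, card_T] at hN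
  rcases dvd_153 hn with h | h | h | h | h | h <;> rw [h] at hN ⊢
  · exact (key 17 (by norm_num) (by omega) (Or.inr rfl)).elim
  · exact (key 17 (by norm_num) (by omega) (Or.inr rfl)).elim
  · exact (key 17 (by norm_num) (by omega) (Or.inr rfl)).elim
  · exact (key 3 Nat.prime_three (by omega) (Or.inl rfl)).elim
  · exact (key 3 Nat.prime_three (by omega) (Or.inl rfl)).elim

theorem card_sylow_three : Nat.card (Sylow 3 T17) = 136 := by
  obtain ⟨x, hx⟩ := exists_order (m := 9) (Or.inr (Or.inr dvd_rfl))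
  set A := zpowers x with hA
  have hAc : Nat.card A = 9 := by rw [hA, Nat.card_zpowers, hx]
  obtain ⟨S, hS⟩ := (IsPGroup.of_card (p := 3) (n := 2) (G := A) (by rw [hAc]; rfl)).exists_le_sylow
  have hSc : Nat.card (S : Subgroup T17) = 9 := by
    rw [S.card_eq_multiplicity, card_T, show (2448 : ℕ) = 3 ^ 2 * 272 by norm_num,
      Nat.factorization_mul (by norm_num) (by norm_num), Finsupp.add_apply,
      Nat.prime_three.factorization_pow, Finsupp.single_eq_same,
      Nat.factorization_eq_zero_of_not_dvd (by norm_num : ¬ 3 ∣ 272)]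
    norm_num
  have hSA : A = (S : Subgroup T17) := eq_of_le_of_card_ge hS (by omega)
  have hidx := (S : Subgroup T17).card_mul_index
  rw [hSc, card_T] at hidx
  have hn := S.card_dvd_index
  rw [show (S : Subgroup T17).index = 272 by omega] at hn
  have hmod := card_sylow_modEq_one 3 T17
  set N := normalizer (A : Set T17) with hNdef
  have hN54 : Nat.card N ≤ 54 := by
    have hC : Nat.card (A.normalizerMonoidHom).ker ≤ 9 := by
      rw [Subgroup.normalizerMonoidHom_ker]
      have hle : ((centralizer (A : Set T17)).subgroupOf N).map N.subtype ≤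
          centralizer ({x} : Set T17) := by
        rintro _ ⟨g, hg, rfl⟩
        exact mem_centralizer_singleton_iff.2 (mem_centralizer_iff.1 hg x (mem_zpowers x)).symm
      refine le_trans ?_ (le_of_eq (show Nat.card (centralizer ({x} : Set T17)) = 9 from ?_))
      · rw [← card_map_of_injective N.subtype_injective]
        exact card_le_of_le hle
      · have h9 : orderOf x ∣ Nat.card (centralizer ({x} : Set T17)) :=
          orderOf_dvd_natCard _ (mem_centralizer_singleton_iff.2 rfl)
        rw [hx] at h9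
        rcases card_centralizer (y := x) (Or.inr (Or.inl hx)) with h | h <;> omega
    have hR : Nat.card (A.normalizerMonoidHom).range ≤ 6 := by
      refine (card_le_of_le le_top).trans (le_of_eq ?_)
      rw [card_top, IsCyclic.card_mulAut, hAc]
      decide
    have h := (A.normalizerMonoidHom).ker.card_mul_index
    rw [index_ker] at h
    exact h ▸ Nat.mul_le_mul hC hR
  have hN := N.card_mul_index
  have hidxN : N.index = Nat.card (Sylow 3 T17) := by
    rw [hNdef, hSA]
    exact (Sylow.card_eq_index_normalizer S).symm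
  rw [hidxN, card_T] at hN
  have h1 : Nat.card (Sylow 3 T17) ∈ Nat.divisors 272 := Nat.mem_divisors.2 ⟨hn, by norm_num⟩
  rw [show Nat.divisors 272 = {1, 2, 4, 8, 16, 17, 34, 68, 136, 272} by decide] at h1
  simp only [Finset.mem_insert, Finset.mem_singleton] at h1
  rcases h1 with h | h | h | h | h | h | h | h | h | h <;> rw [h] at hN hmod ⊢ <;>
    (simp [Nat.ModEq] at hmod) <;> omega

/-! ## The main theorem -/

variable {G : Type*} [Group G] [Finite G]

theorem sylow_seventeen_action (hn : Nat.card (Sylow 17 G) = 18) :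
    ∃ d, 0 < d ∧ d ≤ 16 ∧
      Nat.card (MulAction.toPermHom G (Sylow 17 G)).range = (17 + 1) * 17 * d := by
  classical
  haveI := Fintype.ofFinite (Sylow 17 G)
  set φ := MulAction.toPermHom G (Sylow 17 G) with hφ
  have hα : Fintype.card (Sylow 17 G) = 18 := by rw [← Nat.card_eq_fintype_card, hn]
  obtain ⟨P⟩ : Nonempty (Sylow 17 G) := inferInstance
  -- `P` moves some point
  obtain ⟨y, hyP, hy⟩ : ∃ y ∈ (P : Subgroup G), φ y ≠ 1 := by
    by_contra hcon
    push Not at hcon
    haveI : Nontrivial (Sylow 17 G) := Fintype.one_lt_card_iff_nontrivial.1 (by omega)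
    obtain ⟨Q, hQ⟩ := exists_ne P
    refine hQ ?_
    have hle : (P : Subgroup G) ≤ normalizer ((Q : Subgroup G) : Set G) := fun z hz =>
      (Sylow.stabilizer_eq_normalizer Q).le
        (MulAction.mem_stabilizer_iff.2 (Equiv.ext_iff.1 (hcon z hz) Q))
    refine Sylow.ext ?_
    have hp : IsPGroup 17 ((P : Subgroup G) ⊔ (Q : Subgroup G) : Subgroup G) :=
      P.2.to_sup_of_normal_right' Q.2 hle
    exact (Q.3 hp le_sup_right).symm.trans (P.3 hp le_sup_left)
  have hsmall : ∀ H : Subgroup (Equiv.Perm (Sylow 17 G)), IsPGroup 17 H → Nat.card H ∣ 17 := by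
    intro H hH
    obtain ⟨k, hk⟩ := IsPGroup.iff_card.1 hH
    have h1 := H.card_subgroup_dvd_card
    rw [hk, Nat.card_perm, hn] at h1
    rcases (show k = 0 ∨ k = 1 ∨ 2 ≤ k by omega) with h | h | h
    · rw [hk, h]; norm_num
    · rw [hk, h]; norm_num
    · exact absurd ((pow_dvd_pow 17 h).trans h1) (by decide)
  set σ := φ y with hσ
  have hPσ : (P : Subgroup G).map φ = zpowers σ := by
    refine (eq_of_le_of_card_ge (zpowers_le.2 (mem_map_of_mem φ hyP)) ?_).symm
    have h17 : orderOf σ = 17 := by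
      have h1 := hsmall _ (P.2.map φ)
      have h2 : orderOf σ ∣ 17 := (orderOf_dvd_natCard _ (mem_map_of_mem φ hyP)).trans h1
      exact ((Nat.dvd_prime (by norm_num)).1 h2).resolve_left fun h => hy (orderOf_eq_one_iff.1 h)
    rw [Nat.card_zpowers, h17]
    exact Nat.le_of_dvd (by norm_num) (hsmall _ (P.2.map φ))
  have h17 : orderOf σ = 17 := by
    have h1 := hsmall _ (P.2.map φ)
    have h2 : orderOf σ ∣ 17 := (orderOf_dvd_natCard _ (mem_map_of_mem φ hyP)).trans h1
    exact ((Nat.dvd_prime (by norm_num)).1 h2).resolve_left fun h => hy (orderOf_eq_one_iff.1 h)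
  have hσP : σ P = P :=
    MulAction.mem_stabilizer_iff.1 (P.stabilizer_eq_normalizer.ge (le_normalizer hyP))
  have hcyc : σ.IsCycle :=
    Equiv.Perm.isCycle_of_prime_order' (by rw [h17]; norm_num) (by omega)
  obtain ⟨b, hb⟩ : ∃ b, σ b ≠ b := by
    by_contra h
    push Not at h
    exact hy (Equiv.ext h)
  have hmove : ∀ c, c ≠ P → σ c ≠ c := by
    have hsub : σ.support ⊆ Finset.univ.erase P := fun c hc =>
      Finset.mem_erase.2 ⟨fun h => Equiv.Perm.mem_support.1 hc (h ▸ hσP), Finset.mem_univ c⟩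
    have heq : σ.support = Finset.univ.erase P := Finset.eq_of_subset_of_card_le hsub (by
      rw [Finset.card_erase_of_mem (Finset.mem_univ _), Finset.card_univ, hα, ← hcyc.orderOf, h17])
    intro c hc
    rw [← Equiv.Perm.mem_support, heq]
    exact Finset.mem_erase.2 ⟨hc, Finset.mem_univ _⟩
  set Gb := φ.range with hGb
  set St := MulAction.stabilizer Gb P with hSt
  have hσmem : (⟨σ, y, rfl⟩ : Gb) ∈ St := MulAction.mem_stabilizer_iff.2 hσP
  have hdvd : 17 ∣ Nat.card St := by
    have h := orderOf_dvd_natCard St hσmem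
    rwa [← Subgroup.orderOf_coe, h17] at h
  have hconj : ∀ g : St, ((g : Gb) : Equiv.Perm (Sylow 17 G)) * σ * ((g : Gb) : Equiv.Perm _)⁻¹ ∈
      zpowers σ := by
    intro g
    obtain ⟨z, hz⟩ := (g : Gb).2
    have hzP : z ∈ normalizer ((P : Subgroup G) : Set G) := by
      refine (Sylow.stabilizer_eq_normalizer P).le (MulAction.mem_stabilizer_iff.2 ?_)
      have h := MulAction.mem_stabilizer_iff.1 g.2
      have h' : φ z P = P := by rw [hz]; exact h
      exact h'
    rw [← hz, ← hPσ, hσ, ← map_inv, ← map_mul, ← map_mul]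
    exact mem_map_of_mem φ ((mem_normalizer_iff.1 hzP y).1 hyP)
  have hle : Nat.card St ≤ 16 * 17 := by
    let f : St → {z : zpowers σ // z ≠ 1} × {c : Sylow 17 G // c ≠ P} := fun g =>
      (⟨⟨_, hconj g⟩, fun h => hy (conj_eq_one_iff.1 (congrArg Subtype.val h))⟩,
        ⟨((g : Gb) : Equiv.Perm _) b, fun h => hb (by
          have h1 : ((g : Gb) : Equiv.Perm (Sylow 17 G)) P = P := MulAction.mem_stabilizer_iff.1 g.2
          rw [(((g : Gb) : Equiv.Perm (Sylow 17 G))).injective (h.trans h1.symm), hσP])⟩)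
    have hinj : Function.Injective f := by
      intro g g' e
      have e1 : ((g : Gb) : Equiv.Perm (Sylow 17 G)) * σ * ((g : Gb) : Equiv.Perm _)⁻¹ =
          ((g' : Gb) : Equiv.Perm (Sylow 17 G)) * σ * ((g' : Gb) : Equiv.Perm _)⁻¹ :=
        congrArg (fun z : {z : zpowers σ // z ≠ 1} => ((z : zpowers σ) : Equiv.Perm (Sylow 17 G)))
          (congrArg Prod.fst e)
      have e2 : ((g : Gb) : Equiv.Perm (Sylow 17 G)) b = ((g' : Gb) : Equiv.Perm (Sylow 17 G)) b :=
        congrArg Subtype.val (congrArg Prod.snd e)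
      refine Subtype.ext (Subtype.ext (Equiv.ext fun c => ?_))
      rcases eq_or_ne c P with rfl | hc
      · exact (MulAction.mem_stabilizer_iff.1 g.2).trans (MulAction.mem_stabilizer_iff.1 g'.2).symm
      · obtain ⟨i, hi⟩ := hcyc.exists_zpow_eq (hb) (hmove c hc)
        have h3 : ∀ u : Equiv.Perm (Sylow 17 G), u c = ((u * σ * u⁻¹) ^ i) (u b) := fun u => by
          rw [conj_zpow, Equiv.Perm.mul_apply, Equiv.Perm.mul_apply, Equiv.Perm.inv_def,
            Equiv.symm_apply_apply, hi]
        rw [h3, h3 ((g' : Gb) : Equiv.Perm (Sylow 17 G)), e1, e2]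
    have h := Nat.card_le_card_of_injective f hinj
    rw [Nat.card_prod] at h
    have c1 : Nat.card {z : zpowers σ // z ≠ 1} = 16 := by
      haveI := Fintype.ofFinite (zpowers σ)
      rw [Nat.card_eq_fintype_card, Fintype.card_subtype_compl, Fintype.card_subtype_eq,
        ← Nat.card_eq_fintype_card, Nat.card_zpowers, h17]
    have c2 : Nat.card {c : Sylow 17 G // c ≠ P} = 17 := by
      rw [Nat.card_eq_fintype_card, Fintype.card_subtype_compl, Fintype.card_subtype_eq, hα]
    rwa [c1, c2] at h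
  obtain ⟨d, hd⟩ := hdvd
  refine ⟨d, ?_, ?_, ?_⟩
  · rcases Nat.eq_zero_or_pos d with h | h
    · rw [h, mul_zero] at hd; exact absurd hd Nat.card_pos.ne'
    · exact h
  · omega
  · haveI : MulAction.IsPretransitive Gb (Sylow 17 G) := ⟨fun a c => by
      obtain ⟨g, hg⟩ := MulAction.exists_smul_eq G a c
      exact ⟨⟨φ g, g, rfl⟩, hg⟩⟩
    rw [← St.card_mul_index, hd, hSt, MulAction.index_stabilizer_of_transitive, hn]
    ring

theorem dvd_card_of_sylow_ne_one {r : ℕ} [Fact r.Prime] (h : Nat.card (Sylow r G) ≠ 1) :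
    r ∣ Nat.card G := by
  by_contra hd
  obtain ⟨S⟩ : Nonempty (Sylow r G) := inferInstance
  have hS : (S : Subgroup G) = ⊥ := by
    rw [eq_bot_iff_card, S.card_eq_multiplicity, Nat.factorization_eq_zero_of_not_dvd hd, pow_zero]
  refine h ?_
  rw [Sylow.card_eq_index_normalizer S]
  show (normalizer ((S : Subgroup G) : Set G)).index = 1
  rw [hS, normalizer_eq_top_iff.2 inferInstance, index_top]

theorem main {G : Type*} [Group G] [Finite G] (hZ : center G = ⊥)
    (hNS : {c : ℕ | ∃ r : ℕ, r.Prime ∧ r ∣ Nat.card G ∧ c = Nat.card (Sylow r G)} =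
      ({18, 136, 153} : Set ℕ)) :
    Nonempty (G ≃* T17) ∨ Nonempty (G ≃* Matrix.ProjGenLinGroup (Fin 2) (ZMod 17)) := by
  classical
  haveI : Fact (Nat.Prime 3) := ⟨Nat.prime_three⟩
  have hval : ∀ r : ℕ, r.Prime → r ∣ Nat.card G →
      (Nat.card (Sylow r G) = 18 ∧ r = 17) ∨ (Nat.card (Sylow r G) = 136 ∧ (r = 3 ∨ r = 5)) ∨
        (Nat.card (Sylow r G) = 153 ∧ (r = 2 ∨ r = 19)) := by
    intro r hr hd
    haveI : Fact r.Prime := ⟨hr⟩
    have h1 := hNS.le ⟨r, hr, hd, rfl⟩
    have h2 := card_sylow_modEq_one r G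
    simp only [Set.mem_insert_iff, Set.mem_singleton_iff] at h1
    have hdvd : ∀ c, Nat.card (Sylow r G) = c + 1 → r ∣ c := fun c hc => by
      rw [hc] at h2
      have h4 := (Nat.modEq_iff_dvd' (by omega)).1 h2.symm
      simpa using h4
    rcases h1 with h | h | h
    · exact Or.inl ⟨h, (Nat.prime_dvd_prime_iff_eq hr (by norm_num)).1 (hdvd 17 h)⟩
    · refine Or.inr (Or.inl ⟨h, ?_⟩)
      have h3 := hdvd 135 h
      have : r ∈ Nat.primeFactors 135 := Nat.mem_primeFactors.2 ⟨hr, h3, by norm_num⟩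
      rw [show Nat.primeFactors 135 = {3, 5} by decide +kernel] at this
      simpa using this
    · refine Or.inr (Or.inr ⟨h, ?_⟩)
      have h3 := hdvd 152 h
      have : r ∈ Nat.primeFactors 152 := Nat.mem_primeFactors.2 ⟨hr, h3, by norm_num⟩
      rw [show Nat.primeFactors 152 = {2, 19} by decide +kernel] at this
      simpa using this
  obtain ⟨r0, hr0, hd0, h18⟩ := hNS.ge (Set.mem_insert 18 _)
  obtain rfl : r0 = 17 := by
    rcases hval r0 hr0 hd0 with ⟨-, h⟩ | ⟨h, -⟩ | ⟨h, -⟩
    · exact h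
    · omega
    · omega
  replace h18 := h18.symm
  have hdG : 18 ∣ Nat.card G := by
    obtain ⟨P⟩ : Nonempty (Sylow 17 G) := inferInstance
    rw [← h18]
    exact P.card_dvd_index.trans (index_dvd_card _)
  have hn3 : Nat.card (Sylow 3 G) = 136 := by
    rcases hval 3 Nat.prime_three ((show 3 ∣ 18 by norm_num).trans hdG) with ⟨-, h⟩ | ⟨h, -⟩ | ⟨-, h⟩
    · omega
    · exact h
    · omega
  have hn2 : Nat.card (Sylow 2 G) = 153 := by
    rcases hval 2 Nat.prime_two ((show 2 ∣ 18 by norm_num).trans hdG) with ⟨-, h⟩ | ⟨-, h⟩ | ⟨h, -⟩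
    · omega
    · omega
    · exact h
  haveI := Fintype.ofFinite (Sylow 17 G)
  obtain ⟨d, hd0', hd16, hcard⟩ := sylow_seventeen_action h18
  set φ := MulAction.toPermHom G (Sylow 17 G) with hφ
  haveI : MulAction.IsPretransitive φ.range (Sylow 17 G) := ⟨fun a c => by
    obtain ⟨g, hg⟩ := MulAction.exists_smul_eq G a c
    exact ⟨⟨φ g, g, rfl⟩, hg⟩⟩
  have hiso : ((d = 16 ∧ Nonempty (φ.range ≃* Matrix.ProjGenLinGroup (Fin 2) (ZMod 17))) ∨
      (d = 8 ∧ Nonempty (φ.range ≃* T17))) := by
    rcases Cfsg.Agent.S0732.result (p := 17) (d := d) (by norm_num)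
        (by rw [← Nat.card_eq_fintype_card, h18]) φ.range hcard (by omega) with
      ⟨h, e⟩ | ⟨h, e⟩ | ⟨q, -, hq, -⟩
    · exact Or.inl ⟨h, e⟩
    · exact Or.inr ⟨by omega, e⟩
    · exfalso
      have : q < 5 := by
        by_contra h
        have := Nat.pow_le_pow_right (n := 2) (by norm_num) (Nat.le_of_not_lt h)
        omega
      interval_cases q <;> omega
  obtain ⟨ψ, hψ⟩ : ∃ ψ : T17 →* φ.range, Function.Injective ψ := by
    rcases hiso with ⟨-, ⟨e⟩⟩ | ⟨-, ⟨e⟩⟩
    · exact ⟨e.symm.toMonoidHom.comp Matrix.ProjectiveSpecialLinearGroup.toPGL,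
        e.symm.injective.comp Matrix.ProjectiveSpecialLinearGroup.toPGL_injective⟩
    · exact ⟨e.symm.toMonoidHom, e.symm.injective⟩
  -- the kernel normalises every Sylow subgroup
  have hK : ∀ r : ℕ, r.Prime → (r = 2 ∨ r = 3 ∨ r = 17) → ∀ S : Sylow r G,
      φ.ker ≤ normalizer ((S : Subgroup G) : Set G) := by
    intro r hr hr' S
    haveI : Fact r.Prime := ⟨hr⟩
    rcases hr' with rfl | rfl | rfl
    · refine (φ.ker_rangeRestrict.ge).trans (ker_le_normalizer φ.rangeRestrict φ.rangeRestrict_surjective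
        (le_antisymm (sylow_card_le_of_surjective _ φ.rangeRestrict_surjective) ?_) S)
      rw [hn2, ← card_sylow_two]
      exact sylow_card_le_of_injective ψ hψ
    · refine (φ.ker_rangeRestrict.ge).trans (ker_le_normalizer φ.rangeRestrict φ.rangeRestrict_surjective
        (le_antisymm (sylow_card_le_of_surjective _ φ.rangeRestrict_surjective) ?_) S)
      rw [hn3, ← card_sylow_three]
      exact sylow_card_le_of_injective ψ hψ
    · intro k hk
      refine (Sylow.stabilizer_eq_normalizer S).le (MulAction.mem_stabilizer_iff.2 ?_)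
      exact Equiv.ext_iff.1 (MonoidHom.mem_ker.1 hk) S
  -- only the primes 2, 3, 17
  have hprimes : ∀ r : ℕ, r.Prime → r ∣ Nat.card G → r = 2 ∨ r = 3 ∨ r = 17 := by
    intro r hr hd
    by_contra hne
    haveI : Fact r.Prime := ⟨hr⟩
    have hr' : r = 5 ∨ r = 19 := by
      rcases hval r hr hd with ⟨-, h⟩ | ⟨-, h⟩ | ⟨-, h⟩ <;> omega
    have h17n : 17 ∣ Nat.card (Sylow r G) := by
      rcases hval r hr hd with ⟨-, h⟩ | ⟨h, -⟩ | ⟨h, -⟩
      · omega
      · rw [h]; norm_num
      · rw [h]; norm_num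
    have hrGb : ¬ r ∣ Nat.card φ.range := by
      rw [hcard]
      intro h
      rcases hiso with ⟨hd', -⟩ | ⟨hd', -⟩ <;> subst hd' <;> rcases hr' with h' | h' <;>
        subst h' <;> norm_num at h
    have hRK : ∀ R : Sylow r G, (R : Subgroup G) ≤ φ.ker := by
      intro R x hx
      rw [MonoidHom.mem_ker]
      by_contra h
      obtain ⟨k, hk⟩ := IsPGroup.iff_orderOf.1 R.2 ⟨x, hx⟩
      rw [← Subgroup.orderOf_coe] at hk
      have h1 : orderOf (φ x) ∣ r ^ k := (orderOf_map_dvd φ x).trans (dvd_of_eq hk)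
      obtain ⟨j, -, hj⟩ := (Nat.dvd_prime_pow hr).1 h1
      have h2 := orderOf_dvd_natCard φ.range (⟨x, rfl⟩ : φ x ∈ φ.range)
      rw [hj] at h2
      rcases j with _ | j
      · rw [pow_zero, orderOf_eq_one_iff] at hj; exact h hj
      · exact hrGb ((dvd_pow_self r (Nat.succ_ne_zero j)).trans h2)
    obtain ⟨P⟩ : Nonempty (Sylow 17 G) := inferInstance
    obtain ⟨R⟩ : Nonempty (Sylow r G) := inferInstance
    set P0 := (P : Subgroup G) ⊓ φ.ker with hP0
    have hnorm : (R : Subgroup G) ≤ normalizer (P0 : Set G) := by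
      intro x hx
      have h1 := hK 17 (by norm_num) (Or.inr (Or.inr rfl)) P (hRK R hx)
      refine mem_normalizer_iff.2 fun z => ?_
      constructor
      · rintro ⟨a, b⟩
        exact ⟨(mem_normalizer_iff.1 h1 z).1 a, (φ.normal_ker).conj_mem z b x⟩
      · rintro ⟨a, b⟩
        refine ⟨(mem_normalizer_iff.1 h1 z).2 a, ?_⟩
        have := (φ.normal_ker).conj_mem _ b x⁻¹
        simpa [mul_assoc] using this
    -- `P0` normalises `R`
    have hP0R : P0 ≤ normalizer ((R : Subgroup G) : Set G) := by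
      set H := P0 ⊔ (R : Subgroup G) with hH
      have hRH : (R : Subgroup G) ≤ H := le_sup_right
      set R' := R.subtype hRH with hR'
      have hidx : (R' : Subgroup H).index ∣ Nat.card P0 := by
        have h1 := Cfsg.Agent.JComp.card_mul_relIndex' (le_sup_left : P0 ≤ P0 ⊔ (R : Subgroup G))
        rw [Cfsg.Agent.JComp.relIndex_sup_of_normalizes hnorm] at h1
        have h2 := (R' : Subgroup H).card_mul_index
        have h3 : Nat.card (R' : Subgroup H) = Nat.card (R : Subgroup G) := by
          rw [hR', Sylow.coe_subtype]; exact Nat.card_congr (subgroupOfEquivOfLe hRH).toEquiv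
        rw [h3, ← h1] at h2
        obtain ⟨c, hc⟩ := relIndex_dvd_card P0 (R : Subgroup G)
        refine ⟨c, Nat.eq_of_mul_eq_mul_left
          (Nat.pos_of_ne_zero (by intro h; rw [h, zero_mul] at hc; exact Nat.card_pos.ne' hc) :
            0 < P0.relIndex (R : Subgroup G)) ?_⟩
        calc P0.relIndex (R : Subgroup G) * Nat.card P0
            = Nat.card (R : Subgroup G) * (R' : Subgroup H).index := by rw [h2, mul_comm]
          _ = P0.relIndex (R : Subgroup G) * ((R' : Subgroup H).index * c) := by rw [hc]; ring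
      have h1 : Nat.card (Sylow r H) ∣ Nat.card P0 := R'.card_dvd_index.trans hidx
      obtain ⟨i, hi⟩ := (P.2.to_le (inf_le_left : P0 ≤ (P : Subgroup G))).exists_card_eq
      rw [hi] at h1
      obtain ⟨j, -, hj⟩ := (Nat.dvd_prime_pow (show Nat.Prime 17 by norm_num)).1 h1
      have hle := sylow_card_le_of_injective (r := r) H.subtype H.subtype_injective
      have hle2 : Nat.card (Sylow r G) ≤ 153 := by
        rcases hval r hr hd with ⟨h, -⟩ | ⟨h, -⟩ | ⟨h, -⟩ <;> omega
      have hj2 : j < 2 := by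
        by_contra h
        have := Nat.pow_le_pow_right (n := 17) (by norm_num) (Nat.le_of_not_lt h)
        omega
      have h0 : Nat.card (Sylow r H) = 1 := by
        have hm := card_sylow_modEq_one r H
        rw [hj] at hm ⊢
        interval_cases j
        · rfl
        · exfalso
          rcases hr' with h' | h' <;> subst h' <;> norm_num [Nat.ModEq] at hm
      haveI : Subsingleton (Sylow r H) := (Nat.card_eq_one_iff_unique.1 h0).1
      have hn' := R'.normal_of_subsingleton
      intro x hx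
      have hxH : x ∈ H := (le_sup_left : P0 ≤ H) hx
      refine mem_normalizer_fintype fun z hz => ?_
      have := hn'.conj_mem ⟨z, hRH hz⟩ (by rw [hR', Sylow.coe_subtype]; exact hz) ⟨x, hxH⟩
      rw [hR', Sylow.coe_subtype] at this
      exact this
    -- the Sylow number of the kernel is prime to 17
    have hkey : ¬ 17 ∣ (normalizer ((R : Subgroup G) : Set G)).relIndex φ.ker := by
      intro h
      have h1 := relIndex_dvd_of_le_left φ.ker hP0R
      have h2 := h.trans h1
      rw [hP0, inf_relIndex_right, ← Cfsg.Agent.JComp.relIndex_sup_of_normalizes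
        (hK 17 (by norm_num) (Or.inr (Or.inr rfl)) P)] at h2
      exact P.not_dvd_index (h2.trans (relIndex_dvd_index_of_le le_sup_left))
    refine hkey ?_
    have h1 : Nat.card (Sylow r G) = (normalizer ((R : Subgroup G) : Set G)).relIndex φ.ker := by
      have h2 := R.card_eq_index_normalizer
      have hsup : normalizer ((R : Subgroup G) : Set G) ⊔ φ.ker = ⊤ :=
        Sylow.normalizer_sup_eq_top' R (hRK R)
      rw [h2]
      exact Cfsg.Agent.SylowNumbers.index_eq_relIndex_of_sup_eq_top hsup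
    rw [← h1]
    exact h17n
  -- the kernel is trivial
  have hbot : φ.ker = ⊥ := by
    by_contra hne
    obtain ⟨r, hr, hrK⟩ := Nat.exists_prime_and_dvd
      (n := Nat.card φ.ker) (fun h => hne (eq_bot_of_card_eq _ h))
    haveI : Fact r.Prime := ⟨hr⟩
    obtain ⟨k0, hk0⟩ := exists_prime_orderOf_dvd_card' (G := φ.ker) r hrK
    have hall : ∀ s : ℕ, ∀ [Fact s.Prime], ∀ S : Sylow s G,
        φ.ker ≤ normalizer ((S : Subgroup G) : Set G) := by
      intro s hs S
      by_cases hd : s ∣ Nat.card G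
      · exact hK s hs.out (hprimes s hs.out hd) S
      · have : (S : Subgroup G) = ⊥ := by
          rw [eq_bot_iff_card, S.card_eq_multiplicity, Nat.factorization_eq_zero_of_not_dvd hd, pow_zero]
        rw [this, normalizer_eq_top_iff.2 inferInstance]
        exact le_top
    obtain ⟨R⟩ : Nonempty (Sylow r G) := inferInstance
    set Kr := (R : Subgroup G) ⊓ φ.ker with hKr
    have hKr0 : Kr ≠ ⊥ := by
      intro h
      haveI := φ.normal_ker
      obtain ⟨R', hR'⟩ := (IsPGroup.of_card (p := r) (n := 1) (G := zpowers (k0 : G)) (by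
        rw [Nat.card_zpowers, Subgroup.orderOf_coe, hk0, pow_one])).exists_le_sylow
      obtain ⟨g, rfl⟩ := MulAction.exists_smul_eq G R R'
      obtain ⟨z, hz, hzk⟩ := hR' (mem_zpowers (k0 : G))
      change g * z * g⁻¹ = (k0 : G) at hzk
      have hzK : z ∈ φ.ker := by
        have := φ.normal_ker.conj_mem _ (hzk ▸ k0.2) g⁻¹
        simpa [mul_assoc] using this
      have hz1 : z = 1 := by
        have : z ∈ Kr := ⟨hz, hzK⟩
        rwa [h, mem_bot] at this
      rw [hz1, mul_one, mul_inv_cancel] at hzk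
      rw [← Subgroup.orderOf_coe, ← hzk, orderOf_one] at hk0
      exact hr.one_lt.ne hk0
    -- `Kr` is centralised by every Sylow subgroup for another prime
    have hcom : ∀ s : ℕ, ∀ [Fact s.Prime], s ≠ r → ∀ S : Sylow s G,
        (S : Subgroup G) ≤ centralizer (Kr : Set G) := by
      intro s hs hsr S g hg
      rw [mem_centralizer_iff]
      intro k hk
      have hRn : ∀ u : G, u * k * u⁻¹ ∈ (R : Subgroup G) := by
        intro u
        obtain ⟨Q, hQ⟩ : ∃ Q : Sylow r G, u * k * u⁻¹ ∈ (Q : Subgroup G) :=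
          ⟨u • R, mem_map_of_mem (MulAut.conj u).toMonoidHom hk.1⟩
        by_contra hnot
        have hk' : u * k * u⁻¹ ∈ normalizer ((R : Subgroup G) : Set G) :=
          hall r R (φ.normal_ker.conj_mem k hk.2 u)
        have hp : IsPGroup r (zpowers (u * k * u⁻¹) ⊔ (R : Subgroup G) : Subgroup G) :=
          (Q.2.to_le (zpowers_le.2 hQ)).to_sup_of_normal_right' R.2 (zpowers_le.2 hk')
        exact hnot ((R.3 hp le_sup_right).le (mem_sup_left (mem_zpowers _)))
      have h1 : k * g * k⁻¹ * g⁻¹ ∈ (S : Subgroup G) :=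
        mul_mem ((mem_normalizer_iff.1 (hall s S hk.2) g).1 hg) (inv_mem hg)
      have h2 : k * g * k⁻¹ * g⁻¹ ∈ (R : Subgroup G) := by
        have e : k * g * k⁻¹ * g⁻¹ = k * (g * k * g⁻¹)⁻¹ := by group
        rw [e]
        exact mul_mem hk.1 (inv_mem (hRn g))
      have h3 : k * g * k⁻¹ * g⁻¹ = 1 := by
        have hd := IsPGroup.disjoint_of_ne s r hsr _ _ S.2 R.2
        exact mem_bot.1 (hd.le_bot ⟨h1, h2⟩)
      have h4 : k * g * k⁻¹ = g := mul_inv_eq_one.1 h3
      exact mul_inv_eq_iff_eq_mul.1 h4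
    -- a central element
    haveI : (Kr.subgroupOf (R : Subgroup G)).Normal := by
      refine ⟨fun a ha g => ?_⟩
      show ((g * a * g⁻¹ : (R : Subgroup G)) : G) ∈ Kr
      exact ⟨(g * a * g⁻¹).2, φ.normal_ker.conj_mem _ ha.2 g⟩
    haveI : Nontrivial (Kr.subgroupOf (R : Subgroup G)) := by
      rw [nontrivial_iff_ne_bot]
      intro h
      exact hKr0 ((subgroupOf_eq_bot.1 h).eq_bot_of_le inf_le_left)
    obtain ⟨z, hz, hzc, hz1⟩ : ∃ z : (R : Subgroup G), z ∈ Kr.subgroupOf (R : Subgroup G) ∧
        z ∈ center (R : Subgroup G) ∧ z ≠ 1 := by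
      haveI : Group.IsNilpotent (R : Subgroup G) := R.2.isNilpotent
      have h := Cfsg.Agent.SolvStruct.inf_center_ne_bot (N := Kr.subgroupOf (R : Subgroup G))
        (nontrivial_iff_ne_bot _ |>.1 inferInstance)
      obtain ⟨⟨w, hw⟩, hw1⟩ := ne_bot_iff_exists_ne_one.1 h
      exact ⟨w, hw.1, hw.2, fun h' => hw1 (Subtype.ext h')⟩
    have hcent : (⊤ : Subgroup G) ≤ centralizer ({(z : G)} : Set G) := by
      intro w _
      have hall' : centralizer ({(z : G)} : Set G) = ⊤ := by
        refine eq_top_of_card_eq _ (Nat.dvd_antisymm (card_subgroup_dvd_card _) ?_)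
        refine Nat.dvd_iff_prime_pow_dvd_dvd _ _ |>.2 fun s k hs hsk => ?_
        haveI : Fact s.Prime := ⟨hs⟩
        have key : ∀ S : Sylow s G, (S : Subgroup G) ≤ centralizer ({(z : G)} : Set G) →
            s ^ k ∣ Nat.card (centralizer ({(z : G)} : Set G)) := fun S hS =>
          (S.pow_dvd_card_of_pow_dvd_card hsk).trans (card_dvd_of_le hS)
        rcases eq_or_ne s r with rfl | hsr
        · exact key R fun g hg => mem_centralizer_singleton_iff.2
            (congrArg Subtype.val (mem_center_iff.1 hzc ⟨g, hg⟩))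
        · obtain ⟨S⟩ : Nonempty (Sylow s G) := inferInstance
          exact key S fun g hg => mem_centralizer_singleton_iff.2
            (mem_centralizer_iff.1 (hcom s hsr S hg) (z : G) hz).symm
      exact hall'.ge (mem_top w)
    have hzZ : (z : G) ∈ center G := mem_center_iff.2 fun w =>
      mem_centralizer_singleton_iff.1 (hcent (mem_top w))
    rw [hZ, mem_bot] at hzZ
    exact hz1 (Subtype.ext hzZ)
  have e0 : G ≃* φ.range := MonoidHom.ofInjective ((φ.ker_eq_bot_iff).1 hbot)
  rcases hiso with ⟨-, ⟨e⟩⟩ | ⟨-, ⟨e⟩⟩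
  · exact Or.inr ⟨e0.trans e⟩
  · exact Or.inl ⟨e0.trans e⟩

end Cfsg.Agent.SylowSeventeen
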