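import Cfsg.Agent.Lib.OddChar.OddTheorem
import Mathlib.GroupTheory.Sylow
import Mathlib.GroupTheory.Nilpotent
import Mathlib.GroupTheory.FixedPointFree
import Mathlib.GroupTheory.QuotientGroup.Basic

/-!
Groups in which every element of order divisible by an odd prime `p` has order `p`: Sylow `p`-subgroups
intersect trivially (or the only nontrivial intersections come from a normal Sylow subgroup).
-/

set_option autoImplicit false
set_option linter.style.haveILetI false
set_option linter.unusedSectionVars false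

namespace Cfsg.Agent.SylowTISpec

open scoped IsMulCommutative

universe u

/-- Every element of order divisible by `p` has order exactly `p`. -/
def Iso (p : ℕ) (G : Type u) [Group G] : Prop := ∀ g : G, p ∣ orderOf g → orderOf g = p

variable {G : Type u} [Group G] [Finite G] {p : ℕ} [hp : Fact p.Prime]

theorem Iso.subgroup (h : Iso p G) (H : Subgroup G) : Iso p ↥H := fun g hg => by
  rw [← Subgroup.orderOf_coe] at hg ⊢
  exact h _ hg

theorem eq_one_of_commute (h : Iso p G) {a y : G} (ha : orderOf a = p) (hay : Commute a y)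
    (hy : ¬ p ∣ orderOf y) : y = 1 := by
  have ho := hay.orderOf_mul_eq_mul_orderOf_of_coprime
    (by rw [ha]; exact (Nat.Prime.coprime_iff_not_dvd hp.out).2 hy)
  rw [ha] at ho
  have h1 := h (a * y) (by rw [ho]; exact dvd_mul_right _ _)
  rw [ho] at h1
  exact orderOf_eq_one_iff.1 ((mul_right_eq_self₀.1 h1).resolve_right hp.out.ne_zero)

theorem pow_eq_one_of_mem (h : Iso p G) {P : Subgroup G} (hP : IsPGroup p P) {x : G} (hx : x ∈ P) :
    x ^ p = 1 := by
  obtain ⟨k, hk⟩ := IsPGroup.iff_orderOf.1 hP ⟨x, hx⟩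
  rw [Subgroup.orderOf_mk] at hk
  rcases k with _ | k
  · rw [pow_zero, orderOf_eq_one_iff] at hk; rw [hk, one_pow]
  · rw [← h x (by rw [hk]; exact dvd_pow_self p k.succ_ne_zero)]; exact pow_orderOf_eq_one x

theorem orderOf_eq_of_mem (h : Iso p G) {P : Subgroup G} (hP : IsPGroup p P) {x : G} (hx : x ∈ P)
    (hx1 : x ≠ 1) : orderOf x = p :=
  orderOf_eq_prime (pow_eq_one_of_mem h hP hx) hx1

/-- The centraliser of a nontrivial `p`-element has no other primes. -/
theorem pow_eq_one_of_commute (h : Iso p G) {a y : G} (ha : orderOf a = p) (hay : Commute a y) :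
    y ^ p = 1 := by
  by_cases hy : p ∣ orderOf y
  · rw [← h y hy]; exact pow_orderOf_eq_one y
  · rw [eq_one_of_commute h ha hay hy, one_pow]

/-- No nontrivial `p'`-subgroup can be normalised by an element of order `p`, if there is a nontrivial
abelian normal `p`-subgroup. -/
theorem no_normalised (h : Iso p G) {V : Subgroup G} [V.Normal] [IsMulCommutative V] (hV : IsPGroup p V)
    (hV1 : V ≠ ⊥) {R : Subgroup G} (hR1 : R ≠ ⊥) (hRp : ¬ p ∣ Nat.card R) {a : G} (ha : orderOf a = p)
    (haR : a ∈ Subgroup.normalizer (R : Set G)) : False := by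
  classical
  haveI := Fintype.ofFinite R
  -- `(v * b) ^ m` for `v` in `V`
  have hpow : ∀ (b : G) (v : V) (m : ℕ),
      ((v : G) * b) ^ m = ((∏ i ∈ Finset.range m, MulAut.conjNormal (b ^ i) v : V) : G) * b ^ m := by
    intro b v m
    induction m with
    | zero => simp
    | succ m ih =>
      rw [pow_succ, ih, Finset.prod_range_succ, Subgroup.coe_mul, MulAut.conjNormal_apply, pow_succ]
      group
  have hN : ∀ b : G, orderOf b = p → ∀ v : V, ∏ i ∈ Finset.range p, MulAut.conjNormal (b ^ i) v = 1 := by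
    intro b hb v
    have hW : IsPGroup p ↥(V ⊔ Subgroup.zpowers b) :=
      hV.to_sup_of_normal_left (IsPGroup.of_card (n := 1) (by rw [Nat.card_zpowers, hb, pow_one]))
    have h1 := pow_eq_one_of_mem h hW (Subgroup.mul_mem_sup v.2 (Subgroup.mem_zpowers b))
    rw [hpow, ← hb, pow_orderOf_eq_one, mul_one, hb] at h1
    exact Subtype.ext h1
  -- averages over `R` vanish
  have havg : ∀ w : V, ∏ y : R, MulAut.conjNormal (y : G) w = 1 := by
    intro w
    by_contra hz
    obtain ⟨r, hr, hr1⟩ := R.ne_bot_iff_exists_ne_one.1 hR1 |> fun ⟨r, hr⟩ =>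
      (⟨(r : G), r.2, fun e => hr (Subtype.ext e)⟩ : ∃ r ∈ R, r ≠ (1 : G))
    set z := ∏ y : R, MulAut.conjNormal (y : G) w with hzdef
    have hfix : MulAut.conjNormal r z = z := by
      rw [hzdef, map_prod]
      refine Fintype.prod_equiv (Equiv.mulLeft (⟨r, hr⟩ : R)) _ _ fun y => ?_
      rw [← MulAut.mul_apply, ← map_mul]
      rfl
    have hc : Commute (z : G) r := by
      have := congrArg Subtype.val hfix
      rw [MulAut.conjNormal_apply] at this
      exact (eq_mul_inv_iff_mul_eq.1 this.symm)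
    refine hr1 (eq_one_of_commute h (orderOf_eq_of_mem h hV z.2 fun e => hz (Subtype.ext e)) hc ?_)
    intro hd
    exact hRp (hd.trans (Subgroup.orderOf_dvd_natCard R hr))
  -- powers of `a` act freely on `R`
  have hfree : ∀ i ∈ Finset.range p, i ≠ 0 → ∀ y ∈ R, Commute (a ^ i) y → y = 1 := by
    intro i hi hi0 y hy hc
    have hai : orderOf (a ^ i) = p := by
      rw [orderOf_pow, ha, Nat.Coprime.gcd_eq_one ((Nat.Prime.coprime_iff_not_dvd hp.out).2
        fun hd => hi0 (Nat.eq_zero_of_dvd_of_lt hd (Finset.mem_range.1 hi))), Nat.div_one]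
    exact eq_one_of_commute h hai hc fun hd => hRp (hd.trans (Subgroup.orderOf_dvd_natCard R hy))
  have key : ∀ v : V, v = 1 := by
    intro v
    have h1 : ∏ y : R, ∏ i ∈ Finset.range p, MulAut.conjNormal ((y : G) * a ^ i * (y : G)⁻¹) v = 1 := by
      refine Finset.prod_eq_one fun y _ => ?_
      rw [← hN ((y : G) * a * (y : G)⁻¹) ((MulAut.conj (y : G)).orderOf_eq a ▸ ha) v]
      simp only [conj_pow]
    rw [Finset.prod_comm] at h1
    have h2 : ∀ i ∈ Finset.range p, i ≠ 0 →
        ∏ y : R, MulAut.conjNormal ((y : G) * a ^ i * (y : G)⁻¹) v = 1 := by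
      intro i hi hi0
      have haiR : a ^ i ∈ Subgroup.normalizer (R : Set G) := pow_mem haR i
      let σ : R → R := fun y => ⟨(y : G) * a ^ i * (y : G)⁻¹ * (a ^ i)⁻¹, by
        rw [show (y : G) * a ^ i * (y : G)⁻¹ * (a ^ i)⁻¹ = (y : G) * (a ^ i * (y : G)⁻¹ * (a ^ i)⁻¹) by group]
        exact R.mul_mem y.2 ((Subgroup.mem_normalizer_iff.1 haiR _).1 (R.inv_mem y.2))⟩
      have hσ : Function.Bijective σ := by
        refine Finite.injective_iff_bijective.1 fun y y' e => ?_
        have e' := mul_right_cancel (congrArg Subtype.val e : (y : G) * a ^ i * (y : G)⁻¹ * (a ^ i)⁻¹ = _)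
        refine (inv_mul_eq_one.1 ?_).symm
        refine Subtype.ext (hfree i hi hi0 _ (y'⁻¹ * y).2 ?_)
        show a ^ i * ((y' : G)⁻¹ * y) = ((y' : G)⁻¹ * y) * a ^ i
        calc a ^ i * ((y' : G)⁻¹ * y) = (y' : G)⁻¹ * ((y' : G) * a ^ i * (y' : G)⁻¹) * y := by group
          _ = (y' : G)⁻¹ * ((y : G) * a ^ i * (y : G)⁻¹) * y := by rw [e']
          _ = _ := by group
      rw [← havg (MulAut.conjNormal (a ^ i) v)]
      refine (Equiv.ofBijective σ hσ).prod_comp (fun y => MulAut.conjNormal (y : G) (MulAut.conjNormal (a ^ i) v)) ▸ ?_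
      refine Finset.prod_congr rfl fun y _ => ?_
      rw [← MulAut.mul_apply, ← map_mul]
      congr 2
      show _ = (y : G) * a ^ i * (y : G)⁻¹ * (a ^ i)⁻¹ * a ^ i
      group
    rw [Finset.prod_eq_single_of_mem 0 (Finset.mem_range.2 hp.out.pos) h2] at h1
    simp only [pow_zero, mul_one, mul_inv_cancel, map_one, MulAut.one_apply, Finset.prod_const,
      Finset.card_univ, ← Nat.card_eq_fintype_card] at h1
    have hvp : v ^ p = 1 := Subtype.ext (by
      rw [SubmonoidClass.coe_pow]; exact pow_eq_one_of_mem h hV v.2)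
    rw [← pow_one v, ← Nat.Coprime.gcd_eq_one ((Nat.Prime.coprime_iff_not_dvd hp.out).2 hRp),
      pow_gcd_eq_one.2 ⟨hvp, h1⟩]
  exact hV1 ((Subgroup.eq_bot_iff_forall _).2 fun x hx => congrArg Subtype.val (key ⟨x, hx⟩))

/-- With a nontrivial normal `p`-subgroup, all elements of order `p` lie in one `p`-subgroup. -/
theorem exists_pGroup_all (h : Iso p G) (hp2 : p ≠ 2) {D : Subgroup G} [D.Normal] (hD : IsPGroup p D)
    (hD1 : D ≠ ⊥) : ∃ S : Subgroup G, IsPGroup p S ∧ ∀ x : G, orderOf x = p → x ∈ S := by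
  classical
  obtain ⟨⟨d, hd⟩, hd1⟩ := D.ne_bot_iff_exists_ne_one.1 hD1
  have hd1' : d ≠ 1 := fun e => hd1 (Subtype.ext e)
  by_cases heven : Even (Nat.card G)
  · -- an involution inverts `D`
    haveI : Fact (Nat.Prime 2) := ⟨Nat.prime_two⟩
    obtain ⟨t, ht⟩ := exists_prime_orderOf_dvd_card' (G := G) 2 heven.two_dvd
    have htp : ¬ p ∣ orderOf t := by
      rw [ht]; exact fun hdv => hp2 ((Nat.prime_dvd_prime_iff_eq hp.out Nat.prime_two).1 hdv)
    have ht1 : t ≠ 1 := fun e => by rw [e, orderOf_one] at ht; omega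
    have htt : t * t = 1 := by rw [← pow_two, ← ht, pow_orderOf_eq_one]
    let φ : MulAut D := MulAut.conjNormal t
    have hfpf : MonoidHom.FixedPointFree ⇑φ := by
      intro v hv
      by_contra hv1
      refine ht1 (eq_one_of_commute h (orderOf_eq_of_mem h hD v.2 fun e => hv1 (Subtype.ext e)) ?_ htp)
      have := congrArg Subtype.val hv
      rw [MulAut.conjNormal_apply] at this
      exact (eq_mul_inv_iff_mul_eq.1 this.symm)
    have hinvol : Function.Involutive ⇑φ := by
      intro v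
      change (φ * φ) v = v
      rw [← map_mul, htt, map_one]; rfl
    have hneg : ∀ v ∈ D, t * v * t⁻¹ = v⁻¹ := by
      intro v hv
      have := congrArg Subtype.val (congrFun (MonoidHom.FixedPointFree.coe_eq_inv_of_involutive hfpf hinvol) ⟨v, hv⟩)
      rwa [MulAut.conjNormal_apply] at this
    let K : Subgroup G := Subgroup.centralizer (D : Set G)
    have hK : IsPGroup p K := fun x => ⟨1, Subtype.ext (by
      rw [SubmonoidClass.coe_pow, pow_one]
      exact pow_eq_one_of_commute h (orderOf_eq_of_mem h hD hd hd1')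
        (Subgroup.mem_centralizer_iff.1 x.2 d hd))⟩
    haveI : K.Normal := inferInstanceAs (Subgroup.centralizer (D : Set G)).Normal
    -- `G = K * C(t)`
    have hfac : ∀ g : G, ∃ k ∈ K, Commute t (k⁻¹ * g) := by
      intro g
      have hk : g * t * g⁻¹ * t⁻¹ ∈ K := by
        refine Subgroup.mem_centralizer_iff.2 fun v hv => ?_
        have hv' : g⁻¹ * v⁻¹ * g ∈ D := by
          simpa using (inferInstance : D.Normal).conj_mem _ (D.inv_mem hv) g⁻¹
        have e : g * t * g⁻¹ * t⁻¹ * v * (g * t * g⁻¹ * t⁻¹)⁻¹ = v := by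
          calc g * t * g⁻¹ * t⁻¹ * v * (g * t * g⁻¹ * t⁻¹)⁻¹
              = g * (t * (g⁻¹ * (t⁻¹ * v * t) * g) * t⁻¹) * g⁻¹ := by group
            _ = g * (t * (g⁻¹ * v⁻¹ * g) * t⁻¹) * g⁻¹ := by
              have e1 : t⁻¹ = t := inv_eq_of_mul_eq_one_right htt
              have := hneg v hv
              rw [e1] at this ⊢
              rw [this]
            _ = g * (g⁻¹ * v⁻¹ * g)⁻¹ * g⁻¹ := by rw [hneg _ hv']
            _ = v := by group
        calc v * (g * t * g⁻¹ * t⁻¹)
            = g * t * g⁻¹ * t⁻¹ * v * (g * t * g⁻¹ * t⁻¹)⁻¹ * (g * t * g⁻¹ * t⁻¹) := by rw [e]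
          _ = _ := by group
      set k := g * t * g⁻¹ * t⁻¹ with hkdef
      -- `k t` is an involution, so `t` inverts `k`
      have hkt : k * t = g * t * g⁻¹ := by rw [hkdef]; group
      have hkinv : t * k * t = k⁻¹ := by
        have h1 : k * t * (k * t) = 1 := by
          rw [hkt]
          calc g * t * g⁻¹ * (g * t * g⁻¹) = g * (t * t) * g⁻¹ := by group
            _ = 1 := by rw [htt]; group
        refine eq_inv_of_mul_eq_one_right ?_
        rw [← h1]; group
      have hkp : k ^ p = 1 := pow_eq_one_of_mem h hK hk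
      obtain ⟨j, hj⟩ := hp.out.eq_two_or_odd'.resolve_left hp2
      -- a square root of `k`
      set m := k ^ (j + 1) with hm
      have hmm : m * m = k := by
        rw [hm, ← pow_add, show j + 1 + (j + 1) = p + 1 by omega, pow_succ, hkp, one_mul]
      have hmt : t * m * t = m⁻¹ := by
        rw [hm, ← inv_pow, ← hkinv, show t * k * t = t * k * t⁻¹ by rw [inv_eq_of_mul_eq_one_right htt],
          conj_pow, inv_eq_of_mul_eq_one_right htt]
      refine ⟨m, K.pow_mem hk _, ?_⟩
      show t * (m⁻¹ * g) = m⁻¹ * g * t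
      have : m * t * m⁻¹ = g * t * g⁻¹ := by
        rw [← hkt, ← hmm, ← hmt]
        calc m * t * (t * m * t) = m * (t * t) * m * t := by group
          _ = m * m * t := by rw [htt, mul_one]
      calc t * (m⁻¹ * g) = m⁻¹ * (m * t * m⁻¹) * g := by group
        _ = m⁻¹ * (g * t * g⁻¹) * g := by rw [this]
        _ = _ := by group
    refine ⟨K, hK, fun x hx => ?_⟩
    obtain ⟨k, hk, hc⟩ := hfac x
    set c := k⁻¹ * x with hcdef
    have hcp : ¬ p ∣ orderOf c := fun hdv => ht1 (eq_one_of_commute h (h c hdv) hc.symm htp)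
    -- the image of `x` modulo `K` is that of `c`
    have hqx : (QuotientGroup.mk x : G ⧸ K) = QuotientGroup.mk c := by
      rw [show x = k * c by rw [hcdef]; group, QuotientGroup.mk_mul,
        (QuotientGroup.eq_one_iff k).2 hk, one_mul]
    have h1 : orderOf (QuotientGroup.mk x : G ⧸ K) ∣ p := hx ▸ orderOf_map_dvd (QuotientGroup.mk' K) x
    have h2 : orderOf (QuotientGroup.mk x : G ⧸ K) ∣ orderOf c :=
      hqx ▸ orderOf_map_dvd (QuotientGroup.mk' K) c
    rcases (Nat.dvd_prime hp.out).1 h1 with h3 | h3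
    · exact (QuotientGroup.eq_one_iff x).1 (orderOf_eq_one_iff.1 h3)
    · exact absurd (h3 ▸ h2) hcp
  · -- odd order: solvable
    haveI : Group.IsSolvable G := Cfsg.Agent.OddChar.oddSolvable G (Nat.not_even_iff_odd.1 heven)
    by_contra hcon
    haveI : Nonempty {U : Subgroup G // U.Normal ∧ IsPGroup p U ∧ D ≤ U} := ⟨⟨D, inferInstance, hD, le_rfl⟩⟩
    obtain ⟨⟨U, hUn, hU, hDU⟩, hmax⟩ :=
      Finite.exists_max fun U : {U : Subgroup G // U.Normal ∧ IsPGroup p U ∧ D ≤ U} => Nat.card U.1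
    haveI := hUn
    obtain ⟨x, hx, hxU⟩ : ∃ x : G, orderOf x = p ∧ x ∉ U := by
      by_contra hx
      push Not at hx
      exact hcon ⟨U, hU, hx⟩
    -- the last nontrivial derived subgroup of the quotient
    have hnt : (⊤ : Subgroup (G ⧸ U)) ≠ ⊥ := fun e =>
      hxU ((QuotientGroup.eq_one_iff x).1 (Subgroup.mem_bot.1 (e ▸ Subgroup.mem_top _)))
    obtain ⟨A, hAn, hA1, hAc⟩ : ∃ A : Subgroup (G ⧸ U), A.Normal ∧ A ≠ ⊥ ∧ ⁅A, A⁆ = ⊥ := by
      obtain ⟨n, hn⟩ := (inferInstance : Group.IsSolvable (G ⧸ U)).solvable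
      induction n with
      | zero => exact absurd hn hnt
      | succ n ih =>
        by_cases e : derivedSeries (G ⧸ U) n = ⊥
        · exact ih e
        · exact ⟨_, inferInstance, e, by rw [← derivedSeries_succ, hn]⟩
    have hAcomm : ∀ a ∈ A, ∀ b ∈ A, a * b = b * a := fun a ha b hb =>
      commutatorElement_eq_one_iff_mul_comm.1 (Subgroup.mem_bot.1 (hAc ▸ Subgroup.commutator_mem_commutator ha hb))
    obtain ⟨r, hr, hrA⟩ := Nat.exists_prime_and_dvd (n := Nat.card A) fun e => hA1 (Subgroup.card_eq_one.1 e)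
    haveI : Fact r.Prime := ⟨hr⟩
    let B : Subgroup (G ⧸ U) :=
      { carrier := {b | b ∈ A ∧ b ^ r = 1}
        one_mem' := ⟨A.one_mem, one_pow r⟩
        mul_mem' := fun {a b} ha hb => ⟨A.mul_mem ha.1 hb.1, by
          rw [(show Commute a b from hAcomm a ha.1 b hb.1).mul_pow, ha.2, hb.2, one_mul]⟩
        inv_mem' := fun {a} ha => ⟨A.inv_mem ha.1, by rw [inv_pow, ha.2, inv_one]⟩ }
    haveI hBn : B.Normal := ⟨fun b hb g => ⟨hAn.conj_mem b hb.1 g, by
      rw [conj_pow, hb.2]; group⟩⟩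
    obtain ⟨⟨b, hbA⟩, hb⟩ := exists_prime_orderOf_dvd_card' (G := A) r hrA
    rw [Subgroup.orderOf_mk] at hb
    have hbB : b ∈ B := ⟨hbA, by rw [← hb, pow_orderOf_eq_one]⟩
    have hb1 : b ≠ 1 := fun e => by rw [e, orderOf_one] at hb; exact hr.one_lt.ne hb
    let N : Subgroup G := B.comap (QuotientGroup.mk' U)
    haveI : N.Normal := hBn.comap _
    have hUN : U ≤ N := fun u hu => by
      show QuotientGroup.mk' U u ∈ B
      rw [QuotientGroup.mk'_apply, (QuotientGroup.eq_one_iff u).2 hu]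
      exact B.one_mem
    have hNpow : ∀ n ∈ N, n ^ r ∈ U := fun n hn => by
      rw [← QuotientGroup.eq_one_iff]; exact hn.2
    obtain ⟨b', rfl⟩ := QuotientGroup.mk_surjective b
    have hb'N : b' ∈ N := hbB
    have hb'U : b' ∉ U := fun hu => hb1 ((QuotientGroup.eq_one_iff b').2 hu)
    have hrp : r ≠ p := by
      rintro rfl
      refine hb'U ?_
      have hN : IsPGroup r N := fun n => by
        obtain ⟨k, hk⟩ := hU ⟨_, hNpow n n.2⟩
        refine ⟨k + 1, Subtype.ext ?_⟩
        rw [SubmonoidClass.coe_pow, pow_succ', pow_mul]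
        exact congrArg Subtype.val hk
      have := hmax ⟨N, inferInstance, hN, hDU.trans hUN⟩
      exact (Subgroup.eq_of_le_of_card_ge hUN this).symm ▸ hb'N
    obtain ⟨R⟩ := (inferInstance : Nonempty (Sylow r N))
    let R' : Subgroup G := (R : Subgroup N).map N.subtype
    have hR' : IsPGroup r R' := R.2.map _
    have hR'p : ¬ p ∣ Nat.card R' := by
      obtain ⟨n, hn⟩ := IsPGroup.iff_card.1 hR'
      rw [hn]
      exact fun hd => hrp ((Nat.prime_dvd_prime_iff_eq hp.out hr).1 (hp.out.dvd_of_dvd_pow hd)).symm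
    have hR1 : R' ≠ ⊥ := by
      intro e
      have hR0 : (R : Subgroup N) = ⊥ :=
        (Subgroup.map_eq_bot_iff_of_injective _ N.subtype_injective).1 e
      refine (Nat.Prime.coprime_iff_not_dvd hr).1 ?_ (show r ∣ Nat.card N from ?_)
      · have h1 := Sylow.card_eq_multiplicity R
        rw [hR0, Subgroup.card_bot] at h1
        refine (Nat.Prime.coprime_iff_not_dvd hr).2 fun hd => ?_
        have h2 : 0 < (Nat.card N).factorization r := hr.factorization_pos_of_dvd Nat.card_pos.ne' hd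
        exact (Nat.one_lt_pow h2.ne' hr.one_lt).ne h1
      · have h1 : r ∣ orderOf b' := hb ▸ orderOf_map_dvd (QuotientGroup.mk' U) b'
        exact h1.trans (Subgroup.orderOf_dvd_natCard N hb'N)
    have hsup : Subgroup.normalizer (R' : Set G) ⊔ N = ⊤ := Sylow.normalizer_sup_eq_top R
    obtain ⟨m, hm, n, hn, hmn⟩ := Subgroup.mem_sup_of_normal_right.1 (hsup ▸ Subgroup.mem_top x)
    have hmp : p ∣ orderOf m := by
      by_contra hmp
      have hq : (QuotientGroup.mk x : G ⧸ N) = QuotientGroup.mk m := by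
        rw [← hmn, QuotientGroup.mk_mul, (QuotientGroup.eq_one_iff n).2 hn, mul_one]
      have h1 : orderOf (QuotientGroup.mk x : G ⧸ N) ∣ p := hx ▸ orderOf_map_dvd (QuotientGroup.mk' N) x
      have h2 : orderOf (QuotientGroup.mk x : G ⧸ N) ∣ orderOf m :=
        hq ▸ orderOf_map_dvd (QuotientGroup.mk' N) m
      rcases (Nat.dvd_prime hp.out).1 h1 with h3 | h3
      swap
      · exact hmp (h3 ▸ h2)
      have hxN : x ∈ N := (QuotientGroup.eq_one_iff x).1 (orderOf_eq_one_iff.1 h3)
      refine hxU ((QuotientGroup.eq_one_iff x).1 (orderOf_eq_one_iff.1 ?_))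
      refine Nat.eq_one_of_dvd_coprimes ((Nat.coprime_primes hp.out hr).2 (Ne.symm hrp))
        (hx ▸ orderOf_map_dvd (QuotientGroup.mk' U) x) ?_
      exact orderOf_dvd_of_pow_eq_one hxN.2
    let V : Subgroup G := (Subgroup.center D).map D.subtype
    haveI : Nontrivial D := D.nontrivial_iff_ne_bot.2 hD1
    have hV1 : V ≠ ⊥ := fun e => by
      haveI := hD.center_nontrivial
      exact (Subgroup.center D).nontrivial_iff_ne_bot.1 inferInstance
        ((Subgroup.map_eq_bot_iff_of_injective _ D.subtype_injective).1 e)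
    haveI : V.Normal := ConjAct.normal_of_characteristic_of_normal
    haveI : IsMulCommutative V := ⟨⟨fun u v => Subtype.ext (by
      obtain ⟨u', hu', hu''⟩ := u.2
      obtain ⟨v', hv', hv''⟩ := v.2
      show (u : G) * v = v * u
      rw [← hu'', ← hv'', ← map_mul, ← map_mul, Subgroup.mem_center_iff.1 hv' u'])⟩⟩
    exact no_normalised h ((hD.to_subgroup _).map _) hV1 hR1 hR'p (h m hmp) hm

/-- Sylow `p`-subgroups intersect trivially. -/
theorem inf_eq_bot (h : Iso p G) (hab : p = 2 → ∀ P : Sylow p G, ∀ x ∈ (P : Subgroup G), ∀ y ∈ (P : Subgroup G),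
    x * y = y * x) {P Q : Sylow p G} (hPQ : P ≠ Q) : (P : Subgroup G) ⊓ (Q : Subgroup G) = ⊥ := by
  classical
  by_contra hne
  by_cases hp2 : p = 2
  · obtain ⟨⟨d, hdP, hdQ⟩, hd1⟩ := Subgroup.ne_bot_iff_exists_ne_one.1 hne
    have hd : orderOf d = p := orderOf_eq_of_mem h P.2 hdP fun e => hd1 (Subtype.ext e)
    let C : Subgroup G := Subgroup.centralizer {d}
    have hC : IsPGroup p C := fun x => ⟨1, Subtype.ext (by
      rw [SubmonoidClass.coe_pow, pow_one]
      exact pow_eq_one_of_commute h hd (Subgroup.mem_centralizer_singleton_iff.1 x.2).symm)⟩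
    have hPC : (P : Subgroup G) ≤ C := fun x hx => Subgroup.mem_centralizer_singleton_iff.2 (hab hp2 P x hx d hdP)
    have hQC : (Q : Subgroup G) ≤ C := fun x hx => Subgroup.mem_centralizer_singleton_iff.2 (hab hp2 Q x hx d hdQ)
    exact hPQ (Sylow.ext ((P.3 hC hPC).symm.trans (Q.3 hC hQC)))
  · haveI : Nonempty {t : Sylow p G × Sylow p G // t.1 ≠ t.2} := ⟨⟨(P, Q), hPQ⟩⟩
    obtain ⟨⟨⟨P', Q'⟩, hne'⟩, hmax⟩ := Finite.exists_max fun t : {t : Sylow p G × Sylow p G // t.1 ≠ t.2} =>
      Nat.card ↥((t.1.1 : Subgroup G) ⊓ (t.1.2 : Subgroup G))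
    set D : Subgroup G := (P' : Subgroup G) ⊓ (Q' : Subgroup G) with hDdef
    have hD1 : D ≠ ⊥ := fun e => by
      have h1 := hmax ⟨(P, Q), hPQ⟩
      change Nat.card ↥((P : Subgroup G) ⊓ (Q : Subgroup G)) ≤ Nat.card ↥D at h1
      rw [e, Subgroup.card_bot, Subgroup.card_le_one_iff_eq_bot] at h1
      exact hne h1
    set H := Subgroup.normalizer (D : Set G) with hHdef
    have hDH : D ≤ H := Subgroup.le_normalizer
    haveI : (D.subgroupOf H).Normal := Subgroup.normal_in_normalizer
    obtain ⟨S, hS, hSall⟩ := exists_pGroup_all (h.subgroup H) hp2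
      (D := D.subgroupOf H) ((P'.2.to_le inf_le_left).of_equiv (Subgroup.subgroupOfEquivOfLe hDH).symm)
      (fun e => hD1 (by
        rw [Subgroup.subgroupOf_eq_bot, disjoint_iff, inf_eq_left.2 hDH] at e; exact e))
    obtain ⟨S', hS'⟩ := (hS.map H.subtype).exists_le_sylow
    have key : ∀ T : Sylow p G, D < (T : Subgroup G) → T = S' := by
      intro T hT
      by_contra hTS
      haveI : Group.IsNilpotent (T : Subgroup G) := T.2.isNilpotent
      have hlt : D.subgroupOf (T : Subgroup G) < ⊤ := by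
        rw [lt_top_iff_ne_top, ne_eq, Subgroup.subgroupOf_eq_top]
        exact hT.not_ge
      obtain ⟨z, hzN, hzD⟩ := SetLike.exists_of_lt (Group.normalizerCondition_of_isNilpotent _ hlt)
      have hzD' : (z : G) ∉ D := hzD
      have hzH : (z : G) ∈ H := by
        rw [hHdef, Subgroup.mem_normalizer_iff]
        intro w
        constructor
        · intro hw
          exact (Subgroup.mem_normalizer_iff.1 hzN ⟨w, hT.le hw⟩).1 hw
        · intro hw
          have hwT : w ∈ (T : Subgroup G) := by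
            have := T.1.mul_mem (T.1.mul_mem (T.1.inv_mem z.2) (hT.le hw)) z.2
            rwa [show (z : G)⁻¹ * ((z : G) * w * (z : G)⁻¹) * z = w by group] at this
          exact (Subgroup.mem_normalizer_iff.1 hzN ⟨w, hwT⟩).2 hw
      have hmem : ∀ y ∈ (T : Subgroup G), y ∈ H → y ∈ (S' : Subgroup G) := by
        intro y hy hyH
        by_cases hy1 : y = 1
        · rw [hy1]; exact one_mem _
        · exact hS' ⟨⟨y, hyH⟩, hSall _ (by rw [Subgroup.orderOf_mk]; exact orderOf_eq_of_mem h T.2 hy hy1), rfl⟩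
      have hlt' : D < (T : Subgroup G) ⊓ (S' : Subgroup G) := by
        refine lt_of_le_of_ne (le_inf hT.le fun y hy => hmem y (hT.le hy) (hDH hy)) fun e => hzD' ?_
        rw [e]; exact ⟨z.2, hmem _ z.2 hzH⟩
      exact absurd (hmax ⟨(T, S'), hTS⟩) (not_le.2 (by
        change Nat.card ↥D < _
        exact lt_of_le_of_ne (Subgroup.card_le_of_le hlt'.le)
          fun e => hlt'.ne (Subgroup.eq_of_le_of_card_ge hlt'.le e.ge)))
    have hltP : D < (P' : Subgroup G) := lt_of_le_of_ne inf_le_left fun e => hne' (Sylow.ext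
      (P'.3 Q'.2 (inf_eq_left.1 (hDdef.symm.trans e))).symm)
    have hltQ : D < (Q' : Subgroup G) := lt_of_le_of_ne inf_le_right fun e => hne' (Sylow.ext
      (Q'.3 P'.2 (inf_eq_right.1 (hDdef.symm.trans e))))
    exact hne' ((key P' hltP).trans (key Q' hltQ).symm)

end Cfsg.Agent.SylowTISpec
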