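import Cfsg.Agent.Lib.Recog.AltSub
import Mathlib.GroupTheory.Sylow
import Mathlib.GroupTheory.PGroup
import Mathlib.GroupTheory.IndexNormal
import Mathlib.GroupTheory.GroupAction.Quotient
import Mathlib.Tactic

/-!
# Alternating groups whose Sylow 3-subgroup lies in a unique maximal subgroup
-/

set_option autoImplicit false

namespace Cfsg.Agent.ThreeMinimalAlt

open Equiv Equiv.Perm Cfsg.Agent.AltSub

variable {α : Type*} [Fintype α] [DecidableEq α]

section Spread

variable {w : Perm α} (hw3 : ∀ x, w (w (w x)) = x) (hwx : ∀ x, w x ≠ x)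

/-- The `w`-cycle of a point. -/
def cy (w : Perm α) (x : α) : Finset α := {x, w x, w (w x)}

/-- Exchange of two cycles of `w`. -/
def sx (w : Perm α) (x y : α) : Perm α :=
  swap x y * (swap (w x) (w y) * swap (w (w x)) (w (w y)))

theorem mem_cy {x y : α} : y ∈ cy w x ↔ y = x ∨ y = w x ∨ y = w (w x) := by
  simp [cy]

theorem mem_cy_self (x : α) : x ∈ cy w x := mem_cy.2 (Or.inl rfl)

include hw3 hwx in
theorem ne_sq (x : α) : w (w x) ≠ x := fun h => hwx x (by
  have := hw3 x
  rw [h] at this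
  exact this)

include hw3 in
theorem cy_symm {x y : α} (h : y ∈ cy w x) : x ∈ cy w y := by
  rcases mem_cy.1 h with rfl | rfl | rfl
  · exact mem_cy_self _
  · exact mem_cy.2 (Or.inr (Or.inr (hw3 x).symm))
  · exact mem_cy.2 (Or.inr (Or.inl (hw3 x).symm))

include hw3 in
theorem w_mem_cy {x y : α} (h : y ∈ cy w x) : w y ∈ cy w x := by
  rcases mem_cy.1 h with rfl | rfl | rfl
  · exact mem_cy.2 (Or.inr (Or.inl rfl))
  · exact mem_cy.2 (Or.inr (Or.inr rfl))
  · exact mem_cy.2 (Or.inl (hw3 x))

include hw3 in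
theorem w_mem_cy_iff {x y : α} : w y ∈ cy w x ↔ y ∈ cy w x :=
  ⟨fun h => by simpa [hw3] using w_mem_cy hw3 (w_mem_cy hw3 h), w_mem_cy hw3⟩

omit [Fintype α] in
theorem card_cy_le (x : α) : (cy w x).card ≤ 3 := Finset.card_le_three

theorem sx_apply_of_not_mem {x y z : α} (hx : z ∉ cy w x) (hy : z ∉ cy w y) : sx w x y z = z := by
  simp only [mem_cy, not_or] at hx hy
  rw [sx, Perm.mul_apply, Perm.mul_apply, swap_apply_of_ne_of_ne hx.2.2 hy.2.2,
    swap_apply_of_ne_of_ne hx.2.1 hy.2.1, swap_apply_of_ne_of_ne hx.1 hy.1]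

include hw3 hwx in
theorem sx_apply_left {x y : α} (h : y ∉ cy w x) : sx w x y x = y := by
  have h' : x ∉ cy w y := fun h' => h (cy_symm hw3 h')
  simp only [mem_cy, not_or] at h'
  rw [sx, Perm.mul_apply, Perm.mul_apply, swap_apply_of_ne_of_ne (ne_sq hw3 hwx x).symm h'.2.2,
    swap_apply_of_ne_of_ne (hwx x).symm h'.2.1, swap_apply_left]

include hw3 in
theorem sign_sx {x y : α} (h : y ∉ cy w x) : sign (sx w x y) = -1 := by
  have hne : x ≠ y := fun e => h (e ▸ mem_cy_self x)
  rw [sx, map_mul, map_mul, sign_swap hne, sign_swap (w.injective.ne hne),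
    sign_swap (w.injective.ne (w.injective.ne hne))]
  rfl

include hw3 hwx in
theorem sx_comm {x y : α} (h : y ∉ cy w x) : w * sx w x y = sx w x y * w := by
  have h' : x ∉ cy w y := fun h' => h (cy_symm hw3 h')
  have hd : ∀ u ∈ ({x, y} : Finset α), u ∉ ({w x, w y, w (w x), w (w y)} : Finset α) := by
    simp only [mem_cy, not_or] at h h'
    intro u hu hu'
    simp only [Finset.mem_insert, Finset.mem_singleton] at hu hu'
    rcases hu with rfl | rfl <;> rcases hu' with h1 | h1 | h1 | h1
    · exact hwx _ h1.symm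
    · exact h'.2.1 h1
    · exact ne_sq hw3 hwx _ h1.symm
    · exact h'.2.2 h1
    · exact h.2.1 h1
    · exact hwx _ h1.symm
    · exact h.2.2 h1
    · exact ne_sq hw3 hwx _ h1.symm
  have hc : w * sx w x y * w⁻¹ = sx w x y := by
    have e : w * sx w x y * w⁻¹
        = swap (w x) (w y) * swap (w (w x)) (w (w y)) * swap (w (w (w x))) (w (w (w y))) := by
      simp only [sx, Equiv.swap_apply_apply]
      group
    rw [e, hw3, hw3, sx]
    exact (supp_commute hd (swap_mem_supp (by simp) (by simp))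
      (mul_mem (swap_mem_supp (by simp) (by simp)) (swap_mem_supp (by simp) (by simp)))).symm
  calc w * sx w x y = w * sx w x y * w⁻¹ * w := by group
    _ = sx w x y * w := by rw [hc]

include hw3 hwx in
/-- An even permutation centralising `w` moves `B` to a set meeting `B` and containing `y'`. -/
theorem exists_move {B : Finset α} (hB : 7 ≤ B.card) (hn : 10 ≤ Fintype.card α) {y' : α} :
    ∃ g : Perm α, sign g = 1 ∧ w * g = g * w ∧ (∃ u ∈ B, g u ∈ B) ∧ ∃ u ∈ B, g u = y' := by
  obtain ⟨x, hx, hxy'⟩ := Finset.exists_mem_notMem_of_card_lt_card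
    (show (cy w y').card < B.card from (card_cy_le y').trans_lt (by omega))
  obtain ⟨x'', hx'', hx''n⟩ := Finset.exists_mem_notMem_of_card_lt_card
    (show (cy w y' ∪ cy w x).card < B.card from
      ((Finset.card_union_le _ _).trans (add_le_add (card_cy_le _) (card_cy_le _))).trans_lt (by omega))
  obtain ⟨y, -, hyn⟩ := Finset.exists_mem_notMem_of_card_lt_card
    (show (cy w y' ∪ cy w x ∪ cy w x'').card < (Finset.univ : Finset α).card from
      ((Finset.card_union_le _ _).trans (add_le_add ((Finset.card_union_le _ _).trans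
        (add_le_add (card_cy_le _) (card_cy_le _))) (card_cy_le _))).trans_lt
        (by rw [Finset.card_univ]; omega))
  simp only [Finset.mem_union, not_or] at hx''n hyn
  have h1 : y' ∉ cy w x := fun h => hxy' (cy_symm hw3 h)
  have h2 : y ∉ cy w x := hyn.1.2
  have h3 : y' ∉ cy w y := fun h => hyn.1.1 (cy_symm hw3 h)
  refine ⟨sx w x y * sx w x y', ?_, ?_, ⟨x'', hx'', ?_⟩, x, hx, ?_⟩
  · rw [map_mul, sign_sx hw3 h2, sign_sx hw3 h1]; rfl
  · rw [← mul_assoc, sx_comm hw3 hwx h2, mul_assoc, sx_comm hw3 hwx h1, mul_assoc]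
  · rw [Perm.mul_apply, sx_apply_of_not_mem hx''n.2 hx''n.1,
      sx_apply_of_not_mem hx''n.2 (fun h => hyn.2 (cy_symm hw3 h))]
    exact hx''
  · rw [Perm.mul_apply, sx_apply_left hw3 hwx h1, sx_apply_of_not_mem h1 h3]

end Spread

variable (T : Subgroup (Perm α))

/-- The orbit of `T` through `x`. -/
noncomputable def orb (x : α) : Finset α := by
  classical exact Finset.univ.filter fun y => ∃ t ∈ T, t x = y

theorem mem_orb {x y : α} : y ∈ orb T x ↔ ∃ t ∈ T, t x = y := by
  classical simp [orb]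

theorem mem_orb_self (x : α) : x ∈ orb T x := (mem_orb T).2 ⟨1, one_mem _, rfl⟩

theorem orb_eq {x y : α} (h : y ∈ orb T x) : orb T y = orb T x := by
  obtain ⟨t, ht, rfl⟩ := (mem_orb T).1 h
  ext z
  rw [mem_orb, mem_orb]
  constructor
  · rintro ⟨s, hs, rfl⟩; exact ⟨s * t, mul_mem hs ht, rfl⟩
  · rintro ⟨s, hs, rfl⟩; exact ⟨s * t⁻¹, mul_mem hs (inv_mem ht), by simp⟩

theorem orb_setStab (x : α) : T ≤ setStab (orb T x) := fun t ht =>
  mem_setStab_of_maps fun y hy => by
    obtain ⟨s, hs, rfl⟩ := (mem_orb T).1 hy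
    exact (mem_orb T).2 ⟨t * s, mul_mem ht hs, rfl⟩

theorem card_orb (hT : IsPGroup 3 T) (x : α) : ∃ a, (orb T x).card = 3 ^ a := by
  haveI : Fact (Nat.Prime 3) := ⟨Nat.prime_three⟩
  obtain ⟨a, ha⟩ := hT.card_orbit x
  refine ⟨a, ?_⟩
  rw [← ha, ← Nat.card_eq_finsetCard]
  refine Nat.card_congr (Equiv.subtypeEquivRight fun y => ?_)
  rw [mem_orb, MulAction.mem_orbit_iff]
  exact ⟨fun ⟨t, ht, h⟩ => ⟨⟨t, ht⟩, h⟩, fun ⟨t, h⟩ => ⟨t, t.2, h⟩⟩

theorem altSub_univ : altSub (Finset.univ : Finset α) = alternatingGroup α :=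
  le_antisymm inf_le_left fun σ hσ => ⟨hσ, fun x hx => absurd (Finset.mem_univ x) hx⟩

/-- An element of order three centralising `T`, fixed-point-free on the orbit. -/
theorem exists_central (hT : IsPGroup 3 T) (x : α) (hx : 1 < (orb T x).card) :
    ∃ w : Perm α, w ∈ supp (orb T x) ∧ (∀ y, w (w (w y)) = y) ∧ (∀ y ∈ orb T x, w y ≠ y) ∧
      ∀ t ∈ T, t * w = w * t := by
  haveI : Fact (Nat.Prime 3) := ⟨Nat.prime_three⟩
  set O := orb T x with hO
  let f : ↥T →* Perm {y // y ∈ O} :=
    { toFun := fun t => (t : Perm α).subtypePerm (fun y => orb_setStab T x t.2 y)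
      map_one' := by ext y; rfl
      map_mul' := fun s t => by ext y; rfl }
  have hR : IsPGroup 3 f.range := by
    exact hT.of_surjective f.rangeRestrict f.rangeRestrict_surjective
  haveI : Nontrivial ↥f.range := by
    obtain ⟨y, hy, hne⟩ := Finset.exists_mem_ne hx x
    obtain ⟨t, ht, rfl⟩ := (mem_orb T).1 hy
    refine (Subgroup.nontrivial_iff_ne_bot _).2 fun hbot => hne ?_
    have : f ⟨t, ht⟩ = 1 := Subgroup.mem_bot.1 (hbot ▸ ⟨_, rfl⟩)
    exact congrArg (fun e : Perm {y // y ∈ O} => ((e ⟨x, mem_orb_self T x⟩ : {y // y ∈ O}) : α)) this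
  haveI := hR.center_nontrivial
  obtain ⟨m, hm⟩ := IsPGroup.iff_card.1 (hR.to_subgroup (Subgroup.center ↥f.range))
  have hm0 : m ≠ 0 := fun h => by
    rw [h, pow_zero, Nat.card_eq_one_iff_unique] at hm
    exact not_subsingleton _ hm.1
  obtain ⟨z, hz⟩ := exists_prime_orderOf_dvd_card' (G := Subgroup.center ↥f.range) 3
    (hm ▸ dvd_pow_self 3 hm0)
  set z' : Perm {y // y ∈ O} := ((z : ↥f.range) : Perm {y // y ∈ O}) with hz'
  have hz3 : z' ^ 3 = 1 := by
    have : z ^ 3 = 1 := by rw [← hz, pow_orderOf_eq_one]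
    rw [hz', ← Subgroup.coe_pow, ← Subgroup.coe_pow, this]; rfl
  have hz1 : z' ≠ 1 := fun h => by
    have h1 : z = 1 := Subtype.ext (Subtype.ext h)
    rw [h1, orderOf_one] at hz; omega
  have hcomm : ∀ t : ↥T, f t * z' = z' * f t := fun t =>
    congrArg Subtype.val (Subgroup.mem_center_iff.1 z.2 ⟨f t, t, rfl⟩)
  refine ⟨ofSubtype z', fun y hy => ofSubtype_apply_of_not_mem _ hy, fun y => ?_, fun y hy hfix => ?_,
    fun t ht => ?_⟩
  · have := congrArg (fun e : Perm α => e y) (show ofSubtype z' ^ 3 = 1 by rw [← map_pow, hz3, map_one])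
    simpa [pow_succ, Perm.mul_apply] using this
  · apply hz1
    rw [ofSubtype_apply_of_mem z' hy] at hfix
    apply Equiv.ext
    intro u
    obtain ⟨t, ht, htu⟩ := (mem_orb T).1 (show (u : α) ∈ orb T y by rw [orb_eq T hy]; exact u.2)
    have hu : f ⟨t, ht⟩ ⟨y, hy⟩ = u := Subtype.ext htu
    rw [← hu, ← Perm.mul_apply z', ← hcomm ⟨t, ht⟩, Perm.mul_apply, Subtype.ext hfix (a2 := ⟨y, hy⟩)]
    rfl
  · apply Equiv.ext
    intro y
    by_cases hy : y ∈ O
    · rw [Perm.mul_apply, Perm.mul_apply, ofSubtype_apply_of_mem z' hy,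
        ofSubtype_apply_of_mem z' ((orb_setStab T x ht y).2 hy)]
      exact congrArg (fun e : Perm {y // y ∈ O} => ((e ⟨y, hy⟩ : {y // y ∈ O}) : α)) (hcomm ⟨t, ht⟩)
    · rw [Perm.mul_apply, Perm.mul_apply, ofSubtype_apply_of_not_mem _ hy,
        ofSubtype_apply_of_not_mem _ (fun h => hy ((orb_setStab T x ht y).1 h))]

variable {T}

/-- Classes carrying alternating groups together with a fixed-point-free element of order three generate
the alternating group. -/
theorem alt_le {M : Subgroup (Perm α)} (D : α → Finset α) (hmem : ∀ y, y ∈ D y)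
    (h3 : ∀ y, 3 ≤ (D y).card) (hD : ∀ y, altSub (D y) ≤ M) (hbig : ∃ y, 7 ≤ (D y).card)
    (hn : 10 ≤ Fintype.card α) {w : Perm α} (hw3 : ∀ x, w (w (w x)) = x) (hwx : ∀ x, w x ≠ x)
    (hwM : ∀ g : Perm α, sign g = 1 → w * g = g * w → g ∈ M) : alternatingGroup α ≤ M := by
  classical
  let S : Finset (Finset α) := Finset.univ.filter fun B => 7 ≤ B.card ∧ altSub B ≤ M
  obtain ⟨y0, hy0⟩ := hbig
  obtain ⟨B, hBS, hmax⟩ := S.exists_max_image Finset.card
    ⟨D y0, Finset.mem_filter.2 ⟨Finset.mem_univ _, hy0, hD y0⟩⟩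
  obtain ⟨-, hB7, hBM⟩ := Finset.mem_filter.1 hBS
  by_cases hB : B = Finset.univ
  · rw [← altSub_univ, ← hB]; exact hBM
  exfalso
  obtain ⟨y', hy'⟩ : ∃ y, y ∉ B := by
    by_contra h; push Not at h; exact hB (Finset.eq_univ_of_forall h)
  obtain ⟨g, hgs, hgw, ⟨u, hu, hgu⟩, v, hv, hgv⟩ := exists_move hw3 hwx hB7 hn (y' := y')
  have hgM := hwM g hgs hgw
  have hconj : altSub (B.image g) ≤ M := fun σ hσ => by
    have h1 := conj_mem_altSub g⁻¹ hσ
    rw [Finset.image_image, ← Perm.coe_mul, inv_mul_cancel, Perm.coe_one, Finset.image_id] at h1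
    have := mul_mem (mul_mem hgM (hBM h1)) (inv_mem hgM)
    simpa [mul_assoc] using this
  have hcard : (B.image g).card = B.card := Finset.card_image_of_injective _ g.injective
  have hU := altSub_union hBM hconj (by omega) (by omega) (o := g u) hgu
    (Finset.mem_image_of_mem _ hu)
  have hy : y' ∈ B ∪ B.image g := Finset.mem_union_right _ (Finset.mem_image.2 ⟨v, hv, hgv⟩)
  have hlt : B.card < (B ∪ B.image g).card :=
    Finset.card_lt_card ⟨Finset.subset_union_left, fun h => hy' (h hy)⟩
  have := hmax _ (Finset.mem_filter.2 ⟨Finset.mem_univ _, by omega, hU⟩)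
  omega

/-- If every proper overgroup of `T` in the alternating group lies in `M`, then the degree is
`6`, `9` or `3 ^ a + 1`. -/
theorem degree (hn : 5 ≤ Fintype.card α) (hT : IsPGroup 3 T) (hTA : T ≤ alternatingGroup α)
    (M : Subgroup (Perm α)) (hM : ¬ alternatingGroup α ≤ M)
    (huniq : ∀ L ≤ alternatingGroup α, T ≤ L → L ≠ alternatingGroup α → L ≤ M) :
    Fintype.card α = 6 ∨ Fintype.card α = 9 ∨ ∃ a, 2 ≤ a ∧ Fintype.card α = 3 ^ a + 1 := by
  haveI : Fact (Nat.Prime 3) := ⟨Nat.prime_three⟩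
  -- a proper union of orbits gives alternating groups inside `M`
  have hstab : ∀ U : Finset α, U.Nonempty → U ≠ Finset.univ → T ≤ setStab U →
      altSub U ≤ M ∧ altSub Uᶜ ≤ M := by
    intro U hU hU' hTU
    have hL := huniq (alternatingGroup α ⊓ setStab U) inf_le_left (le_inf hTA hTU) (by
      intro he
      obtain ⟨u, hu⟩ := hU
      obtain ⟨v, hv⟩ : ∃ v, v ∉ U := by
        by_contra h; push Not at h; exact hU' (Finset.eq_univ_of_forall h)
      obtain ⟨z, -, hz⟩ := Finset.exists_mem_notMem_of_card_lt_card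
        (show ({u, v} : Finset α).card < (Finset.univ : Finset α).card from
          Finset.card_le_two.trans_lt (by rw [Finset.card_univ]; omega))
      simp only [Finset.mem_insert, Finset.mem_singleton, not_or] at hz
      have huv : u ≠ v := fun e => hv (e ▸ hu)
      have hc : cyc u v z ∈ alternatingGroup α := sign_cyc huv (Ne.symm hz.2)
      rw [← he] at hc
      have := (hc.2 u).2 hu
      rw [cyc_apply_left huv (Ne.symm hz.1)] at this
      exact hv this)
    constructor
    · exact fun σ hσ => hL ⟨hσ.1, supp_le_setStab U hσ.2⟩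
    · refine fun σ hσ => hL ⟨hσ.1, fun x => ?_⟩
      have := supp_le_setStab _ hσ.2 x
      simp only [Finset.mem_compl] at this
      exact not_iff_not.1 this
  obtain ⟨x⟩ : Nonempty α := Fintype.card_pos_iff.1 (by omega)
  by_cases htr : orb T x = Finset.univ
  · -- transitive
    obtain ⟨a, ha⟩ := card_orb T hT x
    rw [htr, Finset.card_univ] at ha
    by_cases ha2 : a ≤ 2
    · right; left
      interval_cases a <;> norm_num at ha <;> omega
    exfalso
    push Not at ha2
    have h27 : 27 ≤ Fintype.card α := ha ▸ Nat.pow_le_pow_right (by norm_num : (3 : ℕ) > 0) ha2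
    -- a normal subgroup of index three containing the point stabiliser
    let St : Subgroup ↥T := MulAction.stabilizer ↥T x
    obtain ⟨c, hc⟩ := IsPGroup.iff_card.1 hT
    obtain ⟨d, hd⟩ := IsPGroup.iff_card.1 (hT.to_subgroup St)
    have horbit : MulAction.orbit ↥T x = Set.univ := Set.eq_univ_of_forall fun y => by
      obtain ⟨t, ht, h⟩ := (mem_orb T).1 (htr.symm ▸ Finset.mem_univ y : y ∈ orb T x)
      exact ⟨⟨t, ht⟩, h⟩
    have hidx : St.index = Fintype.card α := by
      rw [MulAction.index_stabilizer, horbit, Set.ncard_univ, Nat.card_eq_fintype_card]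
    have hmul := St.card_mul_index
    rw [hidx, ha, hd, hc, ← pow_add] at hmul
    have hcd : d + a = c := Nat.pow_right_injective (by omega : 2 ≤ 3) hmul
    obtain ⟨U, hUcard, hStU⟩ := Sylow.exists_subgroup_card_pow_prime_le 3
      (show 3 ^ (c - 1) ∣ Nat.card ↥T by rw [hc]; exact pow_dvd_pow 3 (by omega)) St hd (by omega)
    have hUidx : U.index = 3 := by
      have h := U.card_mul_index
      rw [hUcard, hc, show c = c - 1 + 1 by omega, pow_succ, show c - 1 + 1 - 1 = c - 1 by omega] at h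
      exact Nat.eq_of_mul_eq_mul_left (by positivity) h
    haveI hUn : U.Normal := Subgroup.normal_of_index_eq_minFac_card (by
      rw [hUidx, hc, Nat.Prime.pow_minFac Nat.prime_three (by omega)])
    let D : α → Finset α := fun y => orb (U.map T.subtype) y
    have hDt : ∀ t ∈ T, ∀ y z, z ∈ D y → t z ∈ D (t y) := by
      intro t ht y z hz
      obtain ⟨_, ⟨u, hu, rfl⟩, rfl⟩ := (mem_orb _).1 hz
      refine (mem_orb _).2 ⟨_, ⟨⟨t, ht⟩ * u * ⟨t, ht⟩⁻¹, hUn.conj_mem u hu _, rfl⟩, ?_⟩
      simp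
    have hDcard : (D x).card = 3 ^ (a - 1) := by
      have h1 : (D x).card = (St.subgroupOf U).index := by
        have : (MulAction.stabilizer ↥U x).index = (MulAction.orbit ↥U x).ncard :=
          MulAction.index_stabilizer ↥U x
        rw [show St.subgroupOf U = MulAction.stabilizer ↥U x from rfl, this,
          ← Set.ncard_coe_finset]
        congr 1
        ext y
        rw [Finset.mem_coe, mem_orb, MulAction.mem_orbit_iff]
        constructor
        · rintro ⟨_, ⟨u, hu, rfl⟩, h⟩; exact ⟨⟨u, hu⟩, h⟩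
        · rintro ⟨u, h⟩; exact ⟨_, ⟨u, u.2, rfl⟩, h⟩
      have h2 : St.relIndex U * U.index = St.index := Subgroup.relIndex_mul_index hStU
      rw [hUidx, hidx, ha] at h2
      rw [h1]
      have : (3 : ℕ) ^ a = 3 ^ (a - 1) * 3 := by rw [← pow_succ, show a - 1 + 1 = a by omega]
      rw [this] at h2
      exact Nat.eq_of_mul_eq_mul_right (by omega) h2
    have hDall : ∀ y, 9 ≤ (D y).card := by
      intro y
      obtain ⟨t, ht, rfl⟩ := (mem_orb T).1 (htr.symm ▸ Finset.mem_univ y : y ∈ orb T x)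
      have hsub : (D x).image t ⊆ D (t x) := Finset.image_subset_iff.2 fun z hz => hDt t ht x z hz
      have := Finset.card_le_card hsub
      rw [Finset.card_image_of_injective _ t.injective, hDcard] at this
      calc 9 = 3 ^ 2 := by norm_num
        _ ≤ 3 ^ (a - 1) := Nat.pow_le_pow_right (by omega) (by omega)
        _ ≤ _ := this
    -- the stabiliser of the block system
    let R : Subgroup (Perm α) :=
      { carrier := {σ | ∀ y z, σ z ∈ D (σ y) ↔ z ∈ D y}
        one_mem' := fun y z => Iff.rfl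
        mul_mem' := fun {σ τ} hσ hτ y z => (hσ (τ y) (τ z)).trans (hτ y z)
        inv_mem' := fun {σ} hσ y z => by
          rw [← hσ (σ⁻¹ y) (σ⁻¹ z)]; simp }
    have hTR : T ≤ R := fun t ht y z =>
      ⟨fun h => by simpa using hDt t⁻¹ (inv_mem ht) _ _ h, hDt t ht y z⟩
    have hR := huniq (alternatingGroup α ⊓ R) inf_le_left (le_inf hTA hTR) (by
      intro he
      obtain ⟨y, hy⟩ : ∃ y, y ∉ D x := by
        by_contra h
        push Not at h
        rw [Finset.eq_univ_of_forall h, Finset.card_univ, ha] at hDcard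
        have := Nat.pow_right_injective (by omega : 2 ≤ 3) hDcard
        omega
      obtain ⟨z, hz, hzx⟩ := Finset.exists_mem_ne (show 1 < (D x).card by have := hDall x; omega) x
      obtain ⟨v, -, hv⟩ := Finset.exists_mem_notMem_of_card_lt_card
        (show ({x, y, z} : Finset α).card < (Finset.univ : Finset α).card from
          Finset.card_le_three.trans_lt (by rw [Finset.card_univ]; omega))
      simp only [Finset.mem_insert, Finset.mem_singleton, not_or] at hv
      have hzy : z ≠ y := fun e => hy (e ▸ hz)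
      have hc : cyc z y v ∈ alternatingGroup α := sign_cyc hzy (Ne.symm hv.2.1)
      rw [← he] at hc
      have h := (hc.2 x z).2 hz
      rw [cyc_apply_left hzy (Ne.symm hv.2.2), cyc_mem_supp (Δ := {z, y, v}) (by simp) (by simp) (by simp) x
        (by simp only [Finset.mem_insert, Finset.mem_singleton, not_or]
            exact ⟨hzx.symm, fun e => hy (e ▸ mem_orb_self _ x), Ne.symm hv.1⟩)] at h
      exact hy h)
    have hDalt : ∀ y, altSub (D y) ≤ M := fun y σ hσ => by
      refine hR ⟨hσ.1, fun p q => ?_⟩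
      have hcl : ∀ p, orb (U.map T.subtype) (σ p) = orb (U.map T.subtype) p := by
        intro p
        by_cases hp : p ∈ D y
        · have h1 : σ p ∈ D y := apply_mem_of_mem_supp hσ.2 hp
          rw [orb_eq _ h1, orb_eq _ hp]
        · rw [hσ.2 p hp]
      show σ q ∈ orb _ (σ p) ↔ q ∈ orb _ p
      rw [hcl p]
      constructor
      · intro h
        have := (orb_eq _ h).symm.trans (hcl q)
        exact this ▸ mem_orb_self _ q
      · intro h
        have := (orb_eq _ h).symm.trans (hcl q).symm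
        exact this ▸ mem_orb_self _ (σ q)
    obtain ⟨w, -, hw3, hwx, hwT⟩ := exists_central T hT x (by rw [htr, Finset.card_univ]; omega)
    rw [htr] at hwx
    have hL := huniq (alternatingGroup α ⊓ Subgroup.centralizer {w}) inf_le_left
      (le_inf hTA fun t ht => Subgroup.mem_centralizer_singleton_iff.2 (hwT t ht)) (by
        intro he
        obtain ⟨v, -, hv⟩ := Finset.exists_mem_notMem_of_card_lt_card
          (show (cy w x).card < (Finset.univ : Finset α).card from
            (card_cy_le x).trans_lt (by rw [Finset.card_univ]; omega))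
        obtain ⟨u, -, hu⟩ := Finset.exists_mem_notMem_of_card_lt_card
          (show (cy w x ∪ cy w v).card < (Finset.univ : Finset α).card from
            ((Finset.card_union_le _ _).trans (add_le_add (card_cy_le _) (card_cy_le _))).trans_lt
              (by rw [Finset.card_univ]; omega))
        simp only [Finset.mem_union, not_or, mem_cy] at hu hv
        have hc : cyc x v u ∈ alternatingGroup α := sign_cyc (Ne.symm hv.1) (Ne.symm hu.2.1)
        rw [← he] at hc
        have h := congrArg (fun e : Perm α => e x) (Subgroup.mem_centralizer_singleton_iff.1 hc.2)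
        simp only [Perm.mul_apply] at h
        rw [cyc_apply_left (Ne.symm hv.1) (Ne.symm hu.1.1)] at h
        rw [cyc_mem_supp (Δ := {x, v, u}) (by simp) (by simp) (by simp) (w x)
          (by simp only [Finset.mem_insert, Finset.mem_singleton, not_or]
              exact ⟨hwx x (Finset.mem_univ _), fun e => hv.2.1 e.symm, fun e => hu.1.2.1 e.symm⟩)] at h
        exact hv.1 (w.injective h.symm))
    exact hM (alt_le D (fun y => mem_orb_self _ y) (fun y => by have := hDall y; omega) hDalt
      ⟨x, by have := hDall x; omega⟩ (by omega) hw3 (fun y => hwx y (Finset.mem_univ _))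
      (fun g hg hgw => hL ⟨hg, Subgroup.mem_centralizer_singleton_iff.2 hgw.symm⟩))
  -- intransitive
  obtain ⟨y, hy⟩ : ∃ y, y ∉ orb T x := by
    by_contra h; push Not at h; exact htr (Finset.eq_univ_of_forall h)
  have hne : ∀ z, orb T z ≠ Finset.univ := fun z h => htr (by
    rw [orb_eq T (h.symm ▸ Finset.mem_univ x : x ∈ orb T z), h])
  have hdisj : ∀ u v, v ∉ orb T u → ∀ p ∈ orb T u, p ∉ orb T v := fun u v huv p hp hp' =>
    huv (((orb_eq T hp).symm.trans (orb_eq T hp')).symm ▸ mem_orb_self T v)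
  by_cases h2 : orb T x ∪ orb T y ≠ Finset.univ
  · exfalso
    obtain ⟨z, hz⟩ : ∃ z, z ∉ orb T x ∪ orb T y := by
      by_contra h; push Not at h; exact h2 (Finset.eq_univ_of_forall h)
    simp only [Finset.mem_union, not_or] at hz
    have key : ∀ u v, v ∉ orb T u → 3 ≤ (orb T u)ᶜ.card → 3 ≤ (orb T v)ᶜ.card →
        (∃ o, o ∉ orb T u ∧ o ∉ orb T v) → False := by
      intro u v huv hu hv ⟨o, ho1, ho2⟩
      apply hM
      have h := altSub_union (hstab _ ⟨u, mem_orb_self T u⟩ (hne u) (orb_setStab T u)).2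
        (hstab _ ⟨v, mem_orb_self T v⟩ (hne v) (orb_setStab T v)).2 hu hv (o := o)
        (Finset.mem_compl.2 ho1) (Finset.mem_compl.2 ho2)
      have huniv : (orb T u)ᶜ ∪ (orb T v)ᶜ = Finset.univ := Finset.eq_univ_of_forall fun p => by
        rw [Finset.mem_union, Finset.mem_compl, Finset.mem_compl]
        by_cases hp : p ∈ orb T u
        · exact Or.inr (hdisj u v huv p hp)
        · exact Or.inl hp
      rwa [huniv, altSub_univ] at h
    -- at most one of the three orbits has small complement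
    have big : ∀ u v, v ∉ orb T u → (∃ o, o ∉ orb T u ∧ o ∉ orb T v) → (orb T u)ᶜ.card < 3 →
        3 ≤ (orb T v)ᶜ.card := by
      intro u v huv _ hu
      have hsub : orb T u ⊆ (orb T v)ᶜ := fun p hp => Finset.mem_compl.2 (hdisj u v huv p hp)
      have h1 := Finset.card_le_card hsub
      rw [Finset.card_compl] at hu
      omega
    have hyx : x ∉ orb T y := fun h => hy ((orb_eq T h).symm ▸ mem_orb_self T y)
    have hzx : x ∉ orb T z := fun h => hz.1 ((orb_eq T h).symm ▸ mem_orb_self T z)
    have hzy : y ∉ orb T z := fun h => hz.2 ((orb_eq T h).symm ▸ mem_orb_self T z)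
    by_cases hX : 3 ≤ (orb T x)ᶜ.card
    · by_cases hY : 3 ≤ (orb T y)ᶜ.card
      · exact key x y hy hX hY ⟨z, hz.1, hz.2⟩
      · exact key x z hz.1 hX (big y z hz.2 ⟨x, hyx, hzx⟩ (by omega)) ⟨y, hy, hzy⟩
    · exact key y z hz.2 (big x y hy ⟨z, hz.1, hz.2⟩ (by omega))
        (big x z hz.1 ⟨y, hy, hzy⟩ (by omega)) ⟨x, hyx, hzx⟩
  push Not at h2
  have hsum : (orb T x).card + (orb T y).card = Fintype.card α := by
    rw [← Finset.card_union_of_disjoint (Finset.disjoint_left.2 (hdisj x y hy)), h2, Finset.card_univ]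
  obtain ⟨a, ha⟩ := card_orb T hT x
  obtain ⟨b, hb⟩ := card_orb T hT y
  have hone : ∀ i j, 3 ^ i + 3 ^ j = Fintype.card α → j = 0 →
      ∃ a, 2 ≤ a ∧ Fintype.card α = 3 ^ a + 1 := by
    intro i j h hj
    subst hj
    refine ⟨i, ?_, by simpa using h.symm⟩
    by_contra hi
    interval_cases i <;> simp at h <;> omega
  rw [ha, hb] at hsum
  by_cases hb0 : b = 0
  · exact Or.inr (Or.inr (hone a b hsum hb0))
  by_cases ha0 : a = 0
  · exact Or.inr (Or.inr (hone b a (by omega) ha0))
  by_cases h11 : a = 1 ∧ b = 1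
  · left; rw [← hsum, h11.1, h11.2]; norm_num
  exfalso
  have ha3 : 3 ≤ (orb T x).card := ha ▸ Nat.le_self_pow ha0 3
  have hb3 : 3 ≤ (orb T y).card := hb ▸ Nat.le_self_pow hb0 3
  obtain ⟨w1, hw1s, hw13, hw1x, hw1T⟩ := exists_central T hT x (by omega)
  obtain ⟨w2, hw2s, hw23, hw2x, hw2T⟩ := exists_central T hT y (by omega)
  have hd := hdisj x y hy
  have hcov : ∀ p, p ∈ orb T x ∨ p ∈ orb T y := fun p =>
    Finset.mem_union.1 (h2.symm ▸ Finset.mem_univ p)
  have happ1 : ∀ p ∈ orb T x, (w1 * w2) p = w1 p := fun p hp => by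
    rw [Perm.mul_apply, hw2s p (hd p hp)]
  have happ2 : ∀ p ∈ orb T y, (w1 * w2) p = w2 p := fun p hp => by
    rw [Perm.mul_apply, hw1s _ (fun h => hd _ h (apply_mem_of_mem_supp hw2s hp))]
  have hwx : ∀ p, (w1 * w2) p ≠ p := fun p => by
    rcases hcov p with hp | hp
    · rw [happ1 p hp]; exact hw1x p hp
    · rw [happ2 p hp]; exact hw2x p hp
  have hw3 : ∀ p, (w1 * w2) ((w1 * w2) ((w1 * w2) p)) = p := fun p => by
    rcases hcov p with hp | hp
    · have h1 := apply_mem_of_mem_supp hw1s hp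
      rw [happ1 p hp, happ1 _ h1, happ1 _ (apply_mem_of_mem_supp hw1s h1), hw13]
    · have h1 := apply_mem_of_mem_supp hw2s hp
      rw [happ2 p hp, happ2 _ h1, happ2 _ (apply_mem_of_mem_supp hw2s h1), hw23]
  have hwT : ∀ t ∈ T, t * (w1 * w2) = w1 * w2 * t := fun t ht => by
    rw [← mul_assoc, hw1T t ht, mul_assoc, hw2T t ht, mul_assoc]
  have hn12 : 12 ≤ Fintype.card α := by
    rw [← hsum]
    rcases (show 2 ≤ a ∨ 2 ≤ b by omega) with h | h
    · have := Nat.pow_le_pow_right (show 1 ≤ 3 by omega) h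
      have := Nat.le_self_pow hb0 3
      omega
    · have := Nat.pow_le_pow_right (show 1 ≤ 3 by omega) h
      have := Nat.le_self_pow ha0 3
      omega
  have hL := huniq (alternatingGroup α ⊓ Subgroup.centralizer {w1 * w2}) inf_le_left
    (le_inf hTA fun t ht => Subgroup.mem_centralizer_singleton_iff.2 (hwT t ht)) (by
      intro he
      obtain ⟨u, hu, hux⟩ := Finset.exists_mem_ne (show 1 < (orb T y).card by omega) y
      -- the three-cycle `(x y u)` moves `x` into another orbit
      have hxy : x ≠ y := fun e => hy (e ▸ mem_orb_self T x)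
      have hc : cyc x y u ∈ alternatingGroup α := sign_cyc hxy hux.symm
      rw [← he] at hc
      have h := congrArg (fun e : Perm α => e x) (Subgroup.mem_centralizer_singleton_iff.1 hc.2)
      simp only [Perm.mul_apply] at h
      have h1 := apply_mem_of_mem_supp hw1s (mem_orb_self T x)
      rw [cyc_apply_left hxy (fun e : x = u => hd x (mem_orb_self T x) (e ▸ hu)),
        hw2s x (hd x (mem_orb_self T x)),
        cyc_mem_supp (Δ := {x, y, u}) (by simp) (by simp) (by simp) (w1 x)
          (by simp only [Finset.mem_insert, Finset.mem_singleton, not_or]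
              exact ⟨hw1x x (mem_orb_self T x), fun e => hd _ h1 (e ▸ mem_orb_self T y),
                fun e => hd _ h1 (e ▸ hu)⟩)] at h
      rw [hw1s _ (fun hh => hd _ hh (apply_mem_of_mem_supp hw2s (mem_orb_self T y)))] at h
      exact hd _ h1 (h ▸ apply_mem_of_mem_supp hw2s (mem_orb_self T y)))
  refine hM (alt_le (fun p => orb T p) (fun p => mem_orb_self T p) (fun p => ?_) (fun p =>
    (hstab _ ⟨p, mem_orb_self T p⟩ (hne p) (orb_setStab T p)).1) ?_ (by omega) hw3 hwx
    (fun g hg hgw => hL ⟨hg, Subgroup.mem_centralizer_singleton_iff.2 hgw.symm⟩))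
  · rcases hcov p with hp | hp <;> rw [orb_eq T hp] <;> assumption
  · rcases (show 2 ≤ a ∨ 2 ≤ b by omega) with h | h
    · exact ⟨x, by have := Nat.pow_le_pow_right (show 1 ≤ 3 by omega) h; omega⟩
    · exact ⟨y, by have := Nat.pow_le_pow_right (show 1 ≤ 3 by omega) h; omega⟩

end Cfsg.Agent.ThreeMinimalAlt
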