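import Cfsg.Agent.S3035
import Cfsg.Agent.Lib.Recog.NineS6
import Cfsg.Agent.Lib.Transfer.SignThompson
import Cfsg.Agent.Lib.Transfer.Basic
import Cfsg.Agent.Lib.FiniteGroup.PermSmall
import Mathlib.GroupTheory.GroupAction.Quotient

/-!
Groups with a 2-central involution centralized by `Z₂ × S₄`, the centralizer of the derived
subgroup of a Sylow 2-subgroup being that Sylow subgroup (recognition of `S₆`).
-/

set_option autoImplicit false
set_option linter.unusedSectionVars false
set_option linter.style.haveILetI false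
set_option synthInstance.maxSize 2000
set_option synthInstance.maxHeartbeats 200000

namespace Cfsg.Agent.TwoSFour

open Equiv

/-! ### The model `Z₂ × S₄` -/

abbrev W := Multiplicative (ZMod 2) × Perm (Fin 4)

def aW : W := (Multiplicative.ofAdd 1, 1)
def dz : Perm (Fin 4) := swap 0 2 * swap 1 3
def z0 : W := (1, dz)
def s1 : W := (1, swap 0 2)
def s1' : W := (1, swap 1 3)
def s2 : W := (Multiplicative.ofAdd 1, swap 0 2)
def s2' : W := (Multiplicative.ofAdd 1, swap 1 3)
def c4 : Perm (Fin 4) := swap 0 1 * swap 1 2 * swap 2 3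
def c3 : Perm (Fin 4) := swap 0 1 * swap 1 2

theorem f_center : ∀ w : W, (∀ v, w * v = v * w) → w = 1 ∨ w = aW := by decide +kernel
theorem f_aW : ∀ w : W, aW * w = w * aW := by decide +kernel
theorem f_aW_sq : aW * aW = 1 ∧ aW ≠ 1 ∧ aW ≠ z0 ∧ z0 ≠ 1 ∧ aW ≠ aW * z0 ∧ aW * z0 = z0 * aW := by
  decide +kernel
theorem f_comm : ∀ p q : W, p * z0 = z0 * p → q * z0 = z0 * q →
    p * q * p⁻¹ * q⁻¹ = 1 ∨ p * q * p⁻¹ * q⁻¹ = z0 := by decide +kernel
theorem f_comm_ex : ((1, c4) : W) * z0 = z0 * (1, c4) ∧ s1 * z0 = z0 * s1 ∧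
    ((1, c4) : W) * s1 * ((1, c4) : W)⁻¹ * s1⁻¹ = z0 := by decide +kernel
theorem f_CE : ∀ w : W, w * s1 = s1 * w →
    w = 1 ∨ w = aW ∨ w = s1 ∨ w = s1' ∨ w = s2 ∨ w = s2' ∨ w = z0 ∨ w = aW * z0 := by decide +kernel
theorem f_conj1 : ∃ v : W, v * s1' * v⁻¹ = s1 := by decide +kernel
theorem f_conj2 : ∃ v : W, v * s2' * v⁻¹ = s2 := by decide +kernel
theorem f_s1_nc : ∃ v : W, v * z0 = z0 * v ∧ v * s1 ≠ s1 * v := by decide +kernel
theorem f_invol : ∀ w : W, w * w = 1 → w = 1 ∨ w = aW ∨ (∃ v, v * w * v⁻¹ = z0) ∨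
    (∃ v, v * w * v⁻¹ = aW * z0) ∨ (∃ v, v * w * v⁻¹ = s1) ∨ (∃ v, v * w * v⁻¹ = s2) := by
  decide +kernel
theorem f_cardP : Fintype.card {w : W // w * z0 = z0 * w} = 16 := by decide +kernel
theorem f_cardE : Fintype.card {w : W // w * s1 = s1 * w} = 8 := by decide +kernel
theorem f_cardW : Fintype.card W = 48 := by decide +kernel

theorem f_aW_sq' : z0 ≠ aW * z0 := by decide +kernel

/-- The dihedral Sylow subgroup of `S₄` as a complement of the centre. -/
def M1 : Subgroup W where
  carrier := {w | w * z0 = z0 * w ∧ w.1 = 1}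
  one_mem' := ⟨by simp, rfl⟩
  mul_mem' {a b} := (show ∀ a b : W, (a * z0 = z0 * a ∧ a.1 = 1) → (b * z0 = z0 * b ∧ b.1 = 1) →
    ((a * b) * z0 = z0 * (a * b) ∧ (a * b).1 = 1) by decide +kernel) a b
  inv_mem' {a} := (show ∀ a : W, (a * z0 = z0 * a ∧ a.1 = 1) →
    (a⁻¹ * z0 = z0 * a⁻¹ ∧ (a⁻¹).1 = 1) by decide +kernel) a

/-- The twisted dihedral complement of the centre. -/
def M2 : Subgroup W where
  carrier := {w | w * z0 = z0 * w ∧ (w.1 = 1 ↔ Perm.sign w.2 = 1)}
  one_mem' := ⟨by simp, by simp⟩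
  mul_mem' {a b} := (show ∀ a b : W, (a * z0 = z0 * a ∧ (a.1 = 1 ↔ Perm.sign a.2 = 1)) →
    (b * z0 = z0 * b ∧ (b.1 = 1 ↔ Perm.sign b.2 = 1)) →
    ((a * b) * z0 = z0 * (a * b) ∧ ((a * b).1 = 1 ↔ Perm.sign (a * b).2 = 1)) by decide +kernel) a b
  inv_mem' {a} := (show ∀ a : W, (a * z0 = z0 * a ∧ (a.1 = 1 ↔ Perm.sign a.2 = 1)) →
    (a⁻¹ * z0 = z0 * a⁻¹ ∧ ((a⁻¹).1 = 1 ↔ Perm.sign (a⁻¹).2 = 1)) by decide +kernel) a

theorem card_M1 : Nat.card M1 = 8 := by
  rw [show Nat.card M1 = Nat.card {w : W // w * z0 = z0 * w ∧ w.1 = 1} from rfl,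
    Nat.card_eq_fintype_card]
  decide +kernel

theorem card_M2 : Nat.card M2 = 8 := by
  rw [show Nat.card M2 = Nat.card {w : W // w * z0 = z0 * w ∧ (w.1 = 1 ↔ Perm.sign w.2 = 1)} from rfl,
    Nat.card_eq_fintype_card]
  decide +kernel

theorem f_M1 : ∀ w : W, w * w = 1 → w ≠ 1 → w * z0 = z0 * w ∧ w.1 = 1 →
    (∃ v, v * w * v⁻¹ = z0) ∨ (∃ v, v * w * v⁻¹ = s1) := by decide +kernel
theorem f_M2 : ∀ w : W, w * w = 1 → w ≠ 1 → w * z0 = z0 * w ∧ (w.1 = 1 ↔ Perm.sign w.2 = 1) →
    (∃ v, v * w * v⁻¹ = z0) ∨ (∃ v, v * w * v⁻¹ = s2) := by decide +kernel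

/-- `D₈` inside `S₄`. -/
def rho : DihedralGroup 4 →* Perm (Fin 4) where
  toFun
    | .r i => c4 ^ i.val
    | .sr i => swap 0 2 * c4 ^ i.val
  map_one' := by decide +kernel
  map_mul' := by decide +kernel

theorem rho_spec : (∀ d, rho d * dz = dz * rho d) ∧ (∀ σ, σ * dz = dz * σ → ∃ d, rho d = σ) := by
  decide +kernel
theorem rho_inj : ∀ d d', rho d = rho d' → d = d' := by decide +kernel

theorem f_third : ∀ σ : Perm (Fin 4), σ * σ = 1 → σ * c3 = c3 * σ → σ = 1 := by decide +kernel
theorem f_c3 : c3 ^ 3 = 1 ∧ c3 ≠ 1 := by decide +kernel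
theorem f_odd : ∀ x : Perm (Fin 4), x ^ 3 = 1 → x ≠ 1 → ∃ σ, (σ * x * σ⁻¹ * x) ^ 3 ≠ 1 := by
  decide +kernel
theorem f_unique_five : ∀ x : Perm (Fin 5), x ^ 3 = 1 → x ≠ 1 → ∃ u, u * u = 1 ∧ u ≠ 1 ∧
    u * x = x * u ∧ ∀ v, v * v = 1 → v ≠ 1 → v * x = x * v → v = u := by decide +kernel
theorem f_class1 : (insert aW (Finset.univ.image fun u : W => u * s1 * u⁻¹)).card = 7 ∧
    ∃ u : W, u * s1 * u⁻¹ * s1 ≠ s1 * (u * s1 * u⁻¹) := by decide +kernel
theorem f_class2 : (insert aW (Finset.univ.image fun u : W => u * s2 * u⁻¹)).card = 7 ∧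
    ∃ u : W, u * s2 * u⁻¹ * s2 ≠ s2 * (u * s2 * u⁻¹) := by decide +kernel

/-- A four-group acting inside `S₄`. -/
def vier : Multiplicative (ZMod 2) × Multiplicative (ZMod 2) →* W where
  toFun p := (1, dz ^ (Multiplicative.toAdd p.1).val *
    (swap 0 1 * swap 2 3) ^ (Multiplicative.toAdd p.2).val)
  map_one' := by decide +kernel
  map_mul' := by decide +kernel

theorem vier_conj : ∀ p, p ≠ 1 → ∃ u : W, u * vier p * u⁻¹ = z0 := by decide +kernel

/-! ### The group -/

variable {G : Type*} [Group G] [Finite G]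

/-- The standing data. -/
structure Hyp (t : G) (ι : W →* G) : Prop where
  inj : Function.Injective ι
  ta : ι aW = t
  mem : ∀ x : G, x * t = t * x → ∃ w, ι w = x
  cz : ∀ x : G, x * ι z0 = ι z0 * x → ∃ w, w * z0 = z0 * w ∧ ι w = x
  fac : (Nat.card G).factorization 2 = 4

variable {t : G} {ι : W →* G}

theorem isConj_map {v w w' : W} (h : v * w * v⁻¹ = w') : IsConj (ι w) (ι w') :=
  isConj_iff.2 ⟨ι v, by rw [← map_inv, ← map_mul, ← map_mul, h]⟩

theorem Hyp.comm_t (h : Hyp t ι) (w : W) : ι w * t = t * ι w := by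
  rw [← h.ta, ← map_mul, ← map_mul, f_aW]

theorem Hyp.order_t (h : Hyp t ι) : orderOf t = 2 := by
  rw [← h.ta, orderOf_injective ι h.inj]
  exact orderOf_eq_prime (by rw [pow_two]; exact f_aW_sq.1) f_aW_sq.2.1

/-- The Sylow subgroup `C(z)`. -/
def sylT (ι : W →* G) : Subgroup G := (Subgroup.centralizer ({z0} : Set W)).map ι

theorem mem_sylT {x : G} : x ∈ sylT ι ↔ ∃ w, w * z0 = z0 * w ∧ ι w = x := by
  simp [sylT, Subgroup.mem_map, Subgroup.mem_centralizer_singleton_iff]

theorem card_sylT (h : Function.Injective ι) : Nat.card (sylT ι) = 16 := by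
  rw [sylT, Subgroup.card_map_of_injective h, ← f_cardP, ← Nat.card_eq_fintype_card]
  exact Nat.card_congr (Equiv.subtypeEquivRight fun w => Subgroup.mem_centralizer_singleton_iff)

/-- Burnside: no two distinct central elements of the Sylow subgroup are conjugate. -/
theorem Hyp.cen_conj (h : Hyp t ι) {p q : W} (hp : ∀ v, v * z0 = z0 * v → p * v = v * p)
    (hq : ∀ v, v * z0 = z0 * v → q * v = v * q) (hpq : IsConj (ι p) (ι q)) : p = q := by
  haveI : Fact (Nat.Prime 2) := ⟨Nat.prime_two⟩
  let P : Sylow 2 G := Sylow.ofCard (sylT ι) (by rw [card_sylT h.inj, h.fac]; rfl)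
  have hP : (P : Subgroup G) = sylT ι := Sylow.coe_ofCard _ _
  have hcen : ∀ {r : W}, (∀ v, v * z0 = z0 * v → r * v = v * r) →
      ι r ∈ Subgroup.centralizer ((P : Subgroup G) : Set G) := by
    intro r hr
    rw [Subgroup.mem_centralizer_iff]
    intro y hy
    rw [SetLike.mem_coe, hP, mem_sylT] at hy
    obtain ⟨v, hv, rfl⟩ := hy
    rw [← map_mul, ← map_mul, hr v hv]
  obtain ⟨g, hg⟩ := isConj_iff.1 hpq
  obtain ⟨n, hn, hn'⟩ := P.conj_eq_normalizer_conj_of_mem_centralizer (ι p) g⁻¹ (hcen hp)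
    (by rw [inv_inv, hg]; exact hcen hq)
  rw [inv_inv, hg] at hn'
  have hnT : ∀ v, v * z0 = z0 * v → ∃ w, w * z0 = z0 * w ∧ ι w = n * ι v * n⁻¹ := by
    intro v hv
    rw [← mem_sylT, ← hP]
    refine (Subgroup.mem_normalizer_iff.1 hn _).1 ?_
    rw [hP, mem_sylT]
    exact ⟨v, hv, rfl⟩
  obtain ⟨p', hp', ep⟩ := hnT _ f_comm_ex.1
  obtain ⟨q', hq', eq'⟩ := hnT _ f_comm_ex.2.1
  have hz : n * ι z0 * n⁻¹ = ι (p' * q' * p'⁻¹ * q'⁻¹) := by
    rw [map_mul, map_mul, map_mul, map_inv, map_inv, ep, eq', ← f_comm_ex.2.2, map_mul, map_mul,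
      map_mul, map_inv, map_inv]
    group
  rcases f_comm p' q' hp' hq' with e | e
  · rw [e, map_one, conj_eq_one_iff, ← map_one ι] at hz
    exact absurd (h.inj hz) f_aW_sq.2.2.2.1
  · rw [e, mul_inv_eq_iff_eq_mul] at hz
    obtain ⟨w, hw, rfl⟩ := h.cz n hz
    apply h.inj
    rw [hn', ← map_inv, ← map_mul, ← map_mul, mul_assoc, hp w hw, inv_mul_cancel_left]

theorem Hyp.not_conj_z (h : Hyp t ι) : ¬ IsConj t (ι z0) := fun hc =>
  f_aW_sq.2.2.1 (h.cen_conj (fun v _ => f_aW v) (fun _ hv => hv.symm) (by rwa [h.ta]))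

theorem Hyp.not_conj_az (h : Hyp t ι) : ¬ IsConj t (ι (aW * z0)) := fun hc =>
  f_aW_sq.2.2.2.2.1 (h.cen_conj (fun v _ => f_aW v)
    (fun v hv => by rw [mul_assoc, ← hv, ← mul_assoc, f_aW, mul_assoc]) (by rwa [h.ta]))

/-- The two classes of noncentral transpositions are not both fused to `t`. -/
theorem Hyp.not_both (h : Hyp t ι) (hA : IsConj t (ι s1)) (hB : IsConj t (ι s2)) : False := by
  haveI : Fact (Nat.Prime 2) := ⟨Nat.prime_two⟩
  obtain ⟨g, hg⟩ := isConj_iff.1 hA
  set Cs := Subgroup.centralizer ({ι s1} : Set G) with hCs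
  have hWC : Nat.card W = Nat.card (Subgroup.centralizer ({t} : Set G)) := by
    rw [← Nat.card_congr (MonoidHom.ofInjective h.inj).toEquiv.symm]
    refine congrArg (fun H : Subgroup G => Nat.card H) ?_
    ext x
    rw [Subgroup.mem_centralizer_singleton_iff]
    exact ⟨fun ⟨w, hw⟩ => hw ▸ h.comm_t w, fun hx => h.mem x hx⟩
  have hcard : Nat.card Cs = 48 := by
    rw [show 48 = Nat.card W by rw [Nat.card_eq_fintype_card, f_cardW], hWC]
    refine Nat.card_congr ((MulAut.conj g⁻¹).toEquiv.subtypeEquiv fun x => ?_)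
    simp only [hCs, Subgroup.mem_centralizer_singleton_iff, MulEquiv.toEquiv_eq_coe, EquivLike.coe_coe,
      MulAut.conj_apply, inv_inv, ← hg]
    constructor
    · intro e
      calc g⁻¹ * x * g * t = g⁻¹ * (x * (g * t * g⁻¹)) * g := by group
        _ = t * (g⁻¹ * x * g) := by rw [e]; group
    · intro e
      calc x * (g * t * g⁻¹) = g * (g⁻¹ * x * g * t) * g⁻¹ := by group
        _ = g * t * g⁻¹ * x := by rw [e]; group
  set E : Subgroup G := (Subgroup.centralizer ({s1} : Set W)).map ι with hE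
  have hEcard : Nat.card E = 8 := by
    rw [hE, Subgroup.card_map_of_injective h.inj, ← f_cardE, ← Nat.card_eq_fintype_card]
    exact Nat.card_congr (Equiv.subtypeEquivRight fun w => Subgroup.mem_centralizer_singleton_iff)
  have hEC : E ≤ Cs := by
    rintro _ ⟨w, hw, rfl⟩
    rw [hCs, Subgroup.mem_centralizer_singleton_iff, ← map_mul, ← map_mul,
      Subgroup.mem_centralizer_singleton_iff.1 hw]
  have hE2 : IsPGroup 2 (E.subgroupOf Cs) := IsPGroup.of_card (n := 3)
    (by rw [Nat.card_congr (Subgroup.subgroupOfEquivOfLe hEC).toEquiv, hEcard]; rfl)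
  obtain ⟨R0, hR0⟩ := hE2.exists_le_sylow
  set R : Subgroup G := (R0 : Subgroup Cs).map Cs.subtype with hR
  have hRcard : Nat.card R = 16 := by
    rw [hR, Subgroup.card_map_of_injective Cs.subtype_injective, R0.card_eq_multiplicity, hcard]
    have : (48 : ℕ).factorization 2 = 4 := by
      rw [Nat.factorization_def _ Nat.prime_two, show (48 : ℕ) = 2 ^ 4 * 3 by norm_num,
        padicValNat.mul (by norm_num) (by norm_num), padicValNat.prime_pow,
        padicValNat.eq_zero_of_not_dvd (by norm_num)]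
    rw [this]; norm_num
  have hER : E ≤ R := fun x hx => ⟨⟨x, hEC hx⟩, hR0 (Subgroup.mem_subgroupOf.2 hx), rfl⟩
  have hidx : (E.subgroupOf R).index = 2 := by
    have := (E.subgroupOf R).card_mul_index
    rw [Nat.card_congr (Subgroup.subgroupOfEquivOfLe hER).toEquiv, hEcard, hRcard] at this
    omega
  haveI := Subgroup.normal_of_index_eq_two hidx
  have hzE : ι z0 ∈ E := Subgroup.mem_map_of_mem _
    (Subgroup.mem_centralizer_singleton_iff.2 f_comm_ex.2.1.symm)
  have hRT : R ≤ sylT ι := by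
    intro r hr
    have hmem : r * ι z0 * r⁻¹ ∈ E := by
      have := (inferInstance : (E.subgroupOf R).Normal).conj_mem ⟨ι z0, hER hzE⟩
        (Subgroup.mem_subgroupOf.2 hzE) ⟨r, hr⟩
      simpa [Subgroup.mem_subgroupOf] using this
    obtain ⟨w, hw, ew⟩ := hmem
    have hcw : IsConj (ι z0) (ι w) := isConj_iff.2 ⟨r, ew.symm⟩
    rw [SetLike.mem_coe, Subgroup.mem_centralizer_singleton_iff] at hw
    have no : ¬ IsConj t (ι w) := fun hc => h.not_conj_z (hc.trans hcw.symm)
    rcases f_CE w hw with rfl | rfl | rfl | rfl | rfl | rfl | rfl | rfl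
    · rw [map_one] at ew
      exact absurd (h.inj ((conj_eq_one_iff.1 ew.symm).trans (map_one ι).symm)) f_aW_sq.2.2.2.1
    · exact absurd (h.ta.symm ▸ IsConj.refl t) no
    · exact absurd hA no
    · obtain ⟨v, hv⟩ := f_conj1
      exact absurd (hA.trans (isConj_map hv).symm) no
    · exact absurd hB no
    · obtain ⟨v, hv⟩ := f_conj2
      exact absurd (hB.trans (isConj_map hv).symm) no
    · exact mem_sylT.2 (h.cz r (mul_inv_eq_iff_eq_mul.1 ew.symm))
    · have hc : ∀ v, v * z0 = z0 * v → aW * z0 * v = v * (aW * z0) := fun v hv => by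
        rw [mul_assoc, ← hv, ← mul_assoc, f_aW, mul_assoc]
      have e := h.cen_conj (fun v hv => hv.symm) hc hcw
      exact absurd e f_aW_sq'
  have heq := Subgroup.eq_of_le_of_card_ge hRT (by rw [card_sylT h.inj, hRcard])
  obtain ⟨v, hv, hv'⟩ := f_s1_nc
  obtain ⟨x, -, hx⟩ : ι v ∈ R := heq ▸ mem_sylT.2 ⟨v, hv, rfl⟩
  have : ι v ∈ Cs := hx ▸ x.2
  rw [hCs, Subgroup.mem_centralizer_singleton_iff, ← map_mul, ← map_mul] at this
  exact hv' (h.inj this)

/-- The transfer: `t` lies outside a subgroup of index two. -/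
theorem Hyp.exists_sign (h : Hyp t ι) : ∃ χ : G →* ℤˣ, χ t = -1 := by
  haveI : Fact (Nat.Prime 2) := ⟨Nat.prime_two⟩
  obtain ⟨M, hM8, hM⟩ : ∃ M : Subgroup W, Nat.card M = 8 ∧ ∀ w ∈ M, ¬ IsConj t (ι w) := by
    by_cases hA : IsConj t (ι s1)
    · refine ⟨M2, card_M2, fun w hw hc => ?_⟩
      have ho := h.order_t
      obtain ⟨g, hg⟩ := isConj_iff.1 hc
      have ho' : orderOf (ι w) = 2 := by rw [← hg, ← MulAut.conj_apply, MulEquiv.orderOf_eq, ho]
      rw [orderOf_injective ι h.inj, orderOf_eq_prime_iff, pow_two] at ho'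
      rcases f_M2 w ho'.1 ho'.2 hw with ⟨v, hv⟩ | ⟨v, hv⟩
      · exact h.not_conj_z (hc.trans (isConj_map hv))
      · exact h.not_both hA (hc.trans (isConj_map hv))
    · refine ⟨M1, card_M1, fun w hw hc => ?_⟩
      have ho := h.order_t
      obtain ⟨g, hg⟩ := isConj_iff.1 hc
      have ho' : orderOf (ι w) = 2 := by rw [← hg, ← MulAut.conj_apply, MulEquiv.orderOf_eq, ho]
      rw [orderOf_injective ι h.inj, orderOf_eq_prime_iff, pow_two] at ho'
      rcases f_M1 w ho'.1 ho'.2 hw with ⟨v, hv⟩ | ⟨v, hv⟩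
      · exact h.not_conj_z (hc.trans (isConj_map hv))
      · exact hA (hc.trans (isConj_map hv))
  have h16 : 16 ∣ Nat.card G := by
    have := Nat.ordProj_dvd (Nat.card G) 2
    rwa [h.fac] at this
  obtain ⟨m, hm⟩ := h16
  have hodd : Odd m := by
    by_contra hev
    rw [Nat.not_odd_iff_even, even_iff_two_dvd] at hev
    have h5 : 2 ^ 5 ∣ Nat.card G := by
      rw [hm]; obtain ⟨k, rfl⟩ := hev
      exact ⟨k, by ring⟩
    rw [Nat.prime_two.pow_dvd_iff_le_factorization Nat.card_pos.ne', h.fac] at h5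
    omega
  refine SignThompson.exists_sign_hom (M.map ι) t 0 m (by rw [h.order_t]; rfl) (fun g hg => ?_) hodd ?_
  · rw [pow_zero, pow_one] at hg
    obtain ⟨w, hw, ew⟩ := hg
    exact hM w hw (isConj_iff.2 ⟨g⁻¹, by rw [inv_inv]; exact ew.symm⟩)
  · have := (M.map ι).card_mul_index
    rw [Subgroup.card_map_of_injective h.inj, hM8, hm] at this
    omega

/-! ### The section of `C(t)` in the kernel -/

theorem w_cases (σ : Perm (Fin 4)) (w : W) (hw : w.2 = σ) : w = (1, σ) ∨ w = aW * (1, σ) := by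
  obtain ⟨a, b⟩ := w
  subst hw
  have : ∀ a : Multiplicative (ZMod 2), a = 1 ∨ a = Multiplicative.ofAdd 1 := by decide
  rcases this a with rfl | rfl
  · exact Or.inl rfl
  · exact Or.inr (by simp [aW])

theorem Hyp.sec_unique (h : Hyp t ι) {χ : G →* ℤˣ} (hχ : χ t = -1) {w w' : W}
    (hw : χ (ι w) = 1) (hw' : χ (ι w') = 1) (e : w.2 = w'.2) : w = w' := by
  have key : ∀ v : W, χ (ι (aW * v)) = - χ (ι v) := fun v => by
    rw [map_mul, map_mul, h.ta, hχ, neg_one_mul]
  rcases w_cases _ w rfl with h1 | h1 <;> rcases w_cases _ w' e.symm with h2 | h2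
  · exact h1.trans h2.symm
  · exfalso
    rw [h1] at hw; rw [h2, key, hw] at hw'
    exact absurd hw' (by decide)
  · exfalso
    rw [h2] at hw'; rw [h1, key, hw'] at hw
    exact absurd hw (by decide)
  · exact h1.trans h2.symm

theorem Hyp.exists_section (h : Hyp t ι) {χ : G →* ℤˣ} (hχ : χ t = -1) :
    ∃ j : Perm (Fin 4) →* W, (∀ σ, (j σ).2 = σ) ∧ (∀ σ, χ (ι (j σ)) = 1) ∧ j dz = z0 := by
  have hex : ∀ σ : Perm (Fin 4), ∃ w : W, w.2 = σ ∧ χ (ι w) = 1 := fun σ => by
    rcases Int.units_eq_one_or (χ (ι (1, σ))) with e | e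
    · exact ⟨(1, σ), rfl, e⟩
    · exact ⟨aW * (1, σ), by simp [aW], by rw [map_mul, map_mul, h.ta, hχ, e]; rfl⟩
  choose f hf1 hf2 using hex
  refine ⟨MonoidHom.mk' f (fun a b => h.sec_unique hχ (hf2 _) (by rw [map_mul, map_mul, hf2, hf2, one_mul])
    (by rw [hf1]; simp [hf1])), hf1, hf2, ?_⟩
  refine h.sec_unique hχ (hf2 dz) ?_ (hf1 dz)
  rw [← f_comm_ex.2.2]
  simp only [map_mul, map_inv]
  rw [mul_comm (χ (ι (1, c4))) (χ (ι s1)), mul_inv_cancel_right, mul_inv_cancel]

theorem main (ι : W →* G) (h : Hyp t ι) :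
    (Group.IsSolvable G ∧ Subgroup.centralizer ({t} : Set G) = ⊤) ∨
      Nonempty (G ≃* Perm (Fin 6)) := by
  classical
  haveI : Fact (Nat.Prime 2) := ⟨Nat.prime_two⟩
  obtain ⟨χ, hχ⟩ := h.exists_sign
  obtain ⟨j, hj2, hjK, hjz⟩ := h.exists_section hχ
  set K := χ.ker with hK
  let jK : Perm (Fin 4) →* K := (ι.comp j).codRestrict K fun σ => hjK σ
  have hjinj : Function.Injective jK := fun a b e => by
    have e' : ι (j a) = ι (j b) := congrArg Subtype.val e
    rw [← hj2 a, ← hj2 b, h.inj e']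
  have hjt : ∀ σ, Commute (jK σ : G) t := fun σ => h.comm_t _
  have hsurj : ∀ x : K, (x : G) * t = t * x → ∃ σ, jK σ = x := by
    intro x hx
    obtain ⟨w, hw⟩ := h.mem _ hx
    refine ⟨w.2, Subtype.ext ?_⟩
    show ι (j w.2) = x
    rw [← hw]
    exact congrArg ι (h.sec_unique hχ (hjK _) (by rw [hw]; exact x.2) (hj2 _))
  have hKidx : K.index = 2 := by
    rw [hK, Subgroup.index_ker]
    have hs : χ.range = ⊤ := eq_top_iff.2 fun u _ => by
      rcases Int.units_eq_one_or u with rfl | rfl
      · exact one_mem _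
      · exact ⟨t, hχ⟩
    rw [hs, Subgroup.card_top, Nat.card_eq_fintype_card, Fintype.card_units_int]
  have hGcard : Nat.card G = 2 * Nat.card K := by rw [← K.card_mul_index, hKidx]; ring
  set zK : K := jK dz with hzK
  have hzG : (zK : G) = ι z0 := congrArg ι hjz
  have hzo : orderOf zK = 2 := by
    rw [hzK, orderOf_injective jK hjinj]
    exact orderOf_eq_prime (by rw [pow_two]; decide +kernel) (by decide +kernel)
  have hCz : Subgroup.centralizer ({zK} : Set K) = (jK.comp rho).range := by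
    ext x
    rw [Subgroup.mem_centralizer_singleton_iff]
    constructor
    · intro hx
      obtain ⟨w, hw, ew⟩ := h.cz (x : G) (by rw [← hzG]; exact congrArg Subtype.val hx)
      obtain ⟨σ, rfl⟩ := hsurj x (by rw [← ew]; exact h.comm_t w)
      rw [hzK, ← map_mul, ← map_mul] at hx
      obtain ⟨d, rfl⟩ := rho_spec.2 σ (hjinj hx)
      exact ⟨d, rfl⟩
    · rintro ⟨d, rfl⟩
      rw [hzK, MonoidHom.comp_apply, ← map_mul, ← map_mul, rho_spec.1]
  have hinj8 : Function.Injective (jK.comp rho) := fun a b e => rho_inj a b (hjinj e)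
  rcases S3035.result zK hzo ⟨((MonoidHom.ofInjective hinj8).trans
      (MulEquiv.subgroupCongr hCz.symm)).symm⟩ with h1 | h1 | h1 | h1 | h1
  · -- 2-nilpotent
    exfalso
    set O := Cfsg.oddCore K with hO
    haveI : O.Normal := by
      haveI := PBasic.pPrimeCore_characteristic 2 K
      exact inferInstanceAs (Cfsg.pPrimeCore 2 K).Normal
    have hcop : (Nat.card O).Coprime 2 := PBasic.pPrimeCore_coprime 2 K
    have h3 : ∀ x, jK x ∈ O → x ^ 3 = 1 := by
      intro x hx
      have h1 : orderOf x ∣ Nat.card O := by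
        rw [← orderOf_injective jK hjinj]; exact O.orderOf_dvd_natCard hx
      have h2 : orderOf x ∣ 24 := by
        have := orderOf_dvd_natCard (G := Perm (Fin 4)) x
        rwa [Nat.card_perm, Nat.card_fin] at this
      apply orderOf_dvd_iff_pow_eq_one.1
      have hc : (orderOf x).Coprime 8 :=
        (Nat.Coprime.pow_right 3 (Nat.Coprime.coprime_dvd_left h1 hcop) :)
      exact hc.dvd_of_dvd_mul_left (show orderOf x ∣ 8 * 3 from h2)
    have hker : ∀ x, jK x ∈ O → x = 1 := by
      intro x hx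
      by_contra hne
      obtain ⟨σ, hσ⟩ := f_odd x (h3 x hx) hne
      refine hσ (h3 _ ?_)
      rw [map_mul, map_mul, map_mul, map_inv]
      exact mul_mem (Subgroup.Normal.conj_mem inferInstance _ hx _) hx
    have hle : 24 ≤ Nat.card (K ⧸ O) := by
      have := Nat.card_le_card_of_injective ((QuotientGroup.mk' O).comp jK) (by
        rw [← MonoidHom.ker_eq_bot_iff, Subgroup.eq_bot_iff_forall]
        exact fun x hx => hker x ((QuotientGroup.eq_one_iff _).1 hx))
      rwa [Nat.card_perm, Nat.card_fin] at this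
    have hs : Function.Surjective
        ((QuotientGroup.mk' O).comp (jK.comp rho)) := by
      rw [← MonoidHom.range_eq_top, MonoidHom.range_eq_map, ← Subgroup.map_map,
        ← MonoidHom.range_eq_map, ← hCz]
      have := congrArg (Subgroup.map (QuotientGroup.mk' O)) h1
      rwa [Subgroup.map_sup, QuotientGroup.map_mk'_self, sup_bot_eq,
        Subgroup.map_top_of_surjective _ (QuotientGroup.mk'_surjective O)] at this
    have := Nat.card_le_card_of_surjective _ hs
    rw [DihedralGroup.nat_card] at this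
    omega
  · -- `S₄`
    left
    obtain ⟨φ⟩ := h1
    have hc : Nat.card G = Nat.card W := by
      rw [hGcard, Nat.card_congr φ.toEquiv, Nat.card_perm, Nat.card_fin, Nat.card_eq_fintype_card,
        f_cardW]
      rfl
    have hb : Function.Bijective ι :=
      (Nat.bijective_iff_injective_and_card ι).2 ⟨h.inj, hc.symm⟩
    refine ⟨?_, eq_top_iff.2 fun x _ => ?_⟩
    · haveI : Group.IsSolvable (Perm (Fin 4)) := PermSmall.isSolvable_perm_fin_four
      exact Group.isSolvable_of_surjective hb.2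
    · obtain ⟨w, rfl⟩ := hb.2 x
      exact Subgroup.mem_centralizer_singleton_iff.2 (h.comm_t w)
  · -- `S₅`
    exfalso
    obtain ⟨φ⟩ := h1
    set x : K := jK c3 with hx
    have hx3 : φ x ^ 3 = 1 := by rw [hx, ← map_pow, ← map_pow, f_c3.1, map_one, map_one]
    have hx1 : φ x ≠ 1 := by
      rw [hx, Ne, EmbeddingLike.map_eq_one_iff, ← map_one jK]
      exact fun e => f_c3.2 (hjinj e)
    obtain ⟨u, hu2, hu1, hux, huniq⟩ := f_unique_five (φ x) hx3 hx1
    set u' : K := φ.symm u with hu'
    haveI hKn : K.Normal := by rw [hK]; infer_instance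
    let v : K := MulAut.conjNormal t u'
    have hv : v = u' := by
      apply φ.injective
      rw [hu', φ.apply_symm_apply]
      refine huniq _ ?_ ?_ ?_
      · rw [← map_mul, ← map_mul, hu', ← map_mul, hu2, map_one, map_one, map_one]
      · simp only [v, hu', Ne, EmbeddingLike.map_eq_one_iff]
        exact hu1
      · have hxt : MulAut.conjNormal t x = x := Subtype.ext (by
          rw [MulAut.conjNormal_apply, mul_inv_eq_iff_eq_mul]
          exact (hjt c3).eq.symm)
        rw [← map_mul, ← map_mul]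
        apply congrArg φ
        rw [← hxt, ← map_mul, ← map_mul]
        apply congrArg (MulAut.conjNormal t)
        apply φ.injective
        rw [map_mul, map_mul, hu', φ.apply_symm_apply]
        exact hux
    have hut : (u' : G) * t = t * u' := by
      have := congrArg Subtype.val hv
      rw [MulAut.conjNormal_apply, mul_inv_eq_iff_eq_mul] at this
      exact this.symm
    obtain ⟨σ, hσ⟩ := hsurj u' hut
    have e1 : σ * σ = 1 := hjinj (by rw [map_mul, hσ, hu', ← map_mul, hu2, map_one, map_one])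
    have e2 : σ * c3 = c3 * σ := hjinj (φ.injective (by
      rw [map_mul, map_mul, map_mul, map_mul, hσ, hu', φ.apply_symm_apply, ← hx]; exact hux))
    rw [f_third σ e1 e2, map_one, hu', eq_comm, EmbeddingLike.map_eq_one_iff] at hσ
    exact hu1 hσ
  · -- `L₃(2)`
    exfalso
    obtain ⟨φ⟩ := h1
    set C := Subgroup.centralizer ({t} : Set G) with hC
    have hCcard : Nat.card C = 48 := by
      rw [← f_cardW, ← Nat.card_eq_fintype_card, Nat.card_congr (MonoidHom.ofInjective h.inj).toEquiv]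
      refine congrArg (fun H : Subgroup G => Nat.card H) ?_
      ext y
      rw [hC, Subgroup.mem_centralizer_singleton_iff]
      exact ⟨fun hy => h.mem y hy, fun ⟨w, hw⟩ => hw ▸ h.comm_t w⟩
    have h7 : Nat.card (G ⧸ C) = 7 := by
      have := C.card_mul_index
      rw [hCcard, hGcard, Nat.card_congr φ.toEquiv, S3035.sl32.2] at this
      rw [← Subgroup.index_eq_card]
      omega
    let q : G ⧸ C → G := Quotient.lift (fun g : G => g * t * g⁻¹) fun a b hab => by
      have hm : a⁻¹ * b ∈ C := QuotientGroup.leftRel_apply.1 hab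
      rw [hC, Subgroup.mem_centralizer_singleton_iff] at hm
      calc a * t * a⁻¹ = a * (t * (a⁻¹ * b)) * b⁻¹ := by group
        _ = b * t * b⁻¹ := by rw [← hm]; group
    have hq : ∀ g : G, q (g : G ⧸ C) = g * t * g⁻¹ := fun g => rfl
    have hqinj : Function.Injective q := by
      intro a b e
      induction a using QuotientGroup.induction_on with | H a => ?_
      induction b using QuotientGroup.induction_on with | H b => ?_
      rw [hq, hq] at e
      rw [QuotientGroup.eq, hC, Subgroup.mem_centralizer_singleton_iff]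
      calc a⁻¹ * b * t = a⁻¹ * (b * t * b⁻¹) * b := by group
        _ = t * (a⁻¹ * b) := by rw [← e]; group
    have hX : (Set.range q).ncard = 7 := by rw [Set.ncard_range_of_injective hqinj, h7]
    have hmemX : ∀ y, y ∈ Set.range q ↔ IsConj t y := by
      intro y
      rw [isConj_iff]
      constructor
      · rintro ⟨a, rfl⟩
        induction a using QuotientGroup.induction_on with | H a => exact ⟨a, (hq a).symm⟩
      · rintro ⟨g, rfl⟩
        exact ⟨_, hq g⟩
    by_cases hex : ∃ w, w ≠ aW ∧ IsConj t (ι w)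
    · obtain ⟨w, hwa, hwc⟩ := hex
      have hw2 : w * w = 1 ∧ w ≠ 1 := by
        obtain ⟨g, hg⟩ := isConj_iff.1 hwc
        have ho : orderOf (ι w) = 2 := by rw [← hg, ← MulAut.conj_apply, MulEquiv.orderOf_eq, h.order_t]
        rw [orderOf_injective ι h.inj, orderOf_eq_prime_iff, pow_two] at ho
        exact ho
      have fin : ∀ w0 : W, IsConj t (ι w0) →
          (insert aW (Finset.univ.image fun u : W => u * w0 * u⁻¹)).card = 7 →
          (∃ u : W, u * w0 * u⁻¹ * w0 ≠ w0 * (u * w0 * u⁻¹)) → False := by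
        intro w0 hw0 hc7 hnc
        set F := insert aW (Finset.univ.image fun u : W => u * w0 * u⁻¹) with hF
        have hFc : ∀ v ∈ F, IsConj t (ι v) := by
          intro v hv
          simp only [hF, Finset.mem_insert, Finset.mem_image, Finset.mem_univ, true_and] at hv
          rcases hv with rfl | ⟨u, rfl⟩
          · rw [h.ta]
          · exact hw0.trans (isConj_map rfl)
        have heq : ι '' (F : Set W) = Set.range q := by
          refine Set.eq_of_subset_of_ncard_le ?_ ?_ (Set.toFinite _)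
          · rintro _ ⟨v, hv, rfl⟩
            exact (hmemX _).2 (hFc v hv)
          · rw [Set.ncard_image_of_injective _ h.inj, Set.ncard_coe_finset, hc7, hX]
        obtain ⟨u, hu⟩ := hnc
        obtain ⟨g, hg⟩ := isConj_iff.1 hw0
        have hy : IsConj t (g⁻¹ * ι (u * w0 * u⁻¹) * g) :=
          (hFc (u * w0 * u⁻¹) (Finset.mem_insert_of_mem
            (Finset.mem_image.2 ⟨u, Finset.mem_univ _, rfl⟩))).trans (isConj_iff.2 ⟨g⁻¹, by rw [inv_inv]⟩)
        rw [← hmemX, ← heq] at hy
        obtain ⟨v, -, hv⟩ := hy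
        have hc := h.comm_t v
        rw [hv] at hc
        refine hu (h.inj ?_)
        rw [map_mul, map_mul ι w0, ← hg]
        calc ι (u * w0 * u⁻¹) * (g * t * g⁻¹)
            = g * (g⁻¹ * ι (u * w0 * u⁻¹) * g * t) * g⁻¹ := by group
          _ = g * t * g⁻¹ * ι (u * w0 * u⁻¹) := by rw [hc]; group
      rcases f_invol w hw2.1 with e | e | ⟨v, hv⟩ | ⟨v, hv⟩ | ⟨v, hv⟩ | ⟨v, hv⟩
      · exact hw2.2 e
      · exact hwa e
      · exact h.not_conj_z (hwc.trans (isConj_map hv))
      · exact h.not_conj_az (hwc.trans (isConj_map hv))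
      · exact fin s1 (hwc.trans (isConj_map hv)) f_class1.1 f_class1.2
      · exact fin s2 (hwc.trans (isConj_map hv)) f_class2.1 f_class2.2
    · push Not at hex
      letI : MulAction (Multiplicative (ZMod 2) × Multiplicative (ZMod 2)) (G ⧸ C) :=
        MulAction.compHom _ (ι.comp vier)
      haveI : Fintype (G ⧸ C) := Fintype.ofFinite _
      have hB := MulAction.sum_card_fixedBy_eq_card_orbits_mul_card_group
        (Multiplicative (ZMod 2) × Multiplicative (ZMod 2)) (G ⧸ C)
      have hone : ∀ p : Multiplicative (ZMod 2) × Multiplicative (ZMod 2), p ≠ 1 →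
          MulAction.fixedBy (G ⧸ C) p = {((1 : G) : G ⧸ C)} := by
        intro p hp
        ext a
        rw [MulAction.mem_fixedBy, Set.mem_singleton_iff]
        induction a using QuotientGroup.induction_on with | H g => ?_
        rw [MulAction.compHom_smul_def, MonoidHom.comp_apply, MulAction.Quotient.smul_mk, smul_eq_mul,
          QuotientGroup.eq, QuotientGroup.eq, mul_one, hC, Subgroup.mem_centralizer_singleton_iff,
          Subgroup.mem_centralizer_singleton_iff]
        constructor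
        · intro hm
          obtain ⟨u, hu⟩ := vier_conj p hp
          have hm' : Commute (ι (vier p)) (g * t * g⁻¹) := by
            have hm2 := Commute.inv_left (show Commute ((ι (vier p) * g)⁻¹ * g) t from hm)
            rw [mul_inv_rev, inv_inv] at hm2
            have := (show Commute (g⁻¹ * ι (vier p) * g) t by rwa [mul_assoc]).map
              (MulAut.conj g).toMonoidHom
            simp only [MulEquiv.coe_toMonoidHom, MulAut.conj_apply] at this
            rwa [show g * (g⁻¹ * ι (vier p) * g) * g⁻¹ = ι (vier p) by group] at this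
          have h' := hm'.map (MulAut.conj (ι u)).toMonoidHom
          simp only [MulEquiv.coe_toMonoidHom, MulAut.conj_apply] at h'
          rw [← map_inv, ← map_mul, ← map_mul, hu] at h'
          obtain ⟨w, -, hw⟩ := h.cz _ h'.eq.symm
          have hw' : ι (u⁻¹ * w * u) = g * t * g⁻¹ := by
            rw [map_mul, map_mul, hw, map_inv]; group
          have e : u⁻¹ * w * u = aW := by
            by_contra hne
            exact hex _ hne (isConj_iff.2 ⟨g, hw'.symm⟩)
          rw [e, h.ta, eq_mul_inv_iff_mul_eq] at hw'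
          exact (Commute.inv_left (show Commute g t from hw'.symm)).eq
        · intro hg
          have hg' : Commute g t := by simpa using Commute.inv_left (show Commute g⁻¹ t from hg)
          exact ((show Commute (ι (vier p)) t from h.comm_t _).mul_left hg').inv_left.mul_left hg'
      have hsum : ∑ p : Multiplicative (ZMod 2) × Multiplicative (ZMod 2),
          Fintype.card (MulAction.fixedBy (G ⧸ C) p) = 10 := by
        rw [← Finset.add_sum_erase _ _ (Finset.mem_univ 1),
          Finset.sum_congr rfl (g := fun _ => 1) (fun p hp => by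
            rw [← Nat.card_eq_fintype_card, hone p (Finset.ne_of_mem_erase hp), Nat.card_coe_set_eq,
              Set.ncard_singleton]),
          Finset.sum_const, Finset.card_erase_of_mem (Finset.mem_univ 1), ← Nat.card_eq_fintype_card]
        have : MulAction.fixedBy (G ⧸ C) (1 : Multiplicative (ZMod 2) × Multiplicative (ZMod 2)) = Set.univ := by
          ext a; simp
        rw [this, Nat.card_congr (Equiv.Set.univ _), h7]
        simp
      rw [hsum] at hB
      simp at hB
      omega
  · -- `A₆`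
    right
    obtain ⟨φ⟩ := h1
    haveI hKn : K.Normal := by rw [hK]; infer_instance
    let c : Perm (Fin 6) →* MulAut ↥(alternatingGroup (Fin 6)) := MulAut.conjNormal
    let Φ : G →* MulAut ↥(alternatingGroup (Fin 6)) :=
      (MulAut.congr φ).toMonoidHom.comp MulAut.conjNormal
    have hΦ : ∀ (g : G) (x : K), Φ g (φ x) = φ (MulAut.conjNormal g x) := fun g x => by
      simp [Φ, MulAut.congr]
    have hK360 : Nat.card K = 360 := by
      rw [Nat.card_congr φ.toEquiv, nat_card_alternatingGroup, Nat.card_fin]; rfl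
    have hG : Nat.card G = 720 := by rw [hGcard, hK360]
    have hKZ : ∀ x : K, (∀ y : K, x * y = y * x) → x = 1 := by
      intro x hx
      have hxz := hx zK
      have : x ∈ Subgroup.centralizer ({zK} : Set K) := Subgroup.mem_centralizer_singleton_iff.2 hxz
      rw [hCz] at this
      obtain ⟨d, rfl⟩ := this
      have e : ∀ σ' : Perm (Fin 4), rho d * σ' = σ' * rho d := fun σ' =>
        hjinj (by rw [map_mul, map_mul]; exact hx (jK σ'))
      have : rho d = 1 :=
        (show ∀ a : Perm (Fin 4), (∀ b, a * b = b * a) → a = 1 by decide +kernel) _ e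
      show jK (rho d) = 1
      rw [this, map_one]
    have hinj : Function.Injective Φ := by
      rw [← MonoidHom.ker_eq_bot_iff, Subgroup.eq_bot_iff_forall]
      intro k hk
      have hcomm : ∀ k ∈ Φ.ker, ∀ y : K, k * (y : G) * k⁻¹ = y := fun k hk y => by
        have := hΦ k y
        rw [MonoidHom.mem_ker.1 hk] at this
        simpa using (congrArg Subtype.val (φ.injective this)).symm
      have hKk : ∀ k ∈ Φ.ker, k ∈ K → k = 1 := fun k hk hkK => congrArg Subtype.val
        (hKZ ⟨k, hkK⟩ fun y => Subtype.ext (mul_inv_eq_iff_eq_mul.1 (hcomm k hk y)))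
      by_cases hkK : k ∈ K
      · exact hKk k hk hkK
      exfalso
      have ht' : t ∉ K := fun e => by
        rw [hK, MonoidHom.mem_ker, hχ] at e
        exact absurd e (by decide)
      have hkt : Commute t k := by
        have hm : t * k * t⁻¹ * k⁻¹ ∈ Φ.ker :=
          mul_mem ((inferInstance : Φ.ker.Normal).conj_mem k hk t) (inv_mem hk)
        have hm' : t * k * t⁻¹ * k⁻¹ ∈ K := by
          rw [hK, MonoidHom.mem_ker]; simp only [map_mul, map_inv]
          rw [mul_comm (χ t) (χ k), mul_inv_cancel_right, mul_inv_cancel]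
        have := hKk _ hm hm'
        rw [mul_inv_eq_one, mul_inv_eq_iff_eq_mul] at this
        exact this
      set x : K := ⟨t * k, (Subgroup.mul_mem_iff_of_index_two hKidx).2 (iff_of_false ht' hkK)⟩
      obtain ⟨σ, hσ⟩ := hsurj x (show t * k * t = t * (t * k) by rw [mul_assoc, ← hkt.eq])
      have hσc : σ = 1 := by
        refine (show ∀ a : Perm (Fin 4), (∀ b, a * b = b * a) → a = 1 by decide +kernel) _ fun b => ?_
        apply hjinj
        rw [map_mul, map_mul, hσ]
        apply Subtype.ext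
        have e1 := mul_inv_eq_iff_eq_mul.1 (hcomm k hk (jK b))
        show t * k * (jK b : G) = (jK b : G) * (t * k)
        rw [mul_assoc, e1, ← mul_assoc, ← (hjt b).eq, mul_assoc]
      rw [hσc, map_one] at hσ
      have htk : t * k = 1 := (congrArg Subtype.val hσ).symm
      have htc : ∀ y : K, (y : G) * t = t * y := fun y => by
        rw [eq_inv_of_mul_eq_one_left htk]
        exact ((show Commute k (y : G) from mul_inv_eq_iff_eq_mul.1 (hcomm k hk y)).inv_left).eq.symm
      have hle : Nat.card K ≤ 24 := by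
        have := Nat.card_le_card_of_surjective jK (fun y => hsurj y (htc y))
        rwa [Nat.card_perm, Nat.card_fin] at this
      omega
    have hinner : ∀ m : K, Φ (m : G) ∈ c.range := fun m => ⟨(φ m : Perm (Fin 6)), by
      refine DFunLike.ext _ _ fun y => ?_
      obtain ⟨x, rfl⟩ := φ.surjective y
      rw [hΦ]
      refine Subtype.ext ?_
      show (MulAut.conjNormal (φ m : Perm (Fin 6)) (φ x) : Perm (Fin 6)) = _
      rw [MulAut.conjNormal_apply, show MulAut.conjNormal (m : G) x = m * x * m⁻¹ from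
        Subtype.ext (by simp), map_mul, map_mul, map_inv]
      simp⟩
    have ht6 : Φ t ∈ c.range := by
      refine NineS6.mem_range_of_fixed _ (a := φ (jK c3)) ?_ ?_
      · rw [φ.orderOf_eq, orderOf_injective jK hjinj]
        exact orderOf_eq_prime f_c3.1 f_c3.2
      · rw [hΦ]
        refine congrArg φ (Subtype.ext ?_)
        rw [MulAut.conjNormal_apply, mul_inv_eq_iff_eq_mul]
        exact (hjt c3).eq.symm
    have hle : Φ.range ≤ c.range := by
      rintro _ ⟨g, rfl⟩
      by_cases hg : g ∈ K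
      · exact hinner ⟨g, hg⟩
      · have ht' : t⁻¹ ∉ K := fun e => by
          rw [hK, MonoidHom.mem_ker, map_inv, hχ] at e
          exact absurd e (by decide)
        have hm : t⁻¹ * g ∈ K := (Subgroup.mul_mem_iff_of_index_two hKidx).2 (iff_of_false ht' hg)
        have := mul_mem ht6 (hinner ⟨_, hm⟩)
        rwa [← map_mul, mul_inv_cancel_left] at this
    have hP6 : Nat.card (Perm (Fin 6)) = 720 := by rw [Nat.card_perm, Nat.card_fin]; rfl
    have hcr : Nat.card c.range ≤ 720 := hP6 ▸
      Nat.card_le_card_of_surjective c.rangeRestrict c.rangeRestrict_surjective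
    have hΦr : Nat.card Φ.range = 720 := by
      rw [← Nat.card_congr (MonoidHom.ofInjective hinj).toEquiv, hG]
    have heq : Φ.range = c.range := Subgroup.eq_of_le_of_card_ge hle (by omega)
    have hcb : Function.Bijective c.rangeRestrict :=
      (Nat.bijective_iff_surjective_and_card _).2
        ⟨c.rangeRestrict_surjective, by rw [hP6, ← heq, hΦr]⟩
    exact ⟨((MonoidHom.ofInjective hinj).trans (MulEquiv.subgroupCongr heq)).trans
      (MulEquiv.ofBijective c.rangeRestrict hcb).symm⟩

/-- Setting up the data from the hypotheses on the Sylow subgroups. -/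
theorem hyp_of (t : G) (ht : orderOf t = 2) (T : Sylow 2 G)
    (htc : ∀ s ∈ (T : Subgroup G), s * t = t * s)
    (C : Subgroup G) (hC : C = Subgroup.centralizer ({t} : Set G)) (e : ↥C ≃* W)
    (h2 : ∀ S : Sylow 2 G, Subgroup.centralizer
      ((⁅(S : Subgroup G), (S : Subgroup G)⁆ : Subgroup G) : Set G) = (S : Subgroup G)) :
    Hyp t (C.subtype.comp e.symm.toMonoidHom) := by
  haveI : Fact (Nat.Prime 2) := ⟨Nat.prime_two⟩
  have hmemC : ∀ x, x ∈ C ↔ x * t = t * x := fun x => by
    rw [hC, Subgroup.mem_centralizer_singleton_iff]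
  set ι := C.subtype.comp e.symm.toMonoidHom with hι
  have hinj : Function.Injective ι := C.subtype_injective.comp e.symm.injective
  have hmem : ∀ x : G, x * t = t * x → ∃ w, ι w = x := fun x hx =>
    ⟨e ⟨x, (hmemC x).2 hx⟩, by simp [hι]⟩
  have hta : ι aW = t := by
    have hcen := f_center (e ⟨t, (hmemC t).2 rfl⟩) fun v => by
      obtain ⟨y, rfl⟩ := e.surjective v
      rw [← map_mul, ← map_mul]
      exact congrArg e (Subtype.ext ((hmemC _).1 y.2).symm)
    rcases hcen with e1 | e1
    · rw [e.map_eq_one_iff] at e1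
      have : t = 1 := congrArg Subtype.val e1
      rw [this, orderOf_one] at ht
      omega
    · rw [← e1]; simp [hι]
  have hfac : (Nat.card G).factorization 2 = 4 := by
    have hT := T.card_eq_multiplicity
    have hd : Nat.card (T : Subgroup G) ∣ 48 := by
      have h1 := Subgroup.card_dvd_of_le (show (T : Subgroup G) ≤ C from fun x hx =>
        (hmemC x).2 (htc x hx))
      rwa [Nat.card_congr e.toEquiv, Nat.card_eq_fintype_card (α := W), f_cardW] at h1
    rw [hT] at hd
    have hle : (Nat.card G).factorization 2 ≤ 4 := by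
      by_contra hlt
      push Not at hlt
      exact absurd ((pow_dvd_pow 2 hlt).trans hd) (by norm_num)
    have h16 : 2 ^ 4 ∣ Nat.card G := by
      rw [show (2 : ℕ) ^ 4 = Nat.card (sylT ι) by rw [card_sylT hinj]; rfl]
      exact Subgroup.card_subgroup_dvd_card _
    rw [Nat.prime_two.pow_dvd_iff_le_factorization Nat.card_pos.ne'] at h16
    omega
  refine ⟨hinj, hta, hmem, fun x hx => ?_, hfac⟩
  let P : Sylow 2 G := Sylow.ofCard (sylT ι) (by rw [card_sylT hinj, hfac]; rfl)
  have hP : (P : Subgroup G) = sylT ι := Sylow.coe_ofCard _ _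
  rw [← mem_sylT, ← hP, ← h2 P, Subgroup.mem_centralizer_iff]
  have hle : ⁅(P : Subgroup G), (P : Subgroup G)⁆ ≤ Subgroup.zpowers (ι z0) := by
    rw [Subgroup.commutator_le]
    intro a ha b hb
    rw [hP, mem_sylT] at ha hb
    obtain ⟨p, hp, rfl⟩ := ha
    obtain ⟨q, hq, rfl⟩ := hb
    rw [← map_commutatorElement, commutatorElement_def]
    rcases f_comm p q hp hq with e1 | e1 <;> rw [e1]
    · rw [map_one]; exact one_mem _
    · exact Subgroup.mem_zpowers _
  intro y hy
  obtain ⟨k, rfl⟩ := Subgroup.mem_zpowers_iff.1 (hle hy)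
  exact ((show Commute x (ι z0) from hx).zpow_right k).eq.symm

end Cfsg.Agent.TwoSFour
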